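import Mathlib

/-!
# PROJECT BP (Broué–Puig `*`-theorem via `G`-algebras): basic definitions (helper92)

Abstract ring-theoretic vocabulary used by layers 0–2 of the sheet
`Cfsg/Agent/Lib/Helper92/BP/BP_SHEET.md`.

* `MonicSplits R`: every monic polynomial over `R` is a product of linear factors (true for the
  local ring `localSubring M` of `M`-local algebraic numbers: it is integrally closed in `ℂ`).
* `IdemLE f e`, `IsPrimIdem e`, `CornerUnit e x`, `MvN e f`: idempotent calculus, stated
  elementwise inside the ambient ring (no corner types in interfaces).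
-/

set_option autoImplicit false

namespace Cfsg.Agent.Lib.Helper92.BP

open Polynomial

/-- Every monic polynomial over `R` is a product of monic linear factors. -/
def MonicSplits (R : Type*) [CommRing R] : Prop :=
  ∀ f : R[X], f.Monic → ∃ s : Multiset R, f = (s.map fun a => X - C a).prod

section Ring

variable {Λ : Type*} [Ring Λ]

/-- `f` is an idempotent below `e` (in use `e` is an idempotent): `f² = f`, `e f = f = f e`. -/
def IdemLE (f e : Λ) : Prop := IsIdempotentElem f ∧ e * f = f ∧ f * e = f

/-- `e` is a primitive idempotent of `Λ`. -/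
def IsPrimIdem (e : Λ) : Prop :=
  IsIdempotentElem e ∧ e ≠ 0 ∧ ∀ f : Λ, IdemLE f e → f = 0 ∨ f = e

/-- `x` lies in the corner `e Λ e`. -/
def InCorner (e x : Λ) : Prop := e * x = x ∧ x * e = x

/-- `x` is invertible in the corner ring `e Λ e` (whose identity is `e`). -/
def CornerUnit (e x : Λ) : Prop :=
  InCorner e x ∧ ∃ y : Λ, InCorner e y ∧ x * y = e ∧ y * x = e

/-- Murray–von Neumann equivalence of idempotents: `e = a b`, `f = b a`
(equivalently `Λ e ≅ Λ f` as left modules). -/
def MvN (e f : Λ) : Prop := ∃ a b : Λ, a * b = e ∧ b * a = f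

/-- Two idempotents are orthogonal. -/
def Orth (e f : Λ) : Prop := e * f = 0 ∧ f * e = 0

end Ring

end Cfsg.Agent.Lib.Helper92.BP
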