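import Cfsg.Agent.Lib.Helper92.BPBlock

/-!
# PROJECT BP, layer 4 vocabulary: local systems and the twisted trace form `Θ`

A *local system* is a family `μ Q f : G → ℂ` (used on `Q` only), indexed by the Brauer pairs
`(Q, f)`; in use `μ Q f = η ∘ conj x` on `Q` when `(Q,f)^x ≤ (P,e)` and `0` when no conjugate of
`(Q,f)` lies below `(P,e)`.

* `IsLocalSystem p M μ`: conjugation invariance, compatibility with inclusion of Brauer pairs,
  and every `μ Q f` restricts to a generalized character of `Q`.
* `ThetaQ M μ χ Q u a = Σ_{f block of C_G(Q)} μ Q f u · χ(u · a · ẽ_f)` for `a ∈ Rm[G]`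
  (in use `Q = <u>` and `a` supported on `C_G(u)`): a trace form on `Rm[C_G(u)]`.
* `IsStar p M μ χ θ`: `θ(us) = Θ_{<u>}(u, s)` for all commuting `u` (`p`-element), `s` (`p`-regular):
  `θ = μ * χ`.
-/

set_option autoImplicit false

namespace Cfsg.Agent.Lib.Helper92.BP

open Cfsg Cfsg.Agent.Lib.Helper16

section

variable {G : Type*} [Group G]

/-- The type of local systems: a function on `G` for every pair (subgroup, set of irreducible
characters of its centralizer). -/
abbrev LocSys (G : Type*) [Group G] : Type _ :=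
  (Q : Subgroup G) → Set (IrrCharacter (Subgroup.centralizer (Q : Set G))) → G → ℂ

/-- `μ` is a local system of generalized characters on the Brauer pairs of `G`. -/
def IsLocalSystem (p : ℕ) (M : Ideal AlgInt) (μ : LocSys G) : Prop :=
  (∀ (Q : Subgroup G) (f : Set (IrrCharacter (Subgroup.centralizer (Q : Set G)))) (g u : G),
      IsBrauerPair p M Q f → u ∈ Q →
      μ (Q.map (MulAut.conj g).toMonoidHom) (conjBlock Q g f) (g * u * g⁻¹) = μ Q f u) ∧
  (∀ (Q' Q : Subgroup G) (f' : Set (IrrCharacter (Subgroup.centralizer (Q' : Set G))))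
      (f : Set (IrrCharacter (Subgroup.centralizer (Q : Set G)))),
      IsBrauerPair p M Q f → IsPBlock M f' → SubpairLE p M Q' f' Q f →
      ∀ u ∈ Q', μ Q' f' u = μ Q f u) ∧
  (∀ (Q : Subgroup G) (f : Set (IrrCharacter (Subgroup.centralizer (Q : Set G)))),
      IsBrauerPair p M Q f → IsGeneralizedCharacter Q (fun u : Q => μ Q f (u : G)))

variable (M : Ideal AlgInt) [M.IsPrime]

/-- The twisted trace form: `Σ_f μ Q f u · χ(u a ẽ_f)`, `f` over the blocks of `C_G(Q)`. -/
noncomputable def ThetaQ (μ : LocSys G) (χ : G → ℂ) (Q : Subgroup G) (u : G)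
    (a : MonoidAlgebra (localSubring M) G) : ℂ :=
  ∑ᶠ f ∈ {f : Set (IrrCharacter (Subgroup.centralizer (Q : Set G))) | IsPBlock M f},
    μ Q f u * evAt χ u (a * incl (localSubring M) _ (blockIdemR M f))

/-- `θ = μ * χ`: on every `p`-section `u·(p-regular elements of C_G(u))`, `θ` is given by `Θ`. -/
def IsStar (p : ℕ) (μ : LocSys G) (χ θ : G → ℂ) : Prop :=
  ∀ u s : G, (∃ k : ℕ, orderOf u = p ^ k) → ¬ p ∣ orderOf s → Commute u s →
    θ (u * s) = ThetaQ M μ χ (Subgroup.zpowers u) u (MonoidAlgebra.of (localSubring M) G s)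

/-- CLAIM(`Q`, `c`): `u ↦ Θ_u(ã)` (`ã` any idempotent of `Rm[C_G(u)]` lifting `Br_u(c)`) is a
generalized character of `Q`. -/
def ClaimFor (μ : LocSys G) (χ : G → ℂ) (Q : Subgroup G)
    (c : MonoidAlgebra (localSubring M) G) : Prop :=
  ∃ ψ : Q → ℂ, IsGeneralizedCharacter Q ψ ∧
    ∀ (u : Q) (a : MonoidAlgebra (localSubring M) G),
      a ∈ Set.range (incl (localSubring M)
        (Subgroup.centralizer ((Subgroup.zpowers (u : G) : Subgroup G) : Set G))) →
      IsIdempotentElem a →
      br (localSubring M) (Subgroup.zpowers (u : G)) a =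
        br (localSubring M) (Subgroup.zpowers (u : G)) c →
      ψ u = ThetaQ M μ χ (Subgroup.zpowers (u : G)) (u : G) a

end

end Cfsg.Agent.Lib.Helper92.BP
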