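import Mathlib
import Cfsg.Agent.Lib.Helper12.W2pDefs
import Cfsg.Agent.Lib.Helper12.PermRepSym

/-!
# W2P module [FIX] (helper92): equivariant family of nonzero vectors in an irreducible
constituent of the permutation character
-/

set_option autoImplicit false

namespace Cfsg.Agent.Lib.Helper92.W2p

open Cfsg Cfsg.Agent.Lib.Helper12.W2p Module Representation

variable {α : Type*} [Fintype α] [DecidableEq α]

theorem exists_fixed_vectors {G : Subgroup (Equiv.Perm α)} [Fintype ↥G]
    (hG : MulAction.IsPretransitive G α) {n : ℕ} (ρ : Representation ℂ ↥G (Fin n → ℂ))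
    (hirr : ρ.IsIrreducible) (hm : classInner (permChar G) ρ.character ≠ 0) :
    ∃ v : α → (Fin n → ℂ), ∀ x : α, v x ≠ 0 ∧ ∀ g : ↥G, ρ g (v x) = v (g • x) := by
  classical
  have hperm : permChar G = (Cfsg.permRep ℂ ↥G α).character := by
    funext g
    rw [Cfsg.Agent.Lib.Helper12.permRep_character]
    rfl
  rw [hperm, Cfsg.Agent.Lib.Helper3.classInner_character_eq_finrank] at hm
  have hpos : 0 < finrank ℂ (IntertwiningMap ρ (Cfsg.permRep ℂ ↥G α)) := by
    rcases Nat.eq_zero_or_pos (finrank ℂ (IntertwiningMap ρ (Cfsg.permRep ℂ ↥G α))) with h | h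
    · exfalso; apply hm; rw [h]; simp
    · exact h
  obtain ⟨φ, hφ⟩ := Module.finrank_pos_iff_exists_ne_zero.mp hpos
  have hinj : Function.Injective φ :=
    (IsIrreducible.injective_or_eq_zero φ).resolve_right hφ
  obtain ⟨ψ, hψ⟩ := Cfsg.Agent.Lib.Helper12.exists_leftInverse_intertwining φ hinj
  -- equivariance of `v x := ψ (single x)`
  have hequiv : ∀ (x : α) (g : ↥G),
      ρ g (ψ (Pi.single x 1)) = ψ (Pi.single (g • x) 1) := by
    intro x g
    rw [← ψ.isIntertwining, Cfsg.Agent.Lib.Helper12.permRep_single]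
  -- some `v x` is nonzero
  have hne : ∃ x : α, ψ (Pi.single x (1 : ℂ)) ≠ 0 := by
    by_contra hcon
    push Not at hcon
    have hzero : ∀ u : α → ℂ, ψ u = 0 := by
      intro u
      have hu : u = ∑ x : α, u x • (Pi.single x (1 : ℂ) : α → ℂ) := by
        funext y
        simp [Finset.sum_apply, Pi.single_apply]
      rw [hu, map_sum]
      apply Finset.sum_eq_zero
      intro x _
      rw [map_smul, hcon, smul_zero]
    -- then every vector of ρ is zero, contradicting irreducibility
    have hpos' := Cfsg.Agent.Lib.Helper3.finrank_pos_of_isIrreducible ρ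
    obtain ⟨w, hw⟩ := Module.finrank_pos_iff_exists_ne_zero.mp hpos'
    apply hw
    rw [← hψ w, hzero]
  obtain ⟨x₀, hx₀⟩ := hne
  refine ⟨fun x => ψ (Pi.single x 1), fun x => ⟨?_, fun g => hequiv x g⟩⟩
  obtain ⟨g, hg⟩ := MulAction.exists_smul_eq (↥G) x x₀
  intro h0
  apply hx₀
  have h1 := hequiv x g
  rw [hg] at h1
  have h0' : ψ (Pi.single x 1) = 0 := h0
  rw [← h1, h0', map_zero]

end Cfsg.Agent.Lib.Helper92.W2p
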