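import Cfsg.Agent.Lib.Helper92.BPDefs

/-!
# PROJECT BP: the `G`-algebra `A = R[G]` — fixed points, relative trace, Brauer map (helper92)

Vocabulary for layers 2–4 of `Cfsg/Agent/Lib/Helper92/BP/BP_SHEET.md`.  `R` is a commutative ring
(in use: a local domain with `MonicSplits R`, e.g. `Helper16.localSubring M`), `k` is its residue
field `IsLocalRing.ResidueField R`, `A = MonoidAlgebra R G`.

* `conj R g a = g a g⁻¹`
* `fixedAlg R Q = A^Q` (a subalgebra: the centraliser of the image of `Q`)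
* `relTr R S Q a = Tr_S^Q(a) = Σ_{t ∈ Q/S} t a t⁻¹` (meaningful for `a ∈ A^S`, `S ≤ Q`)
* `trIdeal R S Q = Tr_S^Q(A^S)`, as an ideal of `A^Q`
* `br R Q a ∈ k[C_G(Q)]`: restrict the coefficients to `C_G(Q)` and reduce modulo `𝔪`
  (a ring homomorphism on `A^Q` when `Q` is a `p`-group and `k` has characteristic `p`)
* `IsPrimIn R B c`: `c` is a primitive idempotent of the subalgebra `B`
* `IsLocalPrim R Q c`: `c` is a primitive idempotent of `A^Q` with `Br_Q(c) ≠ 0`
-/

set_option autoImplicit false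

namespace Cfsg.Agent.Lib.Helper92.BP

section GAlg

variable (R : Type*) [CommRing R] {G : Type*} [Group G]

/-- Conjugation `a ↦ g a g⁻¹` in the group algebra. -/
noncomputable def conj (g : G) (a : MonoidAlgebra R G) : MonoidAlgebra R G :=
  MonoidAlgebra.of R G g * a * MonoidAlgebra.of R G g⁻¹

/-- The subalgebra `A^Q` of `Q`-fixed points of `A = R[G]`. -/
noncomputable def fixedAlg (Q : Subgroup G) : Subalgebra R (MonoidAlgebra R G) :=
  Subalgebra.centralizer R ((MonoidAlgebra.of R G) '' (Q : Set G))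

/-- The relative trace `Tr_S^Q(a) = Σ_{t ∈ Q/S} t a t⁻¹` (for `a ∈ A^S`, `S ≤ Q`, `Q` finite). -/
noncomputable def relTr (S Q : Subgroup G) (a : MonoidAlgebra R G) : MonoidAlgebra R G :=
  ∑ᶠ t : Q ⧸ S.subgroupOf Q, conj R ((Quotient.out t : Q) : G) a

/-- The set `Tr_S^Q(A^S)`. -/
def trSet (S Q : Subgroup G) : Set (MonoidAlgebra R G) :=
  relTr R S Q '' (fixedAlg R S : Set (MonoidAlgebra R G))

/-- `Tr_S^Q(A^S)` as an ideal of `A^Q`. -/
noncomputable def trIdeal (S Q : Subgroup G) : Ideal (fixedAlg R Q) :=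
  Ideal.span {x : fixedAlg R Q | (x : MonoidAlgebra R G) ∈ trSet R S Q}

/-- `c` is a primitive idempotent of the subalgebra `B` of `A`. -/
def IsPrimIn (B : Subalgebra R (MonoidAlgebra R G)) (c : MonoidAlgebra R G) : Prop :=
  ∃ h : c ∈ B, IsPrimIdem (⟨c, h⟩ : B)

variable [IsLocalRing R]

/-- The Brauer map `Br_Q : A → k[C_G(Q)]`, `k = R/𝔪`: restrict the coefficient function to
`C_G(Q)` and reduce modulo `𝔪`.  -/
noncomputable def br (Q : Subgroup G) (a : MonoidAlgebra R G) :
    MonoidAlgebra (IsLocalRing.ResidueField R) (Subgroup.centralizer (Q : Set G)) :=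
  MonoidAlgebra.ofCoeff
    ((a.coeff.mapRange (IsLocalRing.residue R) (map_zero _)).comapDomain Subtype.val
      Subtype.val_injective.injOn)

/-- `c` is a local primitive idempotent of `A^Q`: primitive in `A^Q` and `Br_Q(c) ≠ 0`. -/
def IsLocalPrim (Q : Subgroup G) (c : MonoidAlgebra R G) : Prop :=
  IsPrimIn R (fixedAlg R Q) c ∧ br R Q c ≠ 0

end GAlg

end Cfsg.Agent.Lib.Helper92.BP
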