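import Cfsg.Agent.Lib.Helper92.BPGAlg

/-!
# PROJECT BP, layer 3 vocabulary: evaluating class functions on group-algebra elements (helper92)

`R` is a commutative ring with an algebra map to `ℂ` (in use `R = localSubring M ⊆ ℂ`).

* `ev χ a = Σ_g a(g) χ(g)`: the linear extension of `χ : G → ℂ` to `R[G]`; a trace form when `χ` is
  a class function.
* `evAt χ u a = Σ_g a(g) χ(u g) = ev χ (u · a)`.
* `red R H : R[H] →+* k[H]`: reduction of coefficients modulo the maximal ideal.
-/

set_option autoImplicit false

namespace Cfsg.Agent.Lib.Helper92.BP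

section Ev

variable {R : Type*} [CommRing R] [Algebra R ℂ] {G : Type*} [Group G]

/-- Linear extension of `χ : G → ℂ` to the group algebra `R[G]`. -/
noncomputable def ev (χ : G → ℂ) (a : MonoidAlgebra R G) : ℂ :=
  a.coeff.sum fun g r => algebraMap R ℂ r * χ g

/-- `evAt χ u a = Σ_g a(g) χ(u g)`, the value "`χ(u a)`". -/
noncomputable def evAt (χ : G → ℂ) (u : G) (a : MonoidAlgebra R G) : ℂ :=
  ev (fun g => χ (u * g)) a

end Ev

/-- Reduction of coefficients modulo the maximal ideal, `R[H] → k[H]`. -/
noncomputable def red (R : Type*) [CommRing R] [IsLocalRing R] (H : Type*) [Group H] :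
    MonoidAlgebra R H →+* MonoidAlgebra (IsLocalRing.ResidueField R) H :=
  MonoidAlgebra.mapRingHom H (IsLocalRing.residue R)

end Cfsg.Agent.Lib.Helper92.BP
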