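import Cfsg.Agent.Lib.Helper92.BPChar
import Cfsg.Agent.Lib.Helper16.LocalRing
import Cfsg.Prelude.Def_BrauerPairs

/-!
# PROJECT BP, layer 2d/4 vocabulary: block idempotents of the Prelude blocks inside `Rm[H]`, `k[H]`

`Rm = localSubring M`, `k = ResidueField Rm`.

* `toLocal M z`: `z` as an element of `Rm` (junk value `0` if `z ∉ Rm`).
* `blockIdemR M f = Σ_h blockCoeff f h · h ∈ Rm[H]` for a set `f` of irreducible characters of a
  finite group `H` (the block idempotent when `f` is a block: coefficients lie in `Rm` by
  `Helper16.blockCoeff_memLocalRing`).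
* `blockIdemK M f ∈ k[H]`: its reduction.
* `incl R K : R[K] →+* R[G]` for a subgroup `K ≤ G`.
-/

set_option autoImplicit false

namespace Cfsg.Agent.Lib.Helper92.BP

open Cfsg Cfsg.Agent.Lib.Helper16

/-- The inclusion `R[K] → R[G]` of group algebras for a subgroup `K ≤ G`. -/
noncomputable def incl (R : Type*) [CommRing R] {G : Type*} [Group G] (K : Subgroup G) :
    MonoidAlgebra R K →+* MonoidAlgebra R G :=
  MonoidAlgebra.mapDomainRingHom R K.subtype

section

variable (M : Ideal AlgInt) [M.IsPrime]

/-- `z : ℂ` as an element of the local ring `localSubring M` (`0` if it does not lie in it). -/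
noncomputable def toLocal (z : ℂ) : localSubring M := by
  classical exact if h : z ∈ localSubring M then ⟨z, h⟩ else 0

/-- The block idempotent `Σ_h blockCoeff f h · h` in `Rm[H]`. -/
noncomputable def blockIdemR {H : Type*} [Group H] (f : Set (IrrCharacter H)) :
    MonoidAlgebra (localSubring M) H :=
  ∑ᶠ h : H, toLocal M (blockCoeff f h) • MonoidAlgebra.of (localSubring M) H h

/-- The block idempotent in `k[H]`. -/
noncomputable def blockIdemK {H : Type*} [Group H] (f : Set (IrrCharacter H)) :
    MonoidAlgebra (IsLocalRing.ResidueField (localSubring M)) H :=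
  red (localSubring M) H (blockIdemR M f)

end

end Cfsg.Agent.Lib.Helper92.BP
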