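import Cfsg.Agent.Lib.Helper92.BPTheta
import Cfsg.Agent.Lib.Helper86.BPLift
import Cfsg.Agent.Lib.Helper44.BPBr5
import Cfsg.Agent.Lib.Helper80.CharBasic

/-!
# PROJECT BP, step C0 of BP-[L4-CLAIM]: CLAIM(`Q`, `0`) (helper92)
-/

set_option autoImplicit false

namespace Cfsg.Agent.Lib.Helper92.BP

open Cfsg Cfsg.Agent.Lib.Helper16

section

variable {G : Type*} [Group G] {M : Ideal AlgInt} [hMp : M.IsPrime]

theorem ev_zero' {R : Type*} [CommRing R] [Algebra R ℂ] (χ : G → ℂ) :
    ev χ (0 : MonoidAlgebra R G) = 0 := by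
  unfold ev
  simp

theorem thetaQ_zero' (μ : LocSys G) (χ : G → ℂ) (Q : Subgroup G) (u : G) :
    ThetaQ M μ χ Q u 0 = 0 := by
  unfold ThetaQ
  apply finsum_mem_eq_zero_of_forall_eq_zero
  intro f _
  rw [zero_mul]
  unfold evAt
  rw [ev_zero', mul_zero]

/-- an idempotent of `Rm[G]` supported on a subgroup `K` and killed by `Br` after reduction is `0` -/
theorem incl_idem_eq_zero_of_red_eq_zero [Finite G] (K : Subgroup G)
    {a : MonoidAlgebra (localSubring M) G}
    (ha : a ∈ Set.range (incl (localSubring M) K)) (hai : IsIdempotentElem a)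
    (h : ∀ a' : MonoidAlgebra (localSubring M) K, incl (localSubring M) K a' = a →
      red (localSubring M) K a' = 0) : a = 0 := by
  obtain ⟨a', rfl⟩ := ha
  have hinj : Function.Injective (incl (localSubring M) K) := by
    unfold incl
    exact MonoidAlgebra.mapDomain_injective K.subtype_injective
  have ha'i : IsIdempotentElem a' := by
    apply hinj
    rw [map_mul]
    exact hai.eq
  have := Cfsg.Agent.Lib.Helper86.BP.idem_eq_zero_of_red_eq_zero a' ha'i (h a' rfl)
  rw [this, map_zero]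

/-- Step C0: CLAIM(`Q`, `0`). -/
theorem claimFor_zero [Finite G] (μ : LocSys G) (χ : G → ℂ) (Q : Subgroup G) :
    ClaimFor M μ χ Q 0 := by
  refine ⟨0, ⟨0, 0, Cfsg.Agent.Lib.Helper80.isCharacter_zero,
    Cfsg.Agent.Lib.Helper80.isCharacter_zero, (sub_zero 0).symm⟩, ?_⟩
  intro u a ha hai hbr
  have ha0 : a = 0 := by
    apply incl_idem_eq_zero_of_red_eq_zero _ ha hai
    intro a' ha'
    have h1 := Cfsg.Agent.Lib.Helper44.BP.br_mapDomain (R := localSubring M)
      (Subgroup.zpowers (u : G)) a'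
    have h0 := Cfsg.Agent.Lib.Helper44.BP.br_mapDomain (R := localSubring M)
      (Subgroup.zpowers (u : G)) 0
    rw [map_zero, map_zero] at h0
    have h3 : br (localSubring M) (Subgroup.zpowers (u : G)) a = 0 := by rw [hbr, h0]
    rw [← ha'] at h3
    unfold incl at h3
    rw [h1] at h3
    exact h3
  rw [ha0, thetaQ_zero']
  rfl

end

end Cfsg.Agent.Lib.Helper92.BP
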