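import Cfsg.Agent.Lib.Helper92.BPElem
import Cfsg.Agent.S0164

/-!
# PROJECT BP, BP-[L4-MAIN] (conditional form): the abstract Broué–Puig theorem from Brauer's
characterization of characters (S0164) and BP-[L4-ELEM].
-/

set_option autoImplicit false

namespace Cfsg.Agent.Lib.Helper92.BP

open Cfsg Cfsg.Agent.Lib.Helper16

section

variable {G : Type*} [Group G] [Finite G] {p : ℕ} [Fact p.Prime] {M : Ideal AlgInt}
  [hMp : M.IsPrime]

/-- BP-[L4-MAIN], conditional form. -/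
theorem isGeneralizedCharacter_of_isStar_of {μ : LocSys G} {χ θ : G → ℂ}
    (hθc : IsClassFunction G θ)
    (hSTR : ∀ (E : Subgroup G) (r : ℕ), r.Prime → IsElementary r E →
      ∃ Q L : Subgroup G, Q ≤ E ∧ L ≤ E ∧ IsPGroup p Q ∧ (∀ s ∈ L, ¬ p ∣ orderOf s) ∧
        (∀ u ∈ Q, ∀ s ∈ L, u * s = s * u) ∧ ∀ g ∈ E, ∃ u ∈ Q, ∃ s ∈ L, g = u * s)
    (hPROD : ∀ (E Q L : Subgroup G), Q ≤ E → L ≤ E → IsPGroup p Q →
      (∀ s ∈ L, ¬ p ∣ orderOf s) → (∀ u ∈ Q, ∀ s ∈ L, u * s = s * u) →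
      (∀ g ∈ E, ∃ u ∈ Q, ∃ s ∈ L, g = u * s) →
      ∀ (Φ : G → ℂ) (J : Finset (IrrCharacter L)) (ν : IrrCharacter L → Q → ℂ)
        (ζ : IrrCharacter L → L → ℂ), (∀ j ∈ J, IsGeneralizedCharacter Q (ν j)) →
        (∀ j ∈ J, IsCharacter L (ζ j)) →
        (∀ (u : Q) (s : L), Φ ((u : G) * (s : G)) = ∑ j ∈ J, ν j u * ζ j s) →
        IsGeneralizedCharacter E (fun e : E => Φ e))
    (hCLAIM : ∀ Q : Subgroup G, IsPGroup p Q → ∀ c : MonoidAlgebra (localSubring M) G,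
      c ∈ fixedAlg (localSubring M) Q → IsIdempotentElem c → ClaimFor M μ χ Q c)
    (hEPS : ∀ L : Subgroup G, (∀ s ∈ L, ¬ p ∣ orderOf s) → ∀ ζ : IrrCharacter L,
      IsIdempotentElem (blockIdemR M ({ζ} : Set (IrrCharacter L))))
    (hFIX : ∀ Q L : Subgroup G, (∀ u ∈ Q, ∀ s ∈ L, u * s = s * u) →
      ∀ a : MonoidAlgebra (localSubring M) L,
        incl (localSubring M) L a ∈ fixedAlg (localSubring M) Q)
    (hRNG : ∀ L K : Subgroup G, L ≤ K → ∀ a : MonoidAlgebra (localSubring M) L,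
      incl (localSubring M) L a ∈ Set.range (incl (localSubring M) K))
    (hCOEF : ∀ u : G, (∃ k : ℕ, orderOf u = p ^ k) → ∀ (L : Subgroup G) [Fintype L],
      (∀ s ∈ L, ¬ p ∣ orderOf s) → (∀ s ∈ L, u * s = s * u) → ∀ ζ : IrrCharacter L,
      ThetaQ M μ χ (Subgroup.zpowers u) u
          (incl (localSubring M) L (blockIdemR M ({ζ} : Set (IrrCharacter L)))) =
        (charDegree (ζ : L → ℂ) : ℂ) *
          classInner (fun s : L => θ (u * (s : G))) (ζ : L → ℂ))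
    (hINT : ∀ u : G, (∃ k : ℕ, orderOf u = p ^ k) → ∀ (L : Subgroup G) [Fintype L],
      (∀ s ∈ L, ¬ p ∣ orderOf s) → (∀ s ∈ L, u * s = s * u) → ∀ ζ : IrrCharacter L,
      IsIntegral ℤ (classInner (fun s : L => θ (u * (s : G))) (ζ : L → ℂ)))
    (hGEN : ∀ Q : Subgroup G, IsPGroup p Q → ∀ (a : Q → ℂ) (m : ℕ), ¬ p ∣ m →
      IsGeneralizedCharacter Q (fun u => (m : ℂ) * a u) → (∀ u, IsIntegral ℤ (a u)) →
      IsGeneralizedCharacter Q a) :
    IsGeneralizedCharacter G θ :=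
  Cfsg.Agent.S0164.result θ hθc (fun E r hr hE =>
    isGeneralizedCharacter_restrict_elementary_of hθc hSTR hPROD hCLAIM hEPS hFIX hRNG hCOEF hINT
      hGEN E r hr hE)

end

end Cfsg.Agent.Lib.Helper92.BP
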