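import Cfsg.Agent.Lib.Helper92.BPClaim
import Cfsg.Agent.Lib.Helper92.BPClaimZero
import Cfsg.Agent.Lib.Helper92.BPMain
import Cfsg.Agent.Lib.Helper29.BPEStr
import Cfsg.Agent.Lib.Helper29.BPEProd
import Cfsg.Agent.Lib.Helper52.BPEps
import Cfsg.Agent.Lib.Helper77.BPECoef
import Cfsg.Agent.Lib.Helper25.BPEIntFinal
import Cfsg.Agent.Lib.Helper3.BPEGen

/-!
# PROJECT BP, layer 4 assembly (helper92): everything except C1, C2, C3 discharged

`isGeneralizedCharacter_of_isStar_of3`: the abstract Broué–Puig theorem, with the three remaining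
CLAIM steps (additivity C1, relative trace C2, local C3) as hypotheses in the exact skeleton form;
all the `E`-modules (STR, PROD, EPS, FIX, RNG, COEF, INT, GEN) and C0 are discharged here.
-/

set_option autoImplicit false

namespace Cfsg.Agent.Lib.Helper92.BP

open Cfsg Cfsg.Agent.Lib.Helper16

section

variable {G : Type*} [Group G] [Finite G] {p : ℕ} [Fact p.Prime] {M : Ideal AlgInt}
  [hMp : M.IsPrime]

/-- BP-[L4-CLAIM] from C1, C2, C3. -/
theorem claimFor_all_of3 (hM : IsPModular p M) {μ : LocSys G} {χ : G → ℂ}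
    (hC1 : ∀ (Q : Subgroup G), IsPGroup p Q → ∀ c₁ c₂ : MonoidAlgebra (localSubring M) G,
      c₁ ∈ fixedAlg (localSubring M) Q → c₂ ∈ fixedAlg (localSubring M) Q →
      IsIdempotentElem c₁ → IsIdempotentElem c₂ → Orth c₁ c₂ →
      ClaimFor M μ χ Q c₁ → ClaimFor M μ χ Q c₂ → ClaimFor M μ χ Q (c₁ + c₂))
    (hC2 : ∀ (S Q : Subgroup G), IsPGroup p Q → S ≤ Q → (S.subgroupOf Q).Normal →
      S.relIndex Q = p → ∀ c' : MonoidAlgebra (localSubring M) G,
      c' ∈ fixedAlg (localSubring M) S → IsIdempotentElem c' →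
      (∀ t ∈ Q, t ∉ S → c' * conj (localSubring M) t c' = 0) →
      ClaimFor M μ χ S c' → ClaimFor M μ χ Q (relTr (localSubring M) S Q c'))
    (hC3 : ∀ (Q : Subgroup G), IsPGroup p Q → ∀ c : MonoidAlgebra (localSubring M) G,
      IsLocalPrim (localSubring M) Q c → ClaimFor M μ χ Q c)
    {Q : Subgroup G} (hQ : IsPGroup p Q) {c : MonoidAlgebra (localSubring M) G}
    (hc : c ∈ fixedAlg (localSubring M) Q) (hi : IsIdempotentElem c) :
    ClaimFor M μ χ Q c :=
  claimFor_all_of hM μ χ (fun Q _ => claimFor_zero μ χ Q) hC1 hC2 hC3 hQ hc hi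

/-- BP-[L4-MAIN] from C1, C2, C3. -/
theorem isGeneralizedCharacter_of_isStar_of3 (hM : IsPModular p M) {μ : LocSys G}
    (hμ : IsLocalSystem p M μ) {χ : G → ℂ} (hχ : IsCharacter G χ) {θ : G → ℂ}
    (hθc : IsClassFunction G θ) (hθ : IsStar M p μ χ θ)
    (hCLAIM : ∀ Q : Subgroup G, IsPGroup p Q → ∀ c : MonoidAlgebra (localSubring M) G,
      c ∈ fixedAlg (localSubring M) Q → IsIdempotentElem c → ClaimFor M μ χ Q c) :
    IsGeneralizedCharacter G θ := by
  refine isGeneralizedCharacter_of_isStar_of (p := p) (M := M) (μ := μ) (χ := χ) hθc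
    (fun E r hr hE => Cfsg.Agent.Lib.Helper29.BP.exists_p_decomp_of_isElementary p E r hr hE)
    (fun E Q L hQE hLE hQ hL hcomm hgen Φ J ν ζ hν hζ hΦ =>
      Cfsg.Agent.Lib.Helper29.BP.isGeneralizedCharacter_of_prod hQE hLE hQ hL hcomm hgen J ν ζ
        hν hζ hΦ)
    hCLAIM
    (fun L hL ζ => Cfsg.Agent.Lib.Helper52.BP.blockIdemR_singleton_idem hM
      (not_dvd_card_of_forall_not_dvd_orderOf hL) ζ)
    (fun Q L hcomm a => Cfsg.Agent.Lib.Helper77.BPCoef.incl_mem_fixedAlg Q L hcomm a)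
    (fun L K hLK a => Cfsg.Agent.Lib.Helper77.BPCoef.incl_mem_range_of_le hLK a)
    (fun u hu L _ hL hcomm ζ =>
      Cfsg.Agent.Lib.Helper77.BPCoef.thetaQ_incl_blockIdemR_singleton hM μ χ hθc hθ hu L hL
        hcomm ζ)
    (fun u hu L _ hL hcomm ζ =>
      Cfsg.Agent.Lib.Helper25.BP.isIntegral_classInner_star hM hμ hχ hθ hu L hL hcomm ζ)
    (fun Q hQ a m hm hma hint =>
      Cfsg.Agent.Lib.Helper3.BP.isGeneralizedCharacter_of_natCast_mul hQ hm hma hint)

end

end Cfsg.Agent.Lib.Helper92.BP
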