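import Mathlib
import Cfsg.Prelude.Def_Characters
import Cfsg.Agent.Lib.Helper33.PFTenTV1
import Cfsg.Agent.Lib.Helper81.IrrTwist

/-!
# PF sec.10 T-side module [TS-DOM] (helper92, for helper60)

A character induced from an irreducible character `θ` of a normal subgroup `K`, where `θ` does not
contain the normal subgroup `H ≤ K` in its kernel, vanishes outside `K` and at the elements `x`
with `C_H(x) = 1`.
-/

set_option autoImplicit false

namespace Cfsg.Agent.Lib.Helper92.PFTenT

open Cfsg

universe u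

/-- MODULE [TS-DOM] -/
theorem indFun_vanish {L : Type u} [Group L] [Fintype L] (K H : Subgroup L) [K.Normal] [H.Normal]
    (hHK : H ≤ K) (θ : ↥K → ℂ) (hθ : IsIrrCharacter ↥K θ)
    (hH : ∃ h : ↥K, (h : L) ∈ H ∧ θ h ≠ θ 1)
    (x : L) (hx : x ∉ K ∨ ∀ h ∈ H, h * x = x * h → h = 1) : indFun K θ x = 0 := by
  classical
  unfold indFun
  have hterm : ∀ y : L, extendByZero K θ (y⁻¹ * x * y) = 0 := by
    intro y
    by_cases hxK : x ∈ K
    · -- `x ∈ K` and `C_H(x) = 1`
      have hfpf : ∀ h ∈ H, h * x = x * h → h = 1 := by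
        rcases hx with h | h
        · exact absurd hxK h
        · exact h
      have hmem : y⁻¹ * x * y ∈ K := by
        have := (inferInstance : K.Normal).conj_mem x hxK y⁻¹
        simpa using this
      have hval : extendByZero K θ (y⁻¹ * x * y) = θ ⟨y⁻¹ * x * y, hmem⟩ := by
        unfold extendByZero
        exact Subtype.val_injective.extend_apply θ 0 ⟨y⁻¹ * x * y, hmem⟩
      rw [hval]
      -- the conjugate character
      have hirr : IsIrrCharacter ↥K (fun n => θ (MulAut.conjNormal y⁻¹ n)) :=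
        Cfsg.Agent.Lib.Helper81.isIrrCharacter_conjNormal K hθ y⁻¹
      have hHK' : (H.subgroupOf K).Normal := inferInstance
      obtain ⟨h₀, hh₀H, hh₀⟩ := hH
      have hy : y * (h₀ : L) * y⁻¹ ∈ K := (inferInstance : K.Normal).conj_mem _ h₀.2 y
      have hyH : y * (h₀ : L) * y⁻¹ ∈ H := (inferInstance : H.Normal).conj_mem _ hh₀H y
      have hconj0 : MulAut.conjNormal y⁻¹ (⟨y * (h₀ : L) * y⁻¹, hy⟩ : ↥K) = h₀ := by
        apply Subtype.ext
        rw [MulAut.conjNormal_apply]
        simp [mul_assoc]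
      have hconj1 : MulAut.conjNormal y⁻¹ (1 : ↥K) = 1 := map_one _
      have hex : ∃ h ∈ H.subgroupOf K, (fun n => θ (MulAut.conjNormal y⁻¹ n)) h ≠
          (fun n => θ (MulAut.conjNormal y⁻¹ n)) 1 := by
        refine ⟨⟨y * (h₀ : L) * y⁻¹, hy⟩, ?_, ?_⟩
        · rw [Subgroup.mem_subgroupOf]
          exact hyH
        · change θ (MulAut.conjNormal y⁻¹ ⟨y * (h₀ : L) * y⁻¹, hy⟩) ≠ θ (MulAut.conjNormal y⁻¹ 1)
          rw [hconj0, hconj1]
          exact hh₀
      have hfix : ∀ h ∈ H.subgroupOf K, h * (⟨x, hxK⟩ : ↥K) = ⟨x, hxK⟩ * h → h = 1 := by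
        intro h hh hcomm
        rw [Subgroup.mem_subgroupOf] at hh
        have h1 : (h : L) * x = x * (h : L) := by
          have := congrArg Subtype.val hcomm
          simpa using this
        have h2 := hfpf (h : L) hh h1
        exact Subtype.ext h2
      have hzero := Cfsg.Agent.Lib.Helper33.PFTenT.irr_vanish_of_fpf (H.subgroupOf K)
        (fun n => θ (MulAut.conjNormal y⁻¹ n)) hirr hex ⟨x, hxK⟩ hfix
      have hconjx : MulAut.conjNormal y⁻¹ (⟨x, hxK⟩ : ↥K) = ⟨y⁻¹ * x * y, hmem⟩ := by
        apply Subtype.ext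
        rw [MulAut.conjNormal_apply]
        simp
      change θ (MulAut.conjNormal y⁻¹ ⟨x, hxK⟩) = 0 at hzero
      rw [hconjx] at hzero
      exact hzero
    · -- `x ∉ K`
      have hnot : y⁻¹ * x * y ∉ K := by
        intro hmem
        apply hxK
        have := (inferInstance : K.Normal).conj_mem _ hmem y
        simpa [mul_assoc] using this
      unfold extendByZero
      rw [Function.extend_apply']
      · rfl
      · rintro ⟨h, hh⟩
        exact hnot (hh ▸ h.2)
  rw [Finset.sum_congr rfl (fun y _ => hterm y), Finset.sum_const_zero, mul_zero]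

end Cfsg.Agent.Lib.Helper92.PFTenT
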