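import Mathlib
import Cfsg.Agent.Lib.Helper75.BrauerHalfC

set_option autoImplicit false
set_option linter.unusedSectionVars false

/-!
# S4503 module [BH-XTYPE] (helper92): a character of degree `< (p-1)/2` whose parts are
`± 1` on one `N_G(P)`-orbit of roots and `0` elsewhere is constant on `P`
-/

namespace Cfsg.Agent.Lib.Helper92.BrauerHalf

open Cfsg Cfsg.Agent.Lib.Helper78 Cfsg.Agent.Lib.Helper16 Cfsg.Agent.Lib.Helper3.DefOneGen
  Cfsg.Agent.Lib.Helper75.McKayOne Cfsg.Agent.Lib.Helper75.BrauerHalf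
open scoped ComplexConjugate IsMulCommutative

universe u

variable {G : Type u} [Group G] [Fintype G] {p : ℕ} [hp : Fact p.Prime] (P : Sylow p G)
  (hP : Nat.card P = p)
variable [Fintype ↥(Subgroup.centralizer ((P : Subgroup G) : Set G))] [Fintype ↥(P : Subgroup G)]
  [IsMulCommutative ↥(P : Subgroup G)] [Fintype (↥(P : Subgroup G) →* ℂˣ)]
  [Fintype ↥(Subgroup.normalizer ((P : Subgroup G) : Set G))]
variable {M : Ideal AlgInt}

local notation "CP" => Subgroup.centralizer ((P : Subgroup G) : Set G)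
local notation "NP" => Subgroup.normalizer ((P : Subgroup G) : Set G)

attribute [local instance] nAct

include hP in
open scoped Classical in
/-- expansion of a class function on `P` -/
theorem apply_eq_sum_Theta {F : G → ℂ} (hF : IsClassFunction G F) (y : ↥(P : Subgroup G)) :
    F (y : G) = ∑ θ' ∈ Theta P, fpart p CP F (θ' : ↥CP → ℂ) (y : G) * (θ' : ↥CP → ℂ) 1 := by
  have h := apply_eq_sum_fpart P hP hF y (1 : ↥CP) (by
    rw [orderOf_one]
    exact hp.out.one_lt.not_ge ∘ Nat.le_of_dvd Nat.one_pos)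
  rw [OneMemClass.coe_one, mul_one] at h
  rw [h, Theta_eq_filter P hP]

include hP in
open scoped Classical in
theorem card_filter_ne_one :
    (Finset.univ.filter (fun y : ↥(P : Subgroup G) => y ≠ 1)).card = p - 1 := by
  rw [Finset.filter_ne' Finset.univ (1 : ↥(P : Subgroup G)), Finset.card_erase_of_mem
    (Finset.mem_univ _), Finset.card_univ, ← Nat.card_eq_fintype_card]
  rw [show Nat.card ↥(P : Subgroup G) = p from hP]

include hP in
open scoped Classical in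
theorem const_of_xtype {Ξ : G → ℂ} (hΞ : IsCharacter G Ξ) (hdeg : 2 * charDegree Ξ + 1 < p)
    (θ : IrrCharacter ↥CP) (hθ : θ ∈ Theta P) (a : ℤ) (ha : a = 1 ∨ a = -1)
    (hfp : ∀ θ' ∈ Theta P, ∀ y : ↥(P : Subgroup G), y ≠ 1 →
      fpart p CP Ξ (θ' : ↥CP → ℂ) (y : G) =
        if θ' ∈ MulAction.orbit ↥NP θ then (a : ℂ) else 0) :
    ∀ y : G, y ∈ (P : Subgroup G) → Ξ y = Ξ 1 := by
  have hcf : IsClassFunction G Ξ := IsCharacter.isClassFunction hΞ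
  have hp2 : 2 ≤ p := hp.out.two_le
  -- `gq` on `Theta`
  have hgq : ∀ θ' ∈ Theta P, gq P Ξ (θ' : ↥CP → ℂ) =
      if θ' ∈ MulAction.orbit ↥NP θ then ((p : ℂ) - 1) * (a : ℂ) else 0 := by
    intro θ' hθ'
    unfold gq
    rw [Finset.sum_congr rfl (fun y hy => hfp θ' hθ' y (Finset.mem_filter.mp hy).2)]
    rw [Finset.sum_const, card_filter_ne_one P hP]
    split_ifs
    · rw [nsmul_eq_mul, Nat.cast_sub (by omega), Nat.cast_one]
    · simp
  -- integer form: `D = p u - (p-1) a [orbit]`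
  have hD : ∀ θ' ∈ Theta P, (Dn P Ξ (θ' : ↥CP → ℂ) : ℤ) =
      (p : ℤ) * (un P Ξ (θ' : ↥CP → ℂ) : ℤ) -
        (if θ' ∈ MulAction.orbit ↥NP θ then ((p : ℤ) - 1) * a else 0) := by
    intro θ' hθ'
    have h1 := un_spec P hP hΞ θ' hθ'
    rw [hgq θ' hθ'] at h1
    have h2 : ((Dn P Ξ (θ' : ↥CP → ℂ) : ℤ) : ℂ) =
        (((p : ℤ) * (un P Ξ (θ' : ↥CP → ℂ) : ℤ) -
          (if θ' ∈ MulAction.orbit ↥NP θ then ((p : ℤ) - 1) * a else 0) : ℤ) : ℂ) := by
      split_ifs at h1 ⊢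
      · push_cast
        linear_combination h1
      · push_cast
        linear_combination h1
    exact_mod_cast h2
  -- degrees: `D_θ'' ≤ Ξ(1)` for all `θ''`
  have hone := apply_eq_sum_Theta P hP hcf (1 : ↥(P : Subgroup G))
  rw [OneMemClass.coe_one] at hone
  have hdegθ : ∀ θ' : IrrCharacter ↥CP, (θ' : ↥CP → ℂ) 1 = (charDegree (θ' : ↥CP → ℂ) : ℂ) :=
    fun θ' => IsCharacter.apply_one_eq_charDegree ⟨_, _, θ'.2.choose_spec.choose_spec.2⟩
  have hdegpos : ∀ θ' : IrrCharacter ↥CP, 0 < charDegree (θ' : ↥CP → ℂ) :=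
    fun θ' => IsIrrCharacter.charDegree_pos θ'.2
  have hsumN : charDegree Ξ = ∑ θ' ∈ Theta P, Dn P Ξ (θ' : ↥CP → ℂ) * charDegree (θ' : ↥CP → ℂ) := by
    have h1 : (charDegree Ξ : ℂ) =
        ((∑ θ' ∈ Theta P, Dn P Ξ (θ' : ↥CP → ℂ) * charDegree (θ' : ↥CP → ℂ) : ℕ) : ℂ) := by
      rw [← IsCharacter.apply_one_eq_charDegree hΞ, hone]
      push_cast
      apply Finset.sum_congr rfl
      intro θ' hθ'
      rw [Dn_spec P hP hΞ θ' hθ', hdegθ]
    exact_mod_cast h1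
  have hDle : ∀ θ' ∈ Theta P, Dn P Ξ (θ' : ↥CP → ℂ) ≤ charDegree Ξ := by
    intro θ' hθ'
    rw [hsumN]
    calc Dn P Ξ (θ' : ↥CP → ℂ) ≤ Dn P Ξ (θ' : ↥CP → ℂ) * charDegree (θ' : ↥CP → ℂ) :=
          Nat.le_mul_of_pos_right _ (hdegpos θ')
      _ ≤ _ := Finset.single_le_sum (f := fun θ' : IrrCharacter ↥CP =>
          Dn P Ξ (θ' : ↥CP → ℂ) * charDegree (θ' : ↥CP → ℂ)) (fun _ _ => Nat.zero_le _) hθ'
  -- first `a = 1`
  have ha1 : a = 1 := by
    rcases ha with h | h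
    · exact h
    · exfalso
      have h1 := hD θ hθ
      rw [if_pos (MulAction.mem_orbit_self θ), h] at h1
      have h2 := hDle θ hθ
      have h3 : (0 : ℤ) ≤ (un P Ξ (θ : ↥CP → ℂ) : ℤ) := Int.natCast_nonneg _
      have h4 : (0 : ℤ) ≤ (p : ℤ) * (un P Ξ (θ : ↥CP → ℂ) : ℤ) :=
        mul_nonneg (Int.natCast_nonneg _) h3
      have h5 : ((p : ℤ) - 1) ≤ (Dn P Ξ (θ : ↥CP → ℂ) : ℤ) := by rw [h1]; linarith
      have h6 : (Dn P Ξ (θ : ↥CP → ℂ) : ℤ) ≤ (charDegree Ξ : ℤ) := by exact_mod_cast h2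
      have h7 : (2 * (charDegree Ξ : ℤ) + 1 < (p : ℤ)) := by exact_mod_cast hdeg
      linarith
  -- the value of `D`
  have hDval : ∀ θ' ∈ Theta P, (Dn P Ξ (θ' : ↥CP → ℂ) : ℤ) =
      if θ' ∈ MulAction.orbit ↥NP θ then 1 else 0 := by
    intro θ' hθ'
    have h1 := hD θ' hθ'
    have h2 : (Dn P Ξ (θ' : ↥CP → ℂ) : ℤ) ≤ (charDegree Ξ : ℤ) := by exact_mod_cast hDle θ' hθ'
    have h7 : (2 * (charDegree Ξ : ℤ) + 1 < (p : ℤ)) := by exact_mod_cast hdeg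
    have hule : (un P Ξ (θ' : ↥CP → ℂ) : ℤ) ≤ (Dn P Ξ (θ' : ↥CP → ℂ) : ℤ) := by
      exact_mod_cast un_le_Dn P hP hΞ θ' hθ'
    have hu0 : (0 : ℤ) ≤ (un P Ξ (θ' : ↥CP → ℂ) : ℤ) := Int.natCast_nonneg _
    have hpz : (2 : ℤ) ≤ (p : ℤ) := by exact_mod_cast hp2
    rw [ha1] at h1
    split_ifs at h1 ⊢ with horb
    · -- `D = p u - (p - 1)`, `u ≤ D`, `D < p`
      have hu1 : (1 : ℤ) ≤ (un P Ξ (θ' : ↥CP → ℂ) : ℤ) := by
        by_contra hcon
        have : (un P Ξ (θ' : ↥CP → ℂ) : ℤ) = 0 := by omega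
        rw [this] at h1 hule
        nlinarith
      have hu2 : (un P Ξ (θ' : ↥CP → ℂ) : ℤ) ≤ 1 := by
        by_contra hcon
        have : (2 : ℤ) ≤ (un P Ξ (θ' : ↥CP → ℂ) : ℤ) := by omega
        nlinarith
      have : (un P Ξ (θ' : ↥CP → ℂ) : ℤ) = 1 := le_antisymm hu2 hu1
      rw [h1, this]; ring
    · -- `D = p u < p`
      have hu2 : (un P Ξ (θ' : ↥CP → ℂ) : ℤ) ≤ 0 := by
        by_contra hcon
        have : (1 : ℤ) ≤ (un P Ξ (θ' : ↥CP → ℂ) : ℤ) := by omega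
        nlinarith
      have : (un P Ξ (θ' : ↥CP → ℂ) : ℤ) = 0 := le_antisymm hu2 hu0
      rw [h1, this]; ring
  -- all parts are constant on `P`
  have hconst : ∀ θ' ∈ Theta P, ∀ y : ↥(P : Subgroup G),
      fpart p CP Ξ (θ' : ↥CP → ℂ) (y : G) = fpart p CP Ξ (θ' : ↥CP → ℂ) 1 := by
    intro θ' hθ' y
    by_cases hy : y = 1
    · rw [hy, OneMemClass.coe_one]
    · rw [hfp θ' hθ' y hy, Dn_spec P hP hΞ θ' hθ']
      have h0 := hDval θ' hθ'
      have h0' : (Dn P Ξ (θ' : ↥CP → ℂ) : ℂ) = if θ' ∈ MulAction.orbit ↥NP θ then 1 else 0 := by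
        have : ((Dn P Ξ (θ' : ↥CP → ℂ) : ℤ) : ℂ) =
            ((if θ' ∈ MulAction.orbit ↥NP θ then 1 else 0 : ℤ) : ℂ) := by rw [h0]
        split_ifs at this ⊢
        · simpa using this
        · simpa using this
      rw [h0', ha1]
      simp
  intro y hy
  have h1 := apply_eq_sum_Theta P hP hcf (⟨y, hy⟩ : ↥(P : Subgroup G))
  rw [show ((⟨y, hy⟩ : ↥(P : Subgroup G)) : G) = y from rfl] at h1
  rw [h1, hone]
  apply Finset.sum_congr rfl
  intro θ' hθ'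
  rw [hconst θ' hθ' ⟨y, hy⟩]

end Cfsg.Agent.Lib.Helper92.BrauerHalf
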