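import Mathlib
import Cfsg.Agent.Lib.Helper76.GOut.P1Defs

/-!
# GOUT-[SM] (helper92): the `SolvMod` calculus

Sheet: `Lib/Helper76/GOut/GOUT_SHEET.md` (BLOCK P1), statements from `SkelP1.lean.txt`.
-/

set_option autoImplicit false
set_option linter.unusedSectionVars false

namespace Cfsg.Agent.Lib.Helper76.GOut

section SM

variable {A : Type*} [Group A]

/-- the derived series of a subgroup, as subgroups of the ambient group -/
def h92_der (X : Subgroup A) : ℕ → Subgroup A
  | 0 => X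
  | (k + 1) => ⁅h92_der X k, h92_der X k⁆

theorem h92_der_zero (X : Subgroup A) : h92_der X 0 = X := rfl

theorem h92_der_succ (X : Subgroup A) (k : ℕ) :
    h92_der X (k + 1) = ⁅h92_der X k, h92_der X k⁆ := rfl

theorem h92_map_derivedSeries (X : Subgroup A) (k : ℕ) :
    (derivedSeries ↥X k).map X.subtype = h92_der X k := by
  induction k with
  | zero =>
    rw [derivedSeries_zero, h92_der_zero, ← MonoidHom.range_eq_map, Subgroup.range_subtype]
  | succ k ih =>
    rw [derivedSeries_succ, Subgroup.map_commutator, ih, h92_der_succ]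

theorem solvMod_iff_h92_der {X Y : Subgroup A} : SolvMod X Y ↔ ∃ k, h92_der X k ≤ Y := by
  unfold SolvMod
  simp only [h92_map_derivedSeries]

theorem h92_der_mono {X₁ X : Subgroup A} (h : X₁ ≤ X) (k : ℕ) : h92_der X₁ k ≤ h92_der X k := by
  induction k with
  | zero => exact h
  | succ k ih => exact Subgroup.commutator_mono ih ih

theorem h92_der_le (X : Subgroup A) (k : ℕ) : h92_der X k ≤ X := by
  induction k with
  | zero => exact le_rfl
  | succ k ih =>
    rw [h92_der_succ]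
    refine (Subgroup.commutator_mono ih ih).trans ?_
    rw [Subgroup.commutator_le]
    intro a ha b hb
    exact X.mul_mem (X.mul_mem (X.mul_mem ha hb) (X.inv_mem ha)) (X.inv_mem hb)

theorem h92_der_add (X : Subgroup A) (k l : ℕ) : h92_der X (k + l) = h92_der (h92_der X k) l := by
  induction l with
  | zero => rfl
  | succ l ih =>
    rw [← add_assoc, h92_der_succ, ih, h92_der_succ]

theorem h92_map_der {B : Type*} [Group B] (f : A →* B) (X : Subgroup A) (k : ℕ) :
    (h92_der X k).map f = h92_der (X.map f) k := by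
  induction k with
  | zero => rfl
  | succ k ih =>
    rw [h92_der_succ, Subgroup.map_commutator, ih, h92_der_succ]

theorem SolvMod.mono_right {X Y Z : Subgroup A} (h : SolvMod X Y) (hYZ : Y ≤ Z) : SolvMod X Z := by
  obtain ⟨k, hk⟩ := h
  exact ⟨k, hk.trans hYZ⟩

theorem SolvMod.mono_left {X₁ X Y : Subgroup A} (hX : X₁ ≤ X) (h : SolvMod X Y) : SolvMod X₁ Y := by
  rw [solvMod_iff_h92_der] at h ⊢
  obtain ⟨k, hk⟩ := h
  exact ⟨k, (h92_der_mono hX k).trans hk⟩

/-- The derived series of `X` stays inside `X`. -/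
theorem SolvMod.inf_left {X Y : Subgroup A} (h : SolvMod X Y) : SolvMod X (X ⊓ Y) := by
  rw [solvMod_iff_h92_der] at h ⊢
  obtain ⟨k, hk⟩ := h
  exact ⟨k, le_inf (h92_der_le X k) hk⟩

theorem SolvMod.trans {X Y Z : Subgroup A} (h₁ : SolvMod X Y) (h₂ : SolvMod Y Z) : SolvMod X Z := by
  rw [solvMod_iff_h92_der] at h₁ h₂ ⊢
  obtain ⟨k, hk⟩ := h₁
  obtain ⟨l, hl⟩ := h₂
  refine ⟨k + l, ?_⟩
  rw [h92_der_add]
  exact (h92_der_mono hk l).trans hl

theorem solvMod_of_isSolvable {X : Subgroup A} (h : Group.IsSolvable ↥X) (Y : Subgroup A) : SolvMod X Y := by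
  obtain ⟨n, hn⟩ := h.solvable
  refine ⟨n, ?_⟩
  rw [hn, Subgroup.map_bot]
  exact bot_le

theorem isSolvable_of_solvMod_bot {X : Subgroup A} (h : SolvMod X ⊥) : Group.IsSolvable ↥X := by
  obtain ⟨n, hn⟩ := h
  refine ⟨⟨n, ?_⟩⟩
  rw [le_bot_iff] at hn
  exact (Subgroup.map_eq_bot_iff_of_injective _ X.subtype_injective).1 hn

/-- `sup_left` for a normal subgroup `Y` of the ambient group. -/
theorem h92_sup_left_normal {Y H Z : Subgroup A} [Y.Normal] (h : SolvMod H Z) :
    SolvMod (Y ⊔ H) (Y ⊔ Z) := by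
  rw [solvMod_iff_h92_der] at h ⊢
  obtain ⟨k, hk⟩ := h
  refine ⟨k, ?_⟩
  have h1 : (h92_der (Y ⊔ H) k).map (QuotientGroup.mk' Y) ≤ Z.map (QuotientGroup.mk' Y) := by
    rw [h92_map_der, Subgroup.map_sup]
    have : Y.map (QuotientGroup.mk' Y) = ⊥ := by
      rw [← le_bot_iff, Subgroup.map_le_iff_le_comap]
      intro y hy
      rw [Subgroup.mem_comap, Subgroup.mem_bot]
      exact (QuotientGroup.eq_one_iff y).2 hy
    rw [this, bot_sup_eq, ← h92_map_der]
    exact Subgroup.map_mono hk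
  rw [Subgroup.map_le_iff_le_comap, Subgroup.comap_map_eq, QuotientGroup.ker_mk'] at h1
  rw [sup_comm Y Z]
  exact h1

/-- If `H` normalizes `Y` and is solvable modulo `Z`, then `Y ⊔ H` is solvable modulo `Y ⊔ Z`. -/
theorem SolvMod.sup_left {Y H Z : Subgroup A} (hnorm : ∀ h ∈ H, ∀ y ∈ Y, h * y * h⁻¹ ∈ Y)
    (h : SolvMod H Z) : SolvMod (Y ⊔ H) (Y ⊔ Z) := by
  -- work inside the normalizer `N` of `Y`
  set N : Subgroup A := Subgroup.normalizer (Y : Set A) with hN
  have hYN : Y ≤ N := Subgroup.le_normalizer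
  have hHN : H ≤ N := Subgroup.le_normalizer_iff.2 hnorm
  have : (Y.subgroupOf N).Normal := Subgroup.normal_in_normalizer
  -- transport `h` to `N`
  have h' : SolvMod (H.subgroupOf N) (Z.subgroupOf N) := by
    rw [solvMod_iff_h92_der] at h ⊢
    obtain ⟨k, hk⟩ := h
    refine ⟨k, ?_⟩
    show h92_der (H.subgroupOf N) k ≤ Z.comap N.subtype
    rw [← Subgroup.map_le_iff_le_comap, h92_map_der, Subgroup.map_subgroupOf_eq_of_le hHN]
    exact hk
  have h2 := h92_sup_left_normal (Y := Y.subgroupOf N) h'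
  rw [solvMod_iff_h92_der] at h2 ⊢
  obtain ⟨k, hk⟩ := h2
  refine ⟨k, ?_⟩
  have h3 := Subgroup.map_mono (f := N.subtype) hk
  rw [h92_map_der, Subgroup.map_sup, Subgroup.map_sup, Subgroup.map_subgroupOf_eq_of_le hYN,
    Subgroup.map_subgroupOf_eq_of_le hHN] at h3
  refine h3.trans (sup_le le_sup_left ?_)
  refine le_trans ?_ le_sup_right
  rw [Subgroup.map_le_iff_le_comap]
  exact le_rfl

theorem SolvMod.map {B : Type*} [Group B] (f : A →* B) {X Y : Subgroup A} (h : SolvMod X Y) :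
    SolvMod (X.map f) (Y.map f) := by
  rw [solvMod_iff_h92_der] at h ⊢
  obtain ⟨k, hk⟩ := h
  refine ⟨k, ?_⟩
  rw [← h92_map_der]
  exact Subgroup.map_mono hk

theorem SolvMod.of_map {B : Type*} [Group B] (f : A →* B) {X : Subgroup A} {Y' : Subgroup B}
    (h : SolvMod (X.map f) Y') : SolvMod X (Y'.comap f) := by
  rw [solvMod_iff_h92_der] at h ⊢
  obtain ⟨k, hk⟩ := h
  refine ⟨k, ?_⟩
  rw [← Subgroup.map_le_iff_le_comap, h92_map_der]
  exact hk

/-- `A/N` is solvable if `A` is solvable modulo `N`. -/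
theorem isSolvable_quotient_of_solvMod (N : Subgroup A) [N.Normal] (h : SolvMod (⊤ : Subgroup A) N) :
    Group.IsSolvable (A ⧸ N) := by
  have h1 := SolvMod.map (QuotientGroup.mk' N) h
  have h2 : (⊤ : Subgroup A).map (QuotientGroup.mk' N) = ⊤ := by
    rw [← MonoidHom.range_eq_map, MonoidHom.range_eq_top]
    exact QuotientGroup.mk'_surjective N
  have h3 : N.map (QuotientGroup.mk' N) = ⊥ := by
    rw [← le_bot_iff, Subgroup.map_le_iff_le_comap]
    intro y hy
    rw [Subgroup.mem_comap, Subgroup.mem_bot]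
    exact (QuotientGroup.eq_one_iff y).2 hy
  rw [h2, h3] at h1
  have := isSolvable_of_solvMod_bot h1
  exact Group.isSolvable_of_surjective (f := (⊤ : Subgroup (A ⧸ N)).subtype)
    (fun x => ⟨⟨x, Subgroup.mem_top x⟩, rfl⟩)

end SM

end Cfsg.Agent.Lib.Helper76.GOut
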