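import Mathlib

/-!
# Counting lemmas for subgroups of a finite symmetric group

Fixed points modulo `p` on invariant subsets, orbits as finsets, the orbit–stabilizer equation for
subgroups of `Equiv.Perm α`, and Cauchy's theorem in that setting.
-/

set_option autoImplicit false
set_option linter.unusedSectionVars false

namespace Cfsg.Agent.Lib.Helper92.PermCount

open Equiv

variable {α : Type*} [Fintype α] [DecidableEq α]

/-- The fixed points of `σ` in `B`. -/
def fixIn (σ : Perm α) (B : Finset α) : Finset α := B.filter fun x => σ x = x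

theorem mem_fixIn {σ : Perm α} {B : Finset α} {x : α} : x ∈ fixIn σ B ↔ x ∈ B ∧ σ x = x := by
  simp [fixIn]

/-- The number of fixed points of a permutation of prime order `p` on an invariant set is congruent
to the size of the set modulo `p`. -/
theorem card_fixIn_modEq {p : ℕ} [Fact p.Prime] (σ : Perm α) (hσ : σ ^ p = 1) (B : Finset α)
    (hB : ∀ x, σ x ∈ B ↔ x ∈ B) : (fixIn σ B).card ≡ B.card [MOD p] := by
  let τ : Perm {x // x ∈ B} := σ.subtypePerm hB
  have hτ : τ ^ p ^ 1 = 1 := by
    rw [pow_one, Perm.subtypePerm_pow]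
    ext x
    simp [hσ]
  have h1 := Perm.card_compl_support_modEq hτ
  rw [Fintype.card_coe] at h1
  have h2 : (τ.supportᶜ).card = (fixIn σ B).card := by
    apply Finset.card_bij (fun (y : {x // x ∈ B}) _ => (y : α))
    · intro y hy
      rw [Finset.mem_compl, Perm.mem_support, not_not] at hy
      rw [mem_fixIn]
      exact ⟨y.2, congrArg Subtype.val hy⟩
    · intro y _ y' _ h
      exact Subtype.ext h
    · intro x hx
      rw [mem_fixIn] at hx
      refine ⟨⟨x, hx.1⟩, ?_, rfl⟩
      rw [Finset.mem_compl, Perm.mem_support, not_not]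
      exact Subtype.ext hx.2
  rw [← h2]
  exact h1

/-- The orbit of a point under a subgroup of the symmetric group, as a finset. -/
noncomputable def orb (J : Subgroup (Perm α)) (x : α) : Finset α :=
  haveI := Classical.decPred fun q => ∃ j ∈ J, j x = q
  Finset.univ.filter fun q => ∃ j ∈ J, j x = q

theorem mem_orb {J : Subgroup (Perm α)} {x q : α} : q ∈ orb J x ↔ ∃ j ∈ J, j x = q := by
  unfold orb
  simp

theorem self_mem_orb (J : Subgroup (Perm α)) (x : α) : x ∈ orb J x :=
  mem_orb.mpr ⟨1, J.one_mem, rfl⟩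

theorem apply_mem_orb_iff {J : Subgroup (Perm α)} {x : α} {g : Perm α} (hg : g ∈ J) (q : α) :
    g q ∈ orb J x ↔ q ∈ orb J x := by
  rw [mem_orb, mem_orb]
  constructor
  · rintro ⟨j, hj, hjx⟩
    refine ⟨g⁻¹ * j, J.mul_mem (J.inv_mem hg) hj, ?_⟩
    rw [Perm.mul_apply, hjx]
    simp
  · rintro ⟨j, hj, hjx⟩
    exact ⟨g * j, J.mul_mem hg hj, by rw [Perm.mul_apply, hjx]⟩

/-- Orbit–stabilizer for a subgroup of the symmetric group. -/
theorem card_eq_orb_mul (J : Subgroup (Perm α)) (x : α) :
    Nat.card J = (orb J x).card * Nat.card ↥(J ⊓ MulAction.stabilizer (Perm α) x) := by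
  classical
  have h2' : ∀ q : orb J x, ∃ u : Perm α, u ∈ J ∧ u x = (q : α) := fun q => mem_orb.mp q.2
  choose u hu using h2'
  let L : Subgroup (Perm α) := J ⊓ MulAction.stabilizer (Perm α) x
  let e : J ≃ orb J x × L :=
    { toFun := fun g => (⟨(g : Perm α) x, mem_orb.mpr ⟨g, g.2, rfl⟩⟩,
        ⟨(u ⟨(g : Perm α) x, mem_orb.mpr ⟨g, g.2, rfl⟩⟩)⁻¹ * g, by
          refine ⟨J.mul_mem (J.inv_mem (hu _).1) g.2, MulAction.mem_stabilizer_iff.mpr ?_⟩
          rw [Perm.smul_def, Perm.mul_apply, Perm.inv_eq_iff_eq]
          exact ((hu ⟨(g : Perm α) x, mem_orb.mpr ⟨g, g.2, rfl⟩⟩).2).symm⟩)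
      invFun := fun ql => ⟨u ql.1 * (ql.2 : Perm α), J.mul_mem (hu _).1 ql.2.2.1⟩
      left_inv := by
        intro g
        apply Subtype.ext
        simp
      right_inv := by
        rintro ⟨q, l⟩
        have hl : (l : Perm α) x = x := MulAction.mem_stabilizer_iff.mp l.2.2
        have hq : (u q * (l : Perm α)) x = (q : α) := by
          rw [Perm.mul_apply, hl]
          exact (hu q).2
        apply Prod.ext
        · apply Subtype.ext
          exact hq
        · apply Subtype.ext
          simp only
          have : (⟨(u q * (l : Perm α)) x,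
              mem_orb.mpr ⟨_, J.mul_mem (hu q).1 l.2.1, rfl⟩⟩ : orb J x) = q := Subtype.ext hq
          rw [this]
          group }
  rw [Nat.card_congr e, Nat.card_prod, Nat.card_eq_fintype_card, Fintype.card_coe]

/-- Cauchy's theorem for a subgroup of the symmetric group. -/
theorem exists_orderOf_eq_prime (J : Subgroup (Perm α)) (p : ℕ) [Fact p.Prime]
    (h : p ∣ Nat.card J) : ∃ g ∈ J, orderOf g = p := by
  obtain ⟨g, hg⟩ := exists_prime_orderOf_dvd_card' p h
  exact ⟨g, g.2, by rw [← hg, Subgroup.orderOf_coe]⟩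

/-- The orbit is contained in any invariant set containing the point. -/
theorem orb_subset {J : Subgroup (Perm α)} {x : α} {B : Finset α} (hx : x ∈ B)
    (hB : ∀ g ∈ J, ∀ q ∈ B, g q ∈ B) : orb J x ⊆ B := by
  intro q hq
  obtain ⟨j, hj, rfl⟩ := mem_orb.mp hq
  exact hB j hj x hx

/-- A group of order 40 has an element of order 5 commuting with an involution. -/
theorem exists_commute_of_card_forty {J : Type*} [Group J] [Finite J] (h : Nat.card J = 40) :
    ∃ f c : J, orderOf f = 5 ∧ orderOf c = 2 ∧ Commute f c := by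
  have : Fact (Nat.Prime 5) := ⟨by norm_num⟩
  have : Fact (Nat.Prime 2) := ⟨by norm_num⟩
  obtain ⟨P⟩ : Nonempty (Sylow 5 J) := inferInstance
  -- the order of `P`
  have hP5 : Nat.card P = 5 := by
    obtain ⟨n, hn⟩ := IsPGroup.exists_card_eq P.2
    have h1 : 5 ∣ Nat.card P := P.dvd_card_of_dvd_card (by rw [h]; norm_num)
    have h2 : Nat.card P ∣ 40 := h ▸ Subgroup.card_subgroup_dvd_card (P : Subgroup J)
    rw [hn] at h1 h2 ⊢
    have hn1 : n ≤ 1 := by
      by_contra hcon
      push Not at hcon
      have : 5 ^ 2 ∣ 40 := dvd_trans (pow_dvd_pow 5 hcon) h2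
      norm_num at this
    have hn0 : n ≠ 0 := by
      rintro rfl
      norm_num at h1
    have : n = 1 := by omega
    rw [this]; norm_num
  have hidx : (P : Subgroup J).index = 8 := by
    have := Subgroup.card_mul_index (P : Subgroup J)
    rw [hP5, h] at this
    omega
  -- `P` is normal
  have hn5 : Nat.card (Sylow 5 J) = 1 := by
    have h1 := card_sylow_modEq_one 5 J
    have h2 := P.card_dvd_index
    rw [hidx] at h2
    have h3 : Nat.card (Sylow 5 J) ≤ 8 := Nat.le_of_dvd (by norm_num) h2
    unfold Nat.ModEq at h1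
    interval_cases (Nat.card (Sylow 5 J)) <;> simp_all
  have : Subsingleton (Sylow 5 J) := (Nat.card_eq_one_iff_unique.mp hn5).1
  have hnormal : (P : Subgroup J).Normal := P.normal_of_subsingleton
  -- an element of order 5
  obtain ⟨f0, hf0⟩ := exists_prime_orderOf_dvd_card' (G := P) 5 (by rw [hP5])
  set f : J := (f0 : J) with hf
  have hford : orderOf f = 5 := by rw [hf, Subgroup.orderOf_coe, hf0]
  have hfP : f ∈ (P : Subgroup J) := f0.2
  have hf1 : f ≠ 1 := by
    intro h1
    rw [h1, orderOf_one] at hford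
    norm_num at hford
  -- the conjugacy class of `f` has at most four elements
  have horb : (MulAction.orbit (ConjAct J) f).ncard ≤ 4 := by
    have hsub : MulAction.orbit (ConjAct J) f ⊆ ((P : Subgroup J) : Set J) \ {1} := by
      rintro _ ⟨g, rfl⟩
      refine ⟨?_, ?_⟩
      · show g • f ∈ ((P : Subgroup J) : Set J)
        rw [ConjAct.smul_def]
        exact hnormal.conj_mem f hfP _
      · intro h1
        have h1 : g • f = 1 := h1
        rw [ConjAct.smul_def] at h1
        apply hf1
        have : f = (ConjAct.ofConjAct g)⁻¹ * (ConjAct.ofConjAct g * f * (ConjAct.ofConjAct g)⁻¹) *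
            ConjAct.ofConjAct g := by group
        rw [this, h1]; group
    have hfin : (((P : Subgroup J) : Set J) \ {1}).Finite := Set.toFinite _
    calc (MulAction.orbit (ConjAct J) f).ncard ≤ (((P : Subgroup J) : Set J) \ {1}).ncard :=
          Set.ncard_le_ncard hsub hfin
      _ = 4 := by
          rw [Set.ncard_sdiff_singleton_of_mem (by simp)]
          have h5 : ((P : Subgroup J) : Set J).ncard = 5 := hP5
          rw [h5]
  have hcard : Nat.card (Subgroup.centralizer ({f} : Set J)) *
      (MulAction.orbit (ConjAct J) f).ncard = 40 := by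
    rw [Subgroup.nat_card_centralizer_nat_card_stabilizer, ← MulAction.index_stabilizer,
      Subgroup.card_mul_index, ← h]
    rfl
  have hpos : 0 < (MulAction.orbit (ConjAct J) f).ncard := by
    rw [Set.ncard_pos]
    exact MulAction.nonempty_orbit f
  have h2 : 2 ∣ Nat.card (Subgroup.centralizer ({f} : Set J)) := by
    generalize (MulAction.orbit (ConjAct J) f).ncard = m at *
    generalize Nat.card (Subgroup.centralizer ({f} : Set J)) = c at *
    interval_cases m <;> omega
  obtain ⟨c0, hc0⟩ := exists_prime_orderOf_dvd_card' (G := Subgroup.centralizer ({f} : Set J)) 2 h2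
  refine ⟨f, (c0 : J), hford, by rw [Subgroup.orderOf_coe, hc0], ?_⟩
  have := Subgroup.mem_centralizer_iff.mp c0.2 f rfl
  exact this

end Cfsg.Agent.Lib.Helper92.PermCount
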