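import Cfsg.Agent.Lib.Helper92.M24Index

/-!
# Lagrange bounds for subgroups of `M24` fixing three or five points; orbit lemmas

A subgroup of `M24` fixing three points has order dividing 20160, one fixing five points has order
dividing 48.  Orbits (as finsets) of a subgroup of the symmetric group are equal or disjoint.
-/

set_option autoImplicit false

namespace Cfsg.Agent.Lib.Helper92.M24Fix
open Cfsg Cfsg.Agent.Lib.Helper7 Cfsg.Agent.Lib.Helper92.PermCount
  Cfsg.Agent.Lib.Helper92.M24Index
open scoped Pointwise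

/-- A subgroup of `M24` fixing a finite set pointwise has order dividing that of the fixing
subgroup. -/
theorem card_dvd_card_fixingSubgroup {J : Subgroup (Equiv.Perm GolayPt)} (hJ : J ≤ M24)
    {S : Finset GolayPt} (hfix : FixesAll J S) :
    Nat.card J ∣ Nat.card (fixingSubgroup M24 (S : Set GolayPt)) := by
  have h1 : Nat.card J = Nat.card (J.subgroupOf M24) :=
    Nat.card_congr (Subgroup.subgroupOfEquivOfLe hJ).symm.toEquiv
  rw [h1]
  apply Subgroup.card_dvd_of_le
  intro g hg
  rw [mem_fixingSubgroup_iff]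
  intro q hq
  exact hfix g.1 (Subgroup.mem_subgroupOf.mp hg) q (Finset.mem_coe.mp hq)

/-- A subgroup of `M24` fixing three points has order dividing 20160. -/
theorem card_dvd_of_fixesAll_three {J : Subgroup (Equiv.Perm GolayPt)} (hJ : J ≤ M24)
    {S : Finset GolayPt} (hS : S.card = 3) (hfix : FixesAll J S) : Nat.card J ∣ 20160 := by
  have h := card_fixingSubgroup_M24_mul (k := 3) (by decide) (S : Set GolayPt)
    (by rw [Set.ncard_coe_finset, hS])
  have h24 : (24 : ℕ).factorial = 12144 * (21 : ℕ).factorial := by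
    rw [show (24 : ℕ) = 21 + 1 + 1 + 1 by rfl, Nat.factorial_succ, Nat.factorial_succ,
      Nat.factorial_succ]; ring
  rw [h24, show (24 - 3 : ℕ) = 21 by rfl] at h
  have hpos : 0 < (21 : ℕ).factorial := Nat.factorial_pos _
  have h2 : Nat.card (fixingSubgroup M24 (S : Set GolayPt)) * 12144 = 244823040 := by
    apply Nat.eq_of_mul_eq_mul_right hpos
    rw [← h]; ring
  have h3 : Nat.card (fixingSubgroup M24 (S : Set GolayPt)) = 20160 := by omega
  rw [← h3]
  exact card_dvd_card_fixingSubgroup hJ hfix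

/-- A subgroup of `M24` fixing five points has order dividing 48. -/
theorem card_dvd_of_fixesAll_five {J : Subgroup (Equiv.Perm GolayPt)} (hJ : J ≤ M24)
    {S : Finset GolayPt} (hS : S.card = 5) (hfix : FixesAll J S) : Nat.card J ∣ 48 := by
  have h := card_fixingSubgroup_M24_mul (k := 5) (by decide) (S : Set GolayPt)
    (by rw [Set.ncard_coe_finset, hS])
  have h24 : (24 : ℕ).factorial = 5100480 * (19 : ℕ).factorial := by
    rw [show (24 : ℕ) = 19 + 1 + 1 + 1 + 1 + 1 by rfl, Nat.factorial_succ, Nat.factorial_succ,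
      Nat.factorial_succ, Nat.factorial_succ, Nat.factorial_succ]; ring
  rw [h24, show (24 - 5 : ℕ) = 19 by rfl] at h
  have hpos : 0 < (19 : ℕ).factorial := Nat.factorial_pos _
  have h2 : Nat.card (fixingSubgroup M24 (S : Set GolayPt)) * 5100480 = 244823040 := by
    apply Nat.eq_of_mul_eq_mul_right hpos
    rw [← h]; ring
  have h3 : Nat.card (fixingSubgroup M24 (S : Set GolayPt)) = 48 := by omega
  rw [← h3]
  exact card_dvd_card_fixingSubgroup hJ hfix

/-- A subgroup of `M24` fixing a point has order dividing 10200960. -/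
theorem card_dvd_of_fixesAll_one {J : Subgroup (Equiv.Perm GolayPt)} (hJ : J ≤ M24)
    {x : GolayPt} (hfix : FixesAll J {x}) : Nat.card J ∣ 10200960 := by
  have h := card_fixingSubgroup_M24_mul (k := 1) (by decide) ((({x} : Finset GolayPt)) : Set GolayPt)
    (by rw [Set.ncard_coe_finset, Finset.card_singleton])
  have h24 : (24 : ℕ).factorial = 24 * (23 : ℕ).factorial := by
    rw [show (24 : ℕ) = 23 + 1 by rfl, Nat.factorial_succ]
  rw [h24, show (24 - 1 : ℕ) = 23 by rfl] at h
  have hpos : 0 < (23 : ℕ).factorial := Nat.factorial_pos _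
  have h2 : Nat.card (fixingSubgroup M24 ((({x} : Finset GolayPt)) : Set GolayPt)) * 24 =
      244823040 := by
    apply Nat.eq_of_mul_eq_mul_right hpos
    rw [← h]; ring
  have h3 : Nat.card (fixingSubgroup M24 ((({x} : Finset GolayPt)) : Set GolayPt)) = 10200960 := by
    omega
  rw [← h3]
  exact card_dvd_card_fixingSubgroup hJ hfix

/-- A permutation preserving membership in a finset stabilizes it. -/
theorem perm_smul_eq_of_mem_iff {σ : Equiv.Perm GolayPt} {s : Finset GolayPt}
    (h : ∀ q, σ q ∈ s ↔ q ∈ s) : σ • s = s := by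
  ext p
  rw [mem_perm_smul_finset, ← h (σ.symm p), Equiv.apply_symm_apply]

/-- A permutation stabilizing a finset preserves membership in it. -/
theorem mem_iff_of_perm_smul_eq {σ : Equiv.Perm GolayPt} {s : Finset GolayPt}
    (h : σ • s = s) (q : GolayPt) : σ q ∈ s ↔ q ∈ s := by
  conv_lhs => rw [← h]
  rw [mem_perm_smul_finset, Equiv.symm_apply_apply]

theorem FixesAll.mono {J K : Subgroup (Equiv.Perm GolayPt)} {S T : Finset GolayPt}
    (h : FixesAll J S) (hK : K ≤ J) (hT : T ⊆ S) : FixesAll K T :=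
  fun g hg q hq => h g (hK hg) q (hT hq)

/-- A subgroup of `M24` fixing at least five points has order dividing 48. -/
theorem card_dvd_of_five_le {J : Subgroup (Equiv.Perm GolayPt)} (hJ : J ≤ M24)
    {S : Finset GolayPt} (hS : 5 ≤ S.card) (hfix : FixesAll J S) : Nat.card J ∣ 48 := by
  obtain ⟨T, hTS, hT⟩ := Finset.exists_subset_card_eq hS
  exact card_dvd_of_fixesAll_five hJ hT (FixesAll.mono hfix le_rfl hTS)

/-! ### Orbits -/

section orbits

variable {α : Type*} [Fintype α] [DecidableEq α]

theorem mem_orb_symm {J : Subgroup (Equiv.Perm α)} {a b : α} (h : a ∈ orb J b) : b ∈ orb J a := by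
  obtain ⟨j, hj, rfl⟩ := mem_orb.mp h
  exact mem_orb.mpr ⟨j⁻¹, J.inv_mem hj, by simp⟩

theorem mem_orb_trans {J : Subgroup (Equiv.Perm α)} {a b c : α} (h1 : a ∈ orb J b)
    (h2 : b ∈ orb J c) : a ∈ orb J c := by
  obtain ⟨j, hj, rfl⟩ := mem_orb.mp h1
  obtain ⟨k, hk, rfl⟩ := mem_orb.mp h2
  exact mem_orb.mpr ⟨j * k, J.mul_mem hj hk, rfl⟩

/-- Orbits of points not in the same orbit are disjoint. -/
theorem orb_disjoint {J : Subgroup (Equiv.Perm α)} {a b : α} (h : a ∉ orb J b) :
    Disjoint (orb J a) (orb J b) := by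
  rw [Finset.disjoint_left]
  intro q hqa hqb
  exact h (mem_orb_trans (mem_orb_symm hqa) hqb)

end orbits

end Cfsg.Agent.Lib.Helper92.M24Fix
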