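import Cfsg.Agent.Lib.Helper7.M24Trans
import Cfsg.Agent.Lib.Helper92.PermCount
import Cfsg.Agent.S5394

/-!
# Subgroups of `M24` of index 24 and of `M23` of index 23 fix a point

Elements of `M24` of prime order at least 5 fix at most four points (the stabilizer of five points
has order 48); counting fixed points on orbits modulo these primes shows that a subgroup of `M24` of
the order of `M23` fixes a point, and that a subgroup of a point stabilizer of the order of `M22`
fixes a second point.
-/

set_option autoImplicit false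

namespace Cfsg.Agent.Lib.Helper92.M24Index
open Cfsg Cfsg.Agent.Lib.Helper7 Cfsg.Agent.Lib.Helper92.PermCount
open scoped Pointwise

/-- The fixed points of a permutation of the 24 points. -/
abbrev fixPts (g : Equiv.Perm GolayPt) : Finset GolayPt := fixIn g Finset.univ

theorem mem_fixPts {g : Equiv.Perm GolayPt} {x : GolayPt} : x ∈ fixPts g ↔ g x = x := by
  simp [fixPts, mem_fixIn]

theorem fixPts_eq_filter (g : Equiv.Perm GolayPt) :
    fixPts g = Finset.univ.filter fun p => g p = p := rfl

/-- An element of `M24` fixing five points has order dividing 48. -/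
theorem pow_48_of_fixes_five {g : Equiv.Perm GolayPt} (hg : g ∈ M24) (x : Fin 5 ↪ GolayPt)
    (hx : ∀ i, g (x i) = x i) : g ^ 48 = 1 := by
  obtain ⟨h, hh, hmap⟩ := exists_map_emb_to_base (le_refl 5) x
  have hmem : h * g * h⁻¹ ∈ Gst 5 := by
    rw [mem_Gst]
    refine ⟨M24.mul_mem (M24.mul_mem hh hg) (M24.inv_mem hh), ?_⟩
    intro j hj
    have h0 := hmap ⟨j, hj⟩
    have h1 : h⁻¹ (bp j) = x ⟨j, hj⟩ := by
      rw [Equiv.Perm.inv_eq_iff_eq]; exact h0.symm
    rw [Equiv.Perm.mul_apply, Equiv.Perm.mul_apply, h1, hx, h0]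
  have h48 : (⟨h * g * h⁻¹, hmem⟩ : Gst 5) ^ 48 = 1 := by
    rw [← card_Gst_5]; exact pow_card_eq_one'
  have h48' : (h * g * h⁻¹) ^ 48 = 1 := by
    have := congrArg Subtype.val h48
    simpa using this
  rw [conj_pow] at h48'
  have : g ^ 48 = h⁻¹ * (h * g ^ 48 * h⁻¹) * h := by group
  rw [this, h48']; group

theorem card_fixPts_lt_five {g : Equiv.Perm GolayPt} (hg : g ∈ M24) {p : ℕ}
    (hord : orderOf g = p) (h48 : ¬ p ∣ 48) : (fixPts g).card < 5 := by
  by_contra hcon
  push Not at hcon
  obtain ⟨x, hx⟩ := exists_emb_of_five_le_card hcon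
  have h1 := pow_48_of_fixes_five hg x (fun i => mem_fixPts.mp (hx i))
  have h2 := orderOf_dvd_of_pow_eq_one h1
  rw [hord] at h2
  exact h48 h2

theorem card_fixPts_mod {g : Equiv.Perm GolayPt} {p : ℕ} [Fact p.Prime] (hord : orderOf g = p) :
    (fixPts g).card % p = 24 % p := by
  have hg : g ^ p = 1 := by rw [← hord]; exact pow_orderOf_eq_one g
  have h := card_fixIn_modEq (p := p) g hg Finset.univ (by simp)
  have h24 : (Finset.univ : Finset GolayPt).card = 24 := by decide
  rw [h24] at h
  exact h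

theorem card_fixPts_23 {g : Equiv.Perm GolayPt} (hg : g ∈ M24) (hord : orderOf g = 23) :
    (fixPts g).card = 1 := by
  have : Fact (Nat.Prime 23) := ⟨by norm_num⟩
  have h1 := card_fixPts_lt_five hg hord (by norm_num)
  have h2 := card_fixPts_mod hord
  omega

theorem card_fixPts_11 {g : Equiv.Perm GolayPt} (hg : g ∈ M24) (hord : orderOf g = 11) :
    (fixPts g).card = 2 := by
  have : Fact (Nat.Prime 11) := ⟨by norm_num⟩
  have h1 := card_fixPts_lt_five hg hord (by norm_num)
  have h2 := card_fixPts_mod hord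
  omega

theorem card_fixPts_7 {g : Equiv.Perm GolayPt} (hg : g ∈ M24) (hord : orderOf g = 7) :
    (fixPts g).card = 3 := by
  have : Fact (Nat.Prime 7) := ⟨by norm_num⟩
  have h1 := card_fixPts_lt_five hg hord (by norm_num)
  have h2 := card_fixPts_mod hord
  omega

theorem card_fixPts_5 {g : Equiv.Perm GolayPt} (hg : g ∈ M24) (hord : orderOf g = 5) :
    (fixPts g).card = 4 := by
  have : Fact (Nat.Prime 5) := ⟨by norm_num⟩
  have h1 := card_fixPts_lt_five hg hord (by norm_num)
  have h2 := card_fixPts_mod hord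
  omega

/-! ### Orbits of a subgroup fixing some points -/

/-- `J` fixes every point of `S`. -/
def FixesAll (J : Subgroup (Equiv.Perm GolayPt)) (S : Finset GolayPt) : Prop :=
  ∀ j ∈ J, ∀ q ∈ S, j q = q

theorem FixesAll.subset_fixPts {J : Subgroup (Equiv.Perm GolayPt)} {S : Finset GolayPt}
    (h : FixesAll J S) {g : Equiv.Perm GolayPt} (hg : g ∈ J) : S ⊆ fixPts g :=
  fun q hq => mem_fixPts.mpr (h g hg q hq)

theorem FixesAll.inf_stabilizer {J : Subgroup (Equiv.Perm GolayPt)} {S : Finset GolayPt}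
    (h : FixesAll J S) (s : GolayPt) :
    FixesAll (J ⊓ MulAction.stabilizer (Equiv.Perm GolayPt) s) (insert s S) := by
  intro j hj q hq
  rw [Finset.mem_insert] at hq
  rcases hq with rfl | hq
  · exact MulAction.mem_stabilizer_iff.mp hj.2
  · exact h j hj.1 q hq

theorem FixesAll.not_mem_orb {J : Subgroup (Equiv.Perm GolayPt)} {S : Finset GolayPt}
    (h : FixesAll J S) {s : GolayPt} (hs : s ∉ S) {q : GolayPt} (hq : q ∈ orb J s) : q ∉ S := by
  intro hqS
  obtain ⟨j, hj, rfl⟩ := mem_orb.mp hq
  have h1 : j⁻¹ (j s) = j s := h j⁻¹ (J.inv_mem hj) _ hqS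
  have h2 : j⁻¹ (j s) = s := by simp
  rw [h2] at h1
  rw [← h1] at hqS
  exact hs hqS

theorem FixesAll.card_orb_le {J : Subgroup (Equiv.Perm GolayPt)} {S : Finset GolayPt}
    (h : FixesAll J S) {s : GolayPt} (hs : s ∉ S) : (orb J s).card + S.card ≤ 24 := by
  have hdisj : Disjoint (orb J s) S := by
    rw [Finset.disjoint_left]
    intro q hq
    exact h.not_mem_orb hs hq
  rw [← Finset.card_union_of_disjoint hdisj]
  have h24 : (Finset.univ : Finset GolayPt).card = 24 := by decide
  rw [← h24]
  exact Finset.card_le_univ _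

/-- The size of an orbit is congruent modulo `p` to the number of its points fixed by an element
of order `p` of the group. -/
theorem card_orb_mod {J : Subgroup (Equiv.Perm GolayPt)} {g : Equiv.Perm GolayPt} (hg : g ∈ J)
    {p : ℕ} [Fact p.Prime] (hord : orderOf g = p) (s : GolayPt) :
    (fixIn g (orb J s)).card % p = (orb J s).card % p := by
  have hgp : g ^ p = 1 := by rw [← hord]; exact pow_orderOf_eq_one g
  exact card_fixIn_modEq (p := p) g hgp (orb J s) (fun q => apply_mem_orb_iff hg q)

/-- If the fixed points of `g ∈ J` are `S` and one more point `s`, and `J` fixes `S` pointwise,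
the orbit of `s` has size `1` modulo the order of `g`. -/
theorem card_orb_mod_of_insert {J : Subgroup (Equiv.Perm GolayPt)} {S : Finset GolayPt}
    (h : FixesAll J S) {g : Equiv.Perm GolayPt} (hg : g ∈ J) {p : ℕ} [Fact p.Prime]
    (hord : orderOf g = p) {s : GolayPt} (hs : s ∉ S) (hfix : fixPts g = insert s S) :
    (orb J s).card % p = 1 % p := by
  rw [← card_orb_mod hg hord s]
  have : fixIn g (orb J s) = {s} := by
    ext q
    rw [mem_fixIn, Finset.mem_singleton]
    constructor
    · rintro ⟨hq, hgq⟩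
      have h1 : q ∈ fixPts g := mem_fixPts.mpr hgq
      rw [hfix, Finset.mem_insert] at h1
      rcases h1 with h1 | h1
      · exact h1
      · exact absurd h1 (h.not_mem_orb hs hq)
    · rintro rfl
      refine ⟨self_mem_orb J q, mem_fixPts.mp ?_⟩
      rw [hfix]; exact Finset.mem_insert_self _ _
  rw [this, Finset.card_singleton]

/-- If the fixed points of `g ∈ J` are exactly `S`, and `J` fixes `S` pointwise, the orbit of a
point outside `S` has size divisible by the order of `g`. -/
theorem card_orb_mod_of_eq {J : Subgroup (Equiv.Perm GolayPt)} {S : Finset GolayPt}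
    (h : FixesAll J S) {g : Equiv.Perm GolayPt} (hg : g ∈ J) {p : ℕ} [Fact p.Prime]
    (hord : orderOf g = p) {s : GolayPt} (hs : s ∉ S) (hfix : fixPts g = S) :
    (orb J s).card % p = 0 := by
  rw [← card_orb_mod hg hord s]
  have : fixIn g (orb J s) = ∅ := by
    ext q
    rw [mem_fixIn]
    constructor
    · rintro ⟨hq, hgq⟩
      have h1 : q ∈ fixPts g := mem_fixPts.mpr hgq
      rw [hfix] at h1
      exact absurd h1 (h.not_mem_orb hs hq)
    · intro hq; exact absurd hq (Finset.notMem_empty q)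
  rw [this, Finset.card_empty, Nat.zero_mod]

/-- A set of fixed points of the expected size is the set of all fixed points. -/
theorem fixPts_eq_of_card {g : Equiv.Perm GolayPt} {S : Finset GolayPt} (hS : S ⊆ fixPts g)
    (hcard : (fixPts g).card = S.card) : fixPts g = S :=
  (Finset.eq_of_subset_of_card_le hS (le_of_eq hcard)).symm

/-- A set of fixed points one short of the expected size is completed by one more point. -/
theorem exists_fixPts_eq_insert {g : Equiv.Perm GolayPt} {S : Finset GolayPt} (hS : S ⊆ fixPts g)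
    (hcard : (fixPts g).card = S.card + 1) : ∃ w, w ∉ S ∧ fixPts g = insert w S := by
  have h1 : (fixPts g \ S).card = 1 := by
    rw [Finset.card_sdiff_of_subset hS, hcard]; omega
  obtain ⟨w, hw⟩ := Finset.card_eq_one.mp h1
  have hw' : w ∈ fixPts g \ S := by rw [hw]; exact Finset.mem_singleton_self w
  rw [Finset.mem_sdiff] at hw'
  refine ⟨w, hw'.2, ?_⟩
  ext q
  rw [Finset.mem_insert]
  constructor
  · intro hq
    by_cases hqS : q ∈ S
    · exact Or.inr hqS
    · left
      have : q ∈ fixPts g \ S := Finset.mem_sdiff.mpr ⟨hq, hqS⟩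
      rw [hw, Finset.mem_singleton] at this
      exact this
  · rintro (rfl | hq)
    · exact hw'.1
    · exact hS hq

/-- If an orbit has one element, the group fixes the point. -/
theorem fixes_of_card_orb_eq_one {J : Subgroup (Equiv.Perm GolayPt)} {y : GolayPt}
    (h1 : (orb J y).card = 1) : ∀ g ∈ J, g y = y := by
  intro g hg
  have h2 : g y ∈ orb J y := mem_orb.mpr ⟨g, hg, rfl⟩
  obtain ⟨z, hz⟩ := Finset.card_eq_one.mp h1
  have hy : y ∈ orb J y := self_mem_orb J y
  rw [hz, Finset.mem_singleton] at h2 hy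
  rw [h2, hy]

theorem card_orb_pos (J : Subgroup (Equiv.Perm GolayPt)) (y : GolayPt) : 0 < (orb J y).card :=
  Finset.card_pos.mpr ⟨y, self_mem_orb J y⟩

/-! ### A subgroup of a point stabilizer of the order of `M22` fixes a second point -/

theorem exists_fixed_of_card_443520 {J : Subgroup (Equiv.Perm GolayPt)} (hJ : J ≤ M24)
    {x : GolayPt} (hx : FixesAll J {x}) (hcard : Nat.card J = 443520) :
    ∃ y, y ≠ x ∧ ∀ g ∈ J, g y = y := by
  have : Fact (Nat.Prime 11) := ⟨by norm_num⟩
  have : Fact (Nat.Prime 7) := ⟨by norm_num⟩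
  obtain ⟨t, htJ, ht⟩ := exists_orderOf_eq_prime J 11 (by rw [hcard]; norm_num)
  obtain ⟨u, huJ, hu⟩ := exists_orderOf_eq_prime J 7 (by rw [hcard]; norm_num)
  obtain ⟨y, hyx, hfixt⟩ := exists_fixPts_eq_insert (hx.subset_fixPts htJ)
    (by rw [card_fixPts_11 (hJ htJ) ht]; rfl)
  have hmod := card_orb_mod_of_insert hx htJ ht hyx hfixt
  have hle := hx.card_orb_le hyx
  have hmul := card_eq_orb_mul J y
  rw [hcard] at hmul
  have hpos := card_orb_pos J y
  rw [Finset.card_singleton] at hle
  have hcases : (orb J y).card = 1 ∨ (orb J y).card = 12 := by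
    have h23 : (orb J y).card ≠ 23 := by
      intro h; rw [h] at hmul; omega
    omega
  rcases hcases with h1 | h12
  · exact ⟨y, by simpa using hyx, fixes_of_card_orb_eq_one h1⟩
  · exfalso
    have hxB : x ∉ orb J y := fun h => hx.not_mem_orb hyx h (Finset.mem_singleton_self x)
    set B' : Finset GolayPt := (insert x (orb J y))ᶜ with hB'
    have hB'card : B'.card = 11 := by
      rw [hB', Finset.card_compl, Finset.card_insert_of_notMem hxB, h12]
      decide
    have hux : u x = x := hx u huJ x (Finset.mem_singleton_self x)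
    have hinv : ∀ q, u q ∈ B' ↔ q ∈ B' := by
      intro q
      rw [hB', Finset.mem_compl, Finset.mem_compl, Finset.mem_insert, Finset.mem_insert,
        apply_mem_orb_iff huJ]
      have : u q = x ↔ q = x := by
        constructor
        · intro h; exact u.injective (h.trans hux.symm)
        · intro h; rw [h, hux]
      rw [this]
    have hu7 : u ^ 7 = 1 := by rw [← hu]; exact pow_orderOf_eq_one u
    have hmod7 := card_fixIn_modEq (p := 7) u hu7 B' hinv
    rw [hB'card] at hmod7
    have hsub : fixIn u B' ⊆ (fixPts u).erase x := by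
      intro q hq
      rw [mem_fixIn] at hq
      rw [Finset.mem_erase]
      refine ⟨?_, mem_fixPts.mpr hq.2⟩
      rintro rfl
      have := hq.1
      rw [hB', Finset.mem_compl] at this
      exact this (Finset.mem_insert_self _ _)
    have hcard2 : ((fixPts u).erase x).card = 2 := by
      rw [Finset.card_erase_of_mem (mem_fixPts.mpr hux), card_fixPts_7 (hJ huJ) hu]
    have hle2 := Finset.card_le_card hsub
    rw [hcard2] at hle2
    unfold Nat.ModEq at hmod7
    omega

/-! ### A subgroup of `M24` of the order of `M23` fixes a point -/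

theorem exists_fixed_of_card_10200960 {J : Subgroup (Equiv.Perm GolayPt)} (hJ : J ≤ M24)
    (hcard : Nat.card J = 10200960) : ∃ x, ∀ g ∈ J, g x = x := by
  have : Fact (Nat.Prime 23) := ⟨by norm_num⟩
  have : Fact (Nat.Prime 11) := ⟨by norm_num⟩
  have : Fact (Nat.Prime 7) := ⟨by norm_num⟩
  have : Fact (Nat.Prime 5) := ⟨by norm_num⟩
  -- stage 0
  have h0 : FixesAll J ∅ := fun _ _ q hq => absurd hq (Finset.notMem_empty q)
  obtain ⟨v, hvJ, hv⟩ := exists_orderOf_eq_prime J 23 (by rw [hcard]; norm_num)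
  obtain ⟨x, hx0, hfixv⟩ := exists_fixPts_eq_insert (S := ∅) (Finset.empty_subset _)
    (by rw [card_fixPts_23 (hJ hvJ) hv]; rfl)
  have hmod0 := card_orb_mod_of_insert h0 hvJ hv hx0 hfixv
  have hle0 := h0.card_orb_le hx0
  have hmul0 := card_eq_orb_mul J x
  rw [hcard] at hmul0
  have hpos0 := card_orb_pos J x
  rw [Finset.card_empty] at hle0
  have hcases : (orb J x).card = 1 ∨ (orb J x).card = 24 := by omega
  rcases hcases with h1 | h24
  · exact ⟨x, fixes_of_card_orb_eq_one h1⟩
  exfalso
  -- stage 1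
  set J1 := J ⊓ MulAction.stabilizer (Equiv.Perm GolayPt) x with hJ1
  have hJ1M : J1 ≤ M24 := inf_le_left.trans hJ
  have hc1 : Nat.card J1 = 425040 := by rw [h24] at hmul0; omega
  have hf1 : FixesAll J1 {x} := by
    have := h0.inf_stabilizer x
    simpa using this
  obtain ⟨v1, hv1J, hv1⟩ := exists_orderOf_eq_prime J1 23 (by rw [hc1]; norm_num)
  have hfixv1 : fixPts v1 = {x} := fixPts_eq_of_card (hf1.subset_fixPts hv1J)
    (by rw [card_fixPts_23 (hJ1M hv1J) hv1]; rfl)
  obtain ⟨y, hyx⟩ : ∃ y, y ∉ ({x} : Finset GolayPt) := by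
    by_cases hxn : x = none
    · exact ⟨some 0, by rw [Finset.mem_singleton, hxn]; exact Option.some_ne_none _⟩
    · exact ⟨none, by rw [Finset.mem_singleton]; exact fun h => hxn h.symm⟩
  have hmod1 := card_orb_mod_of_eq hf1 hv1J hv1 hyx hfixv1
  have hle1 := hf1.card_orb_le hyx
  have hpos1 := card_orb_pos J1 y
  rw [Finset.card_singleton] at hle1
  have h23 : (orb J1 y).card = 23 := by omega
  have hmul1 := card_eq_orb_mul J1 y
  rw [hc1, h23] at hmul1
  -- stage 2
  set J2 := J1 ⊓ MulAction.stabilizer (Equiv.Perm GolayPt) y with hJ2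
  have hJ2M : J2 ≤ M24 := inf_le_left.trans hJ1M
  have hc2 : Nat.card J2 = 18480 := by omega
  have hf2 : FixesAll J2 (insert y {x}) := hf1.inf_stabilizer y
  have hS2 : (insert y ({x} : Finset GolayPt)).card = 2 := by
    rw [Finset.card_insert_of_notMem hyx, Finset.card_singleton]
  obtain ⟨t, htJ, ht⟩ := exists_orderOf_eq_prime J2 11 (by rw [hc2]; norm_num)
  obtain ⟨u, huJ, hu⟩ := exists_orderOf_eq_prime J2 7 (by rw [hc2]; norm_num)
  have hfixt : fixPts t = insert y {x} := fixPts_eq_of_card (hf2.subset_fixPts htJ)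
    (by rw [card_fixPts_11 (hJ2M htJ) ht, hS2])
  obtain ⟨w, hw, hfixu⟩ := exists_fixPts_eq_insert (hf2.subset_fixPts huJ)
    (by rw [card_fixPts_7 (hJ2M huJ) hu, hS2])
  have hmod2a := card_orb_mod_of_insert hf2 huJ hu hw hfixu
  have hmod2b := card_orb_mod_of_eq hf2 htJ ht hw hfixt
  have hle2 := hf2.card_orb_le hw
  have hpos2 := card_orb_pos J2 w
  rw [hS2] at hle2
  have h22 : (orb J2 w).card = 22 := by omega
  have hmul2 := card_eq_orb_mul J2 w
  rw [hc2, h22] at hmul2
  -- stage 3
  set J3 := J2 ⊓ MulAction.stabilizer (Equiv.Perm GolayPt) w with hJ3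
  have hJ3M : J3 ≤ M24 := inf_le_left.trans hJ2M
  have hc3 : Nat.card J3 = 840 := by omega
  have hf3 : FixesAll J3 (insert w (insert y {x})) := hf2.inf_stabilizer w
  have hS3 : (insert w (insert y ({x} : Finset GolayPt))).card = 3 := by
    rw [Finset.card_insert_of_notMem hw, hS2]
  obtain ⟨f, hfJ, hf⟩ := exists_orderOf_eq_prime J3 5 (by rw [hc3]; norm_num)
  obtain ⟨u', hu'J, hu'⟩ := exists_orderOf_eq_prime J3 7 (by rw [hc3]; norm_num)
  have hfixu' : fixPts u' = insert w (insert y {x}) := fixPts_eq_of_card (hf3.subset_fixPts hu'J)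
    (by rw [card_fixPts_7 (hJ3M hu'J) hu', hS3])
  obtain ⟨r, hr, hfixf⟩ := exists_fixPts_eq_insert (hf3.subset_fixPts hfJ)
    (by rw [card_fixPts_5 (hJ3M hfJ) hf, hS3])
  have hmod3a := card_orb_mod_of_insert hf3 hfJ hf hr hfixf
  have hmod3b := card_orb_mod_of_eq hf3 hu'J hu' hr hfixu'
  have hle3 := hf3.card_orb_le hr
  have hpos3 := card_orb_pos J3 r
  rw [hS3] at hle3
  have h21 : (orb J3 r).card = 21 := by omega
  have hmul3 := card_eq_orb_mul J3 r
  rw [hc3, h21] at hmul3
  -- stage 4
  set J4 := J3 ⊓ MulAction.stabilizer (Equiv.Perm GolayPt) r with hJ4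
  have hJ4M : J4 ≤ M24 := inf_le_left.trans hJ3M
  have hc4 : Nat.card J4 = 40 := by omega
  have hf4 : FixesAll J4 (insert r (insert w (insert y {x}))) := hf3.inf_stabilizer r
  have hS4 : (insert r (insert w (insert y ({x} : Finset GolayPt)))).card = 4 := by
    rw [Finset.card_insert_of_notMem hr, hS3]
  obtain ⟨f4, c4, hf4ord, hc4ord, hcomm⟩ := exists_commute_of_card_forty (J := ↥J4) hc4
  have hf'ord : orderOf (f4 : Equiv.Perm GolayPt) = 5 := by rw [Subgroup.orderOf_coe, hf4ord]
  have hc'ord : orderOf (c4 : Equiv.Perm GolayPt) = 2 := by rw [Subgroup.orderOf_coe, hc4ord]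
  have hcomm' : (f4 : Equiv.Perm GolayPt) * (c4 : Equiv.Perm GolayPt) =
      (c4 : Equiv.Perm GolayPt) * (f4 : Equiv.Perm GolayPt) := by
    have := congrArg Subtype.val hcomm.eq
    simpa using this
  have hfixf4 : fixPts (f4 : Equiv.Perm GolayPt) = insert r (insert w (insert y {x})) :=
    fixPts_eq_of_card (hf4.subset_fixPts f4.2) (by rw [card_fixPts_5 (hJ4M f4.2) hf'ord, hS4])
  have hxfix : (c4 : Equiv.Perm GolayPt) x = x := hf4 _ c4.2 x (by simp)
  have hoct : fixPts (c4 : Equiv.Perm GolayPt) ∈ octads := by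
    rcases Cfsg.Agent.S5394.result.1 _ (hJ4M c4.2) hc'ord with h | h
    · exact h
    · exact absurd hxfix (h x)
  have h8 : (fixPts (c4 : Equiv.Perm GolayPt)).card = 8 := octads_steiner.1 _ hoct
  have hinv : ∀ q, (f4 : Equiv.Perm GolayPt) q ∈ fixPts (c4 : Equiv.Perm GolayPt) ↔
      q ∈ fixPts (c4 : Equiv.Perm GolayPt) := by
    intro q
    rw [mem_fixPts, mem_fixPts]
    have h1 : (c4 : Equiv.Perm GolayPt) ((f4 : Equiv.Perm GolayPt) q) =
        (f4 : Equiv.Perm GolayPt) ((c4 : Equiv.Perm GolayPt) q) := by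
      have := congrArg (fun e : Equiv.Perm GolayPt => e q) hcomm'
      simpa [Equiv.Perm.mul_apply] using this.symm
    rw [h1]
    exact (f4 : Equiv.Perm GolayPt).injective.eq_iff
  have hf5 : (f4 : Equiv.Perm GolayPt) ^ 5 = 1 := by
    rw [← hf'ord]; exact pow_orderOf_eq_one _
  have hmod5 := card_fixIn_modEq (p := 5) _ hf5 _ hinv
  have hfix4 : fixIn (f4 : Equiv.Perm GolayPt) (fixPts (c4 : Equiv.Perm GolayPt)) =
      insert r (insert w (insert y {x})) := by
    ext q
    rw [mem_fixIn, ← hfixf4, mem_fixPts, mem_fixPts]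
    constructor
    · exact fun h => h.2
    · intro h
      refine ⟨?_, h⟩
      apply hf4 _ c4.2
      rw [← hfixf4]
      exact mem_fixPts.mpr h
  rw [hfix4, hS4, h8] at hmod5
  exact absurd hmod5 (by decide)

end Cfsg.Agent.Lib.Helper92.M24Index
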