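import Cfsg.Agent.Lib.Helper7.M24OctStab
import Cfsg.Agent.Lib.Helper7.M12Chain
import Cfsg.Agent.Lib.Helper26.GolayBitsWeights

/-!
# The stabilizer of an octad in `M24`

Order `322560`, restriction to the octad with kernel the pointwise stabilizer (order 16) and image
the alternating group of the octad.
-/

set_option autoImplicit false

namespace Cfsg.Agent.Lib.Helper92
open Cfsg Cfsg.Agent.Lib.Helper7
open scoped Pointwise

/-- The order of the stabilizer of an octad in `M24`. -/
theorem card_stabM24_octad {o : Finset GolayPt} (ho : o ∈ octads) :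
    Nat.card (stabM24 o) = 322560 := by
  classical
  have hfin : (octads : Set (Finset GolayPt)).Finite := Set.toFinite _
  have hO : hfin.toFinset.card = 759 := by
    rw [← Set.ncard_eq_toFinset_card _ hfin]
    exact Cfsg.Agent.Lib.Helper26.ncard_octads
  have h := card_eq_card_mul_card_inf_stabilizer (P := Equiv.Perm GolayPt) (α := Finset GolayPt)
    M24 o hfin.toFinset
    (by
      intro g hg
      rw [Set.Finite.mem_toFinset]
      exact smul_mem_octads hg ho)
    (by
      intro q hq
      rw [Set.Finite.mem_toFinset] at hq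
      obtain ⟨g, hg⟩ := exists_M24_smul_octad hq ho
      exact ⟨g, g.2, hg⟩)
  rw [card_M24, hO] at h
  have h2 : Nat.card ↥(M24 ⊓ MulAction.stabilizer (Equiv.Perm GolayPt) o) = 322560 := by omega
  exact h2

/-- Restriction of the stabilizer of a finset to the finset. -/
def restrictHom (o : Finset GolayPt) : stabM24 o →* Equiv.Perm ↥o where
  toFun g := (g : Equiv.Perm GolayPt).subtypePerm (fun x => apply_mem_of_mem_stabM24 g.2 x)
  map_one' := by
    apply Equiv.ext; intro x; apply Subtype.ext; rfl
  map_mul' g h := by
    apply Equiv.ext; intro x; apply Subtype.ext; rfl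

theorem restrictHom_apply (o : Finset GolayPt) (g : stabM24 o) (x : ↥o) :
    ((restrictHom o g) x : GolayPt) = (g : Equiv.Perm GolayPt) x := rfl

theorem mem_ker_restrictHom {o : Finset GolayPt} (g : stabM24 o) :
    g ∈ (restrictHom o).ker ↔ (g : Equiv.Perm GolayPt) ∈ fixM24 o := by
  rw [MonoidHom.mem_ker, mem_fixM24]
  constructor
  · intro h
    refine ⟨(mem_stabM24.mp g.2).1, fun p hp => ?_⟩
    have := congrArg (fun e : Equiv.Perm ↥o => ((e ⟨p, hp⟩ : ↥o) : GolayPt)) h
    simpa [restrictHom_apply] using this
  · rintro ⟨_, hfix⟩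
    apply Equiv.ext
    rintro ⟨x, hx⟩
    apply Subtype.ext
    rw [restrictHom_apply]
    exact hfix x hx

theorem fixM24_le_stabM24 (o : Finset GolayPt) : fixM24 o ≤ stabM24 o := by
  intro g hg
  rw [mem_fixM24] at hg
  rw [mem_stabM24]
  refine ⟨hg.1, ?_⟩
  ext p
  rw [mem_perm_smul_finset]
  constructor
  · intro h
    have := hg.2 _ h
    rw [Equiv.apply_symm_apply] at this
    rw [this]; exact h
  · intro h
    have := hg.2 p h
    have h2 : g.symm p = p := by
      rw [Equiv.symm_apply_eq]; exact this.symm
    rw [h2]; exact h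

/-- The kernel of the restriction is the pointwise stabilizer. -/
noncomputable def kerEquivFix (o : Finset GolayPt) : (restrictHom o).ker ≃ fixM24 o where
  toFun g := ⟨((g : stabM24 o) : Equiv.Perm GolayPt), (mem_ker_restrictHom g.1).mp g.2⟩
  invFun h := ⟨⟨h, fixM24_le_stabM24 o h.2⟩, (mem_ker_restrictHom _).mpr h.2⟩
  left_inv _ := rfl
  right_inv _ := rfl

theorem card_range_restrictHom {o : Finset GolayPt} (ho : o ∈ octads) :
    Nat.card (restrictHom o).range = 20160 := by
  have h1 : Nat.card (stabM24 o) =
      Nat.card (stabM24 o ⧸ (restrictHom o).ker) * Nat.card (restrictHom o).ker :=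
    Subgroup.card_eq_card_quotient_mul_card_subgroup _
  rw [card_stabM24_octad ho, Nat.card_congr (kerEquivFix o), (fixM24_octad ho).1,
    Nat.card_congr (QuotientGroup.quotientKerEquivRange (restrictHom o)).toEquiv] at h1
  omega

/-- The stabilizer of an octad induces the alternating group on it. -/
theorem range_restrictHom {o : Finset GolayPt} (ho : o ∈ octads) :
    (restrictHom o).range = alternatingGroup ↥o := by
  apply Equiv.Perm.eq_alternatingGroup_of_index_eq_two
  have h1 := Subgroup.card_mul_index (restrictHom o).range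
  rw [card_range_restrictHom ho, Nat.card_eq_fintype_card, Fintype.card_perm, Fintype.card_coe,
    ho.2] at h1
  have : (8 : ℕ).factorial = 40320 := by decide
  rw [this] at h1
  omega

end Cfsg.Agent.Lib.Helper92
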