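import Mathlib

/-!
# Automorphisms of a transitive group whose subgroups of index `n` are point stabilizers

Let a finite group `H` act transitively on a finite set `Ω` in such a way that different points have
different stabilizers and every subgroup of index `|Ω|` fixes a point.  Then every automorphism `α`
of `H` is induced by a permutation `σ` of `Ω`: `α g • σ x = σ (g • x)`.  If moreover `σ` is the
action of an element of `H` and the action is faithful, `α` is inner.
-/

set_option autoImplicit false

namespace Cfsg.Agent.Lib.Helper92.AutPerm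

open MulAction

variable {H Ω : Type*} [Group H] [MulAction H Ω]

theorem conj_comp_aut (α : MulAut H) (g : H) :
    (MulAut.conj (α g)).toMonoidHom.comp α.toMonoidHom =
      α.toMonoidHom.comp (MulAut.conj g).toMonoidHom := by
  ext h
  simp [MulAut.conj_apply, map_mul, map_inv]

/-- A subgroup contained in another of the same finite nonzero index is equal to it. -/
theorem eq_of_le_of_index_eq {K L : Subgroup H} (hKL : K ≤ L) (h : K.index = L.index)
    (h0 : L.index ≠ 0) : K = L := by
  have h1 := Subgroup.relIndex_mul_index hKL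
  rw [h] at h1
  have h2 : K.relIndex L = 1 := by
    have : K.relIndex L * L.index = 1 * L.index := by rw [h1, one_mul]
    exact Nat.eq_of_mul_eq_mul_right (Nat.pos_of_ne_zero h0) this
  exact le_antisymm hKL (Subgroup.relIndex_eq_one.mp h2)

/-- Every automorphism is induced by a permutation of the points. -/
theorem exists_perm_of_aut [Finite Ω] [IsPretransitive H Ω]
    (hinj : ∀ x y : Ω, stabilizer H x = stabilizer H y → x = y)
    (hfix : ∀ K : Subgroup H, K.index = Nat.card Ω → ∃ y : Ω, K ≤ stabilizer H y)
    (α : MulAut H) :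
    ∃ σ : Equiv.Perm Ω, ∀ (g : H) (x : Ω), α g • σ x = σ (g • x) := by
  have hidx : ∀ x : Ω, (stabilizer H x).index = Nat.card Ω := fun x =>
    index_stabilizer_of_transitive H x
  have hne : ∀ x : Ω, (stabilizer H x).index ≠ 0 := by
    intro x
    rw [hidx x]
    have : Nonempty Ω := ⟨x⟩
    exact Nat.card_pos.ne'
  have hmapidx : ∀ x : Ω, ((stabilizer H x).map α.toMonoidHom).index = Nat.card Ω := by
    intro x
    rw [Subgroup.index_map_of_bijective α.bijective, hidx x]
  have key : ∀ x : Ω, ∃ y : Ω, (stabilizer H x).map α.toMonoidHom = stabilizer H y := by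
    intro x
    obtain ⟨y, hy⟩ := hfix _ (hmapidx x)
    exact ⟨y, eq_of_le_of_index_eq hy (by rw [hmapidx x, hidx y]) (hne y)⟩
  choose σ₀ hσ₀ using key
  have hσinj : Function.Injective σ₀ := by
    intro x x' h
    apply hinj
    have h1 : (stabilizer H x).map α.toMonoidHom = (stabilizer H x').map α.toMonoidHom := by
      rw [hσ₀ x, hσ₀ x', h]
    exact Subgroup.map_injective α.injective h1
  have hσbij : Function.Bijective σ₀ := Finite.injective_iff_bijective.mp hσinj
  refine ⟨Equiv.ofBijective σ₀ hσbij, ?_⟩
  intro g x
  show α g • σ₀ x = σ₀ (g • x)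
  apply hinj
  rw [← hσ₀ (g • x), stabilizer_smul_eq_stabilizer_map_conj, stabilizer_smul_eq_stabilizer_map_conj,
    ← hσ₀ x, Subgroup.map_map, Subgroup.map_map, conj_comp_aut]

/-- If the permutation inducing an automorphism is the action of a group element, and the action
is faithful, the automorphism is conjugation by that element. -/
theorem eq_conj_of_perm [FaithfulSMul H Ω] (α : MulAut H) (σ : Equiv.Perm Ω)
    (hσ : ∀ (g : H) (x : Ω), α g • σ x = σ (g • x)) (h₀ : H) (h : ∀ x, h₀ • x = σ x) :
    α = MulAut.conj h₀ := by
  ext g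
  rw [MulAut.conj_apply]
  apply FaithfulSMul.eq_of_smul_eq_smul (α := Ω)
  intro y
  have h1 := hσ g (h₀⁻¹ • y)
  rw [← h, ← h, smul_inv_smul] at h1
  rw [h1, mul_smul, mul_smul]

/-- If every automorphism is inner, the outer automorphism group is trivial. -/
theorem card_out_eq_one (hinn : ∀ α : MulAut H, ∃ h : H, α = MulAut.conj h) :
    Nat.card (MulAut H ⧸ (MulAut.conj : H →* MulAut H).range) = 1 := by
  have : (MulAut.conj : H →* MulAut H).range = ⊤ := by
    rw [eq_top_iff]
    intro α _
    obtain ⟨h, rfl⟩ := hinn α
    exact ⟨h, rfl⟩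
  rw [this]
  exact Subgroup.index_top

end Cfsg.Agent.Lib.Helper92.AutPerm
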