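import Cfsg.Agent.Lib.Helper7.M24Octads
import Cfsg.Agent.Lib.Helper92.M24Index
import Cfsg.Agent.Lib.Helper92.AutPerm

/-!
# Permutations normalizing `M24` (or `M23`) compatibly with an automorphism lie in `M24`

Octads are the fixed-point sets of the involutions having a fixed point; a permutation mapping
octads to octads lies in `M24`.
-/

set_option autoImplicit false

namespace Cfsg.Agent.Lib.Helper92.M24Aut
open Cfsg Cfsg.Agent.Lib.Helper7 Cfsg.Agent.Lib.Helper92.PermCount Cfsg.Agent.Lib.Helper92.M24Index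
open scoped Pointwise

/-- A permutation mapping octads to octads lies in `M24`. -/
theorem mem_M24_of_maps_octads {σ : Equiv.Perm GolayPt}
    (h : ∀ o ∈ octads, σ • o ∈ octads) : σ ∈ M24 := by
  rw [M24_eq_setSystemAut_octads]
  apply MulAction.mem_stabilizer_iff.mpr
  have hsub : σ • octads ⊆ octads := by
    rintro _ ⟨o, ho, rfl⟩
    exact h o ho
  apply Set.eq_of_subset_of_ncard_le hsub ?_ (Set.toFinite _)
  have : σ • octads = (fun s : Finset GolayPt => σ • s) '' octads := rfl
  rw [this, Set.ncard_image_of_injective _ (MulAction.injective σ)]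

/-- The fixed points of an involution of `M24` with a fixed point form an octad. -/
theorem fixPts_mem_octads {z : Equiv.Perm GolayPt} (hz : z ∈ M24) (h2 : orderOf z = 2)
    {x : GolayPt} (hx : z x = x) : fixPts z ∈ octads := by
  rcases Cfsg.Agent.S5394.result.1 z hz h2 with h | h
  · exact h
  · exact absurd hx (h x)

/-- Every octad is the set of fixed points of an involution of `M24`. -/
theorem exists_invol_fixPts_eq {o : Finset GolayPt} (ho : o ∈ octads) :
    ∃ z ∈ M24, orderOf z = 2 ∧ fixPts z = o := by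
  obtain ⟨g, hg, hg2, hgo⟩ := Cfsg.Agent.S5394.result.2.1
  obtain ⟨k, hk⟩ := exists_M24_smul_octad hgo ho
  rw [M24_smul_finset_def] at hk
  refine ⟨(k : Equiv.Perm GolayPt) * g * (k : Equiv.Perm GolayPt)⁻¹,
    M24.mul_mem (M24.mul_mem k.2 hg) (M24.inv_mem k.2), ?_, ?_⟩
  · rw [← hg2, ← MulAut.conj_apply]
    exact MulEquiv.orderOf_eq _ _
  · rw [fixPts_eq_filter, Cfsg.Agent.S5394.fix_conj, hk]

/-- If `τ` is an involution of `M24` whose fixed points contain the image under `σ` of an octad,
that image is an octad. -/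
theorem smul_mem_octads_of_fixes {σ τ : Equiv.Perm GolayPt} (hτ : τ ∈ M24) (h2 : orderOf τ = 2)
    {o : Finset GolayPt} (ho : o ∈ octads) (hfix : ∀ q ∈ o, τ (σ q) = σ q) : σ • o ∈ octads := by
  have ho8 : o.card = 8 := octads_steiner.1 o ho
  obtain ⟨q0, hq0⟩ : o.Nonempty := by
    rw [← Finset.card_pos, ho8]; norm_num
  have hoct := fixPts_mem_octads hτ h2 (hfix q0 hq0)
  have hsub : σ • o ⊆ fixPts τ := by
    intro p hp
    rw [mem_perm_smul_finset] at hp
    rw [mem_fixPts]
    have := hfix _ hp
    simpa using this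
  have hcard : (fixPts τ).card ≤ (σ • o).card := by
    rw [card_perm_smul_finset, ho8, octads_steiner.1 _ hoct]
  rw [Finset.eq_of_subset_of_card_le hsub hcard]
  exact hoct

end Cfsg.Agent.Lib.Helper92.M24Aut
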