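import Mathlib
import Cfsg.Prelude.Def_Sporadic_a
import Cfsg.Agent.Lib.Helper7.GolayFacts

/-!
# Bases for `M24`: pointwise stabilizers via octad closure

If `g ∈ M24` fixes a set `F` pointwise, then it stabilizes every octad meeting `F` in at least five
points; if two such octads meet outside `F` in a single point, `g` fixes that point as well.
`octadClosureCheck F steps` verifies a certificate (a list of such steps ending with all 24
points fixed); `octadClosure_sound` turns it into the statement that the pointwise stabilizer of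
`setOf F` in `M24` is trivial.  `m24_base_seven` is the instance for the seven points
`∞, 0, 1, 2, 3, 4, 5`.
-/

set_option autoImplicit false
open Cfsg

namespace Cfsg.Agent.Lib.Helper92
open Cfsg.Agent.Lib.Helper7
open scoped Pointwise

/-- `M24` maps octads to octads. -/
theorem smul_mem_octads {g : Equiv.Perm GolayPt} (hg : g ∈ M24) {o : Finset GolayPt}
    (ho : o ∈ octads) : g • o ∈ octads := by
  obtain ⟨hs, hc⟩ := ho
  refine ⟨?_, ?_⟩
  · have h : g • supports (golayCode : Set (GolayPt → ZMod 2)) = supports (golayCode : Set (GolayPt → ZMod 2)) :=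
      MulAction.mem_stabilizer_iff.mp hg
    rw [← h]
    exact Set.smul_mem_smul_set hs
  · rw [Finset.card_smul_finset]
    exact hc

/-- An octad with at least five points fixed by `g ∈ M24` is `g`-invariant. -/
theorem smul_octad_eq {g : Equiv.Perm GolayPt} (hg : g ∈ M24) {o : Finset GolayPt}
    (ho : o ∈ octads) (F : Finset GolayPt) (hF : ∀ p ∈ F, g p = p) (h5 : 5 ≤ (o ∩ F).card) :
    g • o = o := by
  apply octad_eq_of_five (smul_mem_octads hg ho) ho
  refine le_trans h5 (Finset.card_le_card ?_)
  intro p hp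
  rw [Finset.mem_inter] at hp ⊢
  refine ⟨?_, hp.1⟩
  rw [Finset.mem_smul_finset]
  exact ⟨p, hp.1, hF p hp.2⟩

/-- If an invariant set has a single point outside the fixed set, that point is fixed. -/
theorem fixed_of_sdiff {g : Equiv.Perm GolayPt} (F : Finset GolayPt) (hF : ∀ p ∈ F, g p = p)
    (s : Finset GolayPt) (hs : g • s = s) (x : GolayPt) (hx : s \ F = {x}) : g x = x := by
  have hxs : x ∈ s \ F := by rw [hx]; exact Finset.mem_singleton_self x
  rw [Finset.mem_sdiff] at hxs
  have hgx : g x ∈ s := by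
    rw [← hs]
    exact Finset.smul_mem_smul_finset hxs.1
  by_cases hgF : g x ∈ F
  · have := hF (g x) hgF
    exact g.injective this
  · have : g x ∈ s \ F := Finset.mem_sdiff.mpr ⟨hgx, hgF⟩
    rw [hx] at this
    exact Finset.mem_singleton.mp this

theorem setOf_two_pow {i : ℕ} (hi : i < 24) : setOf (2 ^ i) = {pt i} := by
  ext p
  rw [mem_setOf, Nat.testBit_two_pow, Finset.mem_singleton]
  simp only [decide_eq_true_eq]
  constructor
  · intro h
    rw [h, pt_idx]
  · intro h
    rw [h, idx_pt hi]

/-- Test that a mask is an octad. -/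
def isOctMask (o : ℕ) : Bool := decide (o < 2 ^ 24) && decide (enc (o % 4096) = o) && decide (pc o = 8)

theorem mem_octads_of_isOctMask {o : ℕ} (h : isOctMask o = true) : setOf o ∈ octads := by
  unfold isOctMask at h
  simp only [Bool.and_eq_true, decide_eq_true_eq] at h
  obtain ⟨⟨_, henc⟩, hpc⟩ := h
  rw [mem_octads_iff]
  refine ⟨wordOf o, ?_, support₂_wordOf o, ?_⟩
  · rw [mem_golayCode_iff]
    exact ⟨o % 4096, Nat.mod_lt _ (by decide), by rw [henc]⟩
  · rw [card_setOf]; exact hpc

/-- One closure step. -/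
def octadStepOk (F o1 o2 i : ℕ) : Bool :=
  isOctMask o1 && isOctMask o2 && decide (5 ≤ pc (o1 &&& F)) && decide (5 ≤ pc (o2 &&& F)) &&
    decide (i < 24) && decide ((o1 &&& o2) &&& (allMask ^^^ F) = 2 ^ i)

/-- Verify a closure certificate. -/
def octadClosureCheck : ℕ → List (ℕ × ℕ × ℕ) → Bool
  | F, [] => decide (F = allMask)
  | F, (o1, o2, i) :: rest => octadStepOk F o1 o2 i && octadClosureCheck (F ||| 2 ^ i) rest

theorem octadClosure_sound : ∀ (steps : List (ℕ × ℕ × ℕ)) (F : ℕ), octadClosureCheck F steps = true →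
    ∀ g ∈ M24, (∀ p ∈ setOf F, g p = p) → ∀ p, g p = p := by
  intro steps
  induction steps with
  | nil =>
    intro F h g _ hF p
    simp only [octadClosureCheck, decide_eq_true_eq] at h
    apply hF
    rw [h, setOf_allMask]
    exact Finset.mem_univ p
  | cons s rest ih =>
    intro F h g hg hF
    obtain ⟨o1, o2, i⟩ := s
    simp only [octadClosureCheck, Bool.and_eq_true] at h
    obtain ⟨hstep, hrest⟩ := h
    unfold octadStepOk at hstep
    simp only [Bool.and_eq_true, decide_eq_true_eq] at hstep
    obtain ⟨⟨⟨⟨⟨h1, h2⟩, h51⟩, h52⟩, hi⟩, hmask⟩ := hstep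
    have ho1 := mem_octads_of_isOctMask h1
    have ho2 := mem_octads_of_isOctMask h2
    have e1 : g • setOf o1 = setOf o1 := by
      apply smul_octad_eq hg ho1 (setOf F) hF
      rw [← setOf_and, card_setOf]; exact h51
    have e2 : g • setOf o2 = setOf o2 := by
      apply smul_octad_eq hg ho2 (setOf F) hF
      rw [← setOf_and, card_setOf]; exact h52
    have e12 : g • (setOf o1 ∩ setOf o2) = setOf o1 ∩ setOf o2 := by
      rw [Finset.smul_finset_inter, e1, e2]
    have hsd : (setOf o1 ∩ setOf o2) \ setOf F = {pt i} := by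
      have := congrArg Cfsg.Agent.Lib.Helper7.setOf hmask
      rw [setOf_and, setOf_and, setOf_xor, setOf_allMask, setOf_two_pow hi] at this
      rw [← this, Finset.sdiff_eq_inter_compl]
      congr 1
      ext q
      simp [Finset.mem_symmDiff]
    have hfix : g (pt i) = pt i := fixed_of_sdiff (setOf F) hF _ e12 (pt i) hsd
    apply ih (F ||| 2 ^ i) hrest g hg
    intro p hp
    rw [setOf_or, setOf_two_pow hi, Finset.mem_union, Finset.mem_singleton] at hp
    rcases hp with hp | rfl
    · exact hF p hp
    · exact hfix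

/-- The base: points `0,1,2,3,4,5` and the extra point. -/
def m24BaseMask7 : ℕ := 0x80003f

/-- Closure certificate for `m24BaseMask7`. -/
def m24Cert7 : List (ℕ × ℕ × ℕ) :=
  [(0xc12017, 0x50803d, 22), (0xc12017, 0xe0206c, 13), (0xc12017, 0xc12017, 16),
   (0xa96009, 0x34200f, 21), (0xe0206c, 0xe0206c, 6), (0xa96009, 0x2b2026, 19),
   (0xa96009, 0xa96009, 14), (0x2b2026, 0x2b2026, 17), (0xca6084, 0xca6084, 7),
   (0x8ea003, 0x13e005, 15), (0x8ea003, 0x8ea003, 18), (0x13e005, 0x13e005, 20),
   (0x3da100, 0x3da100, 8), (0x7b4200, 0x7b4200, 9), (0x768401, 0x768401, 10),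
   (0xe3a800, 0xe3a800, 11), (0xc75001, 0xc75001, 12)]

theorem m24Cert7_ok : octadClosureCheck m24BaseMask7 m24Cert7 = true := by decide

/-- A set of seven points (the extra point and `0,…,5`) whose pointwise stabilizer in `M24` is trivial. -/
theorem m24_base_seven : ∃ B : Finset Cfsg.GolayPt, B.card = 7 ∧ ∀ g ∈ Cfsg.M24, (∀ b ∈ B, g b = b) → g = 1 := by
  refine ⟨setOf m24BaseMask7, ?_, ?_⟩
  · rw [card_setOf]; decide
  · intro g hg hB
    apply Equiv.ext
    intro p
    exact octadClosure_sound m24Cert7 m24BaseMask7 m24Cert7_ok g hg hB p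

end Cfsg.Agent.Lib.Helper92
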