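import Cfsg.Agent.Lib.Helper92.OctadStab

/-!
# The pointwise stabilizer of an octad is regular on the complement
-/

set_option autoImplicit false

namespace Cfsg.Agent.Lib.Helper92
open Cfsg Cfsg.Agent.Lib.Helper7
open scoped Pointwise

theorem pt4_notMem_octO : pt 4 ∉ setOf octO := by
  intro h
  have := mem_setOf.mp h
  rw [idx_pt (by norm_num)] at this
  exact absurd this (by decide)

/-- In the standard octad, the pointwise stabilizer moves any outside point to `pt 4`. -/
theorem exists_fixM24_octO_map {q : GolayPt} (hq : q ∉ setOf octO) :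
    ∃ e ∈ fixM24 (setOf octO), e q = pt 4 := by
  have hb : octO.testBit (idx q) = false := by
    have : ¬ octO.testBit (idx q) = true := fun h => hq (mem_setOf.mpr h)
    simpa using this
  obtain ⟨h1, h2, _⟩ := octStabElem_spec (idx_lt q) (orbitOK_5 (idx q) (idx_lt q) hb)
  rw [pt_idx] at h2
  exact ⟨_, h1, h2⟩

/-- `M24` is transitive on pairs (octad, point outside it). -/
theorem exists_map_octad_out {o : Finset GolayPt} (ho : o ∈ octads) {p : GolayPt} (hp : p ∉ o) :
    ∃ σ ∈ M24, σ • o = setOf octO ∧ σ p = pt 4 := by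
  obtain ⟨σ0, hσ0⟩ := exists_M24_smul_octad ho (setOf_mem_octads isOctadMask_octO)
  rw [M24_smul_finset_def] at hσ0
  have hq : (σ0 : Equiv.Perm GolayPt) p ∉ setOf octO := by
    rw [← hσ0, apply_mem_perm_smul_finset]; exact hp
  obtain ⟨e, he, heq⟩ := exists_fixM24_octO_map hq
  have heS := fixM24_le_stabM24 _ he
  refine ⟨e * σ0, M24.mul_mem (mem_fixM24.mp he).1 σ0.2, ?_, ?_⟩
  · rw [mul_smul, hσ0]; exact (mem_stabM24.mp heS).2
  · rw [Equiv.Perm.mul_apply]; exact heq

/-- The pointwise stabilizer of an octad is transitive on the complement. -/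
theorem exists_fixM24_map {o : Finset GolayPt} (ho : o ∈ octads) {p q : GolayPt} (hp : p ∉ o)
    (hq : q ∉ o) : ∃ e ∈ fixM24 o, e q = p := by
  obtain ⟨σ, hσ, hσo, hσp⟩ := exists_map_octad_out ho hp
  have hq' : σ q ∉ setOf octO := by
    rw [← hσo, apply_mem_perm_smul_finset]; exact hq
  obtain ⟨e0, he0, he0q⟩ := exists_fixM24_octO_map hq'
  refine ⟨σ⁻¹ * e0 * σ, ?_, ?_⟩
  · rw [← hσo] at he0
    exact (conj_mem_fixM24 hσ o).mp he0
  · simp only [Equiv.Perm.mul_apply]
    rw [he0q, ← hσp]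
    simp

/-- An element of the pointwise stabilizer of an octad fixing a further point is trivial. -/
theorem eq_one_of_mem_fixM24 {o : Finset GolayPt} (ho : o ∈ octads) {p : GolayPt} (hp : p ∉ o)
    {g : Equiv.Perm GolayPt} (hg : g ∈ fixM24 o) (hgp : g p = p) : g = 1 := by
  obtain ⟨σ, hσ, hσo, hσp⟩ := exists_map_octad_out ho hp
  have h1 : σ * g * σ⁻¹ ∈ fixM24 (setOf octO) := by
    rw [← hσo, conj_mem_fixM24 hσ o]
    have : σ⁻¹ * (σ * g * σ⁻¹) * σ = g := by group
    rw [this]; exact hg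
  have h2 : σ * g * σ⁻¹ = 1 := by
    apply eq_one_of_mem_fixM24_octO h1
    rw [bp5_eq, ← hσp]
    simp [hgp]
  have : g = σ⁻¹ * (σ * g * σ⁻¹) * σ := by group
  rw [this, h2]; group

end Cfsg.Agent.Lib.Helper92
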