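import Cfsg.Agent.Lib.Helper92.SylM22Data
import Cfsg.Agent.Lib.Helper92.M24Fix
import Cfsg.Agent.Lib.Helper92.M24Aut
import Cfsg.Agent.Lib.Helper92.OctadSplit
import Cfsg.Agent.Lib.Helper92.M24Base
import Cfsg.Agent.Lib.Helper98.FusionSelfNorm

/-!
# A Sylow 2-subgroup of `M22` and `M23`, and the simplicity of their 2-fusion systems

`S0` is the group of order 128 generated by three explicit involutions of `M22`.  Using the tables
of its 128 elements (`SylM22Data`) we show that its normalizer in `M23` is `S0` itself: a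
normalizing element preserves the sets of points fixed by all elements, by all squares and by all
fourth powers of `S0`, so it lies in a group `W0` of order at most 384, which contains an element
of order three not normalizing `S0`.  All involutions of `M23` (of `M22`) are conjugate, since
their fixed points form an octad and the pointwise stabilizer of an octad is regular outside it.
The criterion of `Helper98.FusionSelfNorm` then gives the simplicity of the 2-fusion systems.
-/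

set_option autoImplicit false
open Cfsg

namespace Cfsg.Agent.Lib.Helper92.SylM22
open Cfsg.Agent.Lib.Helper7 Cfsg.Agent.Lib.Helper92 Cfsg.Agent.Lib.Helper92.PermCount
  Cfsg.Agent.Lib.Helper92.M24Index Cfsg.Agent.Lib.Helper92.M24Fix Cfsg.Agent.Lib.Helper92.M24Aut
open scoped Pointwise

/-! ### Tables of words -/

theorem getD_evT (w : List ℕ) {i : ℕ} (hi : i < 24) : (evT w).getD i 0 = m24Eval w i := by
  unfold evT
  rw [List.getD_eq_getElem _ _ (by simpa using hi)]
  simp

theorem matches_evT (w : List ℕ) : Matches (m24Word w) (evT w) := by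
  intro p
  rw [getD_evT w (idx_lt p), m24Word_apply, idx_pt (m24Eval_lt w (idx_lt p))]

theorem eq_of_matches {σ τ : Equiv.Perm GolayPt} {t : List ℕ} (h1 : Matches σ t)
    (h2 : Matches τ t) : σ = τ := by
  ext p
  rw [← pt_idx (σ p), ← pt_idx (τ p), h1 p, h2 p]

theorem getD_eq_of_matches {σ : Equiv.Perm GolayPt} {t1 t2 : List ℕ} (h1 : Matches σ t1)
    (h2 : Matches σ t2) {j : ℕ} (hj : j < 24) : t1.getD j 0 = t2.getD j 0 := by
  have a := h1 (pt j)
  have b := h2 (pt j)
  rw [idx_pt hj] at a b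
  rw [← a, ← b]

theorem matches_powT {σ : Equiv.Perm GolayPt} {t : List ℕ} (h : Matches σ t) (k : ℕ) :
    Matches (σ ^ k) (powT t k) := by
  induction k with
  | zero => rw [pow_zero]; exact matches_one
  | succ k ih => rw [pow_succ']; exact matches_mul h ih

/-! ### The group -/

/-- The three generating involutions. -/
noncomputable def gP (j : ℕ) : Equiv.Perm GolayPt := m24Word (gW.getD j [])

/-- The Sylow 2-subgroup. -/
noncomputable def S0 : Subgroup (Equiv.Perm GolayPt) :=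
  Subgroup.closure {g | ∃ j < 3, g = gP j}

theorem gP_mem_S0 {j : ℕ} (hj : j < 3) : gP j ∈ S0 := Subgroup.subset_closure ⟨j, hj, rfl⟩

theorem matches_gP (j : ℕ) : Matches (gP j) (evT (gW.getD j [])) := matches_evT _

theorem chkGen_spec {j : ℕ} (hj : j < 3) :
    compT (evT (gW.getD j [])) (evT (gW.getD j [])) = idT ∧
      (∃ p < 24, (evT (gW.getD j [])).getD p 0 ≠ p) ∧
      (evT (gW.getD j [])).getD 23 0 = 23 ∧ (evT (gW.getD j [])).getD 0 0 = 0 := by
  have h := chkGen_ok
  simp only [chkGen, List.all_eq_true, List.mem_range, Bool.and_eq_true, beq_iff_eq,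
    List.any_eq_true, bne_iff_ne] at h
  obtain ⟨⟨⟨h1, p, hp, h2⟩, h3⟩, h4⟩ := h j hj
  exact ⟨h1, ⟨p, hp, h2⟩, h3, h4⟩

theorem gP_mul_self {j : ℕ} (hj : j < 3) : gP j * gP j = 1 := by
  apply eq_of_matches (matches_mul (matches_gP j) (matches_gP j))
  rw [(chkGen_spec hj).1]
  exact matches_one

theorem gP_inv {j : ℕ} (hj : j < 3) : (gP j)⁻¹ = gP j :=
  inv_eq_of_mul_eq_one_left (gP_mul_self hj)

theorem chkLM_spec {j i : ℕ} (hj : j < 3) (hi : i < 128) :
    compT (evT (gW.getD j [])) (tbl i) = tbl ((sLM.getD j []).getD i 0) ∧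
      (sLM.getD j []).getD i 0 < 128 := by
  have h := chkLM_ok
  simp only [chkLM, List.all_eq_true, List.mem_range, Bool.and_eq_true, beq_iff_eq,
    decide_eq_true_eq] at h
  exact h j hj i hi

theorem tbl_zero : tbl 0 = idT := by
  have h := chkId_ok
  simpa only [chkId, beq_iff_eq] using h

/-- Every element of `S0` has one of the 128 tables. -/
theorem exists_tbl_of_mem {g : Equiv.Perm GolayPt} (hg : g ∈ S0) :
    ∃ i < 128, Matches g (tbl i) := by
  unfold S0 at hg
  induction hg using Subgroup.closure_induction_left with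
  | one => exact ⟨0, by norm_num, tbl_zero ▸ matches_one⟩
  | mul_left x hx y _ ih =>
    obtain ⟨j, hj, rfl⟩ := hx
    obtain ⟨i, hi, hm⟩ := ih
    obtain ⟨h1, h2⟩ := chkLM_spec hj hi
    exact ⟨_, h2, h1 ▸ matches_mul (matches_gP j) hm⟩
  | inv_mul_cancel x hx y _ ih =>
    obtain ⟨j, hj, rfl⟩ := hx
    obtain ⟨i, hi, hm⟩ := ih
    obtain ⟨h1, h2⟩ := chkLM_spec hj hi
    rw [gP_inv hj]
    exact ⟨_, h2, h1 ▸ matches_mul (matches_gP j) hm⟩

theorem chkTree_spec {i : ℕ} (hi : i < 128) (h0 : i ≠ 0) :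
    sPar.getD i 0 < i ∧ (sLM.getD (sGen.getD i 0) []).getD (sPar.getD i 0) 0 = i ∧
      sGen.getD i 0 < 3 := by
  have h := chkTree_ok
  simp only [chkTree, List.all_eq_true, List.mem_range, Bool.and_eq_true, beq_iff_eq,
    decide_eq_true_eq, Bool.or_eq_true] at h
  rcases h i hi with h | h
  · exact absurd h h0
  · exact ⟨h.1.1, h.1.2, h.2⟩

/-- Every table is the table of an element of `S0`. -/
theorem exists_mem_of_tbl : ∀ i < 128, ∃ g ∈ S0, Matches g (tbl i) := by
  intro i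
  induction i using Nat.strong_induction_on with
  | _ i ih =>
    intro hi
    by_cases h0 : i = 0
    · subst h0
      exact ⟨1, S0.one_mem, tbl_zero ▸ matches_one⟩
    · obtain ⟨h1, h2, h3⟩ := chkTree_spec hi h0
      obtain ⟨g, hg, hm⟩ := ih _ h1 (lt_trans h1 hi)
      obtain ⟨h4, _⟩ := chkLM_spec h3 (lt_trans h1 hi)
      refine ⟨gP (sGen.getD i 0) * g, S0.mul_mem (gP_mem_S0 h3) hg, ?_⟩
      have := matches_mul (matches_gP (sGen.getD i 0)) hm
      rw [h4, h2] at this
      exact this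

theorem chkNodup_spec {i k : ℕ} (hi : i < 128) (hk : k < 128)
    (h : ∀ j < 24, (tbl i).getD j 0 = (tbl k).getD j 0) : i = k := by
  have h' := chkNodup_ok
  simp only [chkNodup, List.all_eq_true, List.mem_range, Bool.or_eq_true, beq_iff_eq,
    List.any_eq_true, bne_iff_ne] at h'
  rcases h' i hi k hk with h1 | ⟨j, hj, h1⟩
  · exact h1
  · exact absurd (h j hj) h1

theorem card_S0 : Nat.card S0 = 128 := by
  have hA : ∀ g : S0, ∃ i : Fin 128, Matches (g : Equiv.Perm GolayPt) (tbl i) := by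
    intro g
    obtain ⟨i, hi, hm⟩ := exists_tbl_of_mem g.2
    exact ⟨⟨i, hi⟩, hm⟩
  choose f hf using hA
  have hbij : Function.Bijective f := by
    constructor
    · intro g g' h
      apply Subtype.ext
      apply eq_of_matches (hf g)
      rw [h]
      exact hf g'
    · intro i
      obtain ⟨g, hg, hm⟩ := exists_mem_of_tbl i i.2
      refine ⟨⟨g, hg⟩, ?_⟩
      apply Fin.ext
      apply chkNodup_spec (f ⟨g, hg⟩).2 i.2
      intro j hj
      exact getD_eq_of_matches (hf ⟨g, hg⟩) hm hj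
  rw [Nat.card_congr (Equiv.ofBijective f hbij), Nat.card_fin]


/-! ### Membership -/

theorem pt_23 : pt 23 = (none : GolayPt) := rfl

theorem pt_0 : pt 0 = (some 0 : GolayPt) := rfl

theorem mem_M23 {g : Equiv.Perm GolayPt} : g ∈ Spor.M23 ↔ g ∈ M24 ∧ g (pt 23) = pt 23 := by
  show g ∈ M24 ⊓ MulAction.stabilizer (Equiv.Perm GolayPt) (none : GolayPt) ↔ _
  rw [Subgroup.mem_inf, MulAction.mem_stabilizer_iff]
  rfl

theorem mem_M22 {g : Equiv.Perm GolayPt} :
    g ∈ Spor.M22 ↔ g ∈ M24 ∧ g (pt 23) = pt 23 ∧ g (pt 0) = pt 0 := by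
  show g ∈ Spor.M23 ⊓ MulAction.stabilizer (Equiv.Perm GolayPt) (some 0 : GolayPt) ↔ _
  rw [Subgroup.mem_inf, MulAction.mem_stabilizer_iff, mem_M23, and_assoc]
  rfl

theorem M22_le_M23 : Spor.M22 ≤ Spor.M23 := fun g hg => by
  rw [mem_M22] at hg
  rw [mem_M23]
  exact ⟨hg.1, hg.2.1⟩

theorem gP_apply_23 {j : ℕ} (hj : j < 3) : gP j (pt 23) = pt 23 :=
  matches_apply (matches_gP j) (by norm_num) (by norm_num) (chkGen_spec hj).2.2.1

theorem gP_apply_0 {j : ℕ} (hj : j < 3) : gP j (pt 0) = pt 0 :=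
  matches_apply (matches_gP j) (by norm_num) (by norm_num) (chkGen_spec hj).2.2.2

theorem S0_le_M22 : S0 ≤ Spor.M22 := by
  unfold S0
  rw [Subgroup.closure_le]
  rintro g ⟨j, hj, rfl⟩
  exact mem_M22.mpr ⟨m24Word_mem _, gP_apply_23 hj, gP_apply_0 hj⟩

theorem gP_ne_one {j : ℕ} (hj : j < 3) : gP j ≠ 1 := by
  intro h
  obtain ⟨p, hp, hne⟩ := (chkGen_spec hj).2.1
  apply hne
  have h1 := matches_gP j
  rw [h] at h1
  rw [getD_eq_of_matches h1 matches_one hp]
  exact getD_range hp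

theorem orderOf_gP {j : ℕ} (hj : j < 3) : orderOf (gP j) = 2 := by
  have : Fact (Nat.Prime 2) := ⟨Nat.prime_two⟩
  apply orderOf_eq_prime _ (gP_ne_one hj)
  rw [pow_two]
  exact gP_mul_self hj

/-! ### Sets preserved by the normalizer -/

theorem chkFixIn_spec {m k : ℕ} (h : chkFixIn m k = true) {i j : ℕ} (hi : i < 128) (hj : j < 24)
    (hm : m.testBit j = true) : (powT (tbl i) k).getD j 0 = j := by
  simp only [chkFixIn, List.all_eq_true, List.mem_range, Bool.or_eq_true, beq_iff_eq,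
    Bool.not_eq_true'] at h
  rcases h i hi j hj with h1 | h1
  · rw [hm] at h1; exact absurd h1 (by decide)
  · exact h1

theorem chkFixOut_spec {m k : ℕ} (h : chkFixOut m k = true) {j : ℕ} (hj : j < 24)
    (hm : m.testBit j = false) : ∃ i < 128, (powT (tbl i) k).getD j 0 ≠ j := by
  simp only [chkFixOut, List.all_eq_true, List.mem_range, Bool.or_eq_true, List.any_eq_true,
    bne_iff_ne] at h
  rcases h j hj with h1 | h1
  · rw [hm] at h1; exact absurd h1 (by decide)
  · exact h1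

theorem pow_apply_of_mem {m k : ℕ} (h : chkFixIn m k = true) {s : Equiv.Perm GolayPt}
    (hs : s ∈ S0) {p : GolayPt} (hp : p ∈ setOf m) : (s ^ k) p = p := by
  obtain ⟨i, hi, hm⟩ := exists_tbl_of_mem hs
  have h3 := matches_powT hm k p
  rw [mem_setOf] at hp
  rw [chkFixIn_spec h hi (idx_lt p) hp] at h3
  rw [← pt_idx ((s ^ k) p), h3, pt_idx]

theorem exists_pow_apply_ne {m k : ℕ} (h : chkFixOut m k = true) {p : GolayPt}
    (hp : p ∉ setOf m) : ∃ s ∈ S0, (s ^ k) p ≠ p := by
  rw [mem_setOf, Bool.not_eq_true] at hp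
  obtain ⟨i, hi, hne⟩ := chkFixOut_spec h (idx_lt p) hp
  obtain ⟨s, hs, hm⟩ := exists_mem_of_tbl i hi
  refine ⟨s, hs, fun heq => hne ?_⟩
  have h3 := matches_powT hm k p
  rw [heq] at h3
  exact h3.symm

theorem apply_mem_of_normalizes {m k : ℕ} (hin : chkFixIn m k = true)
    (hout : chkFixOut m k = true) {g : Equiv.Perm GolayPt}
    (hg : ∀ s ∈ S0, g⁻¹ * s * g ∈ S0) {p : GolayPt} (hp : p ∈ setOf m) : g p ∈ setOf m := by
  by_contra hgp
  obtain ⟨s, hs, hne⟩ := exists_pow_apply_ne hout hgp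
  apply hne
  have h1 := pow_apply_of_mem hin (hg s hs) hp
  have h2 : (g⁻¹ * s * g) ^ k = g⁻¹ * s ^ k * g := by
    have := conj_pow (a := g⁻¹) (b := s) (i := k)
    simpa using this
  rw [h2] at h1
  simp only [Equiv.Perm.mul_apply] at h1
  rw [Equiv.Perm.inv_eq_iff_eq] at h1
  exact h1

theorem smul_setOf_of_normalizes {m k : ℕ} (hin : chkFixIn m k = true)
    (hout : chkFixOut m k = true) {g : Equiv.Perm GolayPt}
    (hg : ∀ s ∈ S0, g⁻¹ * s * g ∈ S0) (hg' : ∀ s ∈ S0, g * s * g⁻¹ ∈ S0) :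
    g • setOf m = setOf m := by
  apply perm_smul_eq_of_mem_iff
  intro q
  constructor
  · intro h
    have := apply_mem_of_normalizes hin hout (g := g⁻¹) (by simpa using hg') h
    simpa using this
  · exact apply_mem_of_normalizes hin hout hg

/-- A permutation mapping a finset into itself stabilizes it. -/
theorem perm_smul_eq_of_maps {σ : Equiv.Perm GolayPt} {s : Finset GolayPt}
    (h : ∀ q ∈ s, σ q ∈ s) : σ • s = s := by
  apply Finset.eq_of_subset_of_card_le
  · intro p hp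
    rw [Finset.mem_smul_finset] at hp
    obtain ⟨q, hq, rfl⟩ := hp
    exact h q hq
  · rw [Finset.card_smul_finset]

/-! ### The stabilizer of the flag of orbits -/

/-- The elements of `M24` fixing `∞` and `0` and preserving the sets of points in orbits of size
at most two, at most four. -/
def W0 : Subgroup (Equiv.Perm GolayPt) :=
  M24 ⊓ MulAction.stabilizer (Equiv.Perm GolayPt) (pt 23) ⊓
    MulAction.stabilizer (Equiv.Perm GolayPt) (pt 0) ⊓
    MulAction.stabilizer (Equiv.Perm GolayPt) (setOf mF2) ⊓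
    MulAction.stabilizer (Equiv.Perm GolayPt) (setOf mF4)

theorem mem_W0 {g : Equiv.Perm GolayPt} : g ∈ W0 ↔ g ∈ M24 ∧ g (pt 23) = pt 23 ∧
    g (pt 0) = pt 0 ∧ g • setOf mF2 = setOf mF2 ∧ g • setOf mF4 = setOf mF4 := by
  unfold W0
  simp only [Subgroup.mem_inf, MulAction.mem_stabilizer_iff, and_assoc]
  rfl

theorem W0_le_M24 : W0 ≤ M24 := fun _ hg => (mem_W0.mp hg).1

theorem mF1_cases : ∀ p : GolayPt, mF1.testBit (idx p) = true → p = pt 23 ∨ p = pt 0 := by
  decide

theorem mF2_cases : ∀ p : GolayPt, mF2.testBit (idx p) = true →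
    p = pt 23 ∨ p = pt 0 ∨ p = pt 7 ∨ p = pt 19 := by
  decide

theorem mF4_cases : ∀ p : GolayPt, mF4.testBit (idx p) = true →
    mF2.testBit (idx p) = true ∨ p = pt 1 ∨ p = pt 2 ∨ p = pt 6 ∨ p = pt 21 := by
  decide

theorem apply_pair_of_mem_W0 {g : Equiv.Perm GolayPt} (hg : g ∈ W0) {q : GolayPt}
    (hq : q = pt 7 ∨ q = pt 19) : g q = pt 7 ∨ g q = pt 19 := by
  obtain ⟨_, h23, h0, h2, _⟩ := mem_W0.mp hg
  have hq2 : q ∈ setOf mF2 := by
    rw [mem_setOf]; rcases hq with rfl | rfl <;> decide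
  have hgq : g q ∈ setOf mF2 := (mem_iff_of_perm_smul_eq h2 q).mpr hq2
  rw [mem_setOf] at hgq
  rcases mF2_cases _ hgq with h | h | h | h
  · exfalso
    have := g.injective (h.trans h23.symm)
    rcases hq with rfl | rfl <;> revert this <;> decide
  · exfalso
    have := g.injective (h.trans h0.symm)
    rcases hq with rfl | rfl <;> revert this <;> decide
  · exact Or.inl h
  · exact Or.inr h

theorem card_W0_le : Nat.card W0 ≤ 384 := by
  classical
  rw [card_eq_orb_mul W0 (pt 7)]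
  set W7 := W0 ⊓ MulAction.stabilizer (Equiv.Perm GolayPt) (pt 7) with hW7
  rw [card_eq_orb_mul W7 (pt 1)]
  set W71 := W7 ⊓ MulAction.stabilizer (Equiv.Perm GolayPt) (pt 1) with hW71
  have h1 : (orb W0 (pt 7)).card ≤ 2 := by
    refine le_trans (Finset.card_le_card (orb_subset (B := {pt 7, pt 19}) (by simp) ?_))
      Finset.card_le_two
    intro g hg q hq
    simp only [Finset.mem_insert, Finset.mem_singleton] at hq ⊢
    exact apply_pair_of_mem_W0 hg hq
  have hW7fix : ∀ g ∈ W7, g (pt 7) = pt 7 ∧ g (pt 19) = pt 19 := by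
    intro g hg
    have h7 : g (pt 7) = pt 7 := MulAction.mem_stabilizer_iff.mp hg.2
    refine ⟨h7, ?_⟩
    rcases apply_pair_of_mem_W0 hg.1 (q := pt 19) (Or.inr rfl) with h | h
    · exfalso
      have := g.injective (h.trans h7.symm)
      revert this; decide
    · exact h
  have h2 : (orb W7 (pt 1)).card ≤ 4 := by
    refine le_trans (Finset.card_le_card
      (orb_subset (B := {pt 1, pt 2, pt 6, pt 21}) (by simp) ?_)) Finset.card_le_four
    intro g hg q hq
    obtain ⟨_, h23, h0, _, h4⟩ := mem_W0.mp hg.1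
    obtain ⟨h7, h19⟩ := hW7fix g hg
    simp only [Finset.mem_insert, Finset.mem_singleton] at hq ⊢
    have hq4 : q ∈ setOf mF4 := by
      rw [mem_setOf]; rcases hq with rfl | rfl | rfl | rfl <;> decide
    have hgq : g q ∈ setOf mF4 := (mem_iff_of_perm_smul_eq h4 q).mpr hq4
    rw [mem_setOf] at hgq
    rcases mF4_cases _ hgq with h | h
    · exfalso
      rcases mF2_cases _ h with h' | h' | h' | h'
      · have := g.injective (h'.trans h23.symm)
        rcases hq with rfl | rfl | rfl | rfl <;> revert this <;> decide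
      · have := g.injective (h'.trans h0.symm)
        rcases hq with rfl | rfl | rfl | rfl <;> revert this <;> decide
      · have := g.injective (h'.trans h7.symm)
        rcases hq with rfl | rfl | rfl | rfl <;> revert this <;> decide
      · have := g.injective (h'.trans h19.symm)
        rcases hq with rfl | rfl | rfl | rfl <;> revert this <;> decide
    · exact h
  have h3 : Nat.card W71 ∣ 48 := by
    apply card_dvd_of_five_le (S := {pt 23, pt 0, pt 7, pt 19, pt 1})
    · exact fun g hg => W0_le_M24 hg.1.1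
    · decide
    · intro g hg q hq
      obtain ⟨_, h23, h0, _, _⟩ := mem_W0.mp hg.1.1
      obtain ⟨h7, h19⟩ := hW7fix g hg.1
      have h1' : g (pt 1) = pt 1 := MulAction.mem_stabilizer_iff.mp hg.2
      simp only [Finset.mem_insert, Finset.mem_singleton] at hq
      rcases hq with rfl | rfl | rfl | rfl | rfl <;> assumption
  have h3' : Nat.card W71 ≤ 48 := Nat.le_of_dvd (by norm_num) h3
  calc (orb W0 (pt 7)).card * ((orb W7 (pt 1)).card * Nat.card W71)
      ≤ 2 * (4 * 48) := Nat.mul_le_mul h1 (Nat.mul_le_mul h2 h3')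
    _ = 384 := by norm_num


/-! ### The element of order three -/

theorem m24Word_append (a b : List ℕ) : m24Word (a ++ b) = m24Word a * m24Word b := by
  simp [m24Word]

/-- The element of order three in the flag stabilizer. -/
noncomputable def w0 : Equiv.Perm GolayPt := m24Word w0W

theorem chkW0_spec : m24Eval w0W 23 = 23 ∧ m24Eval w0W 0 = 0 ∧
    (∀ j < 24, mF2.testBit j = true → mF2.testBit (m24Eval w0W j) = true) ∧
    (∀ j < 24, mF4.testBit j = true → mF4.testBit (m24Eval w0W j) = true) ∧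
    ∀ j < 24, m24Eval (w0W ++ w0I) j = j := by
  have h := chkW0_ok
  simp only [chkW0, List.all_eq_true, List.mem_range, Bool.and_eq_true, beq_iff_eq,
    Bool.or_eq_true, Bool.not_eq_true'] at h
  obtain ⟨⟨⟨h1, h2⟩, h3⟩, h4⟩ := h
  refine ⟨h1, h2, ?_, ?_, h4⟩
  · intro j hj hm
    rcases (h3 j hj).1 with h | h
    · rw [hm] at h; exact absurd h (by decide)
    · exact h
  · intro j hj hm
    rcases (h3 j hj).2 with h | h
    · rw [hm] at h; exact absurd h (by decide)
    · exact h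

theorem w0_mul_inv : w0 * m24Word w0I = 1 := by
  unfold w0
  rw [← m24Word_append]
  ext p
  rw [m24Word_apply, chkW0_spec.2.2.2.2 _ (idx_lt p), pt_idx]
  rfl

theorem w0_inv : w0⁻¹ = m24Word w0I := inv_eq_of_mul_eq_one_right w0_mul_inv

theorem w0_mem_W0 : w0 ∈ W0 := by
  obtain ⟨h1, h2, h3, h4, _⟩ := chkW0_spec
  rw [mem_W0]
  refine ⟨m24Word_mem _, ?_, ?_, ?_, ?_⟩
  · unfold w0; rw [m24Word_apply_pt _ (by norm_num), h1]
  · unfold w0; rw [m24Word_apply_pt _ (by norm_num), h2]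
  · apply perm_smul_eq_of_maps
    intro q hq
    rw [mem_setOf] at hq ⊢
    unfold w0
    rw [m24Word_apply, idx_pt (m24Eval_lt _ (idx_lt q))]
    exact h3 _ (idx_lt q) hq
  · apply perm_smul_eq_of_maps
    intro q hq
    rw [mem_setOf] at hq ⊢
    unfold w0
    rw [m24Word_apply, idx_pt (m24Eval_lt _ (idx_lt q))]
    exact h4 _ (idx_lt q) hq

theorem w0_conj_not_mem : w0 * gP 1 * w0⁻¹ ∉ S0 := by
  intro hmem
  obtain ⟨i, hi, hm⟩ := exists_tbl_of_mem hmem
  have h := chkW0N_ok
  simp only [chkW0N, List.all_eq_true, List.mem_range, List.any_eq_true, bne_iff_ne] at h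
  obtain ⟨j, hj, hne⟩ := h i hi
  apply hne
  have h1 : w0 * gP 1 * w0⁻¹ = m24Word (w0W ++ (gW.getD 1 [] ++ w0I)) := by
    rw [m24Word_append, m24Word_append, w0_inv, mul_assoc]
    rfl
  rw [h1] at hm
  rw [← getD_evT _ hj]
  exact getD_eq_of_matches (matches_evT _) hm hj

/-! ### The normalizer -/

/-- A subgroup of `M23` containing `S0` as a normal subgroup is `S0`. -/
theorem eq_S0_of_normalizes {N : Subgroup (Equiv.Perm GolayPt)} (hN : N ≤ Spor.M23)
    (hS : S0 ≤ N) (hnorm : ∀ g ∈ N, ∀ s ∈ S0, g * s * g⁻¹ ∈ S0) : N = S0 := by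
  have hnorm' : ∀ g ∈ N, ∀ s ∈ S0, g⁻¹ * s * g ∈ S0 := by
    intro g hg s hs
    simpa using hnorm g⁻¹ (N.inv_mem hg) s hs
  have hNW : N ≤ W0 := by
    intro g hg
    obtain ⟨hg24, hg23⟩ := mem_M23.mp (hN hg)
    have h1 := smul_setOf_of_normalizes chkFixIn_ok.1 chkFixOut_ok.1 (hnorm' g hg) (hnorm g hg)
    have h2 := smul_setOf_of_normalizes chkFixIn_ok.2.1 chkFixOut_ok.2.1 (hnorm' g hg)
      (hnorm g hg)
    have h4 := smul_setOf_of_normalizes chkFixIn_ok.2.2 chkFixOut_ok.2.2 (hnorm' g hg)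
      (hnorm g hg)
    refine mem_W0.mpr ⟨hg24, hg23, ?_, h2, h4⟩
    have h0 : g (pt 0) ∈ setOf mF1 :=
      (mem_iff_of_perm_smul_eq h1 (pt 0)).mpr (by rw [mem_setOf]; decide)
    rw [mem_setOf] at h0
    rcases mF1_cases _ h0 with h | h
    · exfalso
      have := g.injective (h.trans hg23.symm)
      revert this; decide
    · exact h
  have hne : N ≠ W0 := by
    intro h
    have hw : w0 ∈ N := h ▸ w0_mem_W0
    exact w0_conj_not_mem (hnorm w0 hw (gP 1) (gP_mem_S0 (by norm_num)))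
  have hd1 : Nat.card S0 ∣ Nat.card N := Subgroup.card_dvd_of_le hS
  have hd2 : Nat.card N ∣ Nat.card W0 := Subgroup.card_dvd_of_le hNW
  have hW := card_W0_le
  have hpos : 0 < Nat.card W0 := Nat.card_pos
  have hcne : Nat.card N ≠ Nat.card W0 := by
    intro h
    exact hne (Subgroup.eq_of_le_of_card_ge hNW (le_of_eq h.symm))
  rw [card_S0] at hd1
  obtain ⟨n, hn⟩ := hd1
  obtain ⟨m, hm⟩ := hd2
  have hcard : Nat.card N = 128 := by
    rw [hm] at hW hpos hcne
    rw [hn] at hW hpos hcne ⊢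
    have hm2 : 2 ≤ m := by
      rcases m with _ | _ | m
      · simp at hpos
      · simp at hcne
      · omega
    have hn1 : 1 ≤ n := by
      rcases n with _ | n
      · simp at hpos
      · omega
    have : n * m ≤ 3 := by nlinarith
    have : n = 1 := by nlinarith
    rw [this]
  exact (Subgroup.eq_of_le_of_card_ge hS (by rw [card_S0, hcard])).symm


/-! ### Involutions -/

theorem mF4_mem_octads : setOf mF4 ∈ octads := mem_octads_of_isOctMask (by decide)

theorem pt3_not_mem : pt 3 ∉ setOf mF4 := by rw [mem_setOf]; decide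

/-- The pointwise stabilizer of the octad acts regularly outside it. -/
theorem eq_of_mem_fixM24 {a b : Equiv.Perm GolayPt} (ha : a ∈ fixM24 (setOf mF4))
    (hb : b ∈ fixM24 (setOf mF4)) (h : a (pt 3) = b (pt 3)) : a = b := by
  have h1 : a⁻¹ * b = 1 := by
    apply eq_one_of_mem_fixM24 mF4_mem_octads pt3_not_mem
      ((fixM24 _).mul_mem ((fixM24 _).inv_mem ha) hb)
    rw [Equiv.Perm.mul_apply, ← h]
    simp
  calc a = a * (a⁻¹ * b) := by rw [h1, mul_one]
    _ = b := by group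

theorem chkNj_spec {j : ℕ} (hj : j < 24) (h4 : mF4.testBit j = false) (h3 : j ≠ 3) :
    m24Eval (njW.getD j []) 23 = 23 ∧ m24Eval (njW.getD j []) 0 = 0 ∧
      m24Eval (njW.getD j []) 3 = 3 ∧ m24Eval (njW.getD j []) j = 4 ∧
      ∀ p < 24, mF4.testBit p = true → mF4.testBit (m24Eval (njW.getD j []) p) = true := by
  have h := chkNj_ok
  simp only [chkNj, List.all_eq_true, List.mem_range, Bool.and_eq_true, beq_iff_eq,
    Bool.or_eq_true, Bool.not_eq_true'] at h
  rcases h j hj with (h1 | h1) | h1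
  · rw [h4] at h1; exact absurd h1 (by decide)
  · exact absurd h1 h3
  · obtain ⟨⟨⟨⟨a, b⟩, c⟩, d⟩, e⟩ := h1
    refine ⟨a, b, c, d, ?_⟩
    intro p hp hm
    rcases e p hp with h' | h'
    · rw [hm] at h'; exact absurd h' (by decide)
    · exact h'

/-- An involution of `M24` fixing `∞` and a further point `x1` is conjugate, under an element
fixing `∞` and mapping `x1` to `0`, to the involution fixing the octad pointwise and mapping
`3` to `4`. -/
theorem exists_conj_normal {t : Equiv.Perm GolayPt} (ht : t ∈ M24) (h2 : orderOf t = 2)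
    (h23 : t (pt 23) = pt 23) {x1 : GolayPt} (hx1 : x1 ≠ pt 23) (hx1f : t x1 = x1) :
    ∃ g ∈ M24, g (pt 23) = pt 23 ∧ g x1 = pt 0 ∧ g * t * g⁻¹ ∈ fixM24 (setOf mF4) ∧
      (g * t * g⁻¹) (pt 3) = pt 4 := by
  classical
  have hO : fixPts t ∈ octads := fixPts_mem_octads ht h2 h23
  have hO8 : (fixPts t).card = 8 := hO.2
  have ha : pt 23 ∈ fixPts t := mem_fixPts.mpr h23
  have hb : x1 ∈ fixPts t := mem_fixPts.mpr hx1f
  -- three further fixed points
  have hc6 : 3 ≤ (((fixPts t).erase (pt 23)).erase x1).card := by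
    rw [Finset.card_erase_of_mem (Finset.mem_erase.mpr ⟨hx1, hb⟩), Finset.card_erase_of_mem ha,
      hO8]
    norm_num
  obtain ⟨T, hTs, hT3⟩ := Finset.exists_subset_card_eq hc6
  obtain ⟨c, d, e, hcd, hce, hde, rfl⟩ := Finset.card_eq_three.mp hT3
  have hmemT : ∀ q, q = c ∨ q = d ∨ q = e → q ∈ fixPts t ∧ q ≠ pt 23 ∧ q ≠ x1 := by
    intro q hq
    have : q ∈ ({c, d, e} : Finset GolayPt) := by
      simp only [Finset.mem_insert, Finset.mem_singleton]; exact hq
    have h' := hTs this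
    rw [Finset.mem_erase, Finset.mem_erase] at h'
    exact ⟨h'.2.2, h'.2.1, h'.1⟩
  obtain ⟨hcO, hc23, hc1⟩ := hmemT c (Or.inl rfl)
  obtain ⟨hdO, hd23, hd1⟩ := hmemT d (Or.inr (Or.inl rfl))
  obtain ⟨heO, he23, he1⟩ := hmemT e (Or.inr (Or.inr rfl))
  let X : Fin 5 ↪ GolayPt := ⟨![pt 23, x1, c, d, e], by
    intro i j h
    fin_cases i <;> fin_cases j <;> simp at h <;> first | rfl | (exfalso; tauto)⟩
  let Y : Fin 5 ↪ GolayPt := ⟨![pt 23, pt 0, pt 1, pt 2, pt 6], by decide⟩
  obtain ⟨g, hg, hgXY⟩ := exists_M24_map_emb (le_refl 5) X Y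
  have hX : ∀ i, X i ∈ fixPts t := by
    intro i; fin_cases i <;> assumption
  have hY : ∀ i, Y i ∈ setOf mF4 := by
    intro i; rw [mem_setOf]; revert i; decide
  have hgO : g • fixPts t = setOf mF4 := by
    refine smul_octad_eq_of_maps hg hO mF4_mem_octads (s := Finset.univ.map X) ?_ ?_ ?_
    · intro p hp
      rw [Finset.mem_map] at hp
      obtain ⟨i, _, rfl⟩ := hp
      exact hX i
    · rw [Finset.card_map]; simp
    · intro p hp
      rw [Finset.mem_map] at hp
      obtain ⟨i, _, rfl⟩ := hp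
      rw [hgXY i]
      exact hY i
  have hg23 : g (pt 23) = pt 23 := hgXY 0
  have hgx1 : g x1 = pt 0 := hgXY 1
  -- the first conjugate
  set t1 := g * t * g⁻¹ with ht1
  have ht1M : t1 ∈ M24 := M24.mul_mem (M24.mul_mem hg ht) (M24.inv_mem hg)
  have ht1fix : ∀ p ∈ setOf mF4, t1 p = p := by
    intro p hp
    rw [← hgO, mem_perm_smul_finset, mem_fixPts] at hp
    rw [ht1]
    simp only [Equiv.Perm.mul_apply]
    have : g⁻¹ p = g.symm p := rfl
    rw [this, hp]
    simp
  have ht1F : t1 ∈ fixM24 (setOf mF4) := mem_fixM24.mpr ⟨ht1M, ht1fix⟩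
  have ht1o : orderOf t1 = 2 := by
    rw [ht1, ← h2, ← MulAut.conj_apply]
    exact MulEquiv.orderOf_eq _ _
  have hc1ne : t1 (pt 3) ≠ pt 3 := by
    intro h
    have := eq_one_of_mem_fixM24 mF4_mem_octads pt3_not_mem ht1F h
    rw [this, orderOf_one] at ht1o
    exact absurd ht1o (by norm_num)
  have hc1out : t1 (pt 3) ∉ setOf mF4 := by
    intro h
    exact hc1ne (t1.injective (ht1fix _ h))
  set j := idx (t1 (pt 3)) with hj
  have hj24 : j < 24 := idx_lt _
  have hptj : pt j = t1 (pt 3) := pt_idx _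
  have hj4 : mF4.testBit j = false := by
    rw [mem_setOf, Bool.not_eq_true] at hc1out
    exact hc1out
  have hj3 : j ≠ 3 := by
    intro h
    apply hc1ne
    rw [← hptj, h]
  obtain ⟨n1, n2, n3, n4, n5⟩ := chkNj_spec hj24 hj4 hj3
  set n := m24Word (njW.getD j []) with hn
  have hnM : n ∈ M24 := m24Word_mem _
  have hn23 : n (pt 23) = pt 23 := by rw [hn, m24Word_apply_pt _ (by norm_num), n1]
  have hn0 : n (pt 0) = pt 0 := by rw [hn, m24Word_apply_pt _ (by norm_num), n2]
  have hn3 : n (pt 3) = pt 3 := by rw [hn, m24Word_apply_pt _ (by norm_num), n3]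
  have hnj : n (t1 (pt 3)) = pt 4 := by rw [← hptj, hn, m24Word_apply_pt _ hj24, n4]
  have hnO : n • setOf mF4 = setOf mF4 := by
    apply perm_smul_eq_of_maps
    intro q hq
    rw [mem_setOf] at hq ⊢
    rw [hn, m24Word_apply, idx_pt (m24Eval_lt _ (idx_lt q))]
    exact n5 _ (idx_lt q) hq
  refine ⟨n * g, M24.mul_mem hnM hg, ?_, ?_, ?_, ?_⟩
  · rw [Equiv.Perm.mul_apply, hg23, hn23]
  · rw [Equiv.Perm.mul_apply, hgx1, hn0]
  · have he : n * g * t * (n * g)⁻¹ = n * t1 * n⁻¹ := by rw [ht1]; group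
    rw [he]
    have := (conj_mem_fixM24 hnM (setOf mF4) (g := n * t1 * n⁻¹)).mpr (by
      have : n⁻¹ * (n * t1 * n⁻¹) * n = t1 := by group
      rw [this]; exact ht1F)
    rw [hnO] at this
    exact this
  · have he : n * g * t * (n * g)⁻¹ = n * t1 * n⁻¹ := by rw [ht1]; group
    rw [he]
    simp only [Equiv.Perm.mul_apply]
    have : n⁻¹ (pt 3) = pt 3 := by
      rw [Equiv.Perm.inv_eq_iff_eq, hn3]
    rw [this, hnj]

/-- Two involutions in normal form are conjugate. -/
theorem conj_of_normal {t t' g g' : Equiv.Perm GolayPt}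
    (h1 : g * t * g⁻¹ ∈ fixM24 (setOf mF4)) (h2 : (g * t * g⁻¹) (pt 3) = pt 4)
    (h1' : g' * t' * g'⁻¹ ∈ fixM24 (setOf mF4)) (h2' : (g' * t' * g'⁻¹) (pt 3) = pt 4) :
    (g'⁻¹ * g) * t * (g'⁻¹ * g)⁻¹ = t' := by
  have h := eq_of_mem_fixM24 h1 h1' (h2.trans h2'.symm)
  calc (g'⁻¹ * g) * t * (g'⁻¹ * g)⁻¹ = g'⁻¹ * (g * t * g⁻¹) * g' := by group
    _ = g'⁻¹ * (g' * t' * g'⁻¹) * g' := by rw [h]
    _ = t' := by group

/-- All involutions of `M23` are conjugate. -/
theorem isConj_M23 (x y : ↥Spor.M23) (hx : orderOf x = 2) (hy : orderOf y = 2) : IsConj x y := by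
  have key : ∀ z : ↥Spor.M23, orderOf z = 2 → ∃ g ∈ Spor.M23,
      g * (z : Equiv.Perm GolayPt) * g⁻¹ ∈ fixM24 (setOf mF4) ∧
      (g * (z : Equiv.Perm GolayPt) * g⁻¹) (pt 3) = pt 4 := by
    intro z hz
    obtain ⟨hz24, hz23⟩ := mem_M23.mp z.2
    have hz2 : orderOf (z : Equiv.Perm GolayPt) = 2 := by rw [Subgroup.orderOf_coe, hz]
    have hO : fixPts (z : Equiv.Perm GolayPt) ∈ octads := fixPts_mem_octads hz24 hz2 hz23
    obtain ⟨x1, hx1, hx1ne⟩ := Finset.exists_mem_ne (by rw [hO.2]; norm_num) (pt 23)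
    obtain ⟨g, hg, hg23, _, h1, h2⟩ :=
      exists_conj_normal hz24 hz2 hz23 hx1ne (mem_fixPts.mp hx1)
    exact ⟨g, mem_M23.mpr ⟨hg, hg23⟩, h1, h2⟩
  obtain ⟨g, hg, h1, h2⟩ := key x hx
  obtain ⟨g', hg', h1', h2'⟩ := key y hy
  rw [isConj_iff]
  refine ⟨⟨g'⁻¹ * g, Spor.M23.mul_mem (Spor.M23.inv_mem hg') hg⟩, ?_⟩
  apply Subtype.ext
  exact conj_of_normal h1 h2 h1' h2'

/-- All involutions of `M22` are conjugate. -/
theorem isConj_M22 (x y : ↥Spor.M22) (hx : orderOf x = 2) (hy : orderOf y = 2) : IsConj x y := by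
  have key : ∀ z : ↥Spor.M22, orderOf z = 2 → ∃ g ∈ Spor.M22,
      g * (z : Equiv.Perm GolayPt) * g⁻¹ ∈ fixM24 (setOf mF4) ∧
      (g * (z : Equiv.Perm GolayPt) * g⁻¹) (pt 3) = pt 4 := by
    intro z hz
    obtain ⟨hz24, hz23, hz0⟩ := mem_M22.mp z.2
    have hz2 : orderOf (z : Equiv.Perm GolayPt) = 2 := by rw [Subgroup.orderOf_coe, hz]
    obtain ⟨g, hg, hg23, hg0, h1, h2⟩ :=
      exists_conj_normal hz24 hz2 hz23 (x1 := pt 0) (by decide) hz0
    exact ⟨g, mem_M22.mpr ⟨hg, hg23, hg0⟩, h1, h2⟩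
  obtain ⟨g, hg, h1, h2⟩ := key x hx
  obtain ⟨g', hg', h1', h2'⟩ := key y hy
  rw [isConj_iff]
  refine ⟨⟨g'⁻¹ * g, Spor.M22.mul_mem (Spor.M22.inv_mem hg') hg⟩, ?_⟩
  apply Subtype.ext
  exact conj_of_normal h1 h2 h1' h2'


/-! ### The fusion system -/

theorem factorization_M23 : (10200960 : ℕ).factorization 2 = 7 := by
  have h : (10200960 : ℕ) = 2 ^ 7 * 79695 := by norm_num
  rw [h, Nat.factorization_mul (by norm_num) (by norm_num),
    Nat.Prime.factorization_pow Nat.prime_two]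
  simp [Nat.factorization_eq_zero_of_not_dvd (show ¬ 2 ∣ 79695 by norm_num)]

theorem factorization_M22 : (443520 : ℕ).factorization 2 = 7 := by
  have h : (443520 : ℕ) = 2 ^ 7 * 3465 := by norm_num
  rw [h, Nat.factorization_mul (by norm_num) (by norm_num),
    Nat.Prime.factorization_pow Nat.prime_two]
  simp [Nat.factorization_eq_zero_of_not_dvd (show ¬ 2 ∣ 3465 by norm_num)]

/-- Self-normalization and generation by involutions pass to all Sylow 2-subgroups. -/
theorem criterion_transport {G : Type*} [Group G] [Finite G] [Fact (Nat.Prime 2)]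
    (P S : Sylow 2 G)
    (hN : Subgroup.normalizer ((P : Subgroup G) : Set G) = (P : Subgroup G))
    (hgen : (P : Subgroup G) ≤ Subgroup.closure {x : G | x ∈ (P : Subgroup G) ∧ orderOf x = 2}) :
    Subgroup.normalizer ((S : Subgroup G) : Set G) = (S : Subgroup G) ∧
      (S : Subgroup G) ≤ Subgroup.closure {x : G | x ∈ (S : Subgroup G) ∧ orderOf x = 2} := by
  obtain ⟨g, rfl⟩ := MulAction.exists_smul_eq G P S
  rw [Sylow.coe_subgroup_smul]
  have hmap : MulAut.conj g • (P : Subgroup G) =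
      (P : Subgroup G).map (MulAut.conj g).toMonoidHom := rfl
  rw [hmap]
  constructor
  · rw [← Subgroup.map_equiv_normalizer_eq, hN]
  · calc (P : Subgroup G).map (MulAut.conj g).toMonoidHom
        ≤ (Subgroup.closure {x : G | x ∈ (P : Subgroup G) ∧ orderOf x = 2}).map
          (MulAut.conj g).toMonoidHom := Subgroup.map_mono hgen
      _ = Subgroup.closure ((MulAut.conj g).toMonoidHom ''
          {x : G | x ∈ (P : Subgroup G) ∧ orderOf x = 2}) := MonoidHom.map_closure _ _
      _ ≤ _ := Subgroup.closure_mono (by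
          rintro _ ⟨y, ⟨hy, hy2⟩, rfl⟩
          exact ⟨Subgroup.mem_map_of_mem _ hy, by
            rw [← hy2]; exact MulEquiv.orderOf_eq (MulAut.conj g) y⟩)

/-- The fusion system of a group between `S0` and `M23` with Sylow 2-subgroups of order 128 and
one class of involutions is simple. -/
theorem isSimple_of_le {H : Subgroup (Equiv.Perm GolayPt)} (hS0H : S0 ≤ H) (hH : H ≤ Spor.M23)
    (hcard : (Nat.card H).factorization 2 = 7)
    (hconj : ∀ x y : H, orderOf x = 2 → orderOf y = 2 → IsConj x y) (S : Sylow 2 H) :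
    (groupFusionSystem (S : Subgroup H)).IsSimple 2 := by
  have : Fact (Nat.Prime 2) := ⟨Nat.prime_two⟩
  set P0 : Subgroup H := S0.subgroupOf H with hP0
  have hcP0 : Nat.card P0 = 128 := by
    rw [Nat.card_congr (Subgroup.subgroupOfEquivOfLe hS0H).toEquiv, card_S0]
  have hc : Nat.card P0 = 2 ^ (Nat.card H).factorization 2 := by
    rw [hcard, hcP0]; norm_num
  let Syl0 : Sylow 2 H := Sylow.ofCard P0 hc
  have hSyl0 : (Syl0 : Subgroup H) = P0 := Sylow.coe_ofCard P0 hc
  have hN0 : Subgroup.normalizer ((Syl0 : Subgroup H) : Set H) = (Syl0 : Subgroup H) := by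
    rw [hSyl0]
    apply le_antisymm _ Subgroup.le_normalizer
    intro x hx
    have hNS : (Subgroup.normalizer (P0 : Set H)).map H.subtype = S0 := by
      apply eq_S0_of_normalizes
      · rintro _ ⟨y, _, rfl⟩
        exact hH y.2
      · intro s hs
        exact ⟨⟨s, hS0H hs⟩, Subgroup.le_normalizer (Subgroup.mem_subgroupOf.mpr hs), rfl⟩
      · rintro _ ⟨y, hy, rfl⟩ s hs
        have h1 : (⟨s, hS0H hs⟩ : H) ∈ P0 := Subgroup.mem_subgroupOf.mpr hs
        have h2 := (Subgroup.mem_normalizer_iff.mp hy ⟨s, hS0H hs⟩).mp h1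
        exact Subgroup.mem_subgroupOf.mp h2
    have hx' : (x : Equiv.Perm GolayPt) ∈ (Subgroup.normalizer (P0 : Set H)).map H.subtype :=
      ⟨x, hx, rfl⟩
    rw [hNS] at hx'
    exact Subgroup.mem_subgroupOf.mpr hx'
  have hgen0 : (Syl0 : Subgroup H) ≤
      Subgroup.closure {x : H | x ∈ (Syl0 : Subgroup H) ∧ orderOf x = 2} := by
    rw [hSyl0]
    have hle : S0 ≤ (Subgroup.closure {x : H | x ∈ P0 ∧ orderOf x = 2}).map H.subtype := by
      unfold S0
      rw [Subgroup.closure_le]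
      rintro _ ⟨j, hj, rfl⟩
      refine ⟨⟨gP j, hS0H (gP_mem_S0 hj)⟩,
        Subgroup.subset_closure ⟨Subgroup.mem_subgroupOf.mpr (gP_mem_S0 hj), ?_⟩, rfl⟩
      rw [← Subgroup.orderOf_coe]
      exact orderOf_gP hj
    intro x hx
    obtain ⟨y, hy, hyx⟩ := hle (Subgroup.mem_subgroupOf.mp hx)
    have : y = x := Subtype.ext hyx
    rw [← this]
    exact hy
  obtain ⟨hN, hgen⟩ := criterion_transport Syl0 S hN0 hgen0
  apply Cfsg.Agent.Lib.Helper98.FusionSelfNorm.isSimple_of_selfNormalizing 2 S _ hN hconj hgen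
  intro hbot
  have h1 := S.card_eq_multiplicity
  rw [hbot, hcard] at h1
  simp at h1

theorem card_M23 : Nat.card ↥Spor.M23 = 10200960 := card_Gst_1

theorem card_M22 : Nat.card ↥Spor.M22 = 443520 := card_Gst_2

theorem isSimple_M23 (S : Sylow 2 ↥Spor.M23) :
    (groupFusionSystem (S : Subgroup ↥Spor.M23)).IsSimple 2 :=
  isSimple_of_le (S0_le_M22.trans M22_le_M23) le_rfl (by rw [card_M23, factorization_M23])
    isConj_M23 S

theorem isSimple_M22 (S : Sylow 2 ↥Spor.M22) :
    (groupFusionSystem (S : Subgroup ↥Spor.M22)).IsSimple 2 :=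
  isSimple_of_le S0_le_M22 M22_le_M23 (by rw [card_M22, factorization_M22]) isConj_M22 S

end Cfsg.Agent.Lib.Helper92.SylM22
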