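import Mathlib

/-!
# SUZ2-[NT-ORD] (helper92, for helper85's SUZ2 project)

If `m * e = 2 ^ n - 1` with `e ∣ n`, `n ≥ 2`, then the multiplicative order of `2` modulo `m` is
`n`: `m ∣ 2 ^ k - 1` forces `n ∣ k`.
-/

set_option autoImplicit false

namespace Cfsg.Agent.Lib.Helper92.Suz2

/-- `2 * a ≤ 2 ^ a` for `a ≥ 1` (indeed for all `a`). -/
theorem two_mul_le_two_pow (a : ℕ) (ha : 1 ≤ a) : 2 * a ≤ 2 ^ a := by
  induction a, ha using Nat.le_induction with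
  | base => norm_num
  | succ a ha ih =>
    have h1 : 2 ≤ 2 ^ a := by
      calc 2 = 2 ^ 1 := by norm_num
        _ ≤ 2 ^ a := Nat.pow_le_pow_right (by norm_num) ha
    rw [pow_succ]
    omega

/-- [NT-ORD] -/
theorem nt_ord (n e m : ℕ) (hn : 2 ≤ n) (he : e ∣ n) (hm : m * e = 2 ^ n - 1) (k : ℕ)
    (hk : m ∣ 2 ^ k - 1) : n ∣ k := by
  by_contra hnk
  have hn0 : 0 < n := by omega
  have hpos : 0 < 2 ^ n - 1 := by
    have : 2 ^ 1 < 2 ^ n := Nat.pow_lt_pow_right (by norm_num) (by omega)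
    omega
  have hm0 : 0 < m := by
    rcases Nat.eq_zero_or_pos m with h | h
    · rw [h, zero_mul] at hm; omega
    · exact h
  have he0 : 0 < e := Nat.pos_of_dvd_of_pos he hn0
  have hen : e ≤ n := Nat.le_of_dvd hn0 he
  set g := Nat.gcd k n with hg
  have hgn : g ∣ n := Nat.gcd_dvd_right k n
  have hgk : g ∣ k := Nat.gcd_dvd_left k n
  have hg0 : 0 < g := Nat.gcd_pos_of_pos_right k hn0
  have hgne : g ≠ n := by
    intro h
    apply hnk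
    rw [← h]
    exact hgk
  -- `m ∣ 2 ^ g - 1`
  have hmn : m ∣ 2 ^ n - 1 := ⟨e, hm.symm⟩
  have hmg : m ∣ 2 ^ g - 1 := by
    rw [hg, ← Nat.pow_sub_one_gcd_pow_sub_one]
    exact Nat.dvd_gcd hk hmn
  obtain ⟨t, ht⟩ := hgn
  have ht2 : 2 ≤ t := by
    rcases t with _ | _ | t
    · simp at ht; omega
    · simp at ht; exact absurd ht.symm hgne
    · omega
  have hgpos : 0 < 2 ^ g - 1 := by
    have : 2 ^ 1 ≤ 2 ^ g := Nat.pow_le_pow_right (by norm_num) hg0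
    omega
  have hmle : m ≤ 2 ^ g - 1 := Nat.le_of_dvd hgpos hmg
  -- `a = n - g = g * (t - 1) ≥ g`
  obtain ⟨t', rfl⟩ : ∃ t', t = t' + 2 := ⟨t - 2, by omega⟩
  set a := g * (t' + 1) with ha
  have hna : n = g + a := by rw [ht, ha]; ring
  have hga : g ≤ a := by rw [ha]; nlinarith
  have ha1 : 1 ≤ a := le_trans hg0 hga
  have h2a : 2 * a ≤ 2 ^ a := two_mul_le_two_pow a ha1
  -- `(2^g - 1) * (2^a + 1) ≤ 2^n - 1`
  have hgle : 2 ^ g ≤ 2 ^ a := Nat.pow_le_pow_right (by norm_num) hga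
  have hpow : 2 ^ n = 2 ^ g * 2 ^ a := by rw [hna, pow_add]
  have h2g : 1 ≤ 2 ^ g := Nat.one_le_two_pow
  have hkey : (2 ^ g - 1) * (2 ^ a + 1) ≤ 2 ^ n - 1 := by
    obtain ⟨x, hx⟩ : ∃ x, 2 ^ g = x + 1 := ⟨2 ^ g - 1, by omega⟩
    obtain ⟨y, hy⟩ : ∃ y, 2 ^ a = x + 1 + y := ⟨2 ^ a - 2 ^ g, by omega⟩
    rw [hpow, hx, hy]
    simp only [Nat.add_sub_cancel]
    have : x * (x + 1 + y + 1) + 1 ≤ (x + 1) * (x + 1 + y) := by nlinarith
    omega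
  -- `2^n - 1 = m * e ≤ (2^g - 1) * n`
  have hup : 2 ^ n - 1 ≤ (2 ^ g - 1) * n := by
    rw [← hm]
    exact Nat.mul_le_mul hmle hen
  have : (2 ^ g - 1) * (2 ^ a + 1) ≤ (2 ^ g - 1) * n := le_trans hkey hup
  have h3 : 2 ^ a + 1 ≤ n := Nat.le_of_mul_le_mul_left this hgpos
  omega

end Cfsg.Agent.Lib.Helper92.Suz2
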