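import Mathlib

/-!
# SUZ2-[NT-THREE] (helper92, for helper85's SUZ2 project)

If `m * e = 2 ^ n - 1` with `e ∣ n`, `n ≥ 2`, then `m` does not divide `2 ^ i + 2 ^ j - 1`
for `i < j < n`.  Method of the sheet: rotate the exponents so that the largest cyclic gap among
the three points `0, i, j` of `ℤ/n` is at the top, compare sizes for `n ≥ 13`, finite check below.
-/

set_option autoImplicit false

namespace Cfsg.Agent.Lib.Helper92.Suz2

/-- `3 * g ≤ 2 ^ (g - 1)` for `g ≥ 5`. -/
theorem three_mul_le_two_pow (g : ℕ) (hg : 5 ≤ g) : 3 * g ≤ 2 ^ (g - 1) := by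
  induction g, hg using Nat.le_induction with
  | base => norm_num
  | succ g hg ih =>
    have h1 : g + 1 - 1 = (g - 1) + 1 := by omega
    rw [h1, pow_succ]
    omega

set_option maxRecDepth 100000 in
/-- the finite check for `n ≤ 12` -/
theorem nt_three_small : ∀ n ∈ Finset.range 13, ∀ e ∈ Finset.range 13, 0 < e → e ∣ 2 ^ n - 1 →
    e ∣ n → ∀ j ∈ Finset.range n, ∀ i ∈ Finset.range j,
    ¬ ((2 ^ n - 1) / e ∣ 2 ^ i + 2 ^ j - 1) := by
  decide

/-- size argument: a nonzero multiple of `m` below `2 ^ (n - g + 1)` with `3 g ≥ n ≥ 13` is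
impossible -/
theorem nt_three_size (n e m g : ℕ) (hn : 13 ≤ n) (hen : e ≤ n) (hm : m * e = 2 ^ n - 1)
    (hg1 : 1 ≤ g) (hgn : g ≤ n) (h3 : n ≤ 3 * g) (hmP : m < 2 ^ (n - g + 1)) : False := by
  have hg5 : 5 ≤ g := by omega
  have h2n : 2 ^ n = 2 ^ (g - 1) * 2 ^ (n - g + 1) := by
    rw [← pow_add]
    congr 1
    omega
  have hpos : 1 ≤ 2 ^ n := Nat.one_le_two_pow
  set P := 2 ^ (n - g + 1) with hP
  have h1 : m * e ≤ m * n := Nat.mul_le_mul_left m hen
  have h2 : (m + 1) * n ≤ P * n := Nat.mul_le_mul_right n hmP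
  have h3' : 2 ^ n < P * n := by
    have : m * n + n = (m + 1) * n := by ring
    omega
  rw [h2n, mul_comm P n] at h3'
  have h4 : 2 ^ (g - 1) < n := Nat.lt_of_mul_lt_mul_right h3'
  have h5 := three_mul_le_two_pow g hg5
  omega

/-- [NT-THREE] -/
theorem nt_three (n e m : ℕ) (hn : 2 ≤ n) (he : e ∣ n) (hm : m * e = 2 ^ n - 1) (i j : ℕ)
    (hij : i < j) (hj : j < n) : ¬ (m ∣ 2 ^ i + 2 ^ j - 1) := by
  intro hdiv
  have hn0 : 0 < n := by omega
  have h2n : 2 ^ 2 ≤ 2 ^ n := Nat.pow_le_pow_right (by norm_num) hn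
  have hpos : 0 < 2 ^ n - 1 := by omega
  have hm0 : 0 < m := by
    rcases Nat.eq_zero_or_pos m with h | h
    · rw [h, zero_mul] at hm; omega
    · exact h
  have he0 : 0 < e := Nat.pos_of_dvd_of_pos he hn0
  have hen : e ≤ n := Nat.le_of_dvd hn0 he
  by_cases hsmall : n ≤ 12
  · have hedvd : e ∣ 2 ^ n - 1 := ⟨m, by rw [← hm, mul_comm]⟩
    have hmeq : m = (2 ^ n - 1) / e := by
      rw [← hm]; exact (Nat.mul_div_cancel _ he0).symm
    rw [hmeq] at hdiv
    exact nt_three_small n (Finset.mem_range.mpr (by omega)) e (Finset.mem_range.mpr (by omega))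
      he0 hedvd he j (Finset.mem_range.mpr hj) i (Finset.mem_range.mpr hij) hdiv
  · have hn13 : 13 ≤ n := by omega
    -- powers
    set a := 2 ^ i with ha
    set b := 2 ^ (j - i) with hb
    set c := 2 ^ (n - j) with hc
    have hab : 2 ^ j = a * b := by
      rw [ha, hb, ← pow_add]; congr 1; omega
    have habc : 2 ^ n = a * b * c := by
      rw [ha, hb, hc, ← pow_add, ← pow_add]; congr 1; omega
    have hb2 : 2 ≤ b := by
      calc 2 = 2 ^ 1 := by norm_num
        _ ≤ 2 ^ (j - i) := Nat.pow_le_pow_right (by norm_num) (by omega)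
    have hc2 : 2 ≤ c := by
      calc 2 = 2 ^ 1 := by norm_num
        _ ≤ 2 ^ (n - j) := Nat.pow_le_pow_right (by norm_num) (by omega)
    have ha1 : 1 ≤ a := Nat.one_le_two_pow
    have hmN : m ∣ 2 ^ n - 1 := ⟨e, hm.symm⟩
    rcases Nat.eq_zero_or_pos i with hi0 | hi0
    · -- `i = 0`: `m ∣ 2 ^ j`, `m` odd, so `m = 1`
      have hS : 2 ^ i + 2 ^ j - 1 = 2 ^ j := by rw [hi0]; simp
      rw [hS] at hdiv
      obtain ⟨k, -, hk⟩ := (Nat.dvd_prime_pow Nat.prime_two).mp hdiv
      have hk0 : k = 0 := by
        by_contra hk0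
        have h2m : 2 ∣ m := by
          rw [hk]; exact dvd_pow_self 2 hk0
        have h2N : 2 ∣ 2 ^ n - 1 := h2m.trans hmN
        have h2p : 2 ∣ 2 ^ n := dvd_pow_self 2 (by omega)
        omega
      rw [hk0, pow_zero] at hk
      rw [hk, one_mul] at hm
      have := Nat.lt_two_pow_self (n := n)
      have h4 : 2 * n ≤ 2 ^ n := by
        clear * - hn0
        induction n, hn0 using Nat.le_induction with
        | base => norm_num
        | succ n hn ih => rw [pow_succ]; omega
      omega
    · have ha2 : 2 ≤ a := by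
        calc 2 = 2 ^ 1 := by norm_num
          _ ≤ 2 ^ i := Nat.pow_le_pow_right (by norm_num) hi0
      -- natural-number names for the three signed sums
      obtain ⟨S, hS⟩ : ∃ S, S + 1 = a + a * b := ⟨a + a * b - 1, by omega⟩
      obtain ⟨N, hN⟩ : ∃ N, N + 1 = a * b * c := ⟨a * b * c - 1, by
        have : 1 ≤ a * b * c := by rw [← habc]; exact Nat.one_le_two_pow
        omega⟩
      have hSeq : 2 ^ i + 2 ^ j - 1 = S := by rw [hab]; omega
      have hNeq : 2 ^ n - 1 = N := by rw [habc]; omega
      rw [hSeq] at hdiv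
      rw [hNeq] at hmN
      have hS' : (S : ℤ) + 1 = a + a * b := by exact_mod_cast hS
      have hN' : (N : ℤ) + 1 = a * b * c := by exact_mod_cast hN
      have hSpos : 0 < S := by nlinarith
      have hcase : n ≤ 3 * (n - j) ∨ n ≤ 3 * i ∨ n ≤ 3 * (j - i) := by omega
      rcases hcase with hA | hB | hC
      · -- gap at the top
        apply nt_three_size n e m (n - j) hn13 hen hm (by omega) (by omega) hA
        have h1 : m ≤ S := Nat.le_of_dvd hSpos hdiv
        have h2 : n - (n - j) + 1 = j + 1 := by omega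
        rw [h2, pow_succ, hab]
        nlinarith
      · -- gap between `0` and `i`
        have hbc : b + 2 ≤ b * c := by nlinarith
        obtain ⟨T, hT⟩ : ∃ T, T + b + 1 = b * c := ⟨b * c - b - 1, by omega⟩
        have hT' : (T : ℤ) + b + 1 = b * c := by exact_mod_cast hT
        have hTpos : 0 < T := by omega
        have key : b * c * S + T = N * (1 + b) := by
          apply Nat.cast_injective (R := ℤ)
          push_cast
          linear_combination (b * c : ℤ) * hS' + hT' - (1 + b : ℤ) * hN'
        have hmT : m ∣ T := by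
          have h1 : m ∣ b * c * S := Dvd.dvd.mul_left hdiv _
          have h2 : m ∣ b * c * S + T := by rw [key]; exact Dvd.dvd.mul_right hmN _
          exact (Nat.dvd_add_right h1).mp h2
        apply nt_three_size n e m i hn13 hen hm (by omega) (by omega) hB
        have h1 : m ≤ T := Nat.le_of_dvd hTpos hmT
        have h2 : 2 ^ (n - i + 1) = 2 * (b * c) := by
          rw [hb, hc, ← pow_add, pow_succ, mul_comm]
          congr 2
          omega
        rw [h2]
        omega
      · -- gap between `i` and `j`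
        have hac : 2 * c ≤ a * c := Nat.mul_le_mul_right c ha2
        obtain ⟨W, hW⟩ : ∃ W, W + c = a * c + 1 := ⟨a * c + 1 - c, by omega⟩
        have hW' : (W : ℤ) + c = a * c + 1 := by exact_mod_cast hW
        have hWpos : 0 < W := by omega
        have key : c * S = W + N := by
          apply Nat.cast_injective (R := ℤ)
          push_cast
          linear_combination (c : ℤ) * hS' - hW' - hN'
        have hmW : m ∣ W := by
          have h1 : m ∣ c * S := Dvd.dvd.mul_left hdiv _
          rw [key] at h1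
          exact (Nat.dvd_add_left hmN).mp h1
        apply nt_three_size n e m (j - i) hn13 hen hm (by omega) (by omega) hC
        have h1 : m ≤ W := Nat.le_of_dvd hWpos hmW
        have h2 : 2 ^ (n - (j - i) + 1) = 2 * (a * c) := by
          rw [ha, hc, ← pow_add, pow_succ, mul_comm]
          congr 2
          omega
        rw [h2]
        omega

end Cfsg.Agent.Lib.Helper92.Suz2
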