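/-
helper92 library (module S2282-[MISO] of helper53's project S2282): the explicit regular unipotent
`uM σ m κ` of the model is an isometry of the model form `hM σ m` when `κ + σ κ = -1`.
-/
import Cfsg.Agent.Lib.Helper53.SUReg.Defs

set_option autoImplicit false

namespace Cfsg.Agent.Lib.Helper92.SUReg

open Matrix Cfsg.Agent.Lib.Helper53.SUReg

variable {F : Type*} [Field F] {σ : F →+* F} {q : ℕ} {m : ℕ}

/-- zero extension of the `W`-part of a vector of the model -/
def ex1 (x : MI m → F) (k : ℕ) : F := if h : k < m then x (Sum.inl ⟨k, h⟩) else 0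

/-- zero extension of the `W'`-part of a vector of the model -/
def ex2 (x : MI m → F) (k : ℕ) : F := if h : k < m then x (Sum.inr (Sum.inr ⟨k, h⟩)) else 0

theorem ex1_coe (x : MI m → F) (i : Fin m) : ex1 x (i : ℕ) = x (Sum.inl i) := by
  simp [ex1, i.2]

theorem ex2_coe (x : MI m → F) (i : Fin m) : ex2 x (i : ℕ) = x (Sum.inr (Sum.inr i)) := by
  simp [ex2, i.2]

theorem ex1_ge (x : MI m → F) {k : ℕ} (h : m ≤ k) : ex1 x k = 0 := by
  simp [ex1, not_lt.mpr h]

theorem ex2_ge (x : MI m → F) {k : ℕ} (h : m ≤ k) : ex2 x k = 0 := by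
  simp [ex2, not_lt.mpr h]

/-- alternating partial sums `Σ_{j ≤ i} (-1)^(i-j) g j` -/
def alt (g : ℕ → F) (i : ℕ) : F := ∑ j ∈ Finset.range (i + 1), (-1) ^ (i - j) * g j

theorem alt_zero (g : ℕ → F) : alt g 0 = g 0 := by simp [alt]

theorem alt_succ (g : ℕ → F) (i : ℕ) : alt g (i + 1) = g (i + 1) - alt g i := by
  unfold alt
  rw [Finset.sum_range_succ _ (i + 1), Nat.sub_self, pow_zero, one_mul, sub_eq_add_neg, add_comm,
    ← Finset.sum_neg_distrib]
  congr 1
  apply Finset.sum_congr rfl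
  intro j hj
  have hj' : j ≤ i := Nat.lt_succ_iff.mp (Finset.mem_range.mp hj)
  rw [Nat.succ_sub hj', pow_succ]
  ring

theorem alt_map (g : ℕ → F) (i : ℕ) : σ (alt g i) = alt (fun k => σ (g k)) i := by
  unfold alt
  rw [map_sum]
  apply Finset.sum_congr rfl
  intro j _
  rw [map_mul, map_pow, map_neg, map_one]

theorem tele (f g : ℕ → F) (m : ℕ) :
    ∑ i ∈ Finset.range m, (f i + f (i + 1)) * alt g i =
      ∑ i ∈ Finset.range m, f i * g i + f m * (g m - alt g m) := by
  induction m with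
  | zero => simp [alt_zero]
  | succ m ih =>
    rw [Finset.sum_range_succ, Finset.sum_range_succ, ih, alt_succ]
    ring

theorem tele_sign (f : ℕ → F) (m : ℕ) :
    ∑ i ∈ Finset.range m, (f i + f (i + 1)) * (-1) ^ i = f 0 - (-1) ^ m * f m := by
  induction m with
  | zero => simp
  | succ m ih =>
    rw [Finset.sum_range_succ, ih, pow_succ]
    ring

theorem sum_fin_range (f : ℕ → F) : ∑ j : Fin m, f (j : ℕ) = ∑ j ∈ Finset.range m, f j :=
  Fin.sum_univ_eq_sum_range f m

/-- the `W`-components of `uM x` -/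
theorem uM_inl (κ : F) (x : MI m → F) (i : Fin m) :
    (uM σ m κ *ᵥ x) (Sum.inl i) = ex1 x i + ex1 x (i + 1) := by
  have h1 : (uM σ m κ *ᵥ x) (Sum.inl i) =
      ∑ j : Fin m, (fun k : ℕ => (if (i : ℕ) = k then ex1 x k else 0) +
        (if (i : ℕ) + 1 = k then ex1 x k else 0)) (j : ℕ) := by
    simp only [Matrix.mulVec, dotProduct, Fintype.sum_sum_type, uM, Matrix.of_apply, zero_mul,
      Finset.sum_const_zero, add_zero]
    apply Finset.sum_congr rfl
    intro j _
    rw [ex1_coe]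
    by_cases h : i = j
    · subst h
      simp
    · have h' : ¬ (i : ℕ) = (j : ℕ) := fun e => h (Fin.ext e)
      simp only [h, h', if_false, zero_add]
      split_ifs <;> simp
  rw [h1, sum_fin_range (fun k : ℕ => (if (i : ℕ) = k then ex1 x k else 0) +
        (if (i : ℕ) + 1 = k then ex1 x k else 0)), Finset.sum_add_distrib, Finset.sum_ite_eq,
    Finset.sum_ite_eq, if_pos (Finset.mem_range.mpr i.2)]
  congr 1
  split_ifs with h
  · rfl
  · rw [ex1_ge]
    simpa using h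

/-- the `z`-component of `uM x` -/
theorem uM_z (κ : F) (x : MI m → F) :
    (uM σ m κ *ᵥ x) (Sum.inr (Sum.inl ())) = ex1 x 0 + x (Sum.inr (Sum.inl ())) := by
  have h1 : (uM σ m κ *ᵥ x) (Sum.inr (Sum.inl ())) =
      ∑ j : Fin m, (fun k : ℕ => (if 0 = k then ex1 x k else 0)) (j : ℕ) +
        x (Sum.inr (Sum.inl ())) := by
    simp only [Matrix.mulVec, dotProduct, Fintype.sum_sum_type, uM, Matrix.of_apply, zero_mul,
      Finset.sum_const_zero, add_zero, Finset.univ_unique, Finset.sum_singleton, one_mul]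
    congr 1
    apply Finset.sum_congr rfl
    intro j _
    rw [ex1_coe]
    by_cases h : (j : ℕ) = 0
    · simp [h]
    · have h' : ¬ (0 = (j : ℕ)) := fun e => h e.symm
      simp [h, h']
  rw [h1, sum_fin_range (fun k : ℕ => (if 0 = k then ex1 x k else 0)), Finset.sum_ite_eq]
  congr 1
  split_ifs with h
  · rfl
  · rw [ex1_ge]
    simpa using h

/-- the `W'`-components of `uM x` -/
theorem uM_inr (κ : F) (x : MI m → F) (i : Fin m) :
    (uM σ m κ *ᵥ x) (Sum.inr (Sum.inr i)) =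
      (-1) ^ (i : ℕ) * (σ κ * ex1 x 0 - x (Sum.inr (Sum.inl ()))) + alt (ex2 x) i := by
  have h1 : (uM σ m κ *ᵥ x) (Sum.inr (Sum.inr i)) =
      ∑ j : Fin m, (fun k : ℕ => (if 0 = k then σ κ * (-1) ^ (i : ℕ) * ex1 x k else 0)) (j : ℕ) +
        (-(-1) ^ (i : ℕ) * x (Sum.inr (Sum.inl ())) +
        ∑ j : Fin m, (fun k : ℕ => (if k ≤ (i : ℕ) then (-1) ^ ((i : ℕ) - k) * ex2 x k else 0))
          (j : ℕ)) := by
    simp only [Matrix.mulVec, dotProduct, Fintype.sum_sum_type, uM, Matrix.of_apply,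
      Finset.univ_unique, Finset.sum_singleton]
    congr 1
    · apply Finset.sum_congr rfl
      intro j _
      rw [ex1_coe]
      by_cases h : (j : ℕ) = 0
      · simp [h]
      · have h' : ¬ (0 = (j : ℕ)) := fun e => h e.symm
        simp [h, h']
    · congr 1
      apply Finset.sum_congr rfl
      intro j _
      rw [ex2_coe]
      split_ifs <;> simp
  rw [h1, sum_fin_range (fun k : ℕ => (if 0 = k then σ κ * (-1) ^ (i : ℕ) * ex1 x k else 0)),
    sum_fin_range (fun k : ℕ => (if k ≤ (i : ℕ) then (-1) ^ ((i : ℕ) - k) * ex2 x k else 0)),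
    Finset.sum_ite_eq]
  have h2 : ∑ k ∈ Finset.range m, (if k ≤ (i : ℕ) then (-1) ^ ((i : ℕ) - k) * ex2 x k else 0) =
      alt (ex2 x) i := by
    unfold alt
    rw [← Finset.sum_filter]
    apply Finset.sum_congr _ (fun _ _ => rfl)
    ext k
    simp only [Finset.mem_filter, Finset.mem_range]
    have := i.2
    omega
  rw [h2]
  have h3 : (if 0 ∈ Finset.range m then σ κ * (-1) ^ (i : ℕ) * ex1 x 0 else 0) =
      σ κ * (-1) ^ (i : ℕ) * ex1 x 0 := by
    rw [if_pos]
    exact Finset.mem_range.mpr (lt_of_le_of_lt (Nat.zero_le _) i.2)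
  rw [h3]
  ring

/-- the model form as a sum over `range m` -/
theorem hM_range (x y : MI m → F) :
    hM σ m x y = ∑ i ∈ Finset.range m, (ex1 x i * σ (ex2 y i) + ex2 x i * σ (ex1 y i)) +
      x (Sum.inr (Sum.inl ())) * σ (y (Sum.inr (Sum.inl ()))) := by
  unfold hM
  rw [← sum_fin_range (fun i => ex1 x i * σ (ex2 y i) + ex2 x i * σ (ex1 y i))]
  congr 1
  apply Finset.sum_congr rfl
  intro i _
  simp only [ex1_coe, ex2_coe]

/-- module S2282-[MISO] -/
theorem uM_form (hσ2 : ∀ x, σ (σ x) = x) (κ : F) (hκ : κ + σ κ = -1) (x y : MI m → F) :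
    hM σ m (uM σ m κ *ᵥ x) (uM σ m κ *ᵥ y) = hM σ m x y := by
  rw [hM_range, hM_range, uM_z, uM_z]
  set ξ := x (Sum.inr (Sum.inl ())) with hξ
  set η := y (Sum.inr (Sum.inl ())) with hη
  have hsum : ∑ i ∈ Finset.range m,
      (ex1 (uM σ m κ *ᵥ x) i * σ (ex2 (uM σ m κ *ᵥ y) i) +
        ex2 (uM σ m κ *ᵥ x) i * σ (ex1 (uM σ m κ *ᵥ y) i)) =
      ∑ i ∈ Finset.range m,
        (((ex1 x i + ex1 x (i + 1)) * (-1) ^ i * σ (σ κ * ex1 y 0 - η) +
          (ex1 x i + ex1 x (i + 1)) * alt (fun k => σ (ex2 y k)) i) +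
        ((σ κ * ex1 x 0 - ξ) * (((fun k => σ (ex1 y k)) i + (fun k => σ (ex1 y k)) (i + 1)) *
            (-1) ^ i) +
          ((fun k => σ (ex1 y k)) i + (fun k => σ (ex1 y k)) (i + 1)) * alt (ex2 x) i)) := by
    apply Finset.sum_congr rfl
    intro i hi
    have him : i < m := Finset.mem_range.mp hi
    have e1 : ∀ v : MI m → F, ex1 (uM σ m κ *ᵥ v) i = ex1 v i + ex1 v (i + 1) := by
      intro v
      exact (ex1_coe (uM σ m κ *ᵥ v) ⟨i, him⟩).trans (uM_inl (σ := σ) κ v ⟨i, him⟩)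
    have e2 : ∀ v : MI m → F, ex2 (uM σ m κ *ᵥ v) i =
        (-1) ^ i * (σ κ * ex1 v 0 - v (Sum.inr (Sum.inl ()))) + alt (ex2 v) i := by
      intro v
      exact (ex2_coe (uM σ m κ *ᵥ v) ⟨i, him⟩).trans (uM_inr (σ := σ) κ v ⟨i, him⟩)
    rw [e1, e1, e2, e2, map_add, map_add, map_mul, map_pow, map_neg, map_one, alt_map]
    ring
  rw [hsum, Finset.sum_add_distrib, Finset.sum_add_distrib, Finset.sum_add_distrib,
    ← Finset.sum_mul, ← Finset.mul_sum, tele_sign, tele_sign, tele, tele]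
  have hx1 : ex1 x m = 0 := ex1_ge x le_rfl
  have hy1 : ex1 y m = 0 := ex1_ge y le_rfl
  simp only [hx1, hy1, map_zero, zero_mul, mul_zero, add_zero, sub_zero, map_add, map_sub,
    map_mul, hσ2]
  have hκ' : σ κ = -1 - κ := by rw [← hκ]; ring
  rw [Finset.sum_add_distrib, hκ']
  have : ∑ i ∈ Finset.range m, σ (ex1 y i) * ex2 x i =
      ∑ i ∈ Finset.range m, ex2 x i * σ (ex1 y i) :=
    Finset.sum_congr rfl (fun i _ => mul_comm _ _)
  rw [this]
  ring

end Cfsg.Agent.Lib.Helper92.SUReg
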