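import Cfsg.Agent.Lib.Helper35.StDefs3
import Cfsg.Agent.Lib.Helper44.StHNorm

/-!
# STEINBERG phase 2b, module P3-[HPROD] (helper92, for helper35)

Every element of `H̄` is a product `∏_{i < rank} h̄_{p_i}(t_i)` with all `t_i ≠ 0`, given that
`h̄_p(t)` acts on `X_s` through `t ^ A(p, s)` (`HAct`), `A(j, -s) = -A(j, s)`, and (R3).
-/

set_option autoImplicit false

namespace Cfsg.Agent.Lib.Helper92.St

open Cfsg.Lie Cfsg.Agent.Lib.Helper35.St Cfsg.Agent.Lib.Helper44.St

universe u v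

variable {D : ChevalleyDatum} {K : Type u} [Field K] {Γ : Type v} [Group Γ] (M : Model D K Γ)

/-- `h̄_p(1) = 1` -/
theorem hbar_one (tf : TF D) {i : ℕ} (hi : i < D.rank) : M.hbar (D.simple i) 1 = 1 := by
  unfold Model.hbar
  rw [← nbar_inv M (simple_lt tf hi) (neg_simple_lt tf hi) 1, mul_inv_cancel]

/-- `h̄_p(t)⁻¹ = h̄_p(t⁻¹)` -/
theorem hbar_inv (tf : TF D) (h3 : M.R3) {i : ℕ} (hi : i < D.rank) {t : K} (ht : t ≠ 0) :
    (M.hbar (D.simple i) t)⁻¹ = M.hbar (D.simple i) t⁻¹ := by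
  rw [inv_eq_iff_mul_eq_one, h3 i hi t t⁻¹ ht (inv_ne_zero ht), mul_inv_cancel₀ ht, hbar_one M tf hi]

/-- the generators of `H̄` commute -/
theorem hbar_commute (tf : TF D) (hH : M.HAct)
    (hcn : ∀ j, j < D.rank → ∀ s, s < D.nroots → D.cartan j (D.neg s) = - D.cartan j s)
    (h3 : M.R3) {i j : ℕ} (hi : i < D.rank) (hj : j < D.rank) {t u : K} (ht : t ≠ 0)
    (hu : u ≠ 0) : Commute (M.hbar (D.simple j) u) (M.hbar (D.simple i) t) := by
  obtain ⟨c, hc⟩ : ∃ c : K, c = (u ^ (D.cartan j (D.simple i)))⁻¹ := ⟨_, rfl⟩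
  have hc0 : c ≠ 0 := by rw [hc]; exact inv_ne_zero (zpow_ne_zero _ hu)
  have h1 : (M.hbar (D.simple j) u)⁻¹ * M.hbar (D.simple i) t * M.hbar (D.simple j) u =
      M.hbar (D.simple i) t := by
    have e : (M.hbar (D.simple j) u)⁻¹ * M.hbar (D.simple i) t * M.hbar (D.simple j) u =
        ((M.hbar (D.simple j) u)⁻¹ * M.nbar (D.simple i) t * M.hbar (D.simple j) u) *
          ((M.hbar (D.simple j) u)⁻¹ * M.nbar (D.simple i) (-1) * M.hbar (D.simple j) u) := by
      conv_lhs => rw [show M.hbar (D.simple i) t = M.nbar (D.simple i) t * M.nbar (D.simple i) (-1)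
        from rfl]
      group
    rw [e, hbar_inv_conj_nbar M tf hH hcn hi hj hu, hbar_inv_conj_nbar M tf hH hcn hi hj hu, ← hc]
    -- `n̄(c t) n̄(-c) = h̄(c t) h̄(c)⁻¹`
    rw [mul_neg, mul_one, ← nbar_inv M (simple_lt tf hi) (neg_simple_lt tf hi) c,
      nbar_eq_hbar_mul_sigma M tf hi (c * t), nbar_eq_hbar_mul_sigma M tf hi c, mul_inv_rev,
      mul_assoc, mul_inv_cancel_left, mul_comm c t, ← h3 i hi t c ht hc0, mul_inv_cancel_right]
  show M.hbar (D.simple j) u * M.hbar (D.simple i) t = M.hbar (D.simple i) t * M.hbar (D.simple j) u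
  calc M.hbar (D.simple j) u * M.hbar (D.simple i) t
      = M.hbar (D.simple j) u * ((M.hbar (D.simple j) u)⁻¹ * M.hbar (D.simple i) t *
          M.hbar (D.simple j) u) := by rw [h1]
    _ = M.hbar (D.simple i) t * M.hbar (D.simple j) u := by group

/-- the product of the `h̄_{p_i}(t_i)` along a list -/
def hp (l : List ℕ) (t : ℕ → K) : Γ := (l.map fun i => M.hbar (D.simple i) (t i)).prod

theorem hprod_eq_hp (t : ℕ → K) : M.hprod t = hp M (List.range D.rank) t := rfl

theorem hp_congr (l : List ℕ) (t t' : ℕ → K) (h : ∀ i ∈ l, t i = t' i) : hp M l t = hp M l t' := by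
  unfold hp
  congr 1
  apply List.map_congr_left
  intro i hi
  rw [h i hi]

theorem hp_one (tf : TF D) (l : List ℕ) (hl : ∀ i ∈ l, i < D.rank) (t : ℕ → K)
    (ht : ∀ i ∈ l, t i = 1) : hp M l t = 1 := by
  unfold hp
  apply List.prod_eq_one
  intro x hx
  obtain ⟨i, hi, rfl⟩ := List.mem_map.mp hx
  rw [ht i hi, hbar_one M tf (hl i hi)]

theorem hp_mul (tf : TF D) (hH : M.HAct)
    (hcn : ∀ j, j < D.rank → ∀ s, s < D.nroots → D.cartan j (D.neg s) = - D.cartan j s)
    (h3 : M.R3) (l : List ℕ) (hl : ∀ i ∈ l, i < D.rank) (t t' : ℕ → K)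
    (ht : ∀ i ∈ l, t i ≠ 0) (ht' : ∀ i ∈ l, t' i ≠ 0) :
    hp M l t * hp M l t' = hp M l (fun i => t i * t' i) := by
  induction l with
  | nil => simp [hp]
  | cons i l ih =>
    have hi : i < D.rank := hl i (List.mem_cons_self)
    have hl' : ∀ k ∈ l, k < D.rank := fun k hk => hl k (List.mem_cons_of_mem _ hk)
    have hti : t i ≠ 0 := ht i (List.mem_cons_self)
    have hti' : t' i ≠ 0 := ht' i (List.mem_cons_self)
    have ih' := ih hl' (fun k hk => ht k (List.mem_cons_of_mem _ hk))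
      (fun k hk => ht' k (List.mem_cons_of_mem _ hk))
    have hcomm : Commute (hp M l t) (M.hbar (D.simple i) (t' i)) := by
      unfold hp
      apply Commute.list_prod_left
      intro x hx
      obtain ⟨k, hk, rfl⟩ := List.mem_map.mp hx
      exact (hbar_commute M tf hH hcn h3 (hl' k hk) hi
        (ht k (List.mem_cons_of_mem _ hk)) hti').symm
    have e1 : ∀ s : ℕ → K, hp M (i :: l) s = M.hbar (D.simple i) (s i) * hp M l s := by
      intro s
      simp [hp]
    rw [e1, e1, e1, ← ih', ← h3 i hi _ _ hti hti']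
    calc M.hbar (D.simple i) (t i) * hp M l t * (M.hbar (D.simple i) (t' i) * hp M l t')
        = M.hbar (D.simple i) (t i) * (hp M l t * M.hbar (D.simple i) (t' i)) * hp M l t' := by
          group
      _ = M.hbar (D.simple i) (t i) * (M.hbar (D.simple i) (t' i) * hp M l t) * hp M l t' := by
          rw [hcomm.eq]
      _ = _ := by group

theorem hp_single (tf : TF D) (l : List ℕ) (hnd : l.Nodup) (hl : ∀ k ∈ l, k < D.rank) (i : ℕ)
    (hi : i ∈ l) (x : K) : hp M l (fun k => if k = i then x else 1) = M.hbar (D.simple i) x := by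
  induction l with
  | nil => simp at hi
  | cons k l ih =>
    have hl' : ∀ k ∈ l, k < D.rank := fun k hk => hl k (List.mem_cons_of_mem _ hk)
    have e1 : hp M (k :: l) (fun k => if k = i then x else 1) =
        M.hbar (D.simple k) (if k = i then x else 1) * hp M l (fun k => if k = i then x else 1) := by
      simp [hp]
    rw [e1]
    rcases List.mem_cons.mp hi with rfl | hil
    · -- `i` is the head
      rw [if_pos rfl, hp_one M tf l hl', mul_one]
      intro j hj
      have : j ≠ i := fun h => (List.nodup_cons.mp hnd).1 (h ▸ hj)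
      rw [if_neg this]
    · have hki : k ≠ i := fun h => (List.nodup_cons.mp hnd).1 (h ▸ hil)
      rw [if_neg hki, hbar_one M tf (hl k List.mem_cons_self), one_mul,
        ih (List.nodup_cons.mp hnd).2 hl' hil]

/-- MODULE P3-[HPROD], exact sheet statement. -/
theorem exists_hprod (tf : TF D) (hH : M.HAct)
    (hcn : ∀ j, j < D.rank → ∀ s, s < D.nroots → D.cartan j (D.neg s) = - D.cartan j s) (h3 : M.R3)
    (h : Γ) (hh : h ∈ M.Hbar) : ∃ t : ℕ → K, (∀ i, i < D.rank → t i ≠ 0) ∧ h = M.hprod t := by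
  have hlr : ∀ i ∈ List.range D.rank, i < D.rank := fun i hi => List.mem_range.mp hi
  unfold Model.Hbar at hh
  induction hh using Subgroup.closure_induction with
  | mem x hx =>
    obtain ⟨i, t, hi, ht, rfl⟩ := hx
    refine ⟨fun k => if k = i then t else 1, ?_, ?_⟩
    · intro k _
      show (if k = i then t else 1) ≠ 0
      by_cases hk : k = i
      · rw [if_pos hk]; exact ht
      · rw [if_neg hk]; exact one_ne_zero
    · rw [hprod_eq_hp, hp_single M tf _ List.nodup_range hlr i (List.mem_range.mpr hi)]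
  | one =>
    refine ⟨fun _ => 1, fun _ _ => one_ne_zero, ?_⟩
    rw [hprod_eq_hp, hp_one M tf _ hlr _ (fun _ _ => rfl)]
  | mul x y _ _ hx hy =>
    obtain ⟨t, ht, rfl⟩ := hx
    obtain ⟨t', ht', rfl⟩ := hy
    refine ⟨fun i => t i * t' i, fun i hi => mul_ne_zero (ht i hi) (ht' i hi), ?_⟩
    rw [hprod_eq_hp, hprod_eq_hp, hprod_eq_hp,
      hp_mul M tf hH hcn h3 _ hlr t t' (fun i hi => ht i (hlr i hi)) (fun i hi => ht' i (hlr i hi))]
  | inv x _ hx =>
    obtain ⟨t, ht, rfl⟩ := hx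
    refine ⟨fun i => (t i)⁻¹, fun i hi => inv_ne_zero (ht i hi), ?_⟩
    rw [inv_eq_iff_mul_eq_one, hprod_eq_hp, hprod_eq_hp,
      hp_mul M tf hH hcn h3 _ hlr t _ (fun i hi => ht i (hlr i hi))
        (fun i hi => inv_ne_zero (ht i (hlr i hi)))]
    exact hp_one M tf _ hlr _ (fun i hi => mul_inv_cancel₀ (ht i (hlr i hi)))

end Cfsg.Agent.Lib.Helper92.St
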