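import Mathlib
import Cfsg.Agent.Lib.Helper43.MonoStar
import Cfsg.Agent.Lib.Helper29.MonoSLL3
import Cfsg.Agent.Lib.Helper1.MonoStarSelf
import Cfsg.Agent.Lib.Helper9.MonoSLL4
import Cfsg.Agent.Lib.Helper76.MonoBihom
import Cfsg.Agent.Lib.Helper76.MonoCaseB
import Cfsg.Agent.Lib.Helper95.MonoSLTinv

/-!
# S5634-[SL-TOP] (helper43's project): the SL-theorem `sl_main`

`k ≥ 7`, `q ≥ 5`, every `Y ≤ GL (Fin k) F` with `GLHyp` is monomial; `SLHyp M` on `Fin (k+1)` ⟹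
`M ≤ Mono`.

The landed modules [SL-L3], [STAR], [SL-L4] (+ [SL-R2]), [SL-TINV], [SL-CASEB] are imported; the
statements of the two modules that are not landed yet, [SL-SECHYP] `glHyp_secSL` and [SL-CASEA]
`sl_caseA`, are explicit hypotheses (`StSLSecHyp`, `StSLCaseA`: the skeleton statements), to be
discharged at the assembly.
-/

set_option autoImplicit false

namespace Cfsg.Agent.Lib.Helper92.Mono

open Matrix Cfsg.Geo Cfsg.Agent.Lib.Helper93 Cfsg.Agent.Lib.Helper43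

variable {F : Type*} [Field F]

/-- the statement of [SL-SECHYP] `glHyp_secSL` -/
def StSLSecHyp (F : Type*) [Field F] [Fintype F] : Prop :=
  ∀ (_ : 4 ≤ Fintype.card F) {k : ℕ} (_ : 5 ≤ k)
    {M : Subgroup (GL (Fin (k + 1)) F)} (_ : SLHyp M) (i₀ : Fin (k + 1)), GLHyp (secSL M i₀)

/-- the statement of [SL-CASEA] `sl_caseA` (index type `Fin n`) -/
def StSLCaseA (F : Type*) [Field F] [Fintype F] : Prop :=
  ∀ {n : ℕ} (_ : 5 ≤ Fintype.card F) (_ : 5 ≤ Fintype.card (Fin n))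
    {M : Subgroup (GL (Fin n) F)} (_ : ∀ d : Fin n → Fˣ, ∏ i, d i = 1 → dg d ∈ M)
    (_ : ∀ g ∈ M, g ∉ Mono (Fin n) F → ∀ i j, (g : Matrix (Fin n) (Fin n) F) i j ≠ 0),
    M ≤ Mono (Fin n) F

/-- an element of `M` with two zeros in one column is monomial -/
theorem slTop_twoCol [Fintype F] (hSec : StSLSecHyp F) (hq : 5 ≤ Fintype.card F) {k : ℕ}
    (hk : 7 ≤ k) (hA : ∀ Y : Subgroup (GL (Fin k) F), GLHyp Y → Y ≤ Mono (Fin k) F)
    {M : Subgroup (GL (Fin (k + 1)) F)} (hM : SLHyp M) :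
    ∀ g ∈ M, ∀ i l l', l ≠ l' → (g : Matrix (Fin (k + 1)) (Fin (k + 1)) F) l i = 0 →
      (g : Matrix (Fin (k + 1)) (Fin (k + 1)) F) l' i = 0 → g ∈ Mono (Fin (k + 1)) F := by
  have hT : ∀ d : Fin (k + 1) → Fˣ, ∏ i, d i = 1 → dg d ∈ M := fun d hd =>
    hM.mono_le ⟨dg_mem_Mono d, dg_mem_specialLinear hd⟩
  have hself : ∀ (i₀ : Fin (k + 1)) (h : GL (Fin (k + 1)) F), h ∈ M →
      (∀ r, r ≠ i₀ → (h : Matrix (Fin (k + 1)) (Fin (k + 1)) F) r i₀ = 0) →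
        h ∈ Mono (Fin (k + 1)) F := by
    intro i₀ h hh hc
    have hsec : secSL M i₀ ≤ Mono (Fin k) F := hA _ (hSec (by omega) (by omega) hM i₀)
    exact Cfsg.Agent.Lib.Helper29.sl_star_self (by omega) (by omega) hM i₀ hsec hh
      (fun a => hc _ (Fin.succAbove_ne i₀ a))
  have hstar : ColStar M := Cfsg.Agent.Lib.Helper1.Mono5634.star_of_self hM.mono_le hself
  have hR2 : Cfsg.Agent.Lib.Helper9.Mono.StSLR2 (Fin (k + 1)) F := by
    intro μ h1 h2 h3 l l' hll g hmono j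
    exact Cfsg.Agent.Lib.Helper76.bihom_split h1 h2 h3 hll g hmono j
  intro g hg i l l' hll h0 h0'
  exact Cfsg.Agent.Lib.Helper9.Mono.sl_two_zeros_mono hR2
    hq (by rw [Fintype.card_fin]; omega) hT hstar hg hll h0 h0'

/-- [SL-TOP], with the statements of [SL-SECHYP] and [SL-CASEA] as hypotheses -/
theorem sl_main [Fintype F] (hSec : StSLSecHyp F) (hCaseA : StSLCaseA F)
    (hq : 5 ≤ Fintype.card F) {k : ℕ} (hk : 7 ≤ k)
    (hA : ∀ Y : Subgroup (GL (Fin k) F), GLHyp Y → Y ≤ Mono (Fin k) F)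
    {M : Subgroup (GL (Fin (k + 1)) F)} (hM : SLHyp M) : M ≤ Mono (Fin (k + 1)) F := by
  classical
  have hT : ∀ d : Fin (k + 1) → Fˣ, ∏ i, d i = 1 → dg d ∈ M := fun d hd =>
    hM.mono_le ⟨dg_mem_Mono d, dg_mem_specialLinear hd⟩
  have h2col := slTop_twoCol hSec hq hk hA hM
  have hM' : SLHyp (M.map (tinv : GL (Fin (k + 1)) F ≃* GL (Fin (k + 1)) F).toMonoidHom) :=
    Cfsg.Agent.Lib.Helper95.slHyp_map_tinv hM
  have h2col' := slTop_twoCol hSec hq hk hA hM'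
  have h2row : ∀ g ∈ M, ∀ i l l', l ≠ l' → (g : Matrix (Fin (k + 1)) (Fin (k + 1)) F) i l = 0 →
      (g : Matrix (Fin (k + 1)) (Fin (k + 1)) F) i l' = 0 → g ∈ Mono (Fin (k + 1)) F := by
    intro g hg i l l' hll h0 h0'
    have hmem : tinv g⁻¹ ∈ M.map (tinv : GL (Fin (k + 1)) F ≃* GL (Fin (k + 1)) F).toMonoidHom :=
      ⟨g⁻¹, M.inv_mem hg, rfl⟩
    have hval : ∀ a b, ((tinv g⁻¹ : GL (Fin (k + 1)) F) : Matrix _ _ F) a b =
        (g : Matrix (Fin (k + 1)) (Fin (k + 1)) F) b a := by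
      intro a b
      rw [tinv_apply, inv_inv]
    have h1 := h2col' (tinv g⁻¹) hmem i l l' hll (by rw [hval]; exact h0) (by rw [hval]; exact h0')
    have h2 : g⁻¹ ∈ Mono (Fin (k + 1)) F := (Cfsg.Agent.Lib.Helper95.tinv_mem_Mono_iff g⁻¹).mp h1
    exact (Subgroup.inv_mem_iff _).mp h2
  by_cases hz : ∃ g ∈ M, g ∉ Mono (Fin (k + 1)) F ∧
      ∃ i j, (g : Matrix (Fin (k + 1)) (Fin (k + 1)) F) i j = 0
  · exfalso
    obtain ⟨g, hg, hgm, i, j, h0⟩ := hz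
    have hgm' : g⁻¹ ∉ Mono (Fin (k + 1)) F := fun h => hgm ((Subgroup.inv_mem_iff _).mp h)
    exact Cfsg.Agent.Lib.Helper76.sl_caseB hq (by rw [Fintype.card_fin]; omega) hT h2col h2row
      (M.inv_mem hg) hgm' (b := i) (k := j) (by rw [inv_inv]; exact h0)
  · apply hCaseA hq (by rw [Fintype.card_fin]; omega) hT
    intro g hg hgm i j h0
    exact hz ⟨g, hg, hgm, i, j, h0⟩

end Cfsg.Agent.Lib.Helper92.Mono
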