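import Mathlib
import Cfsg.Agent.Lib.Helper5.HeckeGAlgDefs

/-!
# S2319-[GALG] (helper92, for helper5): coefficient computations in `MonoidAlgebra ℂ G`
for the involution `gstar` and the averaging idempotent `avg B`.
-/

set_option autoImplicit false

namespace Cfsg.Agent.Lib.Helper92.HeckeGAlg

open MonoidAlgebra Cfsg.Agent.Lib.Helper5.GAlg
open scoped ComplexConjugate

variable {G : Type*} [Group G] [Fintype G]

theorem coeff_mul_fintype (x y : MonoidAlgebra ℂ G) (g : G) :
    (x * y).coeff g = ∑ h : G, x.coeff h * y.coeff (h⁻¹ * g) := by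
  rw [coeff_mul_apply_left, Finsupp.sum_fintype _ _ (by simp)]

theorem coeff_mul_fintype' (x y : MonoidAlgebra ℂ G) (g : G) :
    (x * y).coeff g = ∑ h : G, x.coeff (g * h⁻¹) * y.coeff h := by
  rw [coeff_mul_apply_right, Finsupp.sum_fintype _ _ (by simp)]

theorem gstar_zero : gstar (0 : MonoidAlgebra ℂ G) = 0 := by
  ext g
  rw [coeff_gstar]
  simp

theorem gstar_add (x y : MonoidAlgebra ℂ G) : gstar (x + y) = gstar x + gstar y := by
  ext g
  rw [coeff_gstar, coeff_add, coeff_add, Finsupp.add_apply, Finsupp.add_apply, coeff_gstar,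
    coeff_gstar, map_add]

theorem gstar_smul (c : ℂ) (x : MonoidAlgebra ℂ G) : gstar (c • x) = conj c • gstar x := by
  ext g
  rw [coeff_gstar, coeff_smul_apply, coeff_smul_apply, coeff_gstar, smul_eq_mul, smul_eq_mul,
    map_mul]

theorem gstar_sum {ι : Type*} (s : Finset ι) (f : ι → MonoidAlgebra ℂ G) :
    gstar (∑ i ∈ s, f i) = ∑ i ∈ s, gstar (f i) := by
  classical
  induction s using Finset.induction_on with
  | empty => simp [gstar_zero]
  | insert a s ha ih => rw [Finset.sum_insert ha, Finset.sum_insert ha, gstar_add, ih]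

theorem gstar_single (g : G) (c : ℂ) : gstar (single g c) = single g⁻¹ (conj c) := by
  classical
  ext h
  rw [coeff_gstar, coeff_single, coeff_single, Finsupp.single_apply, Finsupp.single_apply]
  by_cases hh : g = h⁻¹
  · have : g⁻¹ = h := by rw [hh, inv_inv]
    rw [if_pos hh, if_pos this]
  · have : ¬ g⁻¹ = h := by
      intro h1
      apply hh
      rw [← h1, inv_inv]
    rw [if_neg hh, if_neg this, map_zero]

theorem gstar_gstar (x : MonoidAlgebra ℂ G) : gstar (gstar x) = x := by
  ext g
  rw [coeff_gstar, coeff_gstar, inv_inv, Complex.conj_conj]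

theorem gstar_mul (x y : MonoidAlgebra ℂ G) : gstar (x * y) = gstar y * gstar x := by
  ext g
  rw [coeff_gstar, coeff_mul_fintype, coeff_mul_fintype, map_sum]
  refine Fintype.sum_equiv (Equiv.mulLeft g) _ _ (fun h => ?_)
  rw [coeff_gstar, coeff_gstar, map_mul, Equiv.coe_mulLeft, mul_comm]
  congr 2
  · congr 1
    group
  · congr 1
    group

theorem coeff_one_mul_comm (x y : MonoidAlgebra ℂ G) : (x * y).coeff 1 = (y * x).coeff 1 := by
  rw [coeff_mul_fintype, coeff_mul_fintype]
  refine Fintype.sum_equiv (Equiv.inv G) _ _ (fun h => ?_)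
  rw [Equiv.inv_apply, mul_one, mul_one, inv_inv, mul_comm]

theorem coeff_one_gstar_mul (x : MonoidAlgebra ℂ G) :
    (gstar x * x).coeff 1 = ∑ g : G, ((Complex.normSq (x.coeff g) : ℝ) : ℂ) := by
  rw [coeff_mul_fintype]
  refine Fintype.sum_equiv (Equiv.inv G) _ _ (fun h => ?_)
  rw [Equiv.inv_apply, mul_one, coeff_gstar, Complex.normSq_eq_conj_mul_self]

theorem eq_zero_of_coeff_one_gstar_mul {x : MonoidAlgebra ℂ G}
    (h : (gstar x * x).coeff 1 = 0) : x = 0 := by
  rw [coeff_one_gstar_mul, ← Complex.ofReal_sum, Complex.ofReal_eq_zero] at h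
  have h2 := (Finset.sum_eq_zero_iff_of_nonneg
    (fun g _ => Complex.normSq_nonneg (x.coeff g))).mp h
  ext g
  have := h2 g (Finset.mem_univ g)
  rw [Complex.normSq_eq_zero] at this
  rw [this]
  simp

theorem avg_eq_sum (B : Subgroup G) [Fintype B] :
    avg B = (Nat.card B : ℂ)⁻¹ • ∑ b : B, single (b : G) (1 : ℂ) := by
  classical
  ext g
  rw [coeff_smul_apply, coeff_sum, Finsupp.finsetSum_apply, smul_eq_mul]
  simp only [coeff_single, Finsupp.single_apply]
  by_cases hg : g ∈ B
  · rw [coeff_avg_of_mem hg, Finset.sum_eq_single (⟨g, hg⟩ : B)]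
    · simp
    · intro b _ hb
      rw [if_neg]
      intro h1
      apply hb
      exact Subtype.ext h1
    · intro h1
      exact absurd (Finset.mem_univ _) h1
  · rw [coeff_avg_of_not_mem hg, Finset.sum_eq_zero, mul_zero]
    intro b _
    rw [if_neg]
    intro h1
    apply hg
    rw [← h1]
    exact b.2

theorem single_mul_avg {B : Subgroup G} {b : G} (hb : b ∈ B) :
    single b (1 : ℂ) * avg B = avg B := by
  ext g
  rw [coeff_single_mul_apply, one_mul]
  by_cases hg : g ∈ B
  · rw [coeff_avg_of_mem hg, coeff_avg_of_mem (B.mul_mem (B.inv_mem hb) hg)]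
  · have : b⁻¹ * g ∉ B := by
      intro h1
      apply hg
      have := B.mul_mem hb h1
      rwa [mul_inv_cancel_left] at this
    rw [coeff_avg_of_not_mem hg, coeff_avg_of_not_mem this]

theorem avg_mul_single {B : Subgroup G} {b : G} (hb : b ∈ B) :
    avg B * single b (1 : ℂ) = avg B := by
  ext g
  rw [coeff_mul_single_apply, mul_one]
  by_cases hg : g ∈ B
  · rw [coeff_avg_of_mem hg, coeff_avg_of_mem (B.mul_mem hg (B.inv_mem hb))]
  · have : g * b⁻¹ ∉ B := by
      intro h1
      apply hg
      have := B.mul_mem h1 hb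
      rwa [inv_mul_cancel_right] at this
    rw [coeff_avg_of_not_mem hg, coeff_avg_of_not_mem this]

theorem avg_mul_avg (B : Subgroup G) : avg B * avg B = avg B := by
  classical
  have : Fintype B := Fintype.ofFinite B
  have hne : (Nat.card B : ℂ) ≠ 0 := by
    have : Nat.card B ≠ 0 := Nat.card_pos.ne'
    exact_mod_cast this
  have hb : ∀ b : B, single (b : G) (1 : ℂ) * avg B = avg B := fun b => single_mul_avg b.2
  calc avg B * avg B
      = ((Nat.card B : ℂ)⁻¹ • ∑ b : B, single (b : G) (1 : ℂ)) * avg B := by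
        rw [← avg_eq_sum B]
    _ = avg B := by
        rw [smul_mul_assoc, Finset.sum_mul, Finset.sum_congr rfl (fun b _ => hb b),
          Finset.sum_const, Finset.card_univ, ← Nat.card_eq_fintype_card,
          ← Nat.cast_smul_eq_nsmul ℂ, smul_smul, inv_mul_cancel₀ hne, one_smul]

theorem gstar_avg (B : Subgroup G) : gstar (avg B) = avg B := by
  ext g
  rw [coeff_gstar]
  by_cases hg : g ∈ B
  · rw [coeff_avg_of_mem hg, coeff_avg_of_mem (B.inv_mem hg), map_inv₀, map_natCast]
  · have : g⁻¹ ∉ B := by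
      intro h1
      apply hg
      have := B.inv_mem h1
      rwa [inv_inv] at this
    rw [coeff_avg_of_not_mem hg, coeff_avg_of_not_mem this, map_zero]

end Cfsg.Agent.Lib.Helper92.HeckeGAlg
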