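/-
helper92 library (module S2282-[REG] of helper53's project S2282): a good pair `(u, a)` in `SU_n(q)`
(cyclic vector `a`) has `(u - 1)^(n-1) ≠ 0`.  Port of `Helper11/SpRegRegAux.lean`.
-/
import Cfsg.Agent.Lib.Helper53.SUReg.Defs

set_option autoImplicit false

namespace Cfsg.Agent.Lib.Helper92.SUReg

open Matrix Cfsg.Agent.S0837 Cfsg.Agent.S0781 Cfsg.Agent.S2644 Cfsg.Agent.Lib.Helper53.SUReg

variable {F : Type*} [Field F] {σ : F →+* F} {q : ℕ} {m : ℕ}

theorem negOne_pow_mulVec {ι : Type*} [Fintype ι] [DecidableEq ι] (j : ℕ) (v : ι → F) :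
    ((-1 : Matrix ι ι F) ^ j) *ᵥ v = ((-1 : F) ^ j) • v := by
  induction j with
  | zero => simp
  | succ j ih =>
    rw [pow_succ, ← Matrix.mulVec_mulVec, Matrix.neg_mulVec, Matrix.one_mulVec, Matrix.mulVec_neg, ih,
      pow_succ, mul_neg_one, neg_smul]

theorem pow_mulVec_eq_uvec {n : ℕ} (u : ↥(Cfsg.SU n F q)) (a : Fin n → F) (k : ℕ) :
    (((u : Matrix.SpecialLinearGroup (Fin n) F) : Matrix (Fin n) (Fin n) F) ^ k) *ᵥ a =
      uvec q u a (k : ℤ) := by
  unfold uvec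
  rw [zpow_natCast, SubmonoidClass.coe_pow, Matrix.SpecialLinearGroup.coe_pow]

/-- binomial expansion of `(u - 1)^N a` along the orbit -/
theorem sub_one_pow_mulVec {n : ℕ} (u : ↥(Cfsg.SU n F q)) (a : Fin n → F) (N : ℕ) :
    ((((u : Matrix.SpecialLinearGroup (Fin n) F) : Matrix (Fin n) (Fin n) F) - 1) ^ N) *ᵥ a =
      ∑ k ∈ Finset.range (N + 1),
        ((-1 : F) ^ (N - k) * ((N.choose k : ℕ) : F)) • uvec q u a (k : ℤ) := by
  have hexp : (((u : Matrix.SpecialLinearGroup (Fin n) F) : Matrix (Fin n) (Fin n) F) - 1) ^ N =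
      ∑ k ∈ Finset.range (N + 1),
        ((u : Matrix.SpecialLinearGroup (Fin n) F) : Matrix (Fin n) (Fin n) F) ^ k * (-1) ^ (N - k) *
        ((N.choose k : ℕ) : Matrix (Fin n) (Fin n) F) := by
    rw [sub_eq_add_neg]
    exact (Commute.neg_one_right _).add_pow N
  rw [hexp, Matrix.sum_mulVec]
  apply Finset.sum_congr rfl
  intro k _
  rw [← Matrix.mulVec_mulVec, ← Matrix.mulVec_mulVec, Matrix.natCast_mulVec, Matrix.mulVec_smul,
    negOne_pow_mulVec, Matrix.mulVec_smul, Matrix.mulVec_smul, pow_mulVec_eq_uvec, smul_smul, mul_comm]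

/-- module S2282-[REG], with the linear independence as a hypothesis -/
theorem reg_of_linInd {n : ℕ} (hn : 1 ≤ n) {u : ↥(Cfsg.SU n F q)} {a : Fin n → F}
    (hli : LinearIndependent F (fun i : Fin n => uvec q u a ((i : ℕ) : ℤ))) :
    (((u : Matrix.SpecialLinearGroup (Fin n) F) : Matrix (Fin n) (Fin n) F) - 1) ^ (n - 1) ≠ 0 := by
  intro h0
  have hN1 : n - 1 + 1 = n := by omega
  have h1 := sub_one_pow_mulVec (q := q) u a (n - 1)
  rw [h0, Matrix.zero_mulVec, hN1, Finset.sum_range] at h1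
  have h2 := Fintype.linearIndependent_iff.mp hli
    (fun i : Fin n => (-1 : F) ^ (n - 1 - (i : ℕ)) * (((n - 1).choose (i : ℕ) : ℕ) : F))
    h1.symm ⟨n - 1, by omega⟩
  simp only [Nat.sub_self, pow_zero, Nat.choose_self, Nat.cast_one, mul_one] at h2
  exact one_ne_zero h2

/-- the orbit of a cyclic vector is linearly independent -/
theorem uvec_linInd {n : ℕ} {u : ↥(Cfsg.SU n F q)} {a : Fin n → F} {φ : F}
    (hg : UGood σ q m u a φ) :
    LinearIndependent F (fun i : Fin n => uvec q u a ((i : ℕ) : ℤ)) := by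
  apply linearIndependent_of_top_le_span_of_card_eq_finrank
  · intro v _
    exact hg.span v
  · rw [Module.finrank_pi, Fintype.card_fin]

/-- module S2282-[REG] -/
theorem reg_of_ugood {n : ℕ} (hn : 1 ≤ n) {u : ↥(Cfsg.SU n F q)} {a : Fin n → F} {φ : F}
    (hg : UGood σ q m u a φ) :
    (((u : Matrix.SpecialLinearGroup (Fin n) F) : Matrix (Fin n) (Fin n) F) - 1) ^ (n - 1) ≠ 0 :=
  reg_of_linInd hn (uvec_linInd hg)

end Cfsg.Agent.Lib.Helper92.SUReg
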