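import Mathlib
import Cfsg.Prelude.Def_KGroupFacts
import Cfsg.Agent.Lib.Helper66.TransferPow
import Cfsg.Agent.Lib.Helper66.Hopf
import Cfsg.Agent.Lib.Helper66.SchurBasic
import Cfsg.Agent.S3967
import Cfsg.Agent.S3979

/-!
# Killing the kernel of a stem extension with subgroups of trivial multiplier

If `U ≤ G` has trivial Schur multiplier, every kernel element `z` of a finite stem extension of `G`
satisfies `z ^ |G : U| = 1` (transfer).  Metacyclic groups `⟨a, b⟩` with the relations of helper66's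
`stem_metacyclic` and `d = 1` or `s₁ = 1` have trivial multiplier, and at most
`orderOf b * orderOf a` elements.
-/

set_option autoImplicit false

namespace Cfsg.Agent.Lib.Helper92.StemSub

open Cfsg.Agent.Lib.Helper66 Cfsg.Agent.S3967
open scoped Pointwise

universe u

section transfer

variable {Γ : Type u} {G : Type u} [Group Γ] [Group G] [Finite G]

omit [Finite G] in
theorem comap_ker_le_center (σ : Γ →* G) (hσ : Cfsg.IsStemExtension σ) (U : Subgroup G) :
    (σ.subgroupComap U).ker ≤ Subgroup.center ↥(U.comap σ) := by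
  intro x hx
  rw [Subgroup.mem_center_iff]
  intro y
  have hx' : (x : Γ) ∈ σ.ker := by
    rw [MonoidHom.mem_ker] at hx ⊢
    exact congrArg Subtype.val hx
  have := Subgroup.mem_center_iff.mp (hσ.2.1 hx') (y : Γ)
  exact Subtype.ext this

/-- Transfer step: kernel elements of a stem extension of `G` have order dividing the index of any
subgroup with trivial Schur multiplier. -/
theorem pow_index_eq_one_of_trivial (σ : Γ →* G) (hσ : Cfsg.IsStemExtension σ) (U : Subgroup G)
    (hM : Cfsg.HasCyclicSchurMultiplier ↥U 1) (a : Γ) (ha : a ∈ σ.ker) : a ^ U.index = 1 := by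
  have hU : commutator ↥(U.comap σ) ⊓ (σ.subgroupComap U).ker = ⊥ :=
    commutator_inf_ker_eq_bot_of_trivial_multiplier hM (σ.subgroupComap U)
      (σ.subgroupComap_surjective_of_surjective U hσ.1) (comap_ker_le_center σ hσ U)
  obtain ⟨h, hc⟩ := pow_index_mem_commutator_comap σ hσ.1 hσ.2.1 hσ.2.2 U a ha
  have hk : (⟨a ^ U.index, h⟩ : ↥(U.comap σ)) ∈ (σ.subgroupComap U).ker := by
    rw [MonoidHom.mem_ker]
    apply Subtype.ext
    show σ (a ^ U.index) = 1
    rw [map_pow, MonoidHom.mem_ker.mp ha, one_pow]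
  have : (⟨a ^ U.index, h⟩ : ↥(U.comap σ)) ∈ (⊥ : Subgroup ↥(U.comap σ)) := by
    rw [← hU]; exact ⟨hc, hk⟩
  exact congrArg Subtype.val (Subgroup.mem_bot.mp this)

end transfer

section metacyclic

variable {G : Type u} [Group G] [Finite G]

/-- A finite group generated by `a, b` with the metacyclic relations has trivial Schur multiplier
when `d = 1` or `s₁ = 1` (notation of `stem_metacyclic`). -/
theorem trivial_multiplier_of_metacyclic (a b : G)
    (hgen : Subgroup.closure ({a, b} : Set G) = ⊤) (d m₁ r₁ s₁ l n : ℕ)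
    (hcop : Nat.Coprime m₁ r₁) (hd : 0 < d)
    (hrel1 : a ^ (m₁ * d) = 1) (hrel2 : b ^ n = a ^ (m₁ * l))
    (hrel3 : b * a * b⁻¹ = a ^ (r₁ * d + 1))
    (hs : ∑ i ∈ Finset.range n, (r₁ * d + 1) ^ i = m₁ * s₁)
    (hpow : (r₁ * d + 1) ^ n = 1 + m₁ * d * (r₁ * s₁))
    (hord : ∀ k : ℤ, a ^ k = 1 → ((m₁ * d : ℕ) : ℤ) ∣ k) (hone : d = 1 ∨ s₁ = 1) :
    Cfsg.HasCyclicSchurMultiplier G 1 := by
  apply hasCyclicSchurMultiplier_one_of
  intro Γ _ _ σ hσ
  obtain ⟨w, -, hwd, hws, hker⟩ := stem_metacyclic σ hσ a b hgen d m₁ r₁ s₁ l n hcop hd hrel1 hrel2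
    hrel3 hs hpow hord
  have hw1 : w = 1 := by
    rcases hone with h | h
    · rw [h, pow_one] at hwd; exact hwd
    · rw [h, pow_one] at hws; exact hws
  rw [Subgroup.eq_bot_iff_forall]
  intro z hz
  have := hker z hz
  rw [hw1, Subgroup.zpowers_one_eq_bot, Subgroup.mem_bot] at this
  exact this

/-- A finite group generated by `a, b` with `b` normalizing `⟨a⟩` has at most
`orderOf b * orderOf a` elements. -/
theorem card_le_of_pair (a b : G) (hgen : Subgroup.closure ({a, b} : Set G) = ⊤)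
    (h : b * a * b⁻¹ ∈ Subgroup.zpowers a) : Nat.card G ≤ orderOf b * orderOf a := by
  have : (Subgroup.zpowers a).Normal := by
    apply zpowers_normal_of_generators a _ hgen
    intro g hg
    rcases hg with rfl | hg
    · rw [mul_inv_cancel_right]; exact Subgroup.mem_zpowers g
    · rw [Set.mem_singleton_iff] at hg; subst hg; exact h
  have hsup : Subgroup.zpowers b ⊔ Subgroup.zpowers a = ⊤ := by
    rw [← hgen, Subgroup.zpowers_eq_closure, Subgroup.zpowers_eq_closure, ← Subgroup.closure_union]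
    congr 1
    ext x
    simp
  have hset : (Set.univ : Set G) = (Subgroup.zpowers b : Set G) * (Subgroup.zpowers a : Set G) := by
    rw [← Subgroup.mul_normal, hsup]; rfl
  calc Nat.card G = Nat.card (Set.univ : Set G) := (Nat.card_congr (Equiv.Set.univ G)).symm
    _ = Nat.card ↥((Subgroup.zpowers b : Set G) * (Subgroup.zpowers a : Set G)) := by rw [hset]
    _ ≤ Nat.card ↥(Subgroup.zpowers b : Set G) * Nat.card ↥(Subgroup.zpowers a : Set G) :=
        Set.natCard_mul_le
    _ = orderOf b * orderOf a := by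
        rw [SetLike.coe_sort_coe, SetLike.coe_sort_coe, Nat.card_zpowers, Nat.card_zpowers]

/-- An element of prime order outside a subgroup generates a subgroup disjoint from it. -/
theorem disjoint_zpowers_of_prime {H : Type u} [Group H] (x : H) (K : Subgroup H) (p : ℕ)
    (hp : p.Prime) (hx : orderOf x = p) (hK : x ∉ K) : Disjoint (Subgroup.zpowers x) K := by
  rw [Subgroup.disjoint_def]
  intro y hy hyK
  obtain ⟨k, rfl⟩ := Subgroup.mem_zpowers_iff.mp hy
  by_contra hne
  have hndvd : ¬ (p : ℤ) ∣ k := by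
    intro hdvd
    apply hne
    rw [← hx] at hdvd
    exact orderOf_dvd_iff_zpow_eq_one.mp hdvd
  have hcop : IsCoprime (p : ℤ) k :=
    (Prime.coprime_iff_not_dvd (Nat.prime_iff_prime_int.mp hp)).mpr hndvd
  obtain ⟨u, v, huv⟩ := hcop
  apply hK
  have h1 : x = (x ^ (p : ℤ)) ^ u * (x ^ k) ^ v := by
    rw [← zpow_mul, ← zpow_mul, ← zpow_add, mul_comm (p : ℤ) u, mul_comm k v, huv, zpow_one]
  have h2 : x ^ (p : ℤ) = 1 := by rw [zpow_natCast, ← hx, pow_orderOf_eq_one]
  rw [h2, one_zpow, one_mul] at h1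
  rw [h1]
  exact K.zpow_mem hyK v

/-- If `b a b⁻¹ ≠ a` then `b` is not a power of `a`, and `a` is not a power of `b`. -/
theorem notMem_zpowers_of_conj_ne {H : Type u} [Group H] (a b : H) (h : b * a * b⁻¹ ≠ a) :
    b ∉ Subgroup.zpowers a ∧ a ∉ Subgroup.zpowers b := by
  constructor
  · intro hb
    obtain ⟨k, rfl⟩ := Subgroup.mem_zpowers_iff.mp hb
    apply h
    have : Commute (a ^ k) a := (Commute.refl a).zpow_left k
    rw [this.eq, mul_inv_cancel_right]
  · intro ha
    obtain ⟨k, hk⟩ := Subgroup.mem_zpowers_iff.mp ha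
    apply h
    have : Commute b a := by rw [← hk]; exact (Commute.refl b).zpow_right k
    rw [this.eq, mul_inv_cancel_right]

/-- The exact order of `⟨a, b⟩` when `b` normalizes `⟨a⟩` and `⟨a⟩ ∩ ⟨b⟩ = 1`. -/
theorem card_eq_of_pair (a b : G) (hgen : Subgroup.closure ({a, b} : Set G) = ⊤)
    (h : b * a * b⁻¹ ∈ Subgroup.zpowers a)
    (hdisj : Disjoint (Subgroup.zpowers b) (Subgroup.zpowers a)) :
    Nat.card G = orderOf b * orderOf a := by
  apply le_antisymm (card_le_of_pair a b hgen h)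
  have hinj := Subgroup.mul_injective_of_disjoint hdisj
  have := Nat.card_le_card_of_injective _ hinj
  rwa [Nat.card_prod, Nat.card_zpowers, Nat.card_zpowers] at this

end metacyclic

section pair

variable {G : Type u} [Group G] [Finite G]

omit [Finite G] in
/-- The two generators generate the subgroup they generate. -/
theorem closure_pair_gen (a b : G) :
    Subgroup.closure ({⟨a, Subgroup.subset_closure (by simp)⟩,
      ⟨b, Subgroup.subset_closure (by simp)⟩} : Set ↥(Subgroup.closure ({a, b} : Set G))) = ⊤ := by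
  have h := Subgroup.closure_closure_coe_preimage (k := ({a, b} : Set G))
  convert h using 2
  ext x
  simp [Subtype.ext_iff]

/-- The subgroup `⟨a, b⟩` of a finite group has trivial Schur multiplier when `a, b` satisfy the
metacyclic relations with `d = 1` or `s₁ = 1`. -/
theorem closure_pair_multiplier (a b : G) (d m₁ r₁ s₁ l n : ℕ)
    (hcop : Nat.Coprime m₁ r₁) (hd : 0 < d)
    (hrel2 : b ^ n = a ^ (m₁ * l))
    (hrel3 : b * a * b⁻¹ = a ^ (r₁ * d + 1))
    (hs : ∑ i ∈ Finset.range n, (r₁ * d + 1) ^ i = m₁ * s₁)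
    (hpow : (r₁ * d + 1) ^ n = 1 + m₁ * d * (r₁ * s₁))
    (hord : orderOf a = m₁ * d) (hone : d = 1 ∨ s₁ = 1) :
    Cfsg.HasCyclicSchurMultiplier ↥(Subgroup.closure ({a, b} : Set G)) 1 := by
  refine trivial_multiplier_of_metacyclic ⟨a, Subgroup.subset_closure (by simp)⟩
    ⟨b, Subgroup.subset_closure (by simp)⟩ (closure_pair_gen a b) d m₁ r₁ s₁ l n hcop hd ?_ ?_ ?_
    hs hpow ?_ hone
  · apply Subtype.ext
    rw [Subgroup.coe_pow, Subgroup.coe_one, ← hord]
    exact pow_orderOf_eq_one a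
  · apply Subtype.ext
    rw [Subgroup.coe_pow, Subgroup.coe_pow]
    exact hrel2
  · apply Subtype.ext
    rw [Subgroup.coe_mul, Subgroup.coe_mul, Subgroup.coe_inv, Subgroup.coe_pow]
    exact hrel3
  · intro k hk
    have hk' : a ^ k = 1 := by
      have := congrArg Subtype.val hk
      rwa [Subgroup.coe_zpow, Subgroup.coe_one] at this
    rw [← hord]
    exact orderOf_dvd_iff_zpow_eq_one.mpr hk'

/-- The order of `⟨a, b⟩` when `b` normalizes `⟨a⟩` and `⟨a⟩ ∩ ⟨b⟩ = 1`. -/
theorem closure_pair_card (a b : G) (r : ℕ) (hrel3 : b * a * b⁻¹ = a ^ r)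
    (hdisj : Disjoint (Subgroup.zpowers b) (Subgroup.zpowers a)) :
    Nat.card ↥(Subgroup.closure ({a, b} : Set G)) = orderOf b * orderOf a := by
  have h := card_eq_of_pair (G := ↥(Subgroup.closure ({a, b} : Set G)))
    ⟨a, Subgroup.subset_closure (by simp)⟩ ⟨b, Subgroup.subset_closure (by simp)⟩
    (closure_pair_gen a b) ?_ ?_
  · rw [h, Subgroup.orderOf_mk, Subgroup.orderOf_mk]
  · refine Subgroup.mem_zpowers_iff.mpr ⟨(r : ℤ), ?_⟩
    apply Subtype.ext
    rw [Subgroup.coe_zpow, Subgroup.coe_mul, Subgroup.coe_mul, Subgroup.coe_inv, zpow_natCast]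
    exact hrel3.symm
  · rw [Subgroup.disjoint_def] at hdisj ⊢
    intro x hx1 hx2
    apply Subtype.ext
    apply hdisj
    · obtain ⟨k, hk⟩ := Subgroup.mem_zpowers_iff.mp hx1
      refine Subgroup.mem_zpowers_iff.mpr ⟨k, ?_⟩
      rw [← hk, Subgroup.coe_zpow]
    · obtain ⟨k, hk⟩ := Subgroup.mem_zpowers_iff.mp hx2
      refine Subgroup.mem_zpowers_iff.mpr ⟨k, ?_⟩
      rw [← hk, Subgroup.coe_zpow]

end pair

end Cfsg.Agent.Lib.Helper92.StemSub
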