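import Mathlib
import Cfsg.Prelude.Def_Sporadic_a
import Cfsg.Agent.Lib.Helper7.Bits
import Cfsg.Agent.S0370
import Cfsg.Agent.S0372
import Cfsg.Agent.S0373

/-!
# Explicit words in the three standard generators of `M24`

Letters: `0` = shift `x ↦ x + 1`, `1` = its inverse, `2` = `projInv`, `3` = `cubeTwist`,
`4` (and above) = inverse of `cubeTwist`.  A word `w : List ℕ` denotes the product of its letters
(`m24Word`), an element of `M24`; on point indices (`Helper7.idx`) it acts by the table-driven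
function `m24Eval`, which `decide` can run.

Main results:
* `m24Word_mem`, `m24Word_apply`: words are in `M24` and act through `m24Eval`;
* `m24_exists_map_base`, `m24_five_transitive`: `M24` is transitive on injective 5-tuples;
* `m24_six_stabilizer`: six distinct points are fixed by a nontrivial element of `M24`.
-/

set_option autoImplicit false
open Cfsg

namespace Cfsg.Agent.Lib.Helper92
open Cfsg.Agent.Lib.Helper7

/-- The shift `x ↦ x + 1`, fixing the extra point. -/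
def m24Shift : Equiv.Perm GolayPt := Equiv.optionCongr (Equiv.addRight (1 : ZMod 23))

/-- The five letters as permutations. -/
noncomputable def m24Gen : ℕ → Equiv.Perm GolayPt
  | 0 => m24Shift
  | 1 => m24Shift⁻¹
  | 2 => projInv
  | 3 => cubeTwist
  | _ => cubeTwist⁻¹

theorem m24Gen_mem (k : ℕ) : m24Gen k ∈ M24 := by
  unfold m24Gen
  split
  · exact Cfsg.Agent.S0370.result
  · exact inv_mem Cfsg.Agent.S0370.result
  · exact Cfsg.Agent.S0372.result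
  · exact Cfsg.Agent.S0373.result
  · exact inv_mem Cfsg.Agent.S0373.result

/-- Image tables (on point indices) of the five letters. -/
def m24Tab : ℕ → List ℕ
  | 0 => [1, 2, 3, 4, 5, 6, 7, 8, 9, 10, 11, 12, 13, 14, 15, 16, 17, 18, 19, 20, 21, 22, 0, 23]
  | 1 => [22, 0, 1, 2, 3, 4, 5, 6, 7, 8, 9, 10, 11, 12, 13, 14, 15, 16, 17, 18, 19, 20, 21, 23]
  | 2 => [23, 22, 11, 15, 17, 9, 19, 13, 20, 5, 16, 2, 21, 7, 18, 3, 10, 4, 14, 6, 8, 12, 1, 0]
  | 3 => [0, 18, 6, 3, 2, 21, 1, 5, 16, 12, 7, 19, 8, 9, 17, 15, 13, 11, 4, 22, 10, 20, 14, 23]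
  | _ => [0, 6, 4, 3, 18, 7, 2, 10, 12, 13, 20, 17, 9, 16, 22, 15, 8, 14, 1, 11, 21, 5, 19, 23]

/-- Transversal words: `m24TransTab l` lists, for each target index `j`, a word fixing the first `l` base points and sending base point `l` to `j`. -/
def m24TransTab : ℕ → List (List ℕ)
  | 0 =>
    [[2],
     [0, 2],
     [0, 0, 2],
     [0, 0, 0, 2],
     [4, 0, 0, 2],
     [1, 4, 0, 2],
     [4, 0, 2],
     [0, 4, 0, 2],
     [0, 0, 4, 0, 2],
     [2, 1, 4, 0, 2],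
     [1, 2, 0, 0, 2],
     [2, 0, 0, 2],
     [2, 1, 1, 2],
     [1, 3, 1, 2],
     [3, 1, 2],
     [0, 3, 1, 2],
     [1, 1, 3, 0, 2],
     [1, 3, 0, 2],
     [3, 0, 2],
     [4, 1, 2],
     [1, 1, 1, 2],
     [1, 1, 2],
     [1, 2],
     []]
  | 1 =>
    [[],
     [0],
     [0, 0],
     [0, 0, 0],
     [4, 0, 0],
     [1, 4, 0],
     [4, 0],
     [0, 4, 0],
     [0, 0, 4, 0],
     [3, 1, 3, 1],
     [4, 0, 4, 0],
     [4, 4, 1],
     [1, 1, 3, 1],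
     [1, 3, 1],
     [3, 1],
     [0, 3, 1],
     [1, 1, 3, 0],
     [1, 3, 0],
     [3, 0],
     [4, 1],
     [1, 1, 1],
     [1, 1],
     [1],
     []]
  | 2 =>
    [[],
     [],
     [4, 4],
     [0, 3, 0, 4, 4, 0, 0],
     [3, 3],
     [0, 0, 3, 1, 4, 0],
     [4],
     [0, 0, 4, 1, 1, 1],
     [4, 1, 1, 4, 4, 0],
     [1, 3, 0, 4, 1, 1],
     [0, 3, 1, 3, 1, 1],
     [0, 4, 4, 1, 3, 0],
     [1, 3, 3, 0, 0, 4],
     [3, 1, 1, 4, 4, 0],
     [0, 0, 4, 0, 0, 3, 0],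
     [1, 1, 4, 4, 0, 3],
     [1, 1, 4, 4, 0],
     [0, 0, 0, 3, 1, 1],
     [3],
     [1, 1, 3, 0, 0, 0, 0],
     [1, 3, 0, 0, 4, 0, 0],
     [3, 0, 0, 3, 1, 4, 0],
     [1, 1, 1, 3, 0, 0, 0],
     []]
  | 3 =>
    [[],
     [],
     [],
     [3, 0, 3, 0, 3, 0],
     [0, 3, 1, 3, 3, 1, 3, 0, 0],
     [1, 1, 4, 0, 0, 3, 3, 0],
     [4, 2, 1, 4, 1, 4, 1, 3, 2],
     [0, 3, 1, 4, 4, 0, 3, 0, 0],
     [3, 1, 3, 3, 0, 0, 3],
     [3, 1, 3, 1, 4, 4, 1, 1],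
     [4, 0, 3, 1, 1, 1, 1, 3],
     [1, 1, 1, 4, 1, 4, 0, 0],
     [4, 1, 1, 4, 4, 0, 4],
     [3, 0, 4, 4, 0, 4, 1, 3, 1],
     [4, 1, 3, 3, 1, 4, 0, 0, 0],
     [1, 1, 4, 4, 0, 4, 4],
     [1, 1, 4, 0, 3, 0, 3, 0, 0],
     [4, 0, 0, 0, 0, 4, 1, 3],
     [3, 3, 0, 4, 4, 1, 3, 0, 4],
     [1, 4, 4, 0, 3, 1, 3, 3, 0],
     [3, 3, 1, 3, 3, 0, 0],
     [4, 4, 0, 0, 0, 0, 4, 1],
     [1, 4, 4, 1, 1, 3, 0, 0],
     []]
  | _ =>
    [[],
     [],
     [],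
     [],
     [4, 1, 4, 1, 4, 1],
     [1, 4, 4, 1, 1, 1, 4, 1, 3, 0, 0],
     [4, 4, 0, 0, 3, 0, 4, 0, 0],
     [4, 4, 1, 4, 1, 3, 3, 1, 1, 1, 3, 1, 1],
     [0, 4, 1, 4, 1, 1, 4, 4, 0, 3, 0],
     [1, 4, 1, 3, 0, 4, 0, 4, 0, 3],
     [3, 3, 2, 0, 0, 0, 3, 1, 1, 3, 2],
     [2, 1, 3, 1, 3, 1, 4, 4, 1, 2],
     [0, 3, 3, 1, 4, 1, 1, 1, 3, 1, 3, 0],
     [1, 4, 0, 0, 0, 3, 1, 1, 1, 3, 0],
     [3, 0, 0, 0, 3, 3, 1, 4, 0],
     [0, 0, 0, 0, 0, 4, 0, 0, 0, 0, 3],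
     [3, 3, 0, 4, 4, 0, 0, 4, 4, 0, 3, 1],
     [1, 3, 0, 4, 4, 1, 1, 1, 4],
     [1, 4, 0, 0, 0, 4, 1, 1, 1, 3, 0],
     [1, 1, 3, 1, 4, 1, 1, 3, 3],
     [1, 4, 1, 3, 3, 0, 0, 3, 0, 3, 1],
     [4, 1, 3, 1, 3, 1, 4, 0, 3, 0],
     [3, 1, 1, 4, 1, 1, 3, 0, 4, 4, 1],
     []]

/-- For each index `j` off the base, a nontrivial word fixing the five base points and `j`. -/
def m24Stab6Tab : List (List ℕ) :=
  [[],
   [],
   [],
   [],
   [0, 0, 3, 1, 4, 1, 1, 4, 1, 4, 1, 1, 3, 1, 4, 1, 1, 2, 1, 4, 1, 4, 1, 2, 4, 0, 2, 1, 4, 1, 4, 1, 2],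
   [0, 2, 4, 0, 2, 4, 4, 1, 2, 0, 2, 1, 1, 2, 0, 3, 3, 2],
   [0, 0, 3, 1, 4, 1, 1, 4, 1, 4, 1, 1, 3, 1, 4, 1],
   [1, 2, 0, 0, 4, 0, 3, 1, 3, 1, 3, 2, 0, 0, 0, 4, 1, 1, 4, 2],
   [0, 4, 4, 1, 3, 0, 2, 3, 0, 4, 1, 1, 3, 0, 4, 1, 4, 0, 2],
   [0, 0, 4, 1, 3, 1, 4, 4, 1, 3, 3, 1, 3, 1, 4, 4, 0, 4, 0, 0, 3, 1, 4, 1, 1, 4, 1, 4, 1, 1, 3, 1, 4, 1],
   [0, 2, 0, 3, 1, 3, 1, 4, 4, 1, 1, 4, 1, 2, 1],
   [1, 4, 0, 3, 0, 0, 4, 0, 0, 4, 0, 3, 1, 3, 3, 0, 0, 4, 4],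
   [1, 4, 0, 4, 0, 0, 0, 0, 0, 4, 4, 1, 1, 4, 1, 3, 1, 3, 0, 3],
   [0, 2, 0, 3, 1, 3, 1, 4, 4, 1, 1, 4, 1, 2, 1, 0, 0, 3, 1, 4, 1, 1, 4, 1, 4, 1, 1, 3, 1, 4, 1],
   [0, 2, 4, 0, 2, 4, 4, 1, 2, 0, 2, 1, 1, 2, 0, 3, 3, 2],
   [1, 2, 1, 4, 1, 4, 1, 2, 4, 0, 2, 1, 4, 1, 4, 1, 2, 0, 0, 3, 1, 4, 1, 1, 4, 1, 4, 1, 1, 3, 1, 4, 1],
   [0, 2, 4, 0, 2, 4, 4, 1, 2, 0, 2, 1, 1, 2, 0, 3, 3, 2, 0, 0, 3, 1, 4, 1, 1, 4, 1, 4, 1, 1, 3, 1, 4, 1],
   [0, 2, 4, 0, 2, 4, 4, 1, 2, 0, 2, 1, 1, 2, 0, 3, 3, 2],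
   [1, 2, 1, 4, 1, 4, 1, 2, 4, 0, 2, 1, 4, 1, 4, 1, 2],
   [0, 3, 3, 1, 3, 0, 0, 3, 1, 3, 1, 3, 1, 4, 4, 0, 3, 3],
   [1, 2, 1, 4, 1, 4, 1, 2, 4, 0, 2, 1, 4, 1, 4, 1, 2, 0, 0, 4, 1, 3, 1, 4, 4, 1, 3, 3, 1, 3, 1, 4, 4, 0, 4],
   [2, 0, 0, 4, 4, 0, 4, 0, 4, 4, 1, 2, 1, 3, 0, 0, 3, 3, 0, 4],
   [1, 2, 1, 4, 1, 4, 1, 2, 4, 0, 2, 1, 4, 1, 4, 1, 2, 0, 2, 0, 3, 1, 3, 1, 4, 4, 1, 1, 4, 1, 2, 1],
   []]

/-- Action of a letter on a point index. -/
def m24Tbl (k j : ℕ) : ℕ := (m24Tab k).getD j 0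

/-- Action of a word on a point index. -/
def m24Eval (w : List ℕ) (j : ℕ) : ℕ := w.foldr m24Tbl j

/-- The permutation denoted by a word. -/
noncomputable def m24Word (w : List ℕ) : Equiv.Perm GolayPt := (w.map m24Gen).prod

theorem m24Word_nil : m24Word [] = 1 := rfl

theorem m24Word_cons (k : ℕ) (w : List ℕ) : m24Word (k :: w) = m24Gen k * m24Word w := by
  simp [m24Word]

theorem m24Word_mem (w : List ℕ) : m24Word w ∈ M24 := by
  induction w with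
  | nil => exact one_mem _
  | cons k w ih => rw [m24Word_cons]; exact mul_mem (m24Gen_mem k) ih

theorem getD_lt_of_forall {l : List ℕ} {n : ℕ} (hn : 0 < n) (h : ∀ x ∈ l, x < n) (j : ℕ) :
    l.getD j 0 < n := by
  by_cases hj : j < l.length
  · rw [List.getD_eq_getElem _ _ hj]
    exact h _ (List.getElem_mem hj)
  · rw [List.getD_eq_default _ _ (not_lt.mp hj)]
    exact hn

theorem m24Tbl_lt (k j : ℕ) : m24Tbl k j < 24 := by
  unfold m24Tbl
  apply getD_lt_of_forall (by decide)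
  unfold m24Tab
  split <;> decide

theorem m24Eval_nil (j : ℕ) : m24Eval [] j = j := rfl

theorem m24Eval_cons (k : ℕ) (w : List ℕ) (j : ℕ) :
    m24Eval (k :: w) j = m24Tbl k (m24Eval w j) := rfl

theorem m24Eval_lt (w : List ℕ) {j : ℕ} (hj : j < 24) : m24Eval w j < 24 := by
  cases w with
  | nil => exact hj
  | cons k w => rw [m24Eval_cons]; exact m24Tbl_lt _ _

set_option maxRecDepth 100000 in
theorem m24Shift_apply : ∀ p : GolayPt, m24Shift p = pt (m24Tbl 0 (idx p)) := by decide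

set_option maxRecDepth 100000 in
theorem m24Shift_inv_apply : ∀ p : GolayPt, m24Shift (pt (m24Tbl 1 (idx p))) = p := by decide

set_option maxRecDepth 100000 in
theorem projInv_apply : ∀ p : GolayPt, projInv p = pt (m24Tbl 2 (idx p)) := by decide

set_option maxRecDepth 100000 in
theorem cubeTwistFun_apply : ∀ p : GolayPt, cubeTwistFun p = pt (m24Tbl 3 (idx p)) := by decide

set_option maxRecDepth 100000 in
theorem cubeTwistFun_inv_apply : ∀ p : GolayPt, cubeTwistFun (pt (m24Tbl 4 (idx p))) = p := by decide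

theorem m24Gen_apply (k : ℕ) (p : GolayPt) : m24Gen k p = pt (m24Tbl k (idx p)) := by
  match k with
  | 0 => exact m24Shift_apply p
  | 1 =>
    show m24Shift⁻¹ p = _
    rw [Equiv.Perm.inv_eq_iff_eq]
    exact (m24Shift_inv_apply p).symm
  | 2 => exact projInv_apply p
  | 3 => exact cubeTwistFun_apply p
  | (k + 4) =>
    show cubeTwist⁻¹ p = pt (m24Tbl 4 (idx p))
    rw [Equiv.Perm.inv_eq_iff_eq]
    exact (cubeTwistFun_inv_apply p).symm

theorem m24Word_apply (w : List ℕ) (p : GolayPt) : m24Word w p = pt (m24Eval w (idx p)) := by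
  induction w with
  | nil => rw [m24Word_nil, m24Eval_nil, pt_idx]; rfl
  | cons k w ih =>
    rw [m24Word_cons, Equiv.Perm.mul_apply, ih, m24Gen_apply, m24Eval_cons,
      idx_pt (m24Eval_lt w (idx_lt p))]

theorem m24Word_apply_pt (w : List ℕ) {j : ℕ} (hj : j < 24) :
    m24Word w (pt j) = pt (m24Eval w j) := by
  rw [m24Word_apply, idx_pt hj]

/-! ### Stabilizer chain -/

/-- A generic stabilizer-chain lemma: if for every level `l < k` and every point `y` off the first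
`l` base points there is a group element fixing those `l` base points and sending base point `l`
to `y`, then every injective `k`-tuple is the image of the base under a group element. -/
theorem exists_map_base_of_chain {α : Type*} (G : Subgroup (Equiv.Perm α)) (b : ℕ → α) :
    ∀ k : ℕ, (∀ l < k, ∀ y : α, (∀ i < l, y ≠ b i) →
        ∃ t ∈ G, (∀ i < l, t (b i) = b i) ∧ t (b l) = y) →
      ∀ x : ℕ → α, (∀ i < k, ∀ j < k, x i = x j → i = j) →
        ∃ g ∈ G, ∀ i < k, g (b i) = x i := by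
  intro k
  induction k with
  | zero =>
    intro _ x _
    exact ⟨1, one_mem _, fun i hi => absurd hi (Nat.not_lt_zero i)⟩
  | succ k ih =>
    intro H x hx
    obtain ⟨g, hg, hgx⟩ := ih (fun l hl => H l (Nat.lt_succ_of_lt hl)) x
      (fun i hi j hj => hx i (Nat.lt_succ_of_lt hi) j (Nat.lt_succ_of_lt hj))
    have hy : ∀ i < k, g⁻¹ (x k) ≠ b i := by
      intro i hi h
      have h1 : x k = g (b i) := by rw [← h]; simp
      rw [hgx i hi] at h1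
      have := hx k (Nat.lt_succ_self k) i (Nat.lt_succ_of_lt hi) h1
      omega
    obtain ⟨t, ht, htb, hty⟩ := H k (Nat.lt_succ_self k) (g⁻¹ (x k)) hy
    refine ⟨g * t, mul_mem hg ht, ?_⟩
    intro i hi
    rw [Equiv.Perm.mul_apply]
    rcases Nat.lt_succ_iff_lt_or_eq.mp hi with h | h
    · rw [htb i h, hgx i h]
    · subst h
      rw [hty]; simp

/-- Indices of the five base points: the extra point, then `0, 1, 2, 3`. -/
def m24BaseIdx (i : ℕ) : ℕ := [23, 0, 1, 2, 3].getD i 0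

/-- The five base points. -/
def m24BasePt (i : ℕ) : GolayPt := pt (m24BaseIdx i)

theorem m24BaseIdx_lt (i : ℕ) : m24BaseIdx i < 24 := by
  unfold m24BaseIdx
  exact getD_lt_of_forall (by decide) (by decide) i

/-- The transversal word of level `l` with target index `j`. -/
def m24Trans (l j : ℕ) : List ℕ := (m24TransTab l).getD j []

set_option maxRecDepth 100000 in
theorem m24Trans_ok : ∀ l < 5, ∀ j < 24, (∀ i < l, j ≠ m24BaseIdx i) →
    (∀ i < l, m24Eval (m24Trans l j) (m24BaseIdx i) = m24BaseIdx i) ∧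
      m24Eval (m24Trans l j) (m24BaseIdx l) = j := by
  decide

/-- `M24` maps the five base points onto any five distinct points, in order. -/
theorem m24_exists_map_base (x : ℕ → GolayPt) (hx : ∀ i < 5, ∀ j < 5, x i = x j → i = j) :
    ∃ g ∈ M24, ∀ i < 5, g (m24BasePt i) = x i := by
  apply exists_map_base_of_chain M24 m24BasePt 5 _ x hx
  intro l hl y hy
  have hy' : ∀ i < l, idx y ≠ m24BaseIdx i := by
    intro i hi h
    apply hy i hi
    rw [m24BasePt, ← h, pt_idx]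
  obtain ⟨h1, h2⟩ := m24Trans_ok l hl (idx y) (idx_lt y) hy'
  refine ⟨m24Word (m24Trans l (idx y)), m24Word_mem _, ?_, ?_⟩
  · intro i hi
    rw [m24BasePt, m24Word_apply_pt _ (m24BaseIdx_lt i), h1 i hi]
  · rw [m24BasePt, m24Word_apply_pt _ (m24BaseIdx_lt l), h2, pt_idx]

/-- `M24` is transitive on injective 5-tuples (tuples indexed by `i < 5`). -/
theorem m24_five_transitive (x y : ℕ → GolayPt) (hx : ∀ i < 5, ∀ j < 5, x i = x j → i = j)
    (hy : ∀ i < 5, ∀ j < 5, y i = y j → i = j) : ∃ g ∈ M24, ∀ i < 5, g (x i) = y i := by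
  obtain ⟨g, hg, hgx⟩ := m24_exists_map_base x hx
  obtain ⟨h, hh, hhy⟩ := m24_exists_map_base y hy
  refine ⟨h * g⁻¹, mul_mem hh (inv_mem hg), ?_⟩
  intro i hi
  rw [Equiv.Perm.mul_apply, ← hgx i hi]
  simp [hhy i hi]

/-! ### Six points have a nontrivial pointwise stabilizer -/

/-- The stabilizer word of index `j`. -/
def m24Stab6 (j : ℕ) : List ℕ := m24Stab6Tab.getD j []

set_option maxRecDepth 100000 in
theorem m24Stab6_ok : ∀ j < 24, (∀ i < 5, j ≠ m24BaseIdx i) →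
    (∀ i < 5, m24Eval (m24Stab6 j) (m24BaseIdx i) = m24BaseIdx i) ∧
      m24Eval (m24Stab6 j) j = j ∧ ∃ m < 24, m24Eval (m24Stab6 j) m ≠ m := by
  decide

/-- Any six distinct points are fixed by some nontrivial element of `M24`. -/
theorem m24_six_stabilizer (x : ℕ → GolayPt) (hx : ∀ i < 6, ∀ j < 6, x i = x j → i = j) :
    ∃ g ∈ M24, g ≠ 1 ∧ ∀ i < 6, g (x i) = x i := by
  obtain ⟨g, hg, hgx⟩ := m24_exists_map_base x
    (fun i hi j hj => hx i (by omega) j (by omega))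
  have hq : ∀ i < 5, idx (g⁻¹ (x 5)) ≠ m24BaseIdx i := by
    intro i hi h
    have h0 : g⁻¹ (x 5) = m24BasePt i := by rw [m24BasePt, ← h, pt_idx]
    have h1 : x 5 = g (m24BasePt i) := by rw [← h0]; simp
    rw [hgx i hi] at h1
    have := hx 5 (by omega) i (by omega) h1
    omega
  obtain ⟨h1, h2, m, hm, h3⟩ := m24Stab6_ok (idx (g⁻¹ (x 5))) (idx_lt _) hq
  set h := m24Word (m24Stab6 (idx (g⁻¹ (x 5)))) with hh
  have hfix5 : ∀ i < 5, h (m24BasePt i) = m24BasePt i := by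
    intro i hi
    rw [hh, m24BasePt, m24Word_apply_pt _ (m24BaseIdx_lt i), h1 i hi]
  have hfix6 : h (g⁻¹ (x 5)) = g⁻¹ (x 5) := by
    rw [hh, m24Word_apply, h2, pt_idx]
  have hne : h ≠ 1 := by
    intro h1'
    apply h3
    have : h (pt m) = pt m := by rw [h1']; rfl
    rw [hh, m24Word_apply_pt _ hm] at this
    have := congrArg idx this
    rwa [idx_pt (m24Eval_lt _ hm), idx_pt hm] at this
  refine ⟨g * h * g⁻¹, mul_mem (mul_mem hg (m24Word_mem _)) (inv_mem hg), ?_, ?_⟩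
  · intro hc
    apply hne
    have : h = g⁻¹ * (g * h * g⁻¹) * g := by group
    rw [this, hc]; group
  · intro i hi
    rw [Equiv.Perm.mul_apply, Equiv.Perm.mul_apply]
    rcases Nat.lt_succ_iff_lt_or_eq.mp hi with h' | h'
    · have : g⁻¹ (x i) = m24BasePt i := by rw [← hgx i h']; simp
      rw [this, hfix5 i h', hgx i h']
    · subst h'
      rw [hfix6]; simp

/-- Any set of at most six points is fixed pointwise by a nontrivial element of `M24`. -/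
theorem m24_stabilizer_of_card_le_six (B : Finset GolayPt) (hB : B.card ≤ 6) :
    ∃ g ∈ M24, g ≠ 1 ∧ ∀ b ∈ B, g b = b := by
  obtain ⟨B', hBB', hB'⟩ := Finset.exists_superset_card_eq hB
    (by rw [Fintype.card_option, ZMod.card]; decide : 6 ≤ Fintype.card GolayPt)
  let e := Finset.equivFinOfCardEq hB'
  let x : ℕ → GolayPt := fun i => if h : i < 6 then ((e.symm ⟨i, h⟩ : B') : GolayPt) else none
  have hx : ∀ i < 6, ∀ j < 6, x i = x j → i = j := by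
    intro i hi j hj hij
    simp only [x, hi, hj, dif_pos] at hij
    have := e.symm.injective (Subtype.ext hij)
    exact Fin.mk.inj_iff.mp this
  obtain ⟨g, hg, hne, hfix⟩ := m24_six_stabilizer x hx
  refine ⟨g, hg, hne, ?_⟩
  intro b hb
  have hb' : b ∈ B' := hBB' hb
  have hi := (e ⟨b, hb'⟩).isLt
  have : x (e ⟨b, hb'⟩) = b := by
    simp only [x, hi, dif_pos]
    simp
  rw [← this]
  exact hfix _ hi

end Cfsg.Agent.Lib.Helper92
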