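import Mathlib
import Cfsg.Prelude.Def_Sporadic_a
import Cfsg.Agent.Lib.Helper7.GolayFacts
import Cfsg.Agent.Lib.Helper7.M24Pres
import Cfsg.Agent.Lib.Helper92.M24Words

/-!
# Transitivity of `M24` on octads and on dodecads

* `m24_octad_transitive_base`: every octad is the image of `setOf m24Octad0` under an element of `M24`;
* `m24_dodecad_transitive_base`: every dodecad is the image of `setOf m24Dodecad0`;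
* `m24_octad_transitive`, `m24_dodecad_transitive`: transitivity.

The octad case is 5-transitivity plus the Steiner property.  For dodecads: move five points of the
dodecad to the five base points; the 48 dodecads through the base points are the images of one of
them under 48 explicit words fixing the base pointwise.
-/

set_option autoImplicit false
open Cfsg

namespace Cfsg.Agent.Lib.Helper92
open Cfsg.Agent.Lib.Helper7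
open scoped Pointwise

/-- Five distinct points in a set with at least five points. -/
theorem exists_five_points {s : Finset GolayPt} (hs : 5 ≤ s.card) :
    ∃ x : ℕ → GolayPt, (∀ i < 5, ∀ j < 5, x i = x j → i = j) ∧ ∀ i < 5, x i ∈ s := by
  obtain ⟨t, hts, ht⟩ := Finset.exists_subset_card_eq hs
  let e := Finset.equivFinOfCardEq ht
  refine ⟨fun i => if h : i < 5 then ((e.symm ⟨i, h⟩ : t) : GolayPt) else none, ?_, ?_⟩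
  · intro i hi j hj hij
    simp only [hi, hj, dif_pos] at hij
    have := e.symm.injective (Subtype.ext hij)
    exact Fin.mk.inj_iff.mp this
  · intro i hi
    simp only [hi, dif_pos]
    exact hts (e.symm ⟨i, hi⟩).2

/-- A word maps the set of one mask onto the set of another as soon as it maps it into it and the
two masks have the same number of bits. -/
theorem m24Word_smul_setOf (w : List ℕ) (m m' : ℕ) (hpc : pc m = pc m')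
    (h : ∀ j < 24, m.testBit j = true → m'.testBit (m24Eval w j) = true) :
    m24Word w • setOf m = setOf m' := by
  apply Finset.eq_of_subset_of_card_le
  · intro p hp
    rw [Finset.mem_smul_finset] at hp
    obtain ⟨q, hq, rfl⟩ := hp
    rw [mem_setOf] at hq ⊢
    show m'.testBit (idx (m24Word w q)) = true
    rw [m24Word_apply, idx_pt (m24Eval_lt w (idx_lt q))]
    exact h _ (idx_lt q) hq
  · rw [Finset.card_smul_finset, card_setOf, card_setOf, hpc]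

theorem m24BasePt_mem_setOf {m : ℕ} {i : ℕ} (h : m.testBit (m24BaseIdx i) = true) :
    m24BasePt i ∈ setOf m := by
  rw [mem_setOf, m24BasePt, idx_pt (m24BaseIdx_lt i)]
  exact h

/-! ### Octads -/

/-- The reference octad `{∞, 0, 1, 2, 3, 5, 14, 17}`. -/
def m24Octad0 : ℕ := 0x82402f

theorem m24Octad0_mem : setOf m24Octad0 ∈ octads :=
  setOf_mem_octads (by decide)

theorem m24Octad0_base : ∀ i < 5, m24Octad0.testBit (m24BaseIdx i) = true := by decide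

/-- Every octad is the image of the reference octad under an element of `M24`. -/
theorem m24_octad_transitive_base {o : Finset GolayPt} (ho : o ∈ octads) :
    ∃ g ∈ M24, g • setOf m24Octad0 = o := by
  have h8 : o.card = 8 := ho.2
  obtain ⟨x, hx, hxo⟩ := exists_five_points (s := o) (by omega)
  obtain ⟨g, hg, hgx⟩ := m24_exists_map_base x hx
  refine ⟨g, hg, ?_⟩
  let s : Finset GolayPt := (Finset.range 5).image m24BasePt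
  have hs5 : s.card = 5 := by
    rw [Finset.card_image_of_injOn, Finset.card_range]
    intro i hi j hj hij
    have hi' : i < 5 := Finset.mem_range.mp hi
    have hj' : j < 5 := Finset.mem_range.mp hj
    apply hx i hi' j hj'
    rw [← hgx i hi', ← hgx j hj', hij]
  apply smul_octad_eq_of_maps hg m24Octad0_mem ho (s := s)
  · intro p hp
    obtain ⟨i, hi, rfl⟩ := Finset.mem_image.mp hp
    exact m24BasePt_mem_setOf (m24Octad0_base i (Finset.mem_range.mp hi))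
  · rw [hs5]
  · intro p hp
    obtain ⟨i, hi, rfl⟩ := Finset.mem_image.mp hp
    rw [hgx i (Finset.mem_range.mp hi)]
    exact hxo i (Finset.mem_range.mp hi)

/-- `M24` is transitive on octads. -/
theorem m24_octad_transitive {o o' : Finset GolayPt} (ho : o ∈ octads) (ho' : o' ∈ octads) :
    ∃ g ∈ M24, g • o = o' := by
  obtain ⟨g, hg, rfl⟩ := m24_octad_transitive_base ho
  obtain ⟨g', hg', rfl⟩ := m24_octad_transitive_base ho'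
  refine ⟨g' * g⁻¹, mul_mem hg' (inv_mem hg), ?_⟩
  rw [mul_smul, inv_smul_smul]

/-! ### Dodecads -/

/-- The reference dodecad. -/
def m24Dodecad0 : ℕ := 0x80d3cf

/-- The 48 dodecads through the five base points, each with a word (fixing the base pointwise) mapping `m24Dodecad0` to it. -/
def m24DodTab : List (ℕ × List ℕ) :=
  [(0x80d3cf, []),
   (0x819a3f, [1, 2, 1, 4, 1, 4, 1, 2, 4, 0, 2, 1, 4, 1, 4, 1, 2, 1, 2, 1, 4, 1, 4, 1, 2, 4, 0, 2, 1, 4, 1, 4, 1, 2]),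
   (0x8309df, [1, 2, 1, 4, 1, 4, 1, 2, 4, 0, 2, 1, 4, 1, 4, 1, 2]),
   (0x85f40f, [1, 4, 0, 3, 0, 0, 4, 0, 0, 4, 0, 3, 1, 3, 3, 0, 0, 4, 4, 0, 3, 3, 1, 3, 0, 0, 3, 1, 3, 1, 3, 1, 4, 4, 0, 3, 3]),
   (0x862e1f, [0, 0, 4, 1, 3, 1, 4, 4, 1, 3, 3, 1, 3, 1, 4, 4, 0, 4, 0, 0, 3, 1, 4, 1, 1, 4, 1, 4, 1, 1, 3, 1, 4, 1]),
   (0x880faf, [0, 2, 0, 3, 1, 3, 1, 4, 4, 1, 1, 4, 1, 2, 1, 0, 0, 3, 1, 4, 1, 1, 4, 1, 4, 1, 1, 3, 1, 4, 1]),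
   (0x89465f, [0, 0, 3, 1, 4, 1, 1, 4, 1, 4, 1, 1, 3, 1, 4, 1, 1, 2, 1, 4, 1, 4, 1, 2, 4, 0, 2, 1, 4, 1, 4, 1, 2, 0, 2, 0, 3, 1, 3, 1, 4, 4, 1, 1, 4, 1, 2, 1]),
   (0x8a9c4f, [1, 4, 0, 4, 0, 0, 0, 0, 0, 4, 4, 1, 1, 4, 1, 3, 1, 3, 0, 3, 0, 3, 3, 1, 3, 0, 0, 3, 1, 3, 1, 3, 1, 4, 4, 0, 3, 3]),
   (0x8c619f, [0, 0, 3, 1, 4, 1, 1, 4, 1, 4, 1, 1, 3, 1, 4, 1, 1, 2, 1, 4, 1, 4, 1, 2, 4, 0, 2, 1, 4, 1, 4, 1, 2, 0, 0, 3, 1, 4, 1, 1, 4, 1, 4, 1, 1, 3, 1, 4, 1]),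
   (0x8d286f, [0, 0, 3, 1, 4, 1, 1, 4, 1, 4, 1, 1, 3, 1, 4, 1, 0, 0, 3, 1, 4, 1, 1, 4, 1, 4, 1, 1, 3, 1, 4, 1]),
   (0x9022ff, [0, 2, 0, 3, 1, 3, 1, 4, 4, 1, 1, 4, 1, 2, 1, 0, 2, 0, 3, 1, 3, 1, 4, 4, 1, 1, 4, 1, 2, 1]),
   (0x916b0f, [0, 3, 3, 1, 3, 0, 0, 3, 1, 3, 1, 3, 1, 4, 4, 0, 3, 3, 0, 2, 0, 3, 1, 3, 1, 4, 4, 1, 1, 4, 1, 2, 1]),
   (0x92b11f, [0, 2, 0, 3, 1, 3, 1, 4, 4, 1, 1, 4, 1, 2, 1]),
   (0x944ccf, [0, 3, 3, 1, 3, 0, 0, 3, 1, 3, 1, 3, 1, 4, 4, 0, 3, 3, 0, 0, 3, 1, 4, 1, 1, 4, 1, 4, 1, 1, 3, 1, 4, 1]),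
   (0x95053f, [0, 0, 3, 1, 4, 1, 1, 4, 1, 4, 1, 1, 3, 1, 4, 1, 0, 2, 0, 3, 1, 3, 1, 4, 4, 1, 1, 4, 1, 2, 1]),
   (0x9b248f, [1, 2, 0, 0, 4, 0, 3, 1, 3, 1, 3, 2, 0, 0, 0, 4, 1, 1, 4, 2]),
   (0x9c90af, [1, 4, 0, 3, 0, 0, 4, 0, 0, 4, 0, 3, 1, 3, 3, 0, 0, 4, 4, 0, 2, 0, 3, 1, 3, 1, 4, 4, 1, 1, 4, 1, 2, 1]),
   (0x9e034f, [0, 2, 4, 0, 2, 4, 4, 1, 2, 0, 2, 1, 1, 2, 0, 3, 3, 2, 0, 0, 3, 1, 4, 1, 1, 4, 1, 4, 1, 1, 3, 1, 4, 1]),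
   (0xa0785f, [0, 2, 0, 3, 1, 3, 1, 4, 4, 1, 1, 4, 1, 2, 1, 0, 3, 3, 1, 3, 0, 0, 3, 1, 3, 1, 3, 1, 4, 4, 0, 3, 3]),
   (0xa131af, [0, 3, 3, 1, 3, 0, 0, 3, 1, 3, 1, 3, 1, 4, 4, 0, 3, 3]),
   (0xa3a24f, [1, 2, 1, 4, 1, 4, 1, 2, 4, 0, 2, 1, 4, 1, 4, 1, 2, 0, 2, 4, 0, 2, 4, 4, 1, 2, 0, 2, 1, 1, 2, 0, 3, 3, 2]),
   (0xa4166f, [0, 0, 3, 1, 4, 1, 1, 4, 1, 4, 1, 1, 3, 1, 4, 1, 1, 2, 1, 4, 1, 4, 1, 2, 4, 0, 2, 1, 4, 1, 4, 1, 2]),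
   (0xa6858f, [0, 0, 4, 1, 3, 1, 4, 4, 1, 3, 3, 1, 3, 1, 4, 4, 0, 4, 0, 0, 3, 1, 4, 1, 1, 4, 1, 4, 1, 1, 3, 1, 4, 1, 0, 2, 4, 0, 2, 4, 4, 1, 2, 0, 2, 1, 1, 2, 0, 3, 3, 2]),
   (0xa8a43f, [1, 2, 1, 4, 1, 4, 1, 2, 4, 0, 2, 1, 4, 1, 4, 1, 2, 0, 0, 3, 1, 4, 1, 1, 4, 1, 4, 1, 1, 3, 1, 4, 1]),
   (0xacca0f, [1, 2, 1, 4, 1, 4, 1, 2, 4, 0, 2, 1, 4, 1, 4, 1, 2, 0, 0, 3, 1, 4, 1, 1, 4, 1, 4, 1, 1, 3, 1, 4, 1, 0, 2, 0, 3, 1, 3, 1, 4, 4, 1, 1, 4, 1, 2, 1]),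
   (0xaf101f, [0, 0, 3, 1, 4, 1, 1, 4, 1, 4, 1, 1, 3, 1, 4, 1, 0, 2, 4, 0, 2, 4, 4, 1, 2, 0, 2, 1, 1, 2, 0, 3, 3, 2]),
   (0xb0896f, [1, 2, 1, 4, 1, 4, 1, 2, 4, 0, 2, 1, 4, 1, 4, 1, 2, 0, 2, 0, 3, 1, 3, 1, 4, 4, 1, 1, 4, 1, 2, 1]),
   (0xb1c09f, [0, 2, 4, 0, 2, 4, 4, 1, 2, 0, 2, 1, 1, 2, 0, 3, 3, 2]),
   (0xb21a8f, [0, 2, 0, 3, 1, 3, 1, 4, 4, 1, 1, 4, 1, 2, 1, 0, 2, 4, 0, 2, 4, 4, 1, 2, 0, 2, 1, 1, 2, 0, 3, 3, 2]),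
   (0xb8550f, [0, 0, 3, 1, 4, 1, 1, 4, 1, 4, 1, 1, 3, 1, 4, 1, 0, 3, 3, 1, 3, 0, 0, 3, 1, 3, 1, 3, 1, 4, 4, 0, 3, 3]),
   (0xc0cd1f, [0, 2, 0, 3, 1, 3, 1, 4, 4, 1, 1, 4, 1, 2, 1, 0, 0, 3, 1, 4, 1, 1, 4, 1, 4, 1, 1, 3, 1, 4, 1, 1, 2, 1, 4, 1, 4, 1, 2, 4, 0, 2, 1, 4, 1, 4, 1, 2]),
   (0xc184ef, [1, 4, 0, 4, 0, 0, 0, 0, 0, 4, 4, 1, 1, 4, 1, 3, 1, 3, 0, 3, 0, 2, 4, 0, 2, 4, 4, 1, 2, 0, 2, 1, 1, 2, 0, 3, 3, 2]),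
   (0xc3170f, [1, 2, 1, 4, 1, 4, 1, 2, 4, 0, 2, 1, 4, 1, 4, 1, 2, 0, 0, 4, 1, 3, 1, 4, 4, 1, 3, 3, 1, 3, 1, 4, 4, 0, 4]),
   (0xc4a32f, [0, 4, 4, 1, 3, 0, 2, 3, 0, 4, 1, 1, 3, 0, 4, 1, 4, 0, 2, 1, 2, 1, 4, 1, 4, 1, 2, 4, 0, 2, 1, 4, 1, 4, 1, 2]),
   (0xc630cf, [1, 4, 0, 3, 0, 0, 4, 0, 0, 4, 0, 3, 1, 3, 3, 0, 0, 4, 4]),
   (0xc8117f, [2, 0, 0, 4, 4, 0, 4, 0, 4, 4, 1, 2, 1, 3, 0, 0, 3, 3, 0, 4]),
   (0xc9588f, [1, 4, 0, 4, 0, 0, 0, 0, 0, 4, 4, 1, 1, 4, 1, 3, 1, 3, 0, 3, 0, 2, 0, 3, 1, 3, 1, 4, 4, 1, 1, 4, 1, 2, 1]),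
   (0xca829f, [0, 4, 4, 1, 3, 0, 2, 3, 0, 4, 1, 1, 3, 0, 4, 1, 4, 0, 2, 0, 2, 4, 0, 2, 4, 4, 1, 2, 0, 2, 1, 1, 2, 0, 3, 3, 2]),
   (0xd03c2f, [1, 4, 0, 4, 0, 0, 0, 0, 0, 4, 4, 1, 1, 4, 1, 3, 1, 3, 0, 3]),
   (0xd4521f, [2, 0, 0, 4, 4, 0, 4, 0, 4, 4, 1, 2, 1, 3, 0, 0, 3, 3, 0, 4, 0, 2, 0, 3, 1, 3, 1, 4, 4, 1, 1, 4, 1, 2, 1]),
   (0xd7880f, [0, 2, 4, 0, 2, 4, 4, 1, 2, 0, 2, 1, 1, 2, 0, 3, 3, 2, 1, 4, 0, 3, 0, 0, 4, 0, 0, 4, 0, 3, 1, 3, 3, 0, 0, 4, 4]),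
   (0xd8e04f, [2, 0, 0, 4, 4, 0, 4, 0, 4, 4, 1, 2, 1, 3, 0, 0, 3, 3, 0, 4, 1, 4, 0, 3, 0, 0, 4, 0, 0, 4, 0, 3, 1, 3, 3, 0, 0, 4, 4]),
   (0xe0668f, [0, 2, 0, 3, 1, 3, 1, 4, 4, 1, 1, 4, 1, 2, 1, 0, 0, 3, 1, 4, 1, 1, 4, 1, 4, 1, 1, 3, 1, 4, 1, 0, 2, 0, 3, 1, 3, 1, 4, 4, 1, 1, 4, 1, 2, 1]),
   (0xe408bf, [0, 0, 4, 1, 3, 1, 4, 4, 1, 3, 3, 1, 3, 1, 4, 4, 0, 4, 0, 0, 3, 1, 4, 1, 1, 4, 1, 4, 1, 1, 3, 1, 4, 1, 1, 2, 1, 4, 1, 4, 1, 2, 4, 0, 2, 1, 4, 1, 4, 1, 2]),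
   (0xe5414f, [0, 2, 0, 3, 1, 3, 1, 4, 4, 1, 1, 4, 1, 2, 1, 0, 0, 3, 1, 4, 1, 1, 4, 1, 4, 1, 1, 3, 1, 4, 1, 0, 0, 3, 1, 4, 1, 1, 4, 1, 4, 1, 1, 3, 1, 4, 1]),
   (0xea290f, [0, 4, 4, 1, 3, 0, 2, 3, 0, 4, 1, 1, 3, 0, 4, 1, 4, 0, 2]),
   (0xf2045f, [0, 0, 3, 1, 4, 1, 1, 4, 1, 4, 1, 1, 3, 1, 4, 1]),
   (0xf9022f, [1, 2, 1, 4, 1, 4, 1, 2, 4, 0, 2, 1, 4, 1, 4, 1, 2, 0, 0, 4, 1, 3, 1, 4, 4, 1, 3, 3, 1, 3, 1, 4, 4, 0, 4, 0, 2, 0, 3, 1, 3, 1, 4, 4, 1, 1, 4, 1, 2, 1])]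

theorem m24Dodecad0_mem : setOf m24Dodecad0 ∈ dodecads :=
  setOf_mem_dodecads (by decide)

set_option maxRecDepth 100000 in
theorem m24DodTab_ok : ∀ e ∈ m24DodTab, pc e.1 = 12 ∧
    ∀ j < 24, m24Dodecad0.testBit j = true → e.1.testBit (m24Eval e.2 j) = true := by
  decide +kernel

set_option maxRecDepth 100000 in
theorem m24DodTab_complete_aux : ∀ k < 256, (enc (16 * k + 15)).testBit 23 = true →
    pc (enc (16 * k + 15)) = 12 → ∃ e ∈ m24DodTab, e.1 = enc (16 * k + 15) := by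
  decide +kernel

theorem mod_sixteen_of_testBit (c : ℕ) (h0 : c.testBit 0 = true) (h1 : c.testBit 1 = true)
    (h2 : c.testBit 2 = true) (h3 : c.testBit 3 = true) : c % 16 = 15 := by
  apply Nat.eq_of_testBit_eq
  intro i
  rw [show (16 : ℕ) = 2 ^ 4 from rfl, Nat.testBit_mod_two_pow,
    show (15 : ℕ) = 2 ^ 4 - 1 from rfl, Nat.testBit_two_pow_sub_one]
  by_cases hi : i < 4
  · interval_cases i <;> simp [h0, h1, h2, h3]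
  · simp [hi]

theorem testBit_enc_low {c : ℕ} (hc : c < 4096) {i : ℕ} (hi : i < 12) :
    c.testBit i = (enc c).testBit i := by
  conv_lhs => rw [← enc_mod c hc]
  rw [show (4096 : ℕ) = 2 ^ 12 from rfl, Nat.testBit_mod_two_pow]
  simp [hi]

theorem m24DodTab_complete (c : ℕ) (hc : c < 4096) (hpc : pc (enc c) = 12)
    (hb : ∀ i < 5, (enc c).testBit (m24BaseIdx i) = true) : ∃ e ∈ m24DodTab, e.1 = enc c := by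
  have h23 : (enc c).testBit 23 = true := hb 0 (by decide)
  have h0 : c.testBit 0 = true := by
    rw [testBit_enc_low hc (by decide)]; exact hb 1 (by decide)
  have h1 : c.testBit 1 = true := by
    rw [testBit_enc_low hc (by decide)]; exact hb 2 (by decide)
  have h2 : c.testBit 2 = true := by
    rw [testBit_enc_low hc (by decide)]; exact hb 3 (by decide)
  have h3 : c.testBit 3 = true := by
    rw [testBit_enc_low hc (by decide)]; exact hb 4 (by decide)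
  have h16 := mod_sixteen_of_testBit c h0 h1 h2 h3
  have hc' : c = 16 * (c / 16) + 15 := by omega
  rw [hc'] at h23 hpc ⊢
  exact m24DodTab_complete_aux (c / 16) (by omega) h23 hpc

/-- Every dodecad is the image of the reference dodecad under an element of `M24`. -/
theorem m24_dodecad_transitive_base {d : Finset GolayPt} (hd : d ∈ dodecads) :
    ∃ g ∈ M24, g • setOf m24Dodecad0 = d := by
  have h12 : d.card = 12 := hd.2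
  obtain ⟨x, hx, hxd⟩ := exists_five_points (s := d) (by omega)
  obtain ⟨g, hg, hgx⟩ := m24_exists_map_base x hx
  have hd1 : g⁻¹ • d ∈ dodecads := smul_mem_dodecads (inv_mem hg) hd
  obtain ⟨w, hw, hsupp, hcard⟩ := (mem_dodecads_iff _).mp hd1
  obtain ⟨c, hc, rfl⟩ := (mem_golayCode_iff w).mp hw
  rw [support₂_wordOf] at hsupp
  have hpc : pc (enc c) = 12 := by rw [← card_setOf, hsupp]; exact hcard
  have hbase : ∀ i < 5, (enc c).testBit (m24BaseIdx i) = true := by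
    intro i hi
    have h1 : m24BasePt i ∈ g⁻¹ • d := by
      rw [Finset.mem_smul_finset]
      exact ⟨x i, hxd i hi, by rw [← hgx i hi]; simp⟩
    rw [← hsupp, mem_setOf, m24BasePt, idx_pt (m24BaseIdx_lt i)] at h1
    exact h1
  obtain ⟨e, he, hee⟩ := m24DodTab_complete c hc hpc hbase
  obtain ⟨hpe, hmap⟩ := m24DodTab_ok e he
  have h2 : m24Word e.2 • setOf m24Dodecad0 = setOf e.1 :=
    m24Word_smul_setOf e.2 m24Dodecad0 e.1 (by rw [hpe]; decide) hmap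
  refine ⟨g * m24Word e.2, mul_mem hg (m24Word_mem _), ?_⟩
  rw [mul_smul, h2, hee, hsupp, smul_inv_smul]

/-- `M24` is transitive on dodecads. -/
theorem m24_dodecad_transitive {d d' : Finset GolayPt} (hd : d ∈ dodecads) (hd' : d' ∈ dodecads) :
    ∃ g ∈ M24, g • d = d' := by
  obtain ⟨g, hg, rfl⟩ := m24_dodecad_transitive_base hd
  obtain ⟨g', hg', rfl⟩ := m24_dodecad_transitive_base hd'
  refine ⟨g' * g⁻¹, mul_mem hg' (inv_mem hg), ?_⟩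
  rw [mul_smul, inv_smul_smul]

end Cfsg.Agent.Lib.Helper92
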