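import Cfsg.Agent.Lib.Helper7.M12General
import Cfsg.Agent.Lib.Helper92.M24Trans

/-!
# Explicit words for the group `M9 = 3^2 : Q_8` (three-point stabilizer in `M12`)
-/

set_option autoImplicit false
open Cfsg

namespace Cfsg.Agent.Lib.Helper92.M9
open Cfsg.Agent.Lib.Helper7 Cfsg.Agent.Lib.Helper92
open scoped Pointwise

/-- First generator of the normal subgroup of order 9. -/
def w1 : List ℕ := [3, 0, 2, 0, 4, 4, 2, 0, 3, 0, 0, 2, 0, 3, 3, 2, 3, 0, 4, 3, 0, 2, 0, 4, 4, 2, 0, 3, 0, 2, 1, 3, 2, 2, 1, 1, 1, 0, 2, 1, 3, 2, 2, 1, 1, 1]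

/-- Second generator of the normal subgroup of order 9. -/
def w2 : List ℕ := [1, 3, 0, 0, 4, 0, 3, 1, 3, 0, 0, 0, 4, 0, 3, 1, 2, 3, 0, 2, 0, 4, 4, 2, 0, 3, 1, 3, 0, 0, 4, 0, 3, 3, 0, 2, 0, 4, 4, 2, 0, 3, 1, 3, 0, 0, 0, 4, 0, 3, 1, 2]

/-- Generator of order 4 of the quaternion group. -/
def wA : List ℕ := [1, 3, 0, 0, 4, 0, 3, 4, 4, 2, 1, 1, 0, 3, 3, 3, 0, 2, 0, 4, 4, 2, 0, 3, 1, 3, 0, 0, 4, 0, 3, 1, 3, 0, 0, 4, 0, 3, 3, 0, 2, 0, 4, 4, 2, 0, 3]

/-- Second generator of the quaternion group. -/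
def wX : List ℕ := [3, 0, 2, 0, 4, 4, 2, 0, 3, 1, 3, 0, 0, 0, 4, 0, 3, 1, 2, 1, 3, 0, 0, 4, 0, 3, 1, 3, 0, 0, 0, 4, 0, 3, 1, 2, 0, 0, 2, 0, 3, 3, 2, 3, 0, 4, 4, 4, 2, 1, 1, 0, 3, 3]

/-- Powers of a word. -/
def pw (w : List ℕ) : ℕ → List ℕ
  | 0 => []
  | k + 1 => w ++ pw w k

/-- The words of the subgroup of order 9. -/
def wN (i j : ℕ) : List ℕ := pw w1 i ++ pw w2 j

/-- The words of the quaternion group: `b = false` for `a i`, `b = true` for `xa i`. -/
def wQ (b : Bool) (i : ℕ) : List ℕ := if b then wX ++ pw wA i else pw wA i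

theorem m24Word_append'' (u v : List ℕ) : m24Word (u ++ v) = m24Word u * m24Word v := by
  simp [m24Word]

theorem m24Word_pw (w : List ℕ) (k : ℕ) : m24Word (pw w k) = m24Word w ^ k := by
  induction k with
  | zero => rfl
  | succ k ih => rw [pw, m24Word_append'', ih, pow_succ']

theorem m24Word_eq_of_eval {u v : List ℕ} (h : ∀ j < 24, m24Eval u j = m24Eval v j) :
    m24Word u = m24Word v := by
  apply Equiv.ext
  intro p
  rw [m24Word_apply, m24Word_apply, h _ (idx_lt p)]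

theorem eval_eq_of_m24Word_eq {u v : List ℕ} (h : m24Word u = m24Word v) :
    ∀ j < 24, m24Eval u j = m24Eval v j := by
  intro j hj
  have h1 := m24Word_apply_pt u hj
  rw [h, m24Word_apply_pt v hj] at h1
  have h2 := congrArg idx h1
  rw [idx_pt (m24Eval_lt _ hj), idx_pt (m24Eval_lt _ hj)] at h2
  exact h2.symm

/-! ### Kernel checks -/

/-- A word stabilizes `d0` and fixes the first three base points. -/
def genOK (w : List ℕ) : Prop :=
  (∀ j < 24, d0Mask.testBit j = true → d0Mask.testBit (m24Eval w j) = true) ∧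
    m24Eval w 23 = 23 ∧ m24Eval w 0 = 0 ∧ m24Eval w 1 = 1

instance (w : List ℕ) : Decidable (genOK w) := by unfold genOK; infer_instance

set_option maxRecDepth 100000 in
theorem gens_ok : genOK w1 ∧ genOK w2 ∧ genOK wA ∧ genOK wX := by
  decide +kernel

set_option maxRecDepth 100000 in
theorem n_hom : ∀ i < 3, ∀ j < 3, ∀ i' < 3, ∀ j' < 3, ∀ k < 24,
    m24Eval (wN ((i + i') % 3) ((j + j') % 3)) k = m24Eval (wN i j ++ wN i' j') k := by
  decide +kernel

set_option maxRecDepth 100000 in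
theorem n_inj : ∀ i < 3, ∀ j < 3, (∀ k < 24, m24Eval (wN i j) k = m24Eval [] k) →
    i = 0 ∧ j = 0 := by
  decide +kernel

set_option maxRecDepth 100000 in
theorem q_hom_aa : ∀ i < 4, ∀ j < 4, ∀ k < 24,
    m24Eval (wQ false ((i + j) % 4)) k = m24Eval (wQ false i ++ wQ false j) k := by
  decide +kernel

set_option maxRecDepth 100000 in
theorem q_hom_ax : ∀ i < 4, ∀ j < 4, ∀ k < 24,
    m24Eval (wQ true ((j + 4 - i) % 4)) k = m24Eval (wQ false i ++ wQ true j) k := by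
  decide +kernel

set_option maxRecDepth 100000 in
theorem q_hom_xa : ∀ i < 4, ∀ j < 4, ∀ k < 24,
    m24Eval (wQ true ((i + j) % 4)) k = m24Eval (wQ true i ++ wQ false j) k := by
  decide +kernel

set_option maxRecDepth 100000 in
theorem q_hom_xx : ∀ i < 4, ∀ j < 4, ∀ k < 24,
    m24Eval (wQ false ((2 + j + 4 - i) % 4)) k = m24Eval (wQ true i ++ wQ true j) k := by
  decide +kernel

set_option maxRecDepth 100000 in
theorem q_inj : ∀ b : Bool, ∀ i < 4, (∀ k < 24, m24Eval (wQ b i) k = m24Eval [] k) →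
    b = false ∧ i = 0 := by
  decide +kernel

set_option maxRecDepth 100000 in
theorem conj_ok : ∀ b : Bool, ∀ i < 4, ∀ a < 3, ∀ c < 3, ∃ a' < 3, ∃ c' < 3, ∀ k < 24,
    m24Eval (wQ b i ++ wN a c) k = m24Eval (wN a' c' ++ wQ b i) k := by
  decide +kernel

end Cfsg.Agent.Lib.Helper92.M9
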