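import Mathlib
import Cfsg.Prelude.Def_HallClasses

/-!
# S2536 module [CYC] (helper92): a Hall `π`-subgroup of `Perm β` contains an `r`-cycle for every
prime `r ∈ π`, `r ≤ card β`
-/

set_option autoImplicit false

namespace Cfsg.Agent.Lib.Helper92.HallSym

open Cfsg Equiv
open scoped Pointwise

variable {β : Type} [Fintype β] [DecidableEq β]

/-- there is an `r`-cycle in `Perm β` as soon as `2 ≤ r ≤ card β` -/
theorem exists_isCycle_card (r : ℕ) (hr2 : 2 ≤ r) (hrn : r ≤ Fintype.card β) :
    ∃ c : Perm β, c.IsCycle ∧ c.support.card = r := by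
  obtain ⟨s, -, hs⟩ := Finset.exists_subset_card_eq (s := (Finset.univ : Finset β)) (n := r)
    (by rw [Finset.card_univ]; exact hrn)
  have hnd : s.toList.Nodup := Finset.nodup_toList s
  have hlen : s.toList.length = r := by rw [Finset.length_toList, hs]
  refine ⟨s.toList.formPerm, ?_, ?_⟩
  · apply List.isCycle_formPerm hnd
    rw [hlen]; exact hr2
  · rw [List.support_formPerm_of_nodup _ hnd, Finset.toList_toFinset, hs]
    intro x hx
    rw [hx] at hlen
    simp at hlen
    omega

theorem exists_cycle_mem (π : Set ℕ) (H : Subgroup (Perm β)) (hH : IsPiHall π H) (r : ℕ)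
    (hr : r.Prime) (hrπ : r ∈ π) (hrn : r ≤ Fintype.card β) :
    ∃ g ∈ H, g.IsCycle ∧ g.support.card = r := by
  classical
  have : Fact r.Prime := ⟨hr⟩
  obtain ⟨c, hc, hcs⟩ := exists_isCycle_card (β := β) r hr.two_le hrn
  have hord : orderOf c = r := by rw [hc.orderOf, hcs]
  -- `zpowers c` is an `r`-group, inside a Sylow `r`-subgroup `Q`
  have hpg : IsPGroup r (Subgroup.zpowers c) := by
    apply IsPGroup.of_card (n := 1)
    rw [Nat.card_zpowers, hord, pow_one]
  obtain ⟨Q, hQ⟩ := hpg.exists_le_sylow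
  -- a Sylow `r`-subgroup of `H` is Sylow in `Perm β`
  obtain ⟨PH⟩ : Nonempty (Sylow r H) := inferInstance
  have hcardPH : Nat.card PH = r ^ (Nat.card H).factorization r := PH.card_eq_multiplicity
  have hidx : ¬ r ∣ H.index := hH.2 r hr hrπ
  have hfac : (Nat.card (Perm β)).factorization r = (Nat.card H).factorization r := by
    rw [← Subgroup.card_mul_index H]
    have hH0 : Nat.card H ≠ 0 := Nat.card_pos.ne'
    have hi0 : H.index ≠ 0 := Subgroup.index_ne_zero_of_finite
    rw [Nat.factorization_mul hH0 hi0, Finsupp.add_apply,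
      Nat.factorization_eq_zero_of_not_dvd hidx, add_zero]
  let P' : Subgroup (Perm β) := (PH : Subgroup H).map H.subtype
  have hcardP' : Nat.card P' = r ^ (Nat.card (Perm β)).factorization r := by
    rw [hfac, ← hcardPH]
    exact Nat.card_congr
      ((PH : Subgroup H).equivMapOfInjective H.subtype H.subtype_injective).symm.toEquiv
  let P : Sylow r (Perm β) := Sylow.ofCard P' hcardP'
  have hP'H : P' ≤ H := by
    rintro x ⟨y, -, rfl⟩
    exact y.2
  obtain ⟨g, hg⟩ := MulAction.exists_smul_eq (Perm β) Q P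
  refine ⟨g * c * g⁻¹, ?_, ?_, ?_⟩
  · apply hP'H
    have h1 : c ∈ (Q : Subgroup (Perm β)) := hQ (Subgroup.mem_zpowers c)
    have h2 : MulAut.conj g • c ∈ MulAut.conj g • (Q : Subgroup (Perm β)) :=
      Subgroup.smul_mem_pointwise_smul _ _ _ h1
    have h3 : ((g • Q : Sylow r (Perm β)) : Subgroup (Perm β)) =
        MulAut.conj g • (Q : Subgroup (Perm β)) := Sylow.pointwise_smul_def
    rw [← h3, hg] at h2
    exact h2
  · exact hc.conj
  · rw [Equiv.Perm.card_support_conj, hcs]

end Cfsg.Agent.Lib.Helper92.HallSym
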