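import Mathlib
import Cfsg.Prelude.Def_HallClasses
import Cfsg.Agent.Lib.Helper92.HallSymCyc

/-!
# S2536 module [PRIM] (helper92): a primitive Hall `π`-subgroup of `Perm β` with a prime
`r ∈ π`, `r < card β`, is the whole symmetric group
-/

set_option autoImplicit false

namespace Cfsg.Agent.Lib.Helper92.HallSym

open Cfsg Equiv MulAction

variable {β : Type} [Fintype β] [DecidableEq β]

/-- swap case -/
theorem eq_top_of_two_mem (π : Set ℕ) (H : Subgroup (Perm β)) (hH : IsPiHall π H)
    (hprim : MulAction.IsPreprimitive H β) (h2π : 2 ∈ π) (h2n : 2 ≤ Fintype.card β) : H = ⊤ := by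
  obtain ⟨g, hgH, hgc, hgs⟩ := exists_cycle_mem π H hH 2 Nat.prime_two h2π h2n
  exact Equiv.Perm.subgroup_eq_top_of_isPreprimitive_of_isSwap_mem hprim g
    (Equiv.Perm.card_support_eq_two.mp hgs) hgH

theorem eq_top_of_isPreprimitive (π : Set ℕ) (H : Subgroup (Perm β)) (hH : IsPiHall π H)
    (hprim : MulAction.IsPreprimitive H β) (r : ℕ) (hr : r.Prime) (hrπ : r ∈ π)
    (hrn : r < Fintype.card β) : H = ⊤ := by
  classical
  have h2n : 2 ≤ Fintype.card β := le_trans hr.two_le hrn.le
  by_cases h2π : 2 ∈ π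
  · exact eq_top_of_two_mem π H hH hprim h2π h2n
  exfalso
  apply h2π
  obtain ⟨g, hgH, hgc, hgs⟩ := exists_cycle_mem π H hH r hr hrπ hrn.le
  -- `H` is 2-pretransitive by Jordan
  have hsn : ((g.support : Set β)ᶜ).ncard = (Fintype.card β - r - 1) + 1 := by
    have h1 := Set.ncard_add_ncard_compl (g.support : Set β)
    rw [Set.ncard_coe_finset, hgs, Nat.card_eq_fintype_card] at h1
    omega
  have hsn' : (Fintype.card β - r - 1) + 2 < Nat.card β := by
    rw [Nat.card_eq_fintype_card]
    have := hr.two_le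
    omega
  have h2t : IsMultiplyPretransitive H β 2 :=
    hprim.is_two_pretransitive hsn hsn' (Equiv.Perm.isPretransitive_of_isCycle_mem hgc hgH)
  -- two distinct points and an element of `H` exchanging them
  obtain ⟨a, b, hab⟩ : ∃ a b : β, a ≠ b := by
    have : 1 < Fintype.card β := by omega
    obtain ⟨a, b, hab⟩ := Fintype.one_lt_card_iff.mp this
    exact ⟨a, b, hab⟩
  rw [is_two_pretransitive_iff] at h2t
  obtain ⟨h, hha, hhb⟩ := h2t hab hab.symm
  -- the order of `h` is even
  have heven : 2 ∣ orderOf h := by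
    by_contra hodd
    have hodd' : Odd (orderOf h) := Nat.odd_iff.mpr (by omega)
    obtain ⟨k, hk⟩ := hodd'
    have h1 : h ^ (2 * k + 1) = 1 := by rw [← hk]; exact pow_orderOf_eq_one h
    have h2 : (h ^ 2) • a = a := by
      rw [pow_two, mul_smul, hha, hhb]
    have hpow : ∀ j : ℕ, ((h ^ 2) ^ j) • a = a := by
      intro j
      induction j with
      | zero => rw [pow_zero, one_smul]
      | succ j ih => rw [pow_succ, mul_smul, h2, ih]
    have h3 : (h ^ (2 * k)) • a = a := by
      rw [pow_mul]
      exact hpow k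
    have h4 : h • a = a := by
      have : (h ^ (2 * k + 1)) • a = h • a := by
        rw [pow_succ', mul_smul, h3]
      rw [← this, h1, one_smul]
    exact hab (by rw [← h4, hha])
  have h2H : 2 ∣ Nat.card H := dvd_trans heven (orderOf_dvd_natCard h)
  exact hH.1 2 Nat.prime_two h2H

end Cfsg.Agent.Lib.Helper92.HallSym
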