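import Mathlib

/-!
# S2536 module [T3] (helper92): a transitive group whose point stabiliser is the full pointwise
stabiliser of two points does not exist in degree `≥ 5`
-/

set_option autoImplicit false

namespace Cfsg.Agent.Lib.Helper92.HallSym

open Equiv

variable {β : Type} [Fintype β] [DecidableEq β]

theorem false_of_two_point (H : Subgroup (Perm β)) (htr : ∀ a b : β, ∃ h ∈ H, h a = b)
    (x y : β) (hxy : x ≠ y) (hfix : ∀ h ∈ H, h x = x → h y = y)
    (hall : ∀ σ : Perm β, σ x = x → σ y = y → σ ∈ H) (hcard : 5 ≤ Fintype.card β) : False := by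
  classical
  -- the equivariant map `w ↦ w*`
  choose hw hwH hwx using fun w : β => htr x w
  set star : β → β := fun w => hw w y with hstar
  have hequiv : ∀ h ∈ H, ∀ w : β, star (h w) = h (star w) := by
    intro h hh w
    have hmem : (hw (h w))⁻¹ * (h * hw w) ∈ H :=
      H.mul_mem (H.inv_mem (hwH _)) (H.mul_mem hh (hwH _))
    have hx' : ((hw (h w))⁻¹ * (h * hw w)) x = x := by
      rw [Perm.mul_apply, Perm.mul_apply, hwx, Perm.inv_eq_iff_eq, hwx]
    have hy' := hfix _ hmem hx'
    rw [Perm.mul_apply, Perm.mul_apply, Perm.inv_eq_iff_eq] at hy'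
    exact hy'.symm
  have hstarx : star x = y := hfix _ (hwH x) (hwx x)
  -- enough points
  have hex : ∀ s : Finset β, s.card ≤ 4 → ∃ w : β, w ∉ s := by
    intro s hs
    by_contra hcon
    push Not at hcon
    have : Finset.univ ⊆ s := fun w _ => hcon w
    have := Finset.card_le_card this
    rw [Finset.card_univ] at this
    omega
  obtain ⟨z, hz⟩ := hex {x, y} (le_trans (Finset.card_insert_le _ _) (by simp))
  have hzx : z ≠ x := fun h => hz (by rw [h]; simp)
  have hzy : z ≠ y := fun h => hz (by rw [h]; simp)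
  -- swaps of points outside `{x, y}` lie in `H`
  have hswap : ∀ u v : β, u ≠ x → u ≠ y → v ≠ x → v ≠ y → swap u v ∈ H := by
    intro u v hux huy hvx hvy
    apply hall
    · exact swap_apply_of_ne_of_ne hux.symm hvx.symm
    · exact swap_apply_of_ne_of_ne huy.symm hvy.symm
  -- `z* ∈ {x, y, z}`
  have hzs : star z = x ∨ star z = y ∨ star z = z := by
    by_contra hcon
    push Not at hcon
    obtain ⟨h1, h2, h3⟩ := hcon
    obtain ⟨w, hw'⟩ := hex {x, y, z, star z} (by
      refine le_trans (Finset.card_insert_le _ _) ?_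
      refine Nat.succ_le_succ (le_trans (Finset.card_insert_le _ _) ?_)
      refine Nat.succ_le_succ (le_trans (Finset.card_insert_le _ _) ?_)
      simp)
    simp only [Finset.mem_insert, Finset.mem_singleton, not_or] at hw'
    obtain ⟨hwx', hwy', hwz, hws⟩ := hw'
    have hσ : swap (star z) w ∈ H := hswap _ _ h1 h2 hwx' hwy'
    have h4 := hequiv _ hσ z
    rw [swap_apply_of_ne_of_ne (Ne.symm h3) (Ne.symm hwz), swap_apply_left] at h4
    exact hws h4.symm
  have hzne : star z ≠ z := by
    intro h
    have h1 : hw z y = hw z x := by rw [hwx]; exact h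
    exact hxy ((hw z).injective h1).symm
  -- transport along `H_x`: `w* = σ (z*)` for `w ∉ {x, y}`
  have htransport : ∀ w : β, w ≠ x → w ≠ y → star w = swap z w (star z) := by
    intro w hwx' hwy'
    have hσ : swap z w ∈ H := hswap _ _ hzx hzy hwx' hwy'
    have := hequiv _ hσ z
    rw [swap_apply_left] at this
    exact this
  rcases hzs with h | h | h
  · -- `z* = x`: then `w* = x` for all `w ∉ {x, y}`
    have hall' : ∀ w : β, w ≠ x → w ≠ y → star w = x := by
      intro w hwx' hwy'
      rw [htransport w hwx' hwy', h, swap_apply_of_ne_of_ne hzx.symm hwx'.symm]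
    -- take `g ∈ H` with `g x = z`
    obtain ⟨g, hgH, hgx⟩ := htr x z
    -- there is `w ∉ {x,y}` with `g w ∉ {x,y}`
    obtain ⟨w, hw'⟩ := hex {x, y, g⁻¹ x, g⁻¹ y} (by
      refine le_trans (Finset.card_insert_le _ _) ?_
      refine Nat.succ_le_succ (le_trans (Finset.card_insert_le _ _) ?_)
      refine Nat.succ_le_succ (le_trans (Finset.card_insert_le _ _) ?_)
      simp)
    simp only [Finset.mem_insert, Finset.mem_singleton, not_or] at hw'
    obtain ⟨hwx', hwy', hwgx, hwgy⟩ := hw'
    have hgwx : g w ≠ x := fun hh => hwgx (by rw [← hh]; simp)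
    have hgwy : g w ≠ y := fun hh => hwgy (by rw [← hh]; simp)
    have h1 := hequiv g hgH w
    rw [hall' w hwx' hwy', hall' (g w) hgwx hgwy, hgx] at h1
    exact hzx h1.symm
  · -- `z* = y`: then `w* = y` for all `w ≠ y`
    have hall' : ∀ w : β, w ≠ y → star w = y := by
      intro w hwy'
      by_cases hwx' : w = x
      · rw [hwx', hstarx]
      · rw [htransport w hwx' hwy', h, swap_apply_of_ne_of_ne hzy.symm (Ne.symm hwy')]
    obtain ⟨g, hgH, hgy⟩ := htr y z
    obtain ⟨w, hw'⟩ := hex {y, g⁻¹ y} (le_trans (Finset.card_insert_le _ _) (by simp))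
    simp only [Finset.mem_insert, Finset.mem_singleton, not_or] at hw'
    obtain ⟨hwy', hwgy⟩ := hw'
    have hgwy : g w ≠ y := fun hh => hwgy (by rw [← hh]; simp)
    have h1 := hequiv g hgH w
    rw [hall' w hwy', hall' (g w) hgwy, hgy] at h1
    exact hzy h1.symm
  · exact hzne h

end Cfsg.Agent.Lib.Helper92.HallSym
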