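import Mathlib

/-!
# BHRSU6-[F3-COEF] (helper92): a common factor for four coefficients (pure field algebra)

Sheet: `Lib/Helper86/BHRSU6/BHRSU6_SHEET.md`, statement from `Skel.lean.txt`.
-/

set_option autoImplicit false

namespace Cfsg.Agent.Lib.Helper86.BHRSU6

section coef

variable {L : Type*} [Field L] (s : L →+* L) (hs : ∀ a, s (s a) = a)

include hs in
/-- `x s(y)` fixed, `x ≠ 0`: `y / x` is fixed -/
theorem h92_fix_div {x y : L} (h : s (x * s y) = x * s y) (hx : x ≠ 0) : s (y / x) = y / x := by
  have h' : s x * y = x * s y := by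
    rw [map_mul, hs] at h
    exact h
  have hsx : s x ≠ 0 := (map_ne_zero s).2 hx
  rw [map_div₀, div_eq_div_iff hsx hx]
  linear_combination -h'

/-- the fixed elements are closed under products -/
theorem h92_fix_mul {x y : L} (hx : s x = x) (hy : s y = y) : s (x * y) = x * y := by
  rw [map_mul, hx, hy]

include hs in
/-- norms are fixed -/
theorem h92_fix_norm (x : L) : s (x * s x) = x * s x := by
  rw [map_mul, hs, mul_comm]

end coef

/-- BHRSU6-[F3-COEF] -/
theorem exists_common_factor {L : Type*} [Field L] [CharP L 2] (s : L →+* L) (hs : ∀ a, s (s a) = a)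
    (a b c d : L) (h1 : s (a * s b) = a * s b) (h2 : s (c * s d) = c * s d)
    (h3 : s (a * s d + b * s c) = a * s d + b * s c) (hdet : a * d - b * c ≠ 0) :
    ∃ l : L, l ≠ 0 ∧ s (a / l) = a / l ∧ s (b / l) = b / l ∧ s (c / l) = c / l ∧ s (d / l) = d / l := by
  have h2L : (2 : L) = 0 := by
    have := CharP.cast_eq_zero L 2
    exact_mod_cast this
  have hneg : ∀ x : L, -x = x := by
    intro x
    have : x + x = 0 := by
      have : x + x = 2 * x := by ring
      rw [this, h2L, zero_mul]
    exact neg_eq_of_add_eq_zero_left this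
  by_cases ha : a = 0
  · -- `l = b`
    subst ha
    have hb : b ≠ 0 := by
      rintro rfl
      apply hdet
      ring
    have hc : c ≠ 0 := by
      rintro rfl
      apply hdet
      ring
    have h3' : s (b * s c) = b * s c := by
      simpa using h3
    have hγ : s (c / b) = c / b := h92_fix_div s hs h3' hb
    refine ⟨b, hb, by simp, by rw [div_self hb, map_one], hγ, ?_⟩
    -- `b s(d) = (c s(d)) / (c / b)` is fixed
    have hγ0 : c / b ≠ 0 := div_ne_zero hc hb
    have h4 : s (b * s d) = b * s d := by
      have e : b * s d = (c * s d) / (c / b) := by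
        field_simp
      rw [e, map_div₀, h2, hγ]
    exact h92_fix_div s hs h4 hb
  · -- `l = a`
    have hsa : s a ≠ 0 := (map_ne_zero s).2 ha
    have hβ : s (b / a) = b / a := h92_fix_div s hs h1 ha
    have hN : s (a * s a) = a * s a := h92_fix_norm s hs a
    have hN0 : a * s a ≠ 0 := mul_ne_zero ha hsa
    set β := b / a with hβdef
    set γ := c / a with hγdef
    set δ := d / a with hδdef
    have hb : b = β * a := by rw [hβdef]; field_simp
    have hc : c = γ * a := by rw [hγdef]; field_simp
    have hd : d = δ * a := by rw [hδdef]; field_simp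
    -- `γ s(δ)` is fixed
    have h2' : s (γ * s δ) = γ * s δ := by
      have e : γ * s δ = (c * s d) / (a * s a) := by
        rw [hc, hd, map_mul]
        field_simp
      rw [e, map_div₀, h2, hN]
    -- `w = δ + β γ` is fixed
    have hw : s (δ + β * γ) = δ + β * γ := by
      have e : s δ + β * s γ = (a * s d + b * s c) / (a * s a) := by
        rw [hb, hc, hd, map_mul, map_mul]
        field_simp
      have h5 : s (s δ + β * s γ) = s δ + β * s γ := by
        rw [e, map_div₀, h3, hN]
      rw [map_add, map_mul, hs, hs, hβ] at h5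
      rw [map_add, map_mul, hβ]
      exact h5.symm
    have hw0 : δ + β * γ ≠ 0 := by
      intro h0
      apply hdet
      rw [hb, hc, hd]
      have : a * (δ * a) - β * a * (γ * a) = a * a * (δ + β * γ) - 2 * (a * a * β * γ) := by ring
      rw [this, h0, h2L]
      ring
    -- `γ w` is fixed, hence `γ`
    have hγw : s (γ * (δ + β * γ)) = γ * (δ + β * γ) := by
      have e' : γ * (δ + β * γ) = γ * s δ + β * (γ * s γ) := by
        have : γ * s (δ + β * γ) = γ * s δ + β * (γ * s γ) := by
          rw [map_add, map_mul, hβ]; ring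
        rw [← this, hw]
      rw [e', map_add, h2', h92_fix_mul s hβ (h92_fix_norm s hs γ)]
    have hγ : s γ = γ := by
      have e : γ = (γ * (δ + β * γ)) / (δ + β * γ) := by
        rw [mul_div_assoc, div_self hw0, mul_one]
      rw [e, map_div₀, hγw, hw]
    have hδ : s δ = δ := by
      have e' : δ = (δ + β * γ) - β * γ := by ring
      rw [e', map_sub, hw, h92_fix_mul s hβ hγ]
    exact ⟨a, ha, by rw [div_self ha, map_one], hβ, hγ, hδ⟩

end Cfsg.Agent.Lib.Helper86.BHRSU6
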