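import Mathlib
import Cfsg.Prelude.Def_GeometricClasses
import Cfsg.Prelude.Def_ClassicalGeometry
import Cfsg.Agent.Lib.Helper37.BHRSU.Defs
import Cfsg.Agent.Lib.Helper86.BHRSU6.Defs
import Cfsg.Agent.Lib.Helper19.Bhrsu6PairKit

/-!
# BHRSU6-[F3-DET] (helper92): elements of determinant `1` of an adjoint-closed cubic field `K ≤ M_6(F_4)`

`l ∈ K`, `det l = 1`  ⟹  `l = c • k` with `c ∈ F^*` and `k ∈ K` self-adjoint.
Sheet: `Lib/Helper86/BHRSU6/BHRSU6_SHEET.md`, statement from `Skel.lean.txt`.
-/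

set_option autoImplicit false
set_option linter.style.haveILetI false

namespace Cfsg.Agent.Lib.Helper86.BHRSU6

open Cfsg Cfsg.Geo
open scoped MatrixGroups Matrix

open FiniteField in
/-- an involutive nontrivial ring endomorphism of a field with 64 elements is `x ↦ x^8` -/
theorem h92_tau_eq_pow {L : Type*} [Field L] [Fintype L] (hL : Fintype.card L = 64)
    (τ : L →+* L) (hτ : ∀ x, τ (τ x) = x) (hne : ∃ w, τ w ≠ w) : ∀ x, τ x = x ^ 8 := by
  classical
  haveI : Fact (Nat.Prime 2) := ⟨Nat.prime_two⟩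
  haveI : CharP L 2 := charP_of_card_eq_prime_pow (p := 2) (f := 6) (by rw [hL]; norm_num)
  letI : Algebra (ZMod 2) L := ZMod.algebra L 2
  have hfr : Module.finrank (ZMod 2) L = 6 := by
    have h := Module.card_eq_pow_finrank (K := ZMod 2) (V := L)
    rw [hL, ZMod.card] at h
    have : (2 : ℕ) ^ 6 = 2 ^ Module.finrank (ZMod 2) L := by rw [← h]; norm_num
    exact (Nat.pow_right_injective (le_refl 2) this).symm
  -- `τ` as an element of the Galois group
  let e : L ≃+* L := RingEquiv.ofRingHom τ τ (RingHom.ext hτ) (RingHom.ext hτ)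
  let σ : L ≃ₐ[ZMod 2] L := AlgEquiv.ofRingEquiv (f := e) (fun r => by
    have : (e : L →+* L).comp (algebraMap (ZMod 2) L) = algebraMap (ZMod 2) L :=
      RingHom.ext_zmod _ _
    exact RingHom.congr_fun this r)
  obtain ⟨n, hn⟩ := (bijective_frobeniusAlgEquivOfAlgebraic_pow (ZMod 2) L).2 σ
  have hn' : frobeniusAlgEquivOfAlgebraic (ZMod 2) L ^ n.1 = σ := hn
  have hord := orderOf_frobeniusAlgEquivOfAlgebraic (ZMod 2) L
  rw [hfr] at hord
  have hσ2 : σ ^ 2 = 1 := by
    ext x
    rw [pow_two]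
    exact hτ x
  have h6 : 6 ∣ n.1 * 2 := by
    rw [← hord, orderOf_dvd_iff_pow_eq_one, pow_mul, hn', hσ2]
  have hnlt : n.1 < 6 := by
    have := n.2
    omega
  have hn03 : n.1 = 0 ∨ n.1 = 3 := by omega
  rcases hn03 with h0 | h3
  · exfalso
    obtain ⟨w, hw⟩ := hne
    apply hw
    have : σ w = w := by
      rw [← hn', h0, pow_zero]; rfl
    exact this
  · intro x
    have : σ x = x ^ 8 := by
      rw [← hn', h3, AlgEquiv.coe_pow, coe_frobeniusAlgEquivOfAlgebraic_iterate, ZMod.card]
      norm_num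
    exact this

/-- in a field extension `L` of a field `F` with 4 elements, the solutions of `y^4 = y` are the scalars -/
theorem h92_mem_range_of_pow_four {F L : Type*} [Field F] [Fintype F] [Field L] [Algebra F L]
    (hF : Fintype.card F = 4) {y : L} (hy : y ^ 4 = y) : ∃ a : F, algebraMap F L a = y := by
  classical
  have hp0 : (Polynomial.X ^ 4 - Polynomial.X : Polynomial L) ≠ 0 :=
    FiniteField.X_pow_card_sub_X_ne_zero L (by norm_num)
  have hdeg : (Polynomial.X ^ 4 - Polynomial.X : Polynomial L).natDegree = 4 :=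
    FiniteField.X_pow_card_sub_X_natDegree_eq L (by norm_num)
  set S : Finset L := Finset.univ.image (algebraMap F L) with hS
  have hScard : S.card = 4 := by
    rw [hS, Finset.card_image_of_injective _ (algebraMap F L).injective, Finset.card_univ, hF]
  have hSle : S.val ≤ (Polynomial.X ^ 4 - Polynomial.X : Polynomial L).roots := by
    rw [Multiset.le_iff_subset S.nodup]
    intro z hz
    rw [Finset.mem_val, hS, Finset.mem_image] at hz
    obtain ⟨a, -, rfl⟩ := hz
    rw [Polynomial.mem_roots hp0, Polynomial.IsRoot, Polynomial.eval_sub, Polynomial.eval_pow,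
      Polynomial.eval_X, ← map_pow]
    have : a ^ 4 = a := by
      have := FiniteField.pow_card a
      rwa [hF] at this
    rw [this, sub_self]
  have hcard : Multiset.card (Polynomial.X ^ 4 - Polynomial.X : Polynomial L).roots ≤ S.val.card := by
    have := Polynomial.card_roots' (Polynomial.X ^ 4 - Polynomial.X : Polynomial L)
    rw [hdeg] at this
    rw [Finset.card_val, hScard]
    exact this
  have heq := Multiset.eq_of_le_of_card_le hSle hcard
  have hyroot : y ∈ (Polynomial.X ^ 4 - Polynomial.X : Polynomial L).roots := by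
    rw [Polynomial.mem_roots hp0, Polynomial.IsRoot, Polynomial.eval_sub, Polynomial.eval_pow,
      Polynomial.eval_X, hy, sub_self]
  rw [← heq, Finset.mem_val, hS, Finset.mem_image] at hyroot
  obtain ⟨a, -, ha⟩ := hyroot
  exact ⟨a, ha⟩

/-- the abstract form of [F3-DET]: `L` a field with 64 elements over `F` with 4 elements, acting on a
6-dimensional `F`-space; `τ` a nontrivial involution of `L`; `x ∈ L` of determinant 1.  Then `x = c k`,
`c ∈ F^*`, `τ k = k`. -/
theorem h92_abstract_det {F L V : Type*} [Field F] [Fintype F] [Field L] [Fintype L] [Algebra F L]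
    [AddCommGroup V] [Module F V] [Module L V] [IsScalarTower F L V]
    (hF : Fintype.card F = 4) (hL : Fintype.card L = 64) (hV : Module.finrank F V = 6)
    (τ : L →+* L) (hτ : ∀ z, τ (τ z) = z) (hne : ∃ w, τ w ≠ w)
    (x : L) (g : V →ₗ[F] V) (hg : ∀ v, g v = x • v) (hdet : LinearMap.det g = 1) :
    ∃ (c : F) (k : L), c ≠ 0 ∧ τ k = k ∧ x = algebraMap F L c * k := by
  classical
  have hFL : Module.finrank F L = 3 := by
    have h := Module.card_eq_pow_finrank (K := F) (V := L)
    rw [hL, hF] at h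
    have : (4 : ℕ) ^ 3 = 4 ^ Module.finrank F L := by rw [← h]; norm_num
    exact (Nat.pow_right_injective (by norm_num : 2 ≤ 4) this).symm
  have hrank : Module.finrank L V = 2 := by
    have key := Module.finrank_mul_finrank F L V
    rw [hV, hFL] at key
    omega
  have hgeq : g = (x • (LinearMap.id : V →ₗ[L] V)).restrictScalars F := by
    apply LinearMap.ext
    intro v
    rw [hg]
    rfl
  have hdetnorm : (1 : F) = Algebra.norm F (x ^ 2) := by
    have h2 := LinearMap.det_restrictScalars (R := F) (S := L) (A := V)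
      (f := x • (LinearMap.id : V →ₗ[L] V))
    rw [← hgeq, hdet, LinearMap.det_smul, LinearMap.det_id, mul_one, hrank] at h2
    exact h2
  have hx42 : x ^ 42 = 1 := by
    have h := FiniteField.algebraMap_norm_eq_pow (K := F) (K' := L) (x := x ^ 2)
    rw [← hdetnorm, map_one, Nat.card_eq_fintype_card, Nat.card_eq_fintype_card, hL, hF] at h
    rw [h, ← pow_mul]
  have hx0 : x ≠ 0 := by
    rintro h0
    rw [h0, zero_pow (by norm_num)] at hx42
    exact zero_ne_one hx42
  have hx63 : x ^ 63 = 1 := by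
    have := FiniteField.pow_card_sub_one_eq_one x hx0
    rwa [hL] at this
  have hx21 : x ^ 21 = 1 := by
    have : x ^ 63 = x ^ 42 * x ^ 21 := by rw [← pow_add]
    rw [hx63, hx42, one_mul] at this
    exact this.symm
  have hτ8 := h92_tau_eq_pow hL τ hτ hne
  have hc4 : (x ^ 7) ^ 4 = x ^ 7 := by
    rw [← pow_mul]
    have : x ^ (7 * 4) = x ^ 21 * x ^ 7 := by rw [← pow_add]
    rw [this, hx21, one_mul]
  obtain ⟨c, hc⟩ := h92_mem_range_of_pow_four (F := F) (L := L) hF hc4
  have hk8 : τ (x ^ 15) = x ^ 15 := by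
    rw [hτ8, ← pow_mul]
    have : x ^ (15 * 8) = (x ^ 21) ^ 5 * x ^ 15 := by rw [← pow_mul, ← pow_add]
    rw [this, hx21, one_pow, one_mul]
  have hprod : x = x ^ 7 * x ^ 15 := by
    rw [← pow_add]
    have : x ^ (7 + 15) = x ^ 21 * x := by rw [← pow_succ]
    rw [this, hx21, one_mul]
  have hc0 : c ≠ 0 := by
    rintro rfl
    rw [map_zero] at hc
    have : x ^ 7 ≠ 0 := pow_ne_zero _ hx0
    exact this hc.symm
  exact ⟨c, x ^ 15, hc0, hk8, by rw [hc]; exact hprod⟩

/-- BHRSU6-[F3-DET] (exact Skel statement). -/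
theorem eq_smul_of_det_eq_one {F : Type*} [Field F] [Fintype F] (hF : Fintype.card F = 4)
    (K : Subalgebra F (Matrix (Fin 6) (Fin 6) F)) (hK : IsFieldSubalgebra 3 K)
    (hadj : IsAdjointClosedFor (hermForm 6 F 2) K) (l : Matrix (Fin 6) (Fin 6) F) (hl : l ∈ K) (hdet : l.det = 1) :
    ∃ (c : F) (k : Matrix (Fin 6) (Fin 6) F), c ≠ 0 ∧ k ∈ K ∧ dag k = k ∧ l = c • k := by
  classical
  have hfield : IsField ↥K :=
    { exists_pair_ne := ⟨0, 1, fun h => zero_ne_one (congrArg Subtype.val h)⟩
      mul_comm := fun a b => Subtype.ext (hK.comm a.1 a.2 b.1 b.2)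
      mul_inv_cancel := fun {a} ha => by
        obtain ⟨y, hyK, hy⟩ := hK.inv a.1 a.2 (fun h => ha (Subtype.ext h))
        exact ⟨⟨y, hyK⟩, Subtype.ext hy⟩ }
  let instFld : Field ↥K := hfield.toField
  let instFin : Fintype ↥K := Fintype.ofFinite ↥K
  have hcardK : @Fintype.card ↥K instFin = 64 := by
    have h := @Module.card_eq_pow_finrank F ↥K _ _ _ _ instFin
    rw [hK.finrank_eq, hF] at h
    rw [h]
    norm_num
  -- the algebra structure `F → ↥K` for the field structure `instFld`
  let instAlg : @Algebra F ↥K _ instFld.toSemiring := K.algebra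
  -- the module structure of `F^6` over `K`
  let φ : ↥K →+* Module.End F (Fin 6 → F) :=
    (Matrix.toLinAlgEquiv' : Matrix (Fin 6) (Fin 6) F ≃ₐ[F] Module.End F (Fin 6 → F)).toAlgHom.toRingHom.comp
      K.val.toRingHom
  let instMod : Module ↥K (Fin 6 → F) := Module.compHom (Fin 6 → F) φ
  have hTower : IsScalarTower F ↥K (Fin 6 → F) := ⟨fun c k v => by
    show φ (c • k) v = c • φ k v
    simp [φ]⟩
  -- the involution
  let τ : ↥K →+* ↥K :=
    { toFun := fun z => ⟨dag z.1, Cfsg.Agent.Lib.Helper19.Bhrsu6Pair.dag_mem hF K hadj z.2⟩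
      map_one' := Subtype.ext Cfsg.Agent.Lib.Helper19.Bhrsu6Pair.dag_one
      map_mul' := fun a b => Subtype.ext (by
        show dag (a.1 * b.1) = dag a.1 * dag b.1
        rw [Cfsg.Agent.Lib.Helper19.Bhrsu6Pair.dag_mul hF]
        exact hK.comm _ (Cfsg.Agent.Lib.Helper19.Bhrsu6Pair.dag_mem hF K hadj b.2) _
          (Cfsg.Agent.Lib.Helper19.Bhrsu6Pair.dag_mem hF K hadj a.2))
      map_zero' := Subtype.ext (by
        show dag (0 : Matrix (Fin 6) (Fin 6) F) = 0
        ext i j
        simp [Cfsg.Agent.Lib.Helper19.Bhrsu6Pair.dag_apply])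
      map_add' := fun a b => Subtype.ext (by
        show dag (a.1 + b.1) = dag a.1 + dag b.1
        exact Cfsg.Agent.Lib.Helper19.Bhrsu6Pair.dag_add hF _ _) }
  have hτ : ∀ z, τ (τ z) = z := fun z =>
    Subtype.ext (Cfsg.Agent.Lib.Helper19.Bhrsu6Pair.dag_dag hF z.1)
  -- `τ` is not the identity: `ω • 1` is moved
  have hne : ∃ w, τ w ≠ w := by
    have hcard : 2 < Fintype.card F := by rw [hF]; norm_num
    obtain ⟨ω, hω0, hω1⟩ : ∃ ω : F, ω ≠ 0 ∧ ω ≠ 1 := by
      by_contra hcon
      push Not at hcon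
      have hsub : (Finset.univ : Finset F) ⊆ {0, 1} := by
        intro a _
        by_cases ha : a = 0
        · simp [ha]
        · simp [hcon a ha]
      have := Finset.card_le_card hsub
      rw [Finset.card_univ] at this
      have h2 : ({0, 1} : Finset F).card ≤ 2 := Finset.card_le_two
      omega
    refine ⟨⟨ω • (1 : Matrix (Fin 6) (Fin 6) F), K.smul_mem K.one_mem ω⟩, fun h => ?_⟩
    have h1 : dag (ω • (1 : Matrix (Fin 6) (Fin 6) F)) = ω • (1 : Matrix (Fin 6) (Fin 6) F) :=
      congrArg Subtype.val h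
    rw [Cfsg.Agent.Lib.Helper19.Bhrsu6Pair.dag_smul, Cfsg.Agent.Lib.Helper19.Bhrsu6Pair.dag_one] at h1
    have h2 := congrFun (congrFun h1 0) 0
    simp only [Matrix.smul_apply, Matrix.one_apply_eq, smul_eq_mul, mul_one] at h2
    -- `ω^2 = ω`, so `ω = 1`
    have : ω * ω = ω * 1 := by
      calc ω * ω = ω ^ 2 := (pow_two ω).symm
        _ = ω := h2
        _ = ω * 1 := (mul_one ω).symm
    exact hω1 (mul_left_cancel₀ hω0 this)
  have hV : Module.finrank F (Fin 6 → F) = 6 := by simp
  have hgdet : LinearMap.det (Matrix.toLin' l) = 1 := by rw [LinearMap.det_toLin', hdet]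
  obtain ⟨c, k', hc0, hk', hx⟩ := @h92_abstract_det F ↥K (Fin 6 → F) _ _ instFld instFin instAlg _ _ instMod
    hTower hF hcardK hV τ hτ hne ⟨l, hl⟩ (Matrix.toLin' l) (fun v => rfl) hgdet
  refine ⟨c, k'.1, hc0, k'.2, congrArg Subtype.val hk', ?_⟩
  have h1 : l = ((algebraMap F ↥K c) * k' : ↥K).1 := congrArg Subtype.val hx
  refine h1.trans ?_
  rw [Algebra.algebraMap_eq_smul_one, smul_mul_assoc, one_mul]
  rfl

end Cfsg.Agent.Lib.Helper86.BHRSU6
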