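import Mathlib

/-!
# An embedding of the alternating group `A₇` into `GL₄(𝔽₂)`

`A₇` permutes the 15 Fano planes (on the 7 points) of one of its two orbits.  Two planes of the
orbit share exactly one line, and "the third plane through the common line" makes the orbit,
together with a zero, a 4-dimensional vector space over `𝔽₂` on which `A₇` acts linearly.
The planes are tabulated by their vector labels; a permutation `σ` and a matrix `M` are *related*
when `σ` maps every line of the plane labelled `v` to a line of the plane labelled `M v`.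
-/

set_option autoImplicit false

namespace Cfsg.Agent.Lib.Helper92.A7Embed

open Equiv

/-- Vectors of `𝔽₂⁴`. -/
abbrev Vec := Fin 4 → ZMod 2

/-- `4 × 4` matrices over `𝔽₂`. -/
abbrev Mat := Matrix (Fin 4) (Fin 4) (ZMod 2)

/-- The binary code of a vector. -/
def code (v : Vec) : ℕ := (v 0).val + 2 * (v 1).val + 4 * (v 2).val + 8 * (v 3).val

/-- The bit mask of a subset of the 7 points, given by its indicator function. -/
def maskOf (l : Fin 7 → Bool) : ℕ :=
  (if l 0 then 1 else 0) + (if l 1 then 2 else 0) + (if l 2 then 4 else 0) + (if l 3 then 8 else 0) +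
    (if l 4 then 16 else 0) + (if l 5 then 32 else 0) + (if l 6 then 64 else 0)

/-- The indicator function of a bit mask. -/
def unmask (m : ℕ) : Fin 7 → Bool := fun i => m.testBit i.val

/-- The 15 Fano planes, indexed by the codes of the nonzero vectors; each is the list of the masks
of its 7 lines. -/
def plT : List (List ℕ) :=
  [[], [7, 25, 44, 50, 74, 84, 97], [7, 26, 41, 52, 76, 81, 98], [7, 28, 42, 49, 73, 82, 100],
   [11, 21, 38, 56, 76, 82, 97], [13, 19, 42, 52, 70, 88, 97], [22, 25, 37, 42, 67, 76, 112],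
   [14, 25, 35, 52, 69, 82, 104], [11, 28, 37, 50, 70, 81, 104], [14, 21, 41, 50, 67, 88, 100],
   [13, 22, 35, 56, 74, 81, 100], [19, 28, 38, 41, 69, 74, 112], [11, 22, 44, 49, 69, 88, 98],
   [21, 26, 35, 44, 70, 73, 112], [14, 19, 37, 56, 73, 84, 98], [13, 26, 38, 49, 67, 84, 104]]

/-- The lines (as masks) of the plane with a given code. -/
def linesOf (c : ℕ) : List ℕ := plT.getD c []

/-- `l` is a line of the plane labelled `v`. -/
def InPl (v : Vec) (l : Fin 7 → Bool) : Prop := maskOf l ∈ linesOf (code v)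

instance (v : Vec) (l : Fin 7 → Bool) : Decidable (InPl v l) := by
  unfold InPl; infer_instance

/-- The matrix with a given 16-bit code. -/
def matOfCode (c : ℕ) : Mat := Matrix.of fun i j => (((c >>> (4 * i.val + j.val)) % 2 : ℕ) : ZMod 2)

/-- `σ` maps the lines of the plane `v` to lines of the plane `M v`, for every `v`. -/
def Rel (σ : Perm (Fin 7)) (M : Mat) : Prop :=
  ∀ v : Vec, ∀ l : Fin 7 → Bool, InPl v l → InPl (M.mulVec v) (l ∘ ⇑σ⁻¹)

instance (σ : Perm (Fin 7)) (M : Mat) : Decidable (Rel σ M) := by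
  unfold Rel; infer_instance

/-- Matrices of `swap x y * swap 0 1`, indexed by `7 * x + y`. -/
def T1 : List ℕ :=
  [0, 33825, 19706, 24370, 39912, 6105, 54219, 33825, 0, 51419, 56083, 8137, 37880, 22506, 19706,
   51419, 0, 5064, 55058, 23331, 40753, 24370, 56083, 5064, 0, 50394, 18667, 36089, 39912, 8137,
   55058, 50394, 0, 35889, 18467, 6105, 37880, 23331, 18667, 35889, 0, 50194, 54219, 22506, 40753,
   36089, 18467, 50194, 0]

/-- Matrices of `swap 0 1 * swap x y`, indexed by `7 * x + y`. -/
def T2 : List ℕ :=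
  [0, 33825, 51419, 56083, 8137, 37880, 22506, 33825, 0, 19706, 24370, 39912, 6105, 54219, 51419,
   19706, 0, 5064, 55058, 23331, 40753, 56083, 24370, 5064, 0, 50394, 18667, 36089, 8137, 39912,
   55058, 50394, 0, 35889, 18467, 37880, 6105, 23331, 18667, 35889, 0, 50194, 22506, 54219, 40753,
   36089, 18467, 50194, 0]

set_option maxRecDepth 100000 in
theorem rel_T1 : ∀ x y : Fin 7, x ≠ y →
    Rel (swap x y * swap 0 1) (matOfCode (T1.getD (7 * x.val + y.val) 0)) := by
  decide +kernel

set_option maxRecDepth 100000 in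
theorem rel_T2 : ∀ x y : Fin 7, x ≠ y →
    Rel (swap 0 1 * swap x y) (matOfCode (T2.getD (7 * x.val + y.val) 0)) := by
  decide +kernel


/-! ### Facts about the table -/

theorem code_injective : ∀ v w : Vec, code v = code w → v = w := by decide +kernel

theorem unmask_maskOf : ∀ l : Fin 7 → Bool, unmask (maskOf l) = l := by decide +kernel

theorem maskOf_injective {l l' : Fin 7 → Bool} (h : maskOf l = maskOf l') : l = l' := by
  rw [← unmask_maskOf l, ← unmask_maskOf l', h]

theorem code_lt : ∀ v : Vec, code v < 16 := by decide +kernel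

/-- Two planes sharing two lines are equal. -/
theorem planes_eq : ∀ c < 16, ∀ c' < 16, ∀ m ∈ linesOf c, ∀ m' ∈ linesOf c, m ≠ m' →
    m ∈ linesOf c' → m' ∈ linesOf c' → c = c' := by decide +kernel

/-- Every nonzero vector labels a plane with two different lines. -/
theorem two_lines : ∀ v : Vec, v ≠ 0 →
    InPl v (unmask ((linesOf (code v)).getD 0 0)) ∧ InPl v (unmask ((linesOf (code v)).getD 1 0)) ∧
      unmask ((linesOf (code v)).getD 0 0) ≠ unmask ((linesOf (code v)).getD 1 0) := by
  decide +kernel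

/-! ### The relation determines the matrix -/

theorem rel_unique {σ : Perm (Fin 7)} {M M' : Mat} (h : Rel σ M) (h' : Rel σ M') : M = M' := by
  apply Matrix.mulVec_injective
  funext v
  by_cases hv : v = 0
  · rw [hv, Matrix.mulVec_zero, Matrix.mulVec_zero]
  obtain ⟨h1, h2, h3⟩ := two_lines v hv
  set l1 := unmask ((linesOf (code v)).getD 0 0)
  set l2 := unmask ((linesOf (code v)).getD 1 0)
  have hne : l1 ∘ ⇑σ⁻¹ ≠ l2 ∘ ⇑σ⁻¹ := by
    intro he
    exact h3 ((σ⁻¹).surjective.injective_comp_right he)
  have hm : maskOf (l1 ∘ ⇑σ⁻¹) ≠ maskOf (l2 ∘ ⇑σ⁻¹) := fun he => hne (maskOf_injective he)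
  apply code_injective
  exact planes_eq _ (code_lt _) _ (code_lt _) _ (h v l1 h1) _ (h v l2 h2) hm (h' v l1 h1) (h' v l2 h2)

theorem rel_one : Rel 1 1 := by
  intro v l h
  rw [Matrix.one_mulVec, inv_one, Perm.coe_one, Function.comp_id]
  exact h

theorem rel_mul {σ τ : Perm (Fin 7)} {M N : Mat} (h : Rel σ M) (h' : Rel τ N) :
    Rel (σ * τ) (M * N) := by
  intro v l hl
  have h1 := h (N.mulVec v) (l ∘ ⇑τ⁻¹) (h' v l hl)
  rw [Matrix.mulVec_mulVec] at h1
  rw [mul_inv_rev, Perm.coe_mul, ← Function.comp_assoc]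
  exact h1

/-- Every even permutation is related to some matrix. -/
theorem exists_rel (σ : Perm (Fin 7)) (hσ : σ ∈ alternatingGroup (Fin 7)) : ∃ M : Mat, Rel σ M := by
  suffices hind : ∀ (n : ℕ) (l : List (Perm (Fin 7))) (_ : ∀ g, g ∈ l → g.IsSwap)
      (_ : l.length = 2 * n), ∃ M : Mat, Rel l.prod M by
    obtain ⟨l, rfl, hl⟩ := Perm.truncSwapFactors σ
    obtain ⟨n, hn⟩ := (Perm.prod_list_swap_mem_alternatingGroup_iff_even_length hl).1 hσ
    rw [← two_mul] at hn
    exact hind n l hl hn
  intro n
  induction n with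
  | zero =>
    intro l hl hn
    rw [List.length_eq_zero_iff.1 hn, List.prod_nil]
    exact ⟨1, rel_one⟩
  | succ n ih =>
    intro l hl hn
    rw [Nat.mul_succ] at hn
    obtain ⟨a, l, rfl⟩ := l.exists_of_length_succ hn
    rw [List.length_cons, Nat.succ_inj] at hn
    obtain ⟨b, l, rfl⟩ := l.exists_of_length_succ hn
    rw [List.length_cons, Nat.succ_inj] at hn
    obtain ⟨M, hM⟩ := ih l (fun g hg => hl g (List.mem_cons_of_mem _ (List.mem_cons_of_mem _ hg))) hn
    obtain ⟨x, y, hxy, rfl⟩ := hl a List.mem_cons_self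
    obtain ⟨x', y', hxy', rfl⟩ := hl b (List.mem_cons_of_mem _ List.mem_cons_self)
    have e : swap x y * (swap x' y' * l.prod) =
        (swap x y * swap 0 1) * ((swap 0 1 * swap x' y') * l.prod) := by
      have h01 : swap (0 : Fin 7) 1 * swap 0 1 = 1 := swap_mul_self _ _
      calc swap x y * (swap x' y' * l.prod) = swap x y * (1 * (swap x' y' * l.prod)) := by
            rw [one_mul]
        _ = (swap x y * swap 0 1) * ((swap 0 1 * swap x' y') * l.prod) := by
            rw [← h01]; simp only [mul_assoc]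
    rw [List.prod_cons, List.prod_cons, e]
    exact ⟨_, rel_mul (rel_T1 x y hxy) (rel_mul (rel_T2 x' y' hxy') hM)⟩

/-! ### The homomorphism -/

/-- The matrix of an even permutation. -/
noncomputable def matOf (σ : alternatingGroup (Fin 7)) : Mat := Classical.choose (exists_rel σ.1 σ.2)

theorem rel_matOf (σ : alternatingGroup (Fin 7)) : Rel σ.1 (matOf σ) :=
  Classical.choose_spec (exists_rel σ.1 σ.2)

/-- The homomorphism to matrices. -/
noncomputable def matHom : alternatingGroup (Fin 7) →* Mat where
  toFun := matOf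
  map_one' := rel_unique (rel_matOf 1) rel_one
  map_mul' σ τ := rel_unique (rel_matOf (σ * τ)) (rel_mul (rel_matOf σ) (rel_matOf τ))

/-- The homomorphism to the general linear group. -/
noncomputable def glHom : alternatingGroup (Fin 7) →* Matrix.GeneralLinearGroup (Fin 4) (ZMod 2) :=
  matHom.toHomUnits

theorem not_rel : ¬ Rel (swap (0 : Fin 7) 1 * swap 0 2) 1 := by decide +kernel

theorem glHom_injective : Function.Injective glHom := by
  have : IsSimpleGroup (alternatingGroup (Fin 7)) := alternatingGroup.isSimpleGroup (by simp)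
  rw [← MonoidHom.ker_eq_bot_iff]
  rcases (MonoidHom.normal_ker glHom).eq_bot_or_eq_top with h | h
  · exact h
  · exfalso
    have hmem : swap (0 : Fin 7) 1 * swap 0 2 ∈ alternatingGroup (Fin 7) := by
      rw [Perm.mem_alternatingGroup]
      decide
    have h1 : (⟨_, hmem⟩ : alternatingGroup (Fin 7)) ∈ glHom.ker := by rw [h]; trivial
    rw [MonoidHom.mem_ker] at h1
    have h2 : matOf ⟨_, hmem⟩ = 1 := by
      have := congrArg Units.val h1
      exact this
    have h3 := rel_matOf ⟨_, hmem⟩
    rw [h2] at h3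
    exact not_rel h3

/-- `A₇` embeds in `GL₄(𝔽₂)`. -/
theorem exists_embedding :
    ∃ φ : alternatingGroup (Fin 7) →* Matrix.GeneralLinearGroup (Fin 4) (ZMod 2), Function.Injective φ :=
  ⟨glHom, glHom_injective⟩

end Cfsg.Agent.Lib.Helper92.A7Embed
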