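import Mathlib
import Cfsg.Agent.Lib.Helper92.PermCount

/-!
# Additive permutation groups of order 2520 on a group of order 16 are 2-transitive

Let `V` be an additive group of order 16 and `J` a group of additive permutations of `V` of order
`2520`.  Then `J` is 2-transitive on the 15 nonzero elements.  (Elements of order 5 have no nonzero
fixed point and elements of order 7 exactly one, since fixed sets are subgroups; so `J` is transitive
and a point stabilizer has orbits `7 + 7` or `14` on the rest; in the first case the setwise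
stabilizer of a pair swapped by an involution would have order 48.)
-/

set_option autoImplicit false
set_option linter.unusedSectionVars false

namespace Cfsg.Agent.Lib.Helper92.A7Trans

open Equiv Cfsg.Agent.Lib.Helper92.PermCount

variable {V : Type*} [AddCommGroup V] [Fintype V] [DecidableEq V]

/-- A permutation of `V` is additive. -/
def IsAdd (j : Perm V) : Prop := ∀ x y, j (x + y) = j x + j y

theorem IsAdd.map_zero {j : Perm V} (h : IsAdd j) : j 0 = 0 := by
  have := h 0 0
  rw [add_zero] at this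
  exact left_eq_add.mp this

theorem IsAdd.ne_zero {j : Perm V} (h : IsAdd j) {x : V} (hx : x ≠ 0) : j x ≠ 0 := by
  intro h0
  apply hx
  apply j.injective
  rw [h0, h.map_zero]

/-- The number of fixed points of an additive permutation divides the order of `V`. -/
theorem card_fix_dvd {j : Perm V} (h : IsAdd j) :
    (fixIn j Finset.univ).card ∣ Fintype.card V := by
  let W : AddSubgroup V :=
    { carrier := {x | j x = x}
      add_mem' := by
        intro x y hx hy
        show j (x + y) = x + y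
        rw [h x y, hx, hy]
      zero_mem' := h.map_zero
      neg_mem' := by
        intro x hx
        show j (-x) = -x
        have h1 : j (-x) + j x = 0 := by rw [← h, neg_add_cancel, h.map_zero]
        have hx' : j x = x := hx
        rw [hx'] at h1
        exact eq_neg_of_add_eq_zero_left h1 }
  have h1 : Nat.card W ∣ Nat.card V := AddSubgroup.card_addSubgroup_dvd_card W
  have h2 : Nat.card W = (fixIn j Finset.univ).card := by
    have e : W ≃ {x // x ∈ fixIn j Finset.univ} :=
      Equiv.subtypeEquivRight (fun x => by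
        rw [mem_fixIn]
        exact ⟨fun h => ⟨Finset.mem_univ _, h⟩, fun h => h.2⟩)
    rw [Nat.card_congr e, Nat.card_eq_fintype_card, Fintype.card_coe]
  rw [h2, Nat.card_eq_fintype_card] at h1
  exact h1

theorem dvd_sixteen {c : ℕ} (h : c ∣ 16) : c = 1 ∨ c = 2 ∨ c = 4 ∨ c = 8 ∨ c = 16 := by
  have h1 : c ∈ Nat.divisors 16 := Nat.mem_divisors.mpr ⟨h, by norm_num⟩
  have h2 : Nat.divisors 16 = {1, 2, 4, 8, 16} := by decide
  rw [h2] at h1
  simpa using h1

theorem eq_one_of_card_fix {j : Perm V} (hc : (fixIn j Finset.univ).card = Fintype.card V) :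
    j = 1 := by
  have h1 : fixIn j Finset.univ = Finset.univ := Finset.card_eq_iff_eq_univ _ |>.mp hc
  ext x
  have : x ∈ fixIn j Finset.univ := by rw [h1]; exact Finset.mem_univ x
  exact (mem_fixIn.mp this).2

/-- An additive permutation of order 5 has no nonzero fixed point. -/
theorem fix_five (hV : Fintype.card V = 16) {j : Perm V} (h : IsAdd j) (h5 : j ^ 5 = 1)
    (hne : j ≠ 1) {x : V} (hx : j x = x) : x = 0 := by
  have : Fact (Nat.Prime 5) := ⟨by norm_num⟩
  have h1 := card_fix_dvd h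
  have h2 := card_fixIn_modEq j h5 Finset.univ (by simp)
  rw [Finset.card_univ] at h2
  rw [hV] at h1 h2
  have h3 : (fixIn j Finset.univ).card ≠ 16 := by
    intro hc
    exact hne (eq_one_of_card_fix (hc.trans hV.symm))
  have h4 : (fixIn j Finset.univ).card = 1 := by
    unfold Nat.ModEq at h2
    rcases dvd_sixteen h1 with hc | hc | hc | hc | hc <;> rw [hc] at h2 <;> omega
  obtain ⟨a, ha⟩ := Finset.card_eq_one.mp h4
  have h0 : (0 : V) ∈ fixIn j Finset.univ := mem_fixIn.mpr ⟨Finset.mem_univ _, h.map_zero⟩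
  have hx' : x ∈ fixIn j Finset.univ := mem_fixIn.mpr ⟨Finset.mem_univ _, hx⟩
  rw [ha, Finset.mem_singleton] at h0 hx'
  rw [hx', ← h0]

/-- An additive permutation of order 7 has exactly two fixed points. -/
theorem fix_seven (hV : Fintype.card V = 16) {j : Perm V} (h : IsAdd j) (h7 : j ^ 7 = 1)
    (hne : j ≠ 1) : (fixIn j Finset.univ).card = 2 := by
  have : Fact (Nat.Prime 7) := ⟨by norm_num⟩
  have h1 := card_fix_dvd h
  have h2 := card_fixIn_modEq j h7 Finset.univ (by simp)
  rw [Finset.card_univ] at h2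
  rw [hV] at h1 h2
  have h3 : (fixIn j Finset.univ).card ≠ 16 := by
    intro hc
    exact hne (eq_one_of_card_fix (hc.trans hV.symm))
  unfold Nat.ModEq at h2
  rcases dvd_sixteen h1 with hc | hc | hc | hc | hc <;> rw [hc] at h2 <;> omega

theorem ne_one_of_orderOf {j : Perm V} {p : ℕ} (hp : 1 < p) (h : orderOf j = p) : j ≠ 1 := by
  intro h1
  rw [h1, orderOf_one] at h
  omega

/-- Main theorem: 2-transitivity. -/
theorem two_transitive (hV : Fintype.card V = 16) (J : Subgroup (Perm V))
    (hadd : ∀ j ∈ J, IsAdd j) (hcard : Nat.card J = 2520)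
    (v w v' w' : V) (hv : v ≠ 0) (hw : w ≠ 0) (hvw : v ≠ w) (hv' : v' ≠ 0) (hw' : w' ≠ 0)
    (hvw' : v' ≠ w') : ∃ j ∈ J, j v = v' ∧ j w = w' := by
  have : Fact (Nat.Prime 5) := ⟨by norm_num⟩
  have : Fact (Nat.Prime 7) := ⟨by norm_num⟩
  have : Fact (Nat.Prime 2) := ⟨by norm_num⟩
  obtain ⟨j5, hj5, ho5⟩ := exists_orderOf_eq_prime J 5 (by rw [hcard]; norm_num)
  obtain ⟨j7, hj7, ho7⟩ := exists_orderOf_eq_prime J 7 (by rw [hcard]; norm_num)
  obtain ⟨t, ht, hot⟩ := exists_orderOf_eq_prime J 2 (by rw [hcard]; norm_num)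
  have hj5p : j5 ^ 5 = 1 := by rw [← ho5]; exact pow_orderOf_eq_one j5
  have hj7p : j7 ^ 7 = 1 := by rw [← ho7]; exact pow_orderOf_eq_one j7
  have htp : t ^ 2 = 1 := by rw [← hot]; exact pow_orderOf_eq_one t
  have hj5n : j5 ≠ 1 := ne_one_of_orderOf (by norm_num) ho5
  have hj7n : j7 ≠ 1 := ne_one_of_orderOf (by norm_num) ho7
  have htn : t ≠ 1 := ne_one_of_orderOf (by norm_num) hot
  have hN : (Finset.univ.erase (0 : V)).card = 15 := by
    rw [Finset.card_erase_of_mem (Finset.mem_univ _), Finset.card_univ, hV]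
  -- transitivity on nonzero elements
  have htrans : ∀ a : V, a ≠ 0 → orb J a = Finset.univ.erase 0 := by
    intro a ha
    have hsub : orb J a ⊆ Finset.univ.erase 0 := by
      apply orb_subset (Finset.mem_erase.mpr ⟨ha, Finset.mem_univ _⟩)
      intro g hg q hq
      exact Finset.mem_erase.mpr ⟨(hadd g hg).ne_zero (Finset.mem_erase.mp hq).1, Finset.mem_univ _⟩
    have hle : (orb J a).card ≤ 15 := hN ▸ Finset.card_le_card hsub
    have hpos : 0 < (orb J a).card := Finset.card_pos.mpr ⟨a, self_mem_orb J a⟩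
    have h5 := card_fixIn_modEq j5 hj5p (orb J a) (fun x => apply_mem_orb_iff hj5 x)
    have h5e : fixIn j5 (orb J a) = ∅ := by
      rw [Finset.eq_empty_iff_forall_notMem]
      intro x hx
      rw [mem_fixIn] at hx
      have := fix_five hV (hadd j5 hj5) hj5p hj5n hx.2
      exact (Finset.mem_erase.mp (hsub hx.1)).1 this
    rw [h5e, Finset.card_empty] at h5
    have h7 := card_fixIn_modEq j7 hj7p (orb J a) (fun x => apply_mem_orb_iff hj7 x)
    have h7le : (fixIn j7 (orb J a)).card ≤ 1 := by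
      have hs : fixIn j7 (orb J a) ⊆ (fixIn j7 Finset.univ).erase 0 := by
        intro x hx
        rw [mem_fixIn] at hx
        exact Finset.mem_erase.mpr ⟨(Finset.mem_erase.mp (hsub hx.1)).1,
          mem_fixIn.mpr ⟨Finset.mem_univ _, hx.2⟩⟩
      have := Finset.card_le_card hs
      rw [Finset.card_erase_of_mem (mem_fixIn.mpr ⟨Finset.mem_univ _, (hadd j7 hj7).map_zero⟩),
        fix_seven hV (hadd j7 hj7) hj7p hj7n] at this
      exact this
    have hc : (orb J a).card = 15 := by
      unfold Nat.ModEq at h5 h7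
      generalize (orb J a).card = n at hle hpos h5 h7 ⊢
      generalize (fixIn j7 (orb J a)).card = m at h7 h7le
      interval_cases n <;> omega
    exact Finset.eq_of_subset_of_card_le hsub (by rw [hN, hc])
  -- a point moved by the involution
  obtain ⟨a, hta⟩ : ∃ a, t a ≠ a := by
    by_contra hcon
    apply htn
    ext x
    by_contra hx
    exact hcon ⟨x, hx⟩
  have ha : a ≠ 0 := by
    rintro rfl
    exact hta (hadd t ht).map_zero
  set b := t a with hb
  have hb0 : b ≠ 0 := (hadd t ht).ne_zero ha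
  have htb : t b = a := by
    have : (t ^ 2) a = a := by rw [htp]; rfl
    rwa [pow_two, Perm.mul_apply] at this
  -- the stabilizer of `a`
  set Ja : Subgroup (Perm V) := J ⊓ MulAction.stabilizer (Perm V) a with hJa
  have hJa_mem : ∀ j, j ∈ Ja ↔ j ∈ J ∧ j a = a := by
    intro j
    rw [hJa, Subgroup.mem_inf, MulAction.mem_stabilizer_iff, Perm.smul_def]
  have hJa_card : Nat.card Ja = 168 := by
    have := card_eq_orb_mul J a
    rw [← hJa, htrans a ha, hN, hcard] at this
    omega
  obtain ⟨k7, hk7, hok7⟩ := exists_orderOf_eq_prime Ja 7 (by rw [hJa_card]; norm_num)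
  have hk7p : k7 ^ 7 = 1 := by rw [← hok7]; exact pow_orderOf_eq_one k7
  have hk7n : k7 ≠ 1 := ne_one_of_orderOf (by norm_num) hok7
  have hk7J : k7 ∈ J := ((hJa_mem k7).mp hk7).1
  have hk7a : k7 a = a := ((hJa_mem k7).mp hk7).2
  have hk7fix : ∀ x, k7 x = x → x = 0 ∨ x = a := by
    have hc := fix_seven hV (hadd k7 hk7J) hk7p hk7n
    have hsub : ({0, a} : Finset V) ⊆ fixIn k7 Finset.univ := by
      intro x hx
      rw [Finset.mem_insert, Finset.mem_singleton] at hx
      rcases hx with rfl | rfl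
      · exact mem_fixIn.mpr ⟨Finset.mem_univ _, (hadd k7 hk7J).map_zero⟩
      · exact mem_fixIn.mpr ⟨Finset.mem_univ _, hk7a⟩
    have hpair : ({0, a} : Finset V).card = 2 := Finset.card_pair (Ne.symm ha)
    have heq := Finset.eq_of_subset_of_card_le hsub (by rw [hc, hpair])
    intro x hx
    have : x ∈ ({0, a} : Finset V) := by
      rw [heq]; exact mem_fixIn.mpr ⟨Finset.mem_univ _, hx⟩
    simpa using this
  -- orbits of the stabilizer on the other 14 elements
  have hN' : ((Finset.univ.erase (0 : V)).erase a).card = 14 := by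
    rw [Finset.card_erase_of_mem (Finset.mem_erase.mpr ⟨ha, Finset.mem_univ _⟩), hN]
  have hJa_ne : ∀ j ∈ Ja, ∀ x, x ≠ a → j x ≠ a := by
    intro j hj x hx hjx
    apply hx
    apply j.injective
    rw [hjx, ((hJa_mem j).mp hj).2]
  have horb' : ∀ c : V, c ≠ 0 → c ≠ a →
      orb Ja c ⊆ (Finset.univ.erase (0 : V)).erase a ∧
        ((orb Ja c).card = 7 ∨ (orb Ja c).card = 14) := by
    intro c hc0 hca
    have hsub : orb Ja c ⊆ (Finset.univ.erase (0 : V)).erase a := by
      apply orb_subset (Finset.mem_erase.mpr ⟨hca, Finset.mem_erase.mpr ⟨hc0, Finset.mem_univ _⟩⟩)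
      intro g hg q hq
      have hq1 := (Finset.mem_erase.mp hq).1
      have hq2 := (Finset.mem_erase.mp (Finset.mem_erase.mp hq).2).1
      exact Finset.mem_erase.mpr ⟨hJa_ne g hg q hq1, Finset.mem_erase.mpr
        ⟨(hadd g ((hJa_mem g).mp hg).1).ne_zero hq2, Finset.mem_univ _⟩⟩
    refine ⟨hsub, ?_⟩
    have hle : (orb Ja c).card ≤ 14 := hN' ▸ Finset.card_le_card hsub
    have hpos : 0 < (orb Ja c).card := Finset.card_pos.mpr ⟨c, self_mem_orb Ja c⟩
    have h7 := card_fixIn_modEq k7 hk7p (orb Ja c) (fun x => apply_mem_orb_iff hk7 x)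
    have h7e : fixIn k7 (orb Ja c) = ∅ := by
      rw [Finset.eq_empty_iff_forall_notMem]
      intro x hx
      rw [mem_fixIn] at hx
      have hx1 := hsub hx.1
      rcases hk7fix x hx.2 with h0 | h0
      · exact (Finset.mem_erase.mp (Finset.mem_erase.mp hx1).2).1 h0
      · exact (Finset.mem_erase.mp hx1).1 h0
    rw [h7e, Finset.card_empty] at h7
    unfold Nat.ModEq at h7
    omega
  obtain ⟨hsubb, hcb⟩ := horb' b hb0 hta
  -- the orbit of `b` has size 14
  have hcb14 : (orb Ja b).card = 14 := by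
    rcases hcb with hc7 | hc14
    · exfalso
      set Jab : Subgroup (Perm V) := Ja ⊓ MulAction.stabilizer (Perm V) b with hJab
      have hJab_mem : ∀ j, j ∈ Jab ↔ (j ∈ J ∧ j a = a) ∧ j b = b := by
        intro j
        rw [hJab, Subgroup.mem_inf, MulAction.mem_stabilizer_iff, Perm.smul_def, hJa_mem]
      have hJab_card : Nat.card Jab = 24 := by
        have := card_eq_orb_mul Ja b
        rw [← hJab, hc7, hJa_card] at this
        omega
      -- the setwise stabilizer of `{a, b}`
      let L : Subgroup (Perm V) :=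
        { carrier := {j | j ∈ J ∧ ((j a = a ∧ j b = b) ∨ (j a = b ∧ j b = a))}
          mul_mem' := by
            rintro x y ⟨hx, hx'⟩ ⟨hy, hy'⟩
            refine ⟨J.mul_mem hx hy, ?_⟩
            rw [Perm.mul_apply, Perm.mul_apply]
            rcases hy' with ⟨h1, h2⟩ | ⟨h1, h2⟩ <;> rcases hx' with ⟨h3, h4⟩ | ⟨h3, h4⟩ <;>
              rw [h1, h2]
            · exact Or.inl ⟨h3, h4⟩
            · exact Or.inr ⟨h3, h4⟩
            · exact Or.inr ⟨h4, h3⟩
            · exact Or.inl ⟨h4, h3⟩
          one_mem' := ⟨J.one_mem, Or.inl ⟨rfl, rfl⟩⟩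
          inv_mem' := by
            rintro x ⟨hx, hx'⟩
            refine ⟨J.inv_mem hx, ?_⟩
            rcases hx' with ⟨h1, h2⟩ | ⟨h1, h2⟩
            · exact Or.inl ⟨Perm.inv_eq_iff_eq.mpr h1.symm, Perm.inv_eq_iff_eq.mpr h2.symm⟩
            · exact Or.inr ⟨Perm.inv_eq_iff_eq.mpr h2.symm, Perm.inv_eq_iff_eq.mpr h1.symm⟩ }
      have hL_mem : ∀ j, j ∈ L ↔ j ∈ J ∧ ((j a = a ∧ j b = b) ∨ (j a = b ∧ j b = a)) :=
        fun j => Iff.rfl
      have hLJ : L ≤ J := fun j hj => ((hL_mem j).mp hj).1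
      have htL : t ∈ L := (hL_mem t).mpr ⟨ht, Or.inr ⟨rfl, htb⟩⟩
      have horbL : orb L a = {a, b} := by
        ext x
        rw [mem_orb, Finset.mem_insert, Finset.mem_singleton]
        constructor
        · rintro ⟨j, hj, rfl⟩
          rcases ((hL_mem j).mp hj).2 with h | h
          · exact Or.inl h.1
          · exact Or.inr h.1
        · rintro (rfl | rfl)
          · exact ⟨1, L.one_mem, rfl⟩
          · exact ⟨t, htL, rfl⟩
      have hLa : L ⊓ MulAction.stabilizer (Perm V) a = Jab := by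
        ext j
        rw [Subgroup.mem_inf, MulAction.mem_stabilizer_iff, Perm.smul_def, hL_mem, hJab_mem]
        constructor
        · rintro ⟨⟨hjJ, h | h⟩, hja⟩
          · exact ⟨⟨hjJ, h.1⟩, h.2⟩
          · exact absurd (h.1.symm.trans hja) hta
        · rintro ⟨⟨hjJ, hja⟩, hjb⟩
          exact ⟨⟨hjJ, Or.inl ⟨hja, hjb⟩⟩, hja⟩
      have hLcard : Nat.card L = 48 := by
        have := card_eq_orb_mul L a
        rw [horbL, hLa, hJab_card, Finset.card_pair (Ne.symm hta)] at this
        omega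
      have hdvd := Subgroup.card_dvd_of_le hLJ
      rw [hLcard, hcard] at hdvd
      omega
    · exact hc14
  have hOb : orb Ja b = (Finset.univ.erase (0 : V)).erase a :=
    Finset.eq_of_subset_of_card_le hsubb (by rw [hN', hcb14])
  -- assemble
  have hmove : ∀ x : V, x ≠ 0 → ∃ g ∈ J, g x = a := by
    intro x hx
    have : a ∈ orb J x := by
      rw [htrans x hx]
      exact Finset.mem_erase.mpr ⟨ha, Finset.mem_univ _⟩
    exact mem_orb.mp this
  obtain ⟨g1, hg1, hg1v⟩ := hmove v hv
  obtain ⟨g2, hg2, hg2v⟩ := hmove v' hv'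
  have h1 : g1 w ∈ orb Ja b := by
    rw [hOb]
    refine Finset.mem_erase.mpr ⟨?_, Finset.mem_erase.mpr ⟨(hadd g1 hg1).ne_zero hw, Finset.mem_univ _⟩⟩
    intro h
    exact hvw (g1.injective (hg1v.trans h.symm))
  have h2 : g2 w' ∈ orb Ja b := by
    rw [hOb]
    refine Finset.mem_erase.mpr ⟨?_, Finset.mem_erase.mpr ⟨(hadd g2 hg2).ne_zero hw', Finset.mem_univ _⟩⟩
    intro h
    exact hvw' (g2.injective (hg2v.trans h.symm))
  obtain ⟨k1, hk1, hk1b⟩ := mem_orb.mp h1
  obtain ⟨k2, hk2, hk2b⟩ := mem_orb.mp h2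
  have hk1J := ((hJa_mem k1).mp hk1).1
  have hk1a := ((hJa_mem k1).mp hk1).2
  have hk2J := ((hJa_mem k2).mp hk2).1
  have hk2a := ((hJa_mem k2).mp hk2).2
  refine ⟨g2⁻¹ * k2 * k1⁻¹ * g1, J.mul_mem (J.mul_mem (J.mul_mem (J.inv_mem hg2) hk2J)
    (J.inv_mem hk1J)) hg1, ?_, ?_⟩
  · simp only [Perm.mul_apply]
    rw [hg1v, Perm.inv_eq_iff_eq.mpr hk1a.symm, hk2a, Perm.inv_eq_iff_eq]
    exact hg2v.symm
  · simp only [Perm.mul_apply]
    have e1 : k1⁻¹ (g1 w) = b := Perm.inv_eq_iff_eq.mpr hk1b.symm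
    rw [e1, hk2b]
    exact Perm.inv_eq_iff_eq.mpr rfl

end Cfsg.Agent.Lib.Helper92.A7Trans
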