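import Mathlib
import Cfsg.Agent.Lib.Helper92.PermCount
import Cfsg.Agent.Lib.Helper92.A7Trans

/-!
# Additive permutation groups of order 1344 on an elementary abelian group of order 16

Let `V` be an elementary abelian group of order 16 and `J` a group of additive permutations of `V`
of order `1344`.

* `fix_or_hyperplane`: `J` fixes a nonzero element or leaves a subgroup of order 8 invariant.
  (An element of order 7 has exactly one nonzero fixed point `v₀`; its orbit has 1 or 8 elements;
  in the second case a double count shows that the complement of the orbit is a subgroup.)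
* `exists_normal_of_hyperplane`: if `J` leaves a subgroup `W` of order 8 invariant, the elements of
  `J` fixing `W` pointwise form a nontrivial normal subgroup of exponent 2.
-/

set_option autoImplicit false
set_option linter.unusedSectionVars false

namespace Cfsg.Agent.Lib.Helper92.AddPerm1344

open Equiv Cfsg.Agent.Lib.Helper92.PermCount Cfsg.Agent.Lib.Helper92.A7Trans

variable {V : Type*} [AddCommGroup V] [Fintype V] [DecidableEq V]

/-- Orbit–stabilizer inequality. -/
theorem card_le_mul_stab (J : Subgroup (Perm V)) (x : V) (B : Finset V) (hB : orb J x ⊆ B) :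
    Nat.card J ≤ B.card * Nat.card ↥(J ⊓ MulAction.stabilizer (Perm V) x) := by
  rw [card_eq_orb_mul J x]
  exact Nat.mul_le_mul_right _ (Finset.card_le_card hB)

theorem neg_eq_self (h2 : ∀ x : V, x + x = 0) (x : V) : -x = x :=
  neg_eq_of_add_eq_zero_left (h2 x)

theorem add_add_cancel_left' (h2 : ∀ x : V, x + x = 0) (a b : V) : a + (a + b) = b := by
  rw [← add_assoc, h2, zero_add]

/-- The counting function of the double count. -/
def cnt (S : Finset V) (w : V) : ℕ := (S.filter fun u => w + u ∈ S).card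

theorem sum_cnt (S : Finset V) : ∑ w, cnt S w = S.card * S.card := by
  unfold cnt
  simp_rw [Finset.card_filter]
  rw [Finset.sum_comm]
  have : ∀ u ∈ S, (∑ w : V, if w + u ∈ S then 1 else 0) = S.card := by
    intro u _
    rw [← Finset.card_filter]
    apply Finset.card_equiv (Equiv.addRight u)
    intro w
    simp
  rw [Finset.sum_congr rfl this, Finset.sum_const, smul_eq_mul]

theorem cnt_zero (S : Finset V) : cnt S 0 = S.card := by
  unfold cnt
  congr 1
  apply Finset.filter_true_of_mem
  intro u hu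
  rwa [zero_add]

theorem cnt_apply {j : Perm V} (hj : IsAdd j) (S : Finset V) (hS : ∀ x, j x ∈ S ↔ x ∈ S) (w : V) :
    cnt S (j w) = cnt S w := by
  unfold cnt
  symm
  apply Finset.card_equiv j
  intro u
  rw [Finset.mem_filter, Finset.mem_filter, ← hj, hS, hS]

/-- `J` fixes a nonzero vector or leaves a subgroup of order 8 invariant. -/
theorem fix_or_hyperplane (hV : Fintype.card V = 16) (h2 : ∀ x : V, x + x = 0)
    (J : Subgroup (Perm V)) (hadd : ∀ j ∈ J, IsAdd j) (hcard : Nat.card J = 1344) :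
    (∃ v : V, v ≠ 0 ∧ ∀ j ∈ J, j v = v) ∨
      ∃ W : AddSubgroup V, Nat.card W = 8 ∧ ∀ j ∈ J, ∀ x, j x ∈ W ↔ x ∈ W := by
  have : Fact (Nat.Prime 7) := ⟨by norm_num⟩
  obtain ⟨j7, hj7, ho7⟩ := exists_orderOf_eq_prime J 7 (by rw [hcard]; norm_num)
  have hj7p : j7 ^ 7 = 1 := by rw [← ho7]; exact pow_orderOf_eq_one j7
  have hj7n : j7 ≠ 1 := ne_one_of_orderOf (by norm_num) ho7
  have hfix2 := fix_seven hV (hadd j7 hj7) hj7p hj7n
  have h0fix : (0 : V) ∈ fixIn j7 Finset.univ :=
    mem_fixIn.mpr ⟨Finset.mem_univ _, (hadd j7 hj7).map_zero⟩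
  -- the nonzero fixed point
  obtain ⟨v0, hv0, hfixeq⟩ : ∃ v0 : V, v0 ≠ 0 ∧ ∀ x, j7 x = x ↔ x = 0 ∨ x = v0 := by
    obtain ⟨a, b, hab, heq⟩ := Finset.card_eq_two.mp hfix2
    rw [heq] at h0fix
    have hmem : ∀ x, j7 x = x ↔ x = a ∨ x = b := by
      intro x
      have : x ∈ fixIn j7 Finset.univ ↔ x ∈ ({a, b} : Finset V) := by rw [heq]
      rw [mem_fixIn, Finset.mem_insert, Finset.mem_singleton] at this
      rw [← this]
      simp
    rcases Finset.mem_insert.mp h0fix with h | h
    · refine ⟨b, fun hb => hab (by rw [← h, hb]), fun x => ?_⟩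
      rw [hmem, ← h]
    · rw [Finset.mem_singleton] at h
      refine ⟨a, fun ha => hab (by rw [← h, ha]), fun x => ?_⟩
      rw [hmem, ← h, or_comm]
  set O := orb J v0 with hO
  have h0O : (0 : V) ∉ O := by
    intro h
    obtain ⟨j, hj, hj0⟩ := mem_orb.mp h
    exact (hadd j hj).ne_zero hv0 hj0
  have hinvO : ∀ j ∈ J, ∀ x, j x ∈ O ↔ x ∈ O := fun j hj x => apply_mem_orb_iff hj x
  have hfixO : fixIn j7 O = {v0} := by
    ext x
    rw [mem_fixIn, Finset.mem_singleton]
    constructor
    · rintro ⟨hxO, hx⟩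
      rcases (hfixeq x).mp hx with h | h
      · exact absurd (h ▸ hxO) h0O
      · exact h
    · rintro rfl
      exact ⟨self_mem_orb J x, (hfixeq x).mpr (Or.inr rfl)⟩
  have hmodO := card_fixIn_modEq j7 hj7p O (hinvO j7 hj7)
  rw [hfixO, Finset.card_singleton] at hmodO
  have hdvdO : O.card ∣ 1344 := by
    rw [← hcard, card_eq_orb_mul J v0]
    exact Dvd.intro _ rfl
  have hleO : O.card ≤ 15 := by
    have h1 : O ⊆ Finset.univ.erase 0 := by
      intro x hx
      rw [Finset.mem_erase]
      exact ⟨fun h => h0O (h ▸ hx), Finset.mem_univ _⟩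
    have := Finset.card_le_card h1
    rwa [Finset.card_erase_of_mem (Finset.mem_univ _), Finset.card_univ, hV] at this
  have hO18 : O.card = 1 ∨ O.card = 8 := by
    unfold Nat.ModEq at hmodO
    interval_cases h : O.card <;> omega
  rcases hO18 with hO1 | hO8
  · left
    refine ⟨v0, hv0, fun j hj => ?_⟩
    obtain ⟨a, ha⟩ := Finset.card_eq_one.mp hO1
    have h1 : v0 ∈ O := self_mem_orb J v0
    have h2' : j v0 ∈ O := (hinvO j hj v0).mpr h1
    rw [ha, Finset.mem_singleton] at h1 h2'
    rw [h2', h1]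
  · right
    -- the complement of the orbit
    set Wf : Finset V := Finset.univ \ O with hWf
    have hWfcard : Wf.card = 8 := by
      rw [hWf, Finset.card_sdiff_of_subset (Finset.subset_univ O), Finset.card_univ, hV, hO8]
    have h0W : (0 : V) ∈ Wf := by
      rw [hWf, Finset.mem_sdiff]; exact ⟨Finset.mem_univ _, h0O⟩
    have hmemW : ∀ x, x ∈ Wf ↔ x ∉ O := by
      intro x; rw [hWf, Finset.mem_sdiff]; simp
    have hinvW : ∀ j ∈ J, ∀ x, j x ∈ Wf ↔ x ∈ Wf := by
      intro j hj x
      rw [hmemW, hmemW, hinvO j hj]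
    set O7 : Finset V := Wf.erase 0 with hO7
    have hO7card : O7.card = 7 := by
      rw [hO7, Finset.card_erase_of_mem h0W, hWfcard]
    have hmemO7 : ∀ x, x ∈ O7 ↔ x ≠ 0 ∧ x ∈ Wf := by
      intro x; rw [hO7, Finset.mem_erase]
    have hinvO7 : ∀ j ∈ J, ∀ x, j x ∈ O7 ↔ x ∈ O7 := by
      intro j hj x
      rw [hmemO7, hmemO7, hinvW j hj]
      constructor
      · rintro ⟨h1, h2'⟩
        exact ⟨fun h => h1 (by rw [h, (hadd j hj).map_zero]), h2'⟩
      · rintro ⟨h1, h2'⟩
        exact ⟨(hadd j hj).ne_zero h1, h2'⟩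
    -- `J` is transitive on `O7`
    have htrans : ∀ u ∈ O7, orb J u = O7 := by
      intro u hu
      have hsub : orb J u ⊆ O7 :=
        orb_subset hu (fun g hg q hq => (hinvO7 g hg q).mpr hq)
      have hfixu : fixIn j7 (orb J u) = ∅ := by
        rw [Finset.eq_empty_iff_forall_notMem]
        intro x hx
        rw [mem_fixIn] at hx
        have hx7 := (hmemO7 x).mp (hsub hx.1)
        rcases (hfixeq x).mp hx.2 with h | h
        · exact hx7.1 h
        · have : v0 ∈ O := self_mem_orb J v0
          exact (hmemW x).mp hx7.2 (h ▸ this)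
      have hmodu := card_fixIn_modEq j7 hj7p (orb J u) (fun x => apply_mem_orb_iff hj7 x)
      rw [hfixu, Finset.card_empty] at hmodu
      have hpos : 0 < (orb J u).card := Finset.card_pos.mpr ⟨u, self_mem_orb J u⟩
      have hle : (orb J u).card ≤ 7 := hO7card ▸ Finset.card_le_card hsub
      have h7 : (orb J u).card = 7 := by
        unfold Nat.ModEq at hmodu
        omega
      exact Finset.eq_of_subset_of_card_le hsub (by rw [hO7card, h7])
    -- the double count
    have hO7ne : O7.Nonempty := Finset.card_pos.mp (by rw [hO7card]; norm_num)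
    obtain ⟨u0, hu0⟩ := hO7ne
    have hc7 : ∀ w ∈ O7, cnt O7 w = cnt O7 u0 := by
      intro w hw
      rw [← htrans u0 hu0] at hw
      obtain ⟨j, hj, rfl⟩ := mem_orb.mp hw
      exact cnt_apply (hadd j hj) O7 (hinvO7 j hj) u0
    have hc8 : ∀ w ∈ O, cnt O7 w = cnt O7 v0 := by
      intro w hw
      obtain ⟨j, hj, rfl⟩ := mem_orb.mp hw
      exact cnt_apply (hadd j hj) O7 (hinvO7 j hj) v0
    have hsum := sum_cnt O7
    rw [hO7card] at hsum
    have hsplit : ∑ w, cnt O7 w = cnt O7 0 + ∑ w ∈ O7, cnt O7 w + ∑ w ∈ O, cnt O7 w := by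
      have h1 : ∑ w, cnt O7 w = ∑ w ∈ Wf, cnt O7 w + ∑ w ∈ O, cnt O7 w := by
        rw [hWf, Finset.sum_sdiff (Finset.subset_univ O)]
      rw [h1, hO7, Finset.add_sum_erase Wf _ h0W]
    rw [hsplit, cnt_zero, hO7card, Finset.sum_const_nat hc7, Finset.sum_const_nat hc8, hO7card,
      hO8] at hsum
    have hc8le : cnt O7 v0 ≤ 7 := by
      unfold cnt
      exact hO7card ▸ Finset.card_filter_le _ _
    have hc80 : cnt O7 v0 = 0 := by omega
    -- closure under addition
    have hclosed : ∀ a b, a ∈ Wf → b ∈ Wf → a + b ∈ Wf := by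
      intro a b ha hb
      by_cases ha0 : a = 0
      · rw [ha0, zero_add]; exact hb
      by_cases hb0 : b = 0
      · rw [hb0, add_zero]; exact ha
      by_contra hab
      have habO : a + b ∈ O := by
        by_contra h
        exact hab ((hmemW _).mpr h)
      have h1 : cnt O7 (a + b) = 0 := by rw [hc8 _ habO, hc80]
      unfold cnt at h1
      rw [Finset.card_eq_zero, Finset.eq_empty_iff_forall_notMem] at h1
      apply h1 a
      rw [Finset.mem_filter]
      refine ⟨(hmemO7 a).mpr ⟨ha0, ha⟩, ?_⟩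
      have : a + b + a = b := by
        rw [add_comm, add_add_cancel_left' h2]
      rw [this]
      exact (hmemO7 b).mpr ⟨hb0, hb⟩
    let W : AddSubgroup V :=
      { carrier := ↑Wf
        add_mem' := fun {a b} ha hb => Finset.mem_coe.mpr (hclosed a b ha hb)
        zero_mem' := Finset.mem_coe.mpr h0W
        neg_mem' := fun {a} ha => by rw [neg_eq_self h2]; exact ha }
    have hWmem : ∀ x, x ∈ W ↔ x ∈ Wf := fun x => Iff.rfl
    refine ⟨W, ?_, fun j hj x => ?_⟩
    · have e : W ≃ {x // x ∈ Wf} := Equiv.subtypeEquivRight hWmem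
      rw [Nat.card_congr e, Nat.card_eq_fintype_card, Fintype.card_coe, hWfcard]
    · rw [hWmem, hWmem]
      exact hinvW j hj x

/-- The elements of `J` fixing `W` pointwise. -/
def fixW (J : Subgroup (Perm V)) (W : AddSubgroup V) : Subgroup (Perm V) where
  carrier := {n | n ∈ J ∧ ∀ w ∈ W, n w = w}
  mul_mem' := by
    rintro a b ⟨ha, ha'⟩ ⟨hb, hb'⟩
    refine ⟨J.mul_mem ha hb, fun w hw => ?_⟩
    rw [Perm.mul_apply, hb' w hw, ha' w hw]
  one_mem' := ⟨J.one_mem, fun w _ => rfl⟩
  inv_mem' := by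
    rintro a ⟨ha, ha'⟩
    refine ⟨J.inv_mem ha, fun w hw => ?_⟩
    rw [Perm.inv_eq_iff_eq, ha' w hw]

theorem mem_fixW {J : Subgroup (Perm V)} {W : AddSubgroup V} {n : Perm V} :
    n ∈ fixW J W ↔ n ∈ J ∧ ∀ w ∈ W, n w = w := Iff.rfl

/-- If `J` leaves a subgroup `W` of order 8 invariant, the pointwise stabilizer of `W` in `J` is a
nontrivial normal subgroup of exponent 2. -/
theorem exists_normal_of_hyperplane (hV : Fintype.card V = 16) (h2 : ∀ x : V, x + x = 0)
    (J : Subgroup (Perm V)) (hadd : ∀ j ∈ J, IsAdd j) (hcard : Nat.card J = 1344)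
    (W : AddSubgroup V) (hW : Nat.card W = 8) (hinv : ∀ j ∈ J, ∀ x, j x ∈ W ↔ x ∈ W) :
    ∃ N : Subgroup (Perm V), N ≤ J ∧ N ≠ ⊥ ∧ (∀ n ∈ N, n * n = 1) ∧
      ∀ j ∈ J, ∀ n ∈ N, j * n * j⁻¹ ∈ N := by
  classical
  have hidx : W.index = 2 := by
    have := W.index_mul_card
    rw [hW, Nat.card_eq_fintype_card, hV] at this
    omega
  refine ⟨fixW J W, fun n hn => hn.1, ?_, ?_, ?_⟩
  · -- nontrivial: a chain of three stabilizers
    set Wf : Finset V := Finset.univ.filter (· ∈ W) with hWf
    have hmemWf : ∀ x, x ∈ Wf ↔ x ∈ W := by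
      intro x; rw [hWf, Finset.mem_filter]; simp
    have hWfcard : Wf.card = 8 := by
      have e : W ≃ {x // x ∈ Wf} := Equiv.subtypeEquivRight (fun x => (hmemWf x).symm)
      rw [← hW, Nat.card_congr e, Nat.card_eq_fintype_card, Fintype.card_coe]
    obtain ⟨w1, hw1W, hw1⟩ : ∃ w1 ∈ Wf, w1 ∉ ({0} : Finset V) :=
      Finset.exists_mem_notMem_of_card_lt_card (by rw [hWfcard]; simp)
    rw [Finset.mem_singleton] at hw1
    obtain ⟨w2, hw2W, hw2⟩ : ∃ w2 ∈ Wf, w2 ∉ ({0, w1} : Finset V) :=
      Finset.exists_mem_notMem_of_card_lt_card (by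
        rw [hWfcard]
        exact lt_of_le_of_lt (Finset.card_le_two) (by norm_num))
    rw [Finset.mem_insert, Finset.mem_singleton, not_or] at hw2
    obtain ⟨w3, hw3W, hw3⟩ : ∃ w3 ∈ Wf, w3 ∉ ({0, w1, w2, w1 + w2} : Finset V) :=
      Finset.exists_mem_notMem_of_card_lt_card (by
        rw [hWfcard]
        exact lt_of_le_of_lt (Finset.card_le_four) (by norm_num))
    simp only [Finset.mem_insert, Finset.mem_singleton, not_or] at hw3
    set J1 := J ⊓ MulAction.stabilizer (Perm V) w1 with hJ1
    set J2 := J1 ⊓ MulAction.stabilizer (Perm V) w2 with hJ2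
    set J3 := J2 ⊓ MulAction.stabilizer (Perm V) w3 with hJ3
    have hJ1J : J1 ≤ J := inf_le_left
    have hJ2J : J2 ≤ J := inf_le_left.trans hJ1J
    have hJ3J : J3 ≤ J := inf_le_left.trans hJ2J
    have hfix1 : ∀ j ∈ J1, j w1 = w1 := fun j hj => by
      have := (Subgroup.mem_inf.mp hj).2
      rwa [MulAction.mem_stabilizer_iff, Perm.smul_def] at this
    have hfix2 : ∀ j ∈ J2, j w2 = w2 := fun j hj => by
      have := (Subgroup.mem_inf.mp hj).2
      rwa [MulAction.mem_stabilizer_iff, Perm.smul_def] at this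
    have hfix3 : ∀ j ∈ J3, j w3 = w3 := fun j hj => by
      have := (Subgroup.mem_inf.mp hj).2
      rwa [MulAction.mem_stabilizer_iff, Perm.smul_def] at this
    -- first step
    have hB1 : orb J w1 ⊆ Wf.erase 0 := by
      apply orb_subset (Finset.mem_erase.mpr ⟨hw1, hw1W⟩)
      intro g hg q hq
      rw [Finset.mem_erase] at hq ⊢
      exact ⟨(hadd g hg).ne_zero hq.1, (hmemWf _).mpr ((hinv g hg q).mpr ((hmemWf q).mp hq.2))⟩
    have h1 := card_le_mul_stab J w1 _ hB1
    rw [Finset.card_erase_of_mem ((hmemWf 0).mpr W.zero_mem), hWfcard, hcard] at h1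
    -- second step
    have hB2 : orb J1 w2 ⊆ (Wf.erase 0).erase w1 := by
      apply orb_subset (Finset.mem_erase.mpr ⟨hw2.2, Finset.mem_erase.mpr ⟨hw2.1, hw2W⟩⟩)
      intro g hg q hq
      rw [Finset.mem_erase, Finset.mem_erase] at hq ⊢
      refine ⟨fun h => hq.1 ?_, (hadd g (hJ1J hg)).ne_zero hq.2.1,
        (hmemWf _).mpr ((hinv g (hJ1J hg) q).mpr ((hmemWf q).mp hq.2.2))⟩
      apply g.injective
      rw [h, hfix1 g hg]
    have h2' := card_le_mul_stab J1 w2 _ hB2
    rw [Finset.card_erase_of_mem (Finset.mem_erase.mpr ⟨hw1, hw1W⟩),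
      Finset.card_erase_of_mem ((hmemWf 0).mpr W.zero_mem), hWfcard] at h2'
    -- third step
    have hw12W : w1 + w2 ∈ Wf :=
      (hmemWf _).mpr (W.add_mem ((hmemWf _).mp hw1W) ((hmemWf _).mp hw2W))
    have hw12a : w1 + w2 ≠ 0 := by
      intro h
      apply hw2.2
      have := add_add_cancel_left' h2 w1 w2
      rw [h, add_zero] at this
      exact this.symm
    have hw12b : w1 + w2 ≠ w1 := by
      intro h
      exact hw2.1 (by simpa using h)
    have hw12c : w1 + w2 ≠ w2 := by
      intro h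
      exact hw1 (by simpa using h)
    have hB3 : orb J2 w3 ⊆ (((Wf.erase 0).erase w1).erase w2).erase (w1 + w2) := by
      apply orb_subset
      · simp only [Finset.mem_erase]
        exact ⟨hw3.2.2.2, hw3.2.2.1, hw3.2.1, hw3.1, hw3W⟩
      · intro g hg q hq
        have hg1 : g ∈ J1 := inf_le_left (a := J1) hg
        simp only [Finset.mem_erase] at hq ⊢
        obtain ⟨hq4, hq3, hq2, hq1, hqW⟩ := hq
        refine ⟨fun h => hq4 ?_, fun h => hq3 ?_, fun h => hq2 ?_,
          (hadd g (hJ2J hg)).ne_zero hq1,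
          (hmemWf _).mpr ((hinv g (hJ2J hg) q).mpr ((hmemWf q).mp hqW))⟩
        · apply g.injective
          rw [h, hadd g (hJ2J hg), hfix1 g hg1, hfix2 g hg]
        · apply g.injective
          rw [h, hfix2 g hg]
        · apply g.injective
          rw [h, hfix1 g hg1]
    have h3 := card_le_mul_stab J2 w3 _ hB3
    have hc4 : ((((Wf.erase 0).erase w1).erase w2).erase (w1 + w2)).card = 4 := by
      rw [Finset.card_erase_of_mem, Finset.card_erase_of_mem, Finset.card_erase_of_mem,
        Finset.card_erase_of_mem ((hmemWf 0).mpr W.zero_mem), hWfcard]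
      · exact Finset.mem_erase.mpr ⟨hw1, hw1W⟩
      · exact Finset.mem_erase.mpr ⟨hw2.2, Finset.mem_erase.mpr ⟨hw2.1, hw2W⟩⟩
      · simp only [Finset.mem_erase]
        exact ⟨hw12c, hw12b, hw12a, hw12W⟩
    rw [hc4] at h3
    have hJ3card : 8 ≤ Nat.card J3 := by
      have e1 : Nat.card ↥(J ⊓ MulAction.stabilizer (Perm V) w1) = Nat.card J1 := rfl
      have e2 : Nat.card ↥(J1 ⊓ MulAction.stabilizer (Perm V) w2) = Nat.card J2 := rfl
      have e3 : Nat.card ↥(J2 ⊓ MulAction.stabilizer (Perm V) w3) = Nat.card J3 := rfl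
      rw [e1] at h1
      rw [e2] at h2'
      rw [e3] at h3
      simp only [Nat.reduceSub] at h1 h2'
      omega
    -- `J3` fixes `W` pointwise
    have hJ3fix : J3 ≤ fixW J W := by
      intro j hj
      refine ⟨hJ3J hj, ?_⟩
      have hj2 : j ∈ J2 := inf_le_left (a := J2) hj
      have hj1 : j ∈ J1 := inf_le_left (a := J1) hj2
      have hja := hadd j (hJ3J hj)
      let A : AddSubgroup V :=
        { carrier := {x | x ∈ W ∧ j x = x}
          add_mem' := by
            rintro a b ⟨ha, ha'⟩ ⟨hb, hb'⟩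
            exact ⟨W.add_mem ha hb, by rw [hja, ha', hb']⟩
          zero_mem' := ⟨W.zero_mem, hja.map_zero⟩
          neg_mem' := by
            rintro a ⟨ha, ha'⟩
            refine ⟨W.neg_mem ha, ?_⟩
            rw [neg_eq_self h2, ha'] }
      have hAW : A ≤ W := fun x hx => hx.1
      have hAdvd : Nat.card A ∣ 8 := hW ▸ AddSubgroup.card_dvd_of_le hAW
      have hA5 : 5 ≤ Nat.card A := by
        have hsub : ({0, w1, w2, w1 + w2, w3} : Finset V) ⊆ Finset.univ.filter (· ∈ A) := by
          intro x hx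
          rw [Finset.mem_filter]
          refine ⟨Finset.mem_univ _, ?_⟩
          simp only [Finset.mem_insert, Finset.mem_singleton] at hx
          rcases hx with rfl | rfl | rfl | rfl | rfl
          · exact A.zero_mem
          · exact ⟨(hmemWf _).mp hw1W, hfix1 j hj1⟩
          · exact ⟨(hmemWf _).mp hw2W, hfix2 j hj2⟩
          · exact ⟨(hmemWf _).mp hw12W, by rw [hja, hfix1 j hj1, hfix2 j hj2]⟩
          · exact ⟨(hmemWf _).mp hw3W, hfix3 j hj⟩
        have hc5 : ({0, w1, w2, w1 + w2, w3} : Finset V).card = 5 := by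
          rw [Finset.card_insert_of_notMem, Finset.card_insert_of_notMem,
            Finset.card_insert_of_notMem, Finset.card_insert_of_notMem, Finset.card_singleton]
          · rw [Finset.mem_singleton]; exact fun h => hw3.2.2.2 h.symm
          · simp only [Finset.mem_insert, Finset.mem_singleton, not_or]
            exact ⟨fun h => hw12c h.symm, fun h => hw3.2.2.1 h.symm⟩
          · simp only [Finset.mem_insert, Finset.mem_singleton, not_or]
            exact ⟨fun h => hw2.2 h.symm, fun h => hw12b h.symm, fun h => hw3.2.1 h.symm⟩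
          · simp only [Finset.mem_insert, Finset.mem_singleton, not_or]
            exact ⟨fun h => hw1 h.symm, fun h => hw2.1 h.symm, fun h => hw12a h.symm,
              fun h => hw3.1 h.symm⟩
        have e : A ≃ {x // x ∈ Finset.univ.filter (· ∈ A)} :=
          Equiv.subtypeEquivRight (fun x => by rw [Finset.mem_filter]; simp)
        rw [Nat.card_congr e, Nat.card_eq_fintype_card, Fintype.card_coe, ← hc5]
        exact Finset.card_le_card hsub
      have hA8 : Nat.card A = 8 := by
        have hle : Nat.card A ≤ 8 := Nat.le_of_dvd (by norm_num) hAdvd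
        interval_cases h : Nat.card A <;> omega
      have hAeq : A = W := AddSubgroup.eq_of_le_of_card_ge hAW (by rw [hA8, hW])
      intro w hw
      have : w ∈ A := by rw [hAeq]; exact hw
      exact this.2
    intro hbot
    have h1' : Nat.card J3 ≤ Nat.card (fixW J W) := Subgroup.card_le_of_le hJ3fix
    rw [hbot, Subgroup.card_bot] at h1'
    omega
  · -- exponent 2
    rintro n ⟨hnJ, hnW⟩
    ext x
    rw [Perm.mul_apply, Perm.one_apply]
    by_cases hx : x ∈ W
    · rw [hnW x hx, hnW x hx]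
    · have hnx : n x ∉ W := fun h => hx ((hinv n hnJ x).mp h)
      have ha : x + n x ∈ W := (AddSubgroup.add_mem_iff_of_index_two hidx).mpr
        ⟨fun h => absurd h hx, fun h => absurd h hnx⟩
      have hnxe : n x = x + (x + n x) := (add_add_cancel_left' h2 x (n x)).symm
      have hna := hadd n hnJ
      calc n (n x) = n (x + (x + n x)) := by rw [← hnxe]
        _ = n x + (x + n x) := by rw [hna, hnW _ ha]
        _ = x + (n x + n x) := by abel
        _ = x := by rw [h2, add_zero]
  · -- normality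
    rintro j hj n ⟨hnJ, hnW⟩
    refine ⟨J.mul_mem (J.mul_mem hj hnJ) (J.inv_mem hj), fun w hw => ?_⟩
    have hjw : j⁻¹ w ∈ W := (hinv j⁻¹ (J.inv_mem hj) w).mpr hw
    rw [Perm.mul_apply, Perm.mul_apply, hnW _ hjw]
    simp

end Cfsg.Agent.Lib.Helper92.AddPerm1344
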