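import Mathlib
import Cfsg.Prelude.Def_Amalgam
import Cfsg.Agent.Lib.Helper68.AmalBDefs
import Cfsg.Agent.Lib.Helper68.AmalBTools
import Cfsg.Agent.Lib.Helper19.AmalBP2a
import Cfsg.Agent.Lib.Helper19.AmalBP2b
import Cfsg.Agent.Lib.Helper19.AmalBP2c
import Cfsg.Agent.Lib.Helper19.AmalBEvenI
import Cfsg.Agent.Lib.Helper7.AmalBP3

/-!
# S2751, case (B), even critical distance: GSB-[BE-III] `even_exists_s` (helper92)

Sheet: `Lib/Helper68/AmalBSHEET.md`.  Uses helper19's [P2a,b,c], [BE-I] and helper7's [P3] (namespace `H7`).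
-/

set_option autoImplicit false

namespace Cfsg.Agent.Lib.Helper68.AmalB

open Cfsg Cfsg.Agent.Lib.Helper12.Amal Cfsg.Agent.Lib.Helper68.AmalD Cfsg.Agent.Lib.Helper68.AmalW

variable {G : Type*} [Group G] {P₁ P₂ : Subgroup G}

/-- along a walk of length `b` (the critical distance): `Z_{p i} ≤ Q_{p j}` for `|i - j| < b` -/
theorem h92_walk_Z_le_Q (hW : BaseW P₁ P₂) {b : ℕ} (hmin : MinB P₁ P₂ b)
    {p : ℕ → CosetVertex P₁ P₂} (hp : IsWalk b p) {i j : ℕ} (hi : i ≤ b) (hj : j ≤ b)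
    (h1 : j < i + b) (h2 : i < j + b) : Zv (p i) ≤ Qv (p j) := by
  apply hmin.le
  rcases le_total i j with hij | hij
  · have := dist_walk_le hW hp hij hj
    omega
  · have := dist_walk_le hW hp hij hi
    rw [SimpleGraph.dist_comm]
    omega

/-- a neighbour of an α-type vertex is of β-type -/
theorem h92_isB_of_adj (hB : BaseB P₁ P₂) {x y : CosetVertex P₁ P₂}
    (hxy : (cosetGraph P₁ P₂).Adj x y) (hx : ¬ IsB x) : IsB y := by
  by_contra hy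
  exact hx ((hB.adj_type x y hxy).2 hy)

/-- `G_y` normalizes `V_y` -/
theorem h92_G_le_normalizer_Vv (hW : BaseW P₁ P₂) (y : CosetVertex P₁ P₂) :
    Gv y ≤ Subgroup.normalizer ((Vv y : Subgroup G) : Set G) := by
  intro g hg
  have hgy : g • y = y := MulAction.mem_stabilizer_iff.1 hg
  have h1 := Vv_smul hW g y
  rw [hgy] at h1
  exact mem_normalizer_of_map_eq h1.symm

/-- `V_y ≤ Q_y` for `y` of β-type -/
theorem h92_Vv_le_Q (hB : BaseB P₁ P₂) {y : CosetVertex P₁ P₂} (hy : IsB y) : Vv y ≤ Qv y :=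
  Vv_le (fun _ hx => H7.Za_le_Qb hB hx.symm hy)

/-- for a neighbour `μ ≠ p 1` of `p 0`: `V_μ ≰ Q_{p (b-1)}` -/
theorem h92_not_Vv_le (hB : BaseB P₁ P₂) {b : ℕ} (hb : 4 ≤ b) (hmin : MinB P₁ P₂ b)
    {p : ℕ → CosetVertex P₁ P₂} (hp : IsWalk b p) (h0 : ¬ IsB (p 0)) (hb' : ¬ IsB (p b))
    (hc : ¬ Zv (p 0) ≤ Qv (p b)) {μ : CosetVertex P₁ P₂}
    (hμ : (cosetGraph P₁ P₂).Adj (p 0) μ) (hμ1 : μ ≠ p 1) : ¬ Vv μ ≤ Qv (p (b - 1)) := by
  have hW := hB.W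
  intro hV
  obtain ⟨hsym, hZ1⟩ := even_comm hB (by omega : 2 ≤ b) hmin hp h0 hb' hc
  obtain ⟨t, htZ, htQ⟩ := SetLike.not_le_iff_exists.1 hsym
  have hadj01 : (cosetGraph P₁ P₂).Adj (p 0) (p 1) := hp 0 (by omega)
  have hadj1 : (cosetGraph P₁ P₂).Adj (p (b - 1)) (p b) := by
    have := hp (b - 1) (by omega)
    have e : b - 1 + 1 = b := by omega
    rwa [e] at this
  have hB1 : IsB (p 1) := h92_isB_of_adj hB hadj01 h0
  have hBb1 : IsB (p (b - 1)) := h92_isB_of_adj hB hadj1.symm hb'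
  have hBμ : IsB μ := h92_isB_of_adj hB hμ h0
  -- `t ∈ T_{p 0, p 1} ∖ Q_{p 0}`
  have htT : t ∈ Gv (p 0) ⊓ Gv (p 1) := by
    apply Q_le_T' hW hadj01
    exact h92_walk_Z_le_Q hW hmin hp (i := b) (j := 1) (by omega) (by omega) (by omega)
      (by omega) htZ
  have ht0 : t • p 0 = p 0 := MulAction.mem_stabilizer_iff.1 htT.1
  have ht1 : t • p 1 = p 1 := MulAction.mem_stabilizer_iff.1 htT.2
  have hmove : t • μ ≠ μ := hW.move (p 0) (p 1) μ hadj01 hμ (Ne.symm hμ1) t htT htQ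
  have hμ' : (cosetGraph P₁ P₂).Adj (p 0) (t • μ) := by
    have := hW.smul_adj t _ _ hμ
    rwa [ht0] at this
  -- `Z_{p (b-1)} ≤ V_μ`
  have hZV : Zv (p (b - 1)) ≤ Vv μ := by
    rw [← hZ1]
    exact (Zb_le hB hadj01 hB1).trans (Z_le_Vv hμ.symm)
  -- `t` normalizes `V_μ`
  have hcomm : ∀ u ∈ Zv (p b), ∀ v ∈ Vv μ, u * v * u⁻¹ ∈ Vv μ := by
    intro u hu v hv
    have hvT : v⁻¹ ∈ Gv (p b) ⊓ Gv (p (b - 1)) := by
      have := Q_le_T hW hadj1 (hV (Subgroup.inv_mem _ hv))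
      exact ⟨this.2, this.1⟩
    have h1 := hZV (Za_comm_le hB hadj1.symm hBb1 hvT hu)
    have e : u * v * u⁻¹ = v * (v⁻¹ * u * v⁻¹⁻¹ * u⁻¹) := by group
    rw [e]
    exact Subgroup.mul_mem _ hv h1
  have htN : t ∈ Subgroup.normalizer ((Vv μ : Subgroup G) : Set G) := by
    apply mem_normalizer_of_forall
    · intro d hd
      exact hcomm t htZ d hd
    · intro d hd
      have := hcomm t⁻¹ (Subgroup.inv_mem _ htZ) d hd
      rwa [inv_inv] at this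
  have hVeq : Vv (t • μ) = Vv μ := by
    rw [Vv_smul hW]
    exact map_conj_eq_of_mem_normalizer htN
  -- `G_{p 0}` normalizes `V_μ`
  have hN0 : Gv (p 0) ≤ Subgroup.normalizer ((Vv μ : Subgroup G) : Set G) := by
    rw [hW.gen_two (p 0) μ (t • μ) hμ hμ' (Ne.symm hmove)]
    refine sup_le (inf_le_right.trans (h92_G_le_normalizer_Vv hW μ)) ?_
    have := h92_G_le_normalizer_Vv hW (t • μ)
    rw [hVeq] at this
    exact inf_le_right.trans this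
  have hbot : Vv μ = ⊥ := by
    apply hW.core (p 0) μ hμ (Vv μ) _ hN0 (h92_G_le_normalizer_Vv hW μ)
    exact (h92_Vv_le_Q hB hBμ).trans (Q_le_T' hW hμ)
  apply hB.ne_bot (p 0)
  rw [eq_bot_iff, ← hbot]
  exact Z_le_Vv hμ.symm

/-- **[BE-III]** but some `Z_s` is not in `Q_{p (b-1)}` -/
theorem even_exists_s (hB : BaseB P₁ P₂) {b : ℕ} (hb : 4 ≤ b) (hmin : MinB P₁ P₂ b)
    {p : ℕ → CosetVertex P₁ P₂} (hp : IsWalk b p) (h0 : ¬ IsB (p 0)) (hb' : ¬ IsB (p b))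
    (hc : ¬ Zv (p 0) ≤ Qv (p b)) :
    ∃ μ s : CosetVertex P₁ P₂, (cosetGraph P₁ P₂).Adj (p 0) μ ∧ μ ≠ p 1 ∧
      (cosetGraph P₁ P₂).Adj μ s ∧ s ≠ p 0 ∧ ¬ Zv s ≤ Qv (p (b - 1)) := by
  have hW := hB.W
  -- a neighbour `μ ≠ p 1` of `p 0`
  obtain ⟨μ, hμ, hμ1⟩ : ∃ μ, μ ∈ (cosetGraph P₁ P₂).neighborSet (p 0) ∧ μ ≠ p 1 := by
    apply Set.exists_ne_of_one_lt_ncard
    rw [hW.card_nbr]
    norm_num
  have hμ' : (cosetGraph P₁ P₂).Adj (p 0) μ := hμ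
  have hnV := h92_not_Vv_le hB hb hmin hp h0 hb' hc hμ' hμ1
  have hex : ∃ s, (cosetGraph P₁ P₂).Adj μ s ∧ ¬ Zv s ≤ Qv (p (b - 1)) := by
    by_contra hcon
    push Not at hcon
    exact hnV (Vv_le hcon)
  obtain ⟨s, hs, hsZ⟩ := hex
  refine ⟨μ, s, hμ', hμ1, hs, ?_, hsZ⟩
  rintro rfl
  apply hsZ
  exact h92_walk_Z_le_Q hW hmin hp (i := 0) (j := b - 1) (by omega) (by omega) (by omega)
    (by omega)

end Cfsg.Agent.Lib.Helper68.AmalB
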