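import Cfsg.Agent.Lib.Helper92.BPTheta
import Cfsg.Agent.Lib.Helper3.BPGreen
import Cfsg.Agent.Lib.Helper3.BPLocal
import Cfsg.Agent.Lib.Helper9.BPNonlocal
import Cfsg.Agent.Lib.Helper11.BPRank
import Cfsg.Agent.Lib.Helper23.BPFixedFin
import Cfsg.Agent.Lib.Helper52.BPD0

/-!
# PROJECT BP, BP-[L4-CLAIM]: the double induction (helper92)

`claimFor_all_of`: CLAIM(`Q`, `c`) for every `p`-subgroup `Q` and every idempotent `c` of `A^Q`, from
the four steps (zero, additivity C1, relative trace C2, local C3) as hypotheses.  Strong
induction on `|Q|`, then on the rank of `c` in `A^Q`.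
-/

set_option autoImplicit false

namespace Cfsg.Agent.Lib.Helper92.BP

open Cfsg Cfsg.Agent.Lib.Helper16

section

variable {G : Type*} [Group G] [Finite G] {p : ℕ} [Fact p.Prime] {M : Ideal AlgInt}
  [hMp : M.IsPrime]

/-- BP-[L4-CLAIM], conditional form: the double induction. -/
theorem claimFor_all_of (hM : IsPModular p M) (μ : LocSys G) (χ : G → ℂ)
    (hC0 : ∀ Q : Subgroup G, IsPGroup p Q → ClaimFor M μ χ Q 0)
    (hC1 : ∀ (Q : Subgroup G), IsPGroup p Q → ∀ c₁ c₂ : MonoidAlgebra (localSubring M) G,
      c₁ ∈ fixedAlg (localSubring M) Q → c₂ ∈ fixedAlg (localSubring M) Q →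
      IsIdempotentElem c₁ → IsIdempotentElem c₂ → Orth c₁ c₂ →
      ClaimFor M μ χ Q c₁ → ClaimFor M μ χ Q c₂ → ClaimFor M μ χ Q (c₁ + c₂))
    (hC2 : ∀ (S Q : Subgroup G), IsPGroup p Q → S ≤ Q → (S.subgroupOf Q).Normal →
      S.relIndex Q = p → ∀ c' : MonoidAlgebra (localSubring M) G,
      c' ∈ fixedAlg (localSubring M) S → IsIdempotentElem c' →
      (∀ t ∈ Q, t ∉ S → c' * conj (localSubring M) t c' = 0) →
      ClaimFor M μ χ S c' → ClaimFor M μ χ Q (relTr (localSubring M) S Q c'))
    (hC3 : ∀ (Q : Subgroup G), IsPGroup p Q → ∀ c : MonoidAlgebra (localSubring M) G,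
      IsLocalPrim (localSubring M) Q c → ClaimFor M μ χ Q c)
    {Q : Subgroup G} (hQ : IsPGroup p Q) {c : MonoidAlgebra (localSubring M) G}
    (hc : c ∈ fixedAlg (localSubring M) Q) (hi : IsIdempotentElem c) :
    ClaimFor M μ χ Q c := by
  classical
  have : CharP (IsLocalRing.ResidueField (localSubring M)) p :=
    Cfsg.Agent.Lib.Helper52.BP.charP_residueField hM
  have hR : MonicSplits (localSubring M) := Cfsg.Agent.Lib.Helper3.BP.monicSplits_localSubring M
  -- outer strong induction on `|Q|`
  induction hn : Nat.card Q using Nat.strong_induction_on generalizing Q c with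
  | _ n IHQ =>
  subst hn
  have : Module.Finite (localSubring M) (fixedAlg (localSubring M) Q) :=
    Cfsg.Agent.Lib.Helper23.BP.finite_fixedAlg Q
  have : NoZeroSMulDivisors (localSubring M) (fixedAlg (localSubring M) Q) :=
    Cfsg.Agent.Lib.Helper23.BP.noZeroSMulDivisors_fixedAlg Q
  obtain ⟨rk, hpos, hadd⟩ :=
    Cfsg.Agent.Lib.Helper11.BP.exists_rank_fun (R := localSubring M)
      (Λ := fixedAlg (localSubring M) Q)
  -- inner strong induction on the rank
  have key : ∀ m : ℕ, ∀ x : fixedAlg (localSubring M) Q, rk x = m → IsIdempotentElem x →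
      ClaimFor M μ χ Q (x : MonoidAlgebra (localSubring M) G) := by
    intro m
    induction m using Nat.strong_induction_on with
    | _ m IH =>
    intro x hx hxi
    by_cases h0 : x = 0
    · subst h0
      simpa using hC0 Q hQ
    by_cases hprim : IsPrimIdem x
    · -- primitive
      have hprimIn : IsPrimIn (localSubring M) (fixedAlg (localSubring M) Q)
          (x : MonoidAlgebra (localSubring M) G) := ⟨x.2, by simpa using hprim⟩
      by_cases hbr : br (localSubring M) Q (x : MonoidAlgebra (localSubring M) G) = 0
      · -- nonlocal: Green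
        obtain ⟨S, hSQ, hSn, hidx, hxS⟩ :=
          Cfsg.Agent.Lib.Helper9.BP.exists_mem_trSet_of_br_eq_zero hR hQ hprimIn hbr
        have hxi' : IsIdempotentElem (x : MonoidAlgebra (localSubring M) G) := by
          have := congrArg Subtype.val hxi.eq
          simpa [IsIdempotentElem] using this
        obtain ⟨c', hc'S, hc'i, htr, -, -, horth⟩ :=
          Cfsg.Agent.Lib.Helper3.BP.green_index_p' hR hSQ hSn hidx x.2 hxi' hxS
        have hcard : Nat.card S < Nat.card Q := by
          have h1 : S.relIndex Q * Nat.card S = Nat.card Q := by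
            have h2 := (S.subgroupOf Q).card_mul_index
            have h3 : Nat.card (S.subgroupOf Q) = Nat.card S :=
              Nat.card_congr (Subgroup.subgroupOfEquivOfLe hSQ).toEquiv
            rw [h3] at h2
            rw [mul_comm]
            exact h2
          have hpp : p.Prime := Fact.out
          have hSpos : 0 < Nat.card S := Nat.card_pos
          rw [hidx] at h1
          calc Nat.card S = 1 * Nat.card S := (one_mul _).symm
            _ < p * Nat.card S := Nat.mul_lt_mul_of_pos_right hpp.one_lt hSpos
            _ = Nat.card Q := h1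
        have hS : IsPGroup p S := hQ.to_le hSQ
        have hclS : ClaimFor M μ χ S c' := IHQ (Nat.card S) hcard hS hc'S hc'i rfl
        have := hC2 S Q hQ hSQ hSn hidx c' hc'S hc'i horth hclS
        rw [htr] at this
        exact this
      · exact hC3 Q hQ _ ⟨hprimIn, hbr⟩
    · -- not primitive: split
      have hsplit : ∃ f : fixedAlg (localSubring M) Q, IdemLE f x ∧ f ≠ 0 ∧ f ≠ x := by
        by_contra hcon
        apply hprim
        refine ⟨hxi, h0, fun f hf => ?_⟩
        by_contra hne
        push Not at hne
        exact hcon ⟨f, hf, hne.1, hne.2⟩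
      obtain ⟨f, ⟨hfi, hxf, hfx⟩, hf0, hfx'⟩ := hsplit
      set g : fixedAlg (localSubring M) Q := x - f with hg
      have hgi : IsIdempotentElem g := by
        show (x - f) * (x - f) = x - f
        rw [mul_sub, sub_mul, sub_mul, hxi.eq, hxf, hfx, hfi.eq]
        abel
      have hfg : Orth f g := by
        constructor
        · show f * (x - f) = 0
          rw [mul_sub, hfx, hfi.eq, sub_self]
        · show (x - f) * f = 0
          rw [sub_mul, hxf, hfi.eq, sub_self]
      have hg0 : g ≠ 0 := fun h => hfx' (by
        have : x - f = 0 := h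
        exact (sub_eq_zero.mp this).symm)
      have hsum : f + g = x := by rw [hg]; abel
      have hrk : rk x = rk f + rk g := by rw [← hsum]; exact hadd f g hfi hgi hfg
      have hrf : rk f < m := by
        have := hpos g hgi hg0
        omega
      have hrg : rk g < m := by
        have := hpos f hfi hf0
        omega
      have h1 := IH (rk f) hrf f rfl hfi
      have h2 := IH (rk g) hrg g rfl hgi
      have hfi' : IsIdempotentElem (f : MonoidAlgebra (localSubring M) G) := by
        have := congrArg Subtype.val hfi.eq
        simpa [IsIdempotentElem] using this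
      have hgi' : IsIdempotentElem (g : MonoidAlgebra (localSubring M) G) := by
        have := congrArg Subtype.val hgi.eq
        simpa [IsIdempotentElem] using this
      have horth' : Orth (f : MonoidAlgebra (localSubring M) G)
          (g : MonoidAlgebra (localSubring M) G) := by
        constructor
        · have := congrArg Subtype.val hfg.1
          simpa using this
        · have := congrArg Subtype.val hfg.2
          simpa using this
      have := hC1 Q hQ _ _ f.2 g.2 hfi' hgi' horth' h1 h2
      have hx' : (x : MonoidAlgebra (localSubring M) G) =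
          (f : MonoidAlgebra (localSubring M) G) + (g : MonoidAlgebra (localSubring M) G) := by
        rw [← hsum]; rfl
      rw [hx']
      exact this
  have hci : IsIdempotentElem (⟨c, hc⟩ : fixedAlg (localSubring M) Q) := by
    apply Subtype.ext
    simpa [IsIdempotentElem] using hi.eq
  exact key _ ⟨c, hc⟩ rfl hci

end

end Cfsg.Agent.Lib.Helper92.BP
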