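import Cfsg.Agent.Lib.Helper92.BPTheta
import Cfsg.Agent.Lib.Helper78.CharOrtho
import Cfsg.Agent.Lib.Helper79.Integrality

/-!
# PROJECT BP, BP-[L4-ELEM] (conditional form): restriction of `θ = μ * χ` to elementary subgroups

`E = Q × L` (`Q` the Sylow `p`-subgroup, `L` a `p'`-group, possibly non-abelian).  For `u ∈ Q` the
class function `s ↦ θ(us)` of `L` is expanded in `Irr(L)`: `θ(us) = Σ_ζ a_ζ(u) ζ(s)`.  By CLAIM for the
central idempotent `ε_ζ` of `Rm[L]`, `ζ(1)·a_ζ` is a generalized character of `Q`; the values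
`a_ζ(u)` are algebraic integers and `p ∤ ζ(1)`, so `a_ζ` is a generalized character of `Q`.
The dependencies enter as hypotheses in the exact form of `BP/BP_SKEL4.lean.txt`, `BP_SKEL4b.lean.txt`.
-/

set_option autoImplicit false

namespace Cfsg.Agent.Lib.Helper92.BP

open Cfsg Cfsg.Agent.Lib.Helper16

section

variable {G : Type*} [Group G] [Finite G] {p : ℕ} [Fact p.Prime] {M : Ideal AlgInt}
  [hMp : M.IsPrime]

omit [Finite G] in
theorem exists_orderOf_eq_pow_of_mem {Q : Subgroup G} (hQ : IsPGroup p Q) {u : G} (hu : u ∈ Q) :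
    ∃ k : ℕ, orderOf u = p ^ k := by
  obtain ⟨k, hk⟩ := hQ ⟨u, hu⟩
  have h1 : u ^ (p ^ k) = 1 := by
    have := congrArg Subtype.val hk
    simpa using this
  have h2 : orderOf u ∣ p ^ k := orderOf_dvd_of_pow_eq_one h1
  obtain ⟨j, -, hj⟩ := (Nat.dvd_prime_pow (Fact.out : p.Prime)).mp h2
  exact ⟨j, hj⟩

theorem not_dvd_card_of_forall_not_dvd_orderOf {L : Subgroup G}
    (hL : ∀ s ∈ L, ¬ p ∣ orderOf s) : ¬ p ∣ Nat.card L := by
  intro hdvd
  have : Fintype L := Fintype.ofFinite L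
  obtain ⟨x, hx⟩ := exists_prime_orderOf_dvd_card' p hdvd
  have h1 : orderOf (x : G) = p := by rw [Subgroup.orderOf_coe]; exact hx
  exact hL x x.2 (by rw [h1])

/-- BP-[L4-ELEM], conditional form. -/
theorem isGeneralizedCharacter_restrict_elementary_of {μ : LocSys G} {χ θ : G → ℂ}
    (hθc : IsClassFunction G θ)
    (hSTR : ∀ (E : Subgroup G) (r : ℕ), r.Prime → IsElementary r E →
      ∃ Q L : Subgroup G, Q ≤ E ∧ L ≤ E ∧ IsPGroup p Q ∧ (∀ s ∈ L, ¬ p ∣ orderOf s) ∧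
        (∀ u ∈ Q, ∀ s ∈ L, u * s = s * u) ∧ ∀ g ∈ E, ∃ u ∈ Q, ∃ s ∈ L, g = u * s)
    (hPROD : ∀ (E Q L : Subgroup G), Q ≤ E → L ≤ E → IsPGroup p Q →
      (∀ s ∈ L, ¬ p ∣ orderOf s) → (∀ u ∈ Q, ∀ s ∈ L, u * s = s * u) →
      (∀ g ∈ E, ∃ u ∈ Q, ∃ s ∈ L, g = u * s) →
      ∀ (Φ : G → ℂ) (J : Finset (IrrCharacter L)) (ν : IrrCharacter L → Q → ℂ)
        (ζ : IrrCharacter L → L → ℂ), (∀ j ∈ J, IsGeneralizedCharacter Q (ν j)) →
        (∀ j ∈ J, IsCharacter L (ζ j)) →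
        (∀ (u : Q) (s : L), Φ ((u : G) * (s : G)) = ∑ j ∈ J, ν j u * ζ j s) →
        IsGeneralizedCharacter E (fun e : E => Φ e))
    (hCLAIM : ∀ Q : Subgroup G, IsPGroup p Q → ∀ c : MonoidAlgebra (localSubring M) G,
      c ∈ fixedAlg (localSubring M) Q → IsIdempotentElem c → ClaimFor M μ χ Q c)
    (hEPS : ∀ L : Subgroup G, (∀ s ∈ L, ¬ p ∣ orderOf s) → ∀ ζ : IrrCharacter L,
      IsIdempotentElem (blockIdemR M ({ζ} : Set (IrrCharacter L))))
    (hFIX : ∀ Q L : Subgroup G, (∀ u ∈ Q, ∀ s ∈ L, u * s = s * u) →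
      ∀ a : MonoidAlgebra (localSubring M) L,
        incl (localSubring M) L a ∈ fixedAlg (localSubring M) Q)
    (hRNG : ∀ L K : Subgroup G, L ≤ K → ∀ a : MonoidAlgebra (localSubring M) L,
      incl (localSubring M) L a ∈ Set.range (incl (localSubring M) K))
    (hCOEF : ∀ u : G, (∃ k : ℕ, orderOf u = p ^ k) → ∀ (L : Subgroup G) [Fintype L],
      (∀ s ∈ L, ¬ p ∣ orderOf s) → (∀ s ∈ L, u * s = s * u) → ∀ ζ : IrrCharacter L,
      ThetaQ M μ χ (Subgroup.zpowers u) u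
          (incl (localSubring M) L (blockIdemR M ({ζ} : Set (IrrCharacter L)))) =
        (charDegree (ζ : L → ℂ) : ℂ) *
          classInner (fun s : L => θ (u * (s : G))) (ζ : L → ℂ))
    (hINT : ∀ u : G, (∃ k : ℕ, orderOf u = p ^ k) → ∀ (L : Subgroup G) [Fintype L],
      (∀ s ∈ L, ¬ p ∣ orderOf s) → (∀ s ∈ L, u * s = s * u) → ∀ ζ : IrrCharacter L,
      IsIntegral ℤ (classInner (fun s : L => θ (u * (s : G))) (ζ : L → ℂ)))
    (hGEN : ∀ Q : Subgroup G, IsPGroup p Q → ∀ (a : Q → ℂ) (m : ℕ), ¬ p ∣ m →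
      IsGeneralizedCharacter Q (fun u => (m : ℂ) * a u) → (∀ u, IsIntegral ℤ (a u)) →
      IsGeneralizedCharacter Q a)
    (E : Subgroup G) (r : ℕ) (hr : r.Prime) (hE : IsElementary r E) :
    IsGeneralizedCharacter E (fun e : E => θ e) := by
  classical
  obtain ⟨Q, L, hQE, hLE, hQ, hL, hcomm, hgen⟩ := hSTR E r hr hE
  let _ : Fintype L := Fintype.ofFinite L
  have hpel : ∀ u : Q, ∃ k : ℕ, orderOf (u : G) = p ^ k := fun u =>
    exists_orderOf_eq_pow_of_mem hQ u.2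
  have hcommu : ∀ u : Q, ∀ s ∈ L, (u : G) * s = s * (u : G) := fun u s hs => hcomm u u.2 s hs
  -- the coefficient functions
  set a : IrrCharacter L → Q → ℂ :=
    fun ζ u => classInner (fun s : L => θ ((u : G) * (s : G))) (ζ : L → ℂ) with ha
  have hcf : ∀ u : Q, IsClassFunction L (fun s : L => θ ((u : G) * (s : G))) := by
    intro u s t
    show θ ((u : G) * ((t * s * t⁻¹ : L) : G)) = θ ((u : G) * (s : G))
    have h1 : (u : G) * ((t * s * t⁻¹ : L) : G) = (t : G) * ((u : G) * (s : G)) * (t : G)⁻¹ := by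
      have hc := hcommu u t t.2
      simp only [Subgroup.coe_mul, Subgroup.coe_inv]
      calc (u : G) * ((t : G) * (s : G) * (t : G)⁻¹)
          = ((u : G) * (t : G)) * (s : G) * (t : G)⁻¹ := by group
        _ = ((t : G) * (u : G)) * (s : G) * (t : G)⁻¹ := by rw [hc]
        _ = (t : G) * ((u : G) * (s : G)) * (t : G)⁻¹ := by group
    rw [h1]
    exact hθc _ _
  have hexp : ∀ (u : Q) (s : L),
      θ ((u : G) * (s : G)) = ∑ ζ : IrrCharacter L, a ζ u * (ζ : L → ℂ) s := by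
    intro u s
    have h1 := congrFun (Cfsg.Agent.Lib.Helper78.classFunction_eq_sum_irr (hcf u)) s
    simp only [Finset.sum_apply, Pi.smul_apply, smul_eq_mul] at h1
    exact h1
  have hpL : ¬ p ∣ Nat.card L := not_dvd_card_of_forall_not_dvd_orderOf hL
  have hdeg : ∀ ζ : IrrCharacter L, ¬ p ∣ charDegree (ζ : L → ℂ) := fun ζ hd =>
    hpL (dvd_trans hd (Cfsg.Agent.Lib.Helper79.irr_charDegree_dvd_card ζ))
  have hagen : ∀ ζ : IrrCharacter L, IsGeneralizedCharacter Q (a ζ) := by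
    intro ζ
    refine hGEN Q hQ (a ζ) (charDegree (ζ : L → ℂ)) (hdeg ζ) ?_
      (fun u => hINT (u : G) (hpel u) L hL (hcommu u) ζ)
    set ε : MonoidAlgebra (localSubring M) G :=
      incl (localSubring M) L (blockIdemR M ({ζ} : Set (IrrCharacter L))) with hε
    have hεi : IsIdempotentElem ε := (hEPS L hL ζ).map (incl (localSubring M) L)
    obtain ⟨ψ, hψ, hψeq⟩ := hCLAIM Q hQ ε (hFIX Q L hcomm _) hεi
    have hψ' : ψ = fun u => ((charDegree (ζ : L → ℂ) : ℕ) : ℂ) * a ζ u := by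
      funext u
      have hLK : L ≤ Subgroup.centralizer
          ((Subgroup.zpowers (u : G) : Subgroup G) : Set G) := by
        intro s hs
        rw [Subgroup.mem_centralizer_iff]
        intro h hh
        obtain ⟨k, rfl⟩ := Subgroup.mem_zpowers_iff.mp hh
        have hc : Commute (u : G) s := hcommu u s hs
        exact (hc.zpow_left k).eq
      rw [hψeq u ε (hRNG L _ hLK _) hεi rfl, hε, hCOEF (u : G) (hpel u) L hL (hcommu u) ζ]
    rw [← hψ']
    exact hψ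
  refine hPROD E Q L hQE hLE hQ hL hcomm hgen θ Finset.univ a (fun ζ => (ζ : L → ℂ))
    (fun ζ _ => hagen ζ) (fun ζ _ => ?_) (fun u s => hexp u s)
  obtain ⟨n, ρ, -, h⟩ := ζ.2
  exact ⟨n, ρ, h⟩

end

end Cfsg.Agent.Lib.Helper92.BP
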