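import Cfsg.Agent.Lib.Helper92.BPFinalPre
import Cfsg.Agent.Lib.Helper33.BPClaimAdd
import Cfsg.Agent.Lib.Helper40.BPClaimRelTrFinal
import Cfsg.Agent.Lib.Helper52.BPClaimLocalFinal

/-!
# PROJECT BP, layer 4: the abstract Broué–Puig theorem, hypothesis-free (helper92)

* `claimFor_all` (BP-[L4-CLAIM]): CLAIM(`Q`, `c`) for every `p`-subgroup `Q` and every idempotent
  `c` of `A^Q`.
* `isGeneralizedCharacter_restrict_elementary` (BP-[L4-ELEM]).
* `isGeneralizedCharacter_of_isStar` (BP-[L4-MAIN]): if `μ` is a local system, `χ` a character and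
  `θ` a class function with `θ(us) = Θ_u(s)` (`IsStar`), then `θ` is a generalized character.

Exact statements of `BP/BP_SKEL4.lean.txt`.
-/

set_option autoImplicit false
set_option linter.unusedVariables false

namespace Cfsg.Agent.Lib.Helper92.BP

open Cfsg Cfsg.Agent.Lib.Helper16

section

variable {G : Type*} [Group G] [Finite G] {p : ℕ} [Fact p.Prime] {M : Ideal AlgInt}
  [hMp : M.IsPrime]

/-- BP-[L4-CLAIM] -/
theorem claimFor_all (hM : IsPModular p M) {μ : LocSys G} (hμ : IsLocalSystem p M μ)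
    {χ : G → ℂ} (hχ : IsCharacter G χ) {Q : Subgroup G} (hQ : IsPGroup p Q)
    {c : MonoidAlgebra (localSubring M) G} (hc : c ∈ fixedAlg (localSubring M) Q)
    (hi : IsIdempotentElem c) : ClaimFor M μ χ Q c :=
  claimFor_all_of3 hM
    (fun _ hQ' _ _ h₁ h₂ hi₁ hi₂ horth H₁ H₂ =>
      Cfsg.Agent.Lib.Helper33.BP.claimFor_add hM hμ hχ hQ' h₁ h₂ hi₁ hi₂ horth H₁ H₂)
    (fun _ _ hQ' hSQ hn hidx _ hc' hi' horth H =>
      Cfsg.Agent.Lib.Helper40.BP.claimFor_relTr hM hμ hχ hQ' hSQ hn hidx hc' hi' horth H)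
    (fun _ hQ' _ hc' => Cfsg.Agent.Lib.Helper52.BP.claimFor_local hM hμ hχ hQ' hc')
    hQ hc hi

/-- BP-[L4-MAIN] : the abstract Broué–Puig theorem -/
theorem isGeneralizedCharacter_of_isStar (hM : IsPModular p M) {μ : LocSys G}
    (hμ : IsLocalSystem p M μ) {χ : G → ℂ} (hχ : IsCharacter G χ) {θ : G → ℂ}
    (hθc : IsClassFunction G θ) (hθ : IsStar M p μ χ θ) : IsGeneralizedCharacter G θ :=
  isGeneralizedCharacter_of_isStar_of3 hM hμ hχ hθc hθ
    (fun _ hQ _ hc hi => claimFor_all hM hμ hχ hQ hc hi)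

/-- BP-[L4-ELEM] -/
theorem isGeneralizedCharacter_restrict_elementary (hM : IsPModular p M) {μ : LocSys G}
    (hμ : IsLocalSystem p M μ) {χ : G → ℂ} (hχ : IsCharacter G χ) {θ : G → ℂ}
    (hθc : IsClassFunction G θ) (hθ : IsStar M p μ χ θ) (E : Subgroup G) (r : ℕ)
    (hr : r.Prime) (hE : IsElementary r E) :
    IsGeneralizedCharacter E (fun e : E => θ e) :=
  Cfsg.Agent.Lib.Helper29.BP.genChar_comp
    (isGeneralizedCharacter_of_isStar hM hμ hχ hθc hθ) E.subtype

end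

end Cfsg.Agent.Lib.Helper92.BP
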