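import Mathlib

/-!
# S0997-[A97-END-A] (helper17's Brauer–Tuan farm): `b ≥ m + 2` is impossible
-/

set_option autoImplicit false

namespace Cfsg.Agent.Lib.Helper92.BT97

section
variable {ι : Type*} [DecidableEq ι]

/-- a sum of numbers `2 ^ (k (m+1) + 1) e` is `2 e (n0 + 2 ^ (m+1) j)` with `n0` at most the number
of summands -/
theorem endA_sum_form (T : Finset ι) (d : ι → ℕ) (m e : ℕ)
    (hT : ∀ i ∈ T, ∃ k : ℕ, d i = 2 ^ (k * (m + 1) + 1) * e) :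
    ∃ n0 j : ℕ, n0 ≤ T.card ∧ ∑ i ∈ T, d i = 2 * e * (n0 + 2 ^ (m + 1) * j) := by
  induction T using Finset.induction_on with
  | empty => exact ⟨0, 0, by simp⟩
  | insert i T hi ih =>
    obtain ⟨n0, j, hn0, hsum⟩ := ih (fun x hx => hT x (Finset.mem_insert_of_mem hx))
    obtain ⟨k, hk⟩ := hT i (Finset.mem_insert_self i T)
    rw [Finset.sum_insert hi, Finset.card_insert_of_notMem hi, hsum, hk]
    rcases Nat.eq_zero_or_pos k with rfl | hkpos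
    · refine ⟨n0 + 1, j, by omega, ?_⟩
      simp only [zero_mul, zero_add, pow_one]
      ring
    · obtain ⟨k', rfl⟩ : ∃ k', k = k' + 1 := ⟨k - 1, by omega⟩
      refine ⟨n0, j + 2 ^ (k' * (m + 1)), by omega, ?_⟩
      have : 2 ^ ((k' + 1) * (m + 1) + 1) = 2 * (2 ^ (m + 1) * 2 ^ (k' * (m + 1))) := by
        rw [← pow_add, ← pow_succ']
        congr 1
        ring
      rw [this]
      ring

/-- the pure number theory at the end of [A97-END-A] -/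
theorem endA_arith (m b n0 j : ℕ) (δ : ℤ) (hm : 2 ≤ m) (hb : m + 2 ≤ b) (hδ : δ = 0 ∨ δ = 1)
    (hn0 : n0 + 2 ≤ 2 ^ m)
    (hdvd : (2 : ℤ) ^ b ∣ 1 - 2 * (2 ^ m - 1) * ((n0 : ℤ) + 2 ^ (m + 1) * (j : ℤ)) - δ * (2 ^ m - 1)) :
    False := by
  obtain ⟨m', rfl⟩ : ∃ m', m = m' + 2 := ⟨m - 2, by omega⟩
  -- `M = 2 ^ (m - 1) = 2 L`
  obtain ⟨L, hL⟩ : ∃ L : ℤ, L = 2 ^ m' := ⟨_, rfl⟩
  have hLpos : 0 < L := by rw [hL]; positivity
  have h2m : (2 : ℤ) ^ (m' + 2) = 4 * L := by rw [hL, pow_add]; ring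
  have h2m1 : (2 : ℤ) ^ (m' + 2 + 1) = 8 * L := by rw [hL, pow_add, pow_add]; ring
  have h2b : (16 * L : ℤ) ∣ 2 ^ b := by
    have : (16 * L : ℤ) = 2 ^ (m' + 2 + 2) := by rw [hL, pow_add, pow_add]; ring
    rw [this]
    exact pow_dvd_pow 2 hb
  have hdvd' := h2b.trans hdvd
  rw [h2m, h2m1] at hdvd'
  have hn0' : (n0 : ℤ) + 2 ≤ 4 * L := by
    have : ((n0 + 2 : ℕ) : ℤ) ≤ ((2 ^ (m' + 2) : ℕ) : ℤ) := by exact_mod_cast hn0
    push_cast at this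
    rw [h2m] at this
    exact this
  have hn0nn : (0 : ℤ) ≤ n0 := Int.natCast_nonneg _
  obtain ⟨c, hc⟩ := hdvd'
  rcases hδ with rfl | rfl
  · -- parity
    have : (1 : ℤ) = 2 * ((4 * L - 1) * ((n0 : ℤ) + 8 * L * (j : ℤ)) + 8 * L * c) := by
      linear_combination hc
    omega
  · -- `δ = 1`
    -- `n0 + 1 - 2 L = 4 L * t`
    have h1' : 2 * ((n0 : ℤ) + 1 - 2 * L) =
        2 * (4 * L * (2 * c + (n0 : ℤ) + (8 * L - 2) * (j : ℤ))) := by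
      linear_combination hc
    have h1 : (n0 : ℤ) + 1 - 2 * L = 4 * L * (2 * c + (n0 : ℤ) + (8 * L - 2) * (j : ℤ)) :=
      mul_left_cancel₀ (two_ne_zero) h1'
    have h2 : (n0 : ℤ) + 1 - 2 * L = 0 := by
      apply Int.eq_zero_of_abs_lt_dvd (m := 4 * L) ⟨_, h1⟩
      rw [abs_lt]
      constructor <;> linarith
    rw [h2] at h1
    have h3 : 2 * c + (n0 : ℤ) + (8 * L - 2) * (j : ℤ) = 0 := by
      rcases mul_eq_zero.mp h1.symm with h | h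
      · linarith
      · exact h
    have h4 : (1 : ℤ) = 2 * (L + c + (4 * L - 1) * (j : ℤ)) := by
      linear_combination h2 - h3
    omega

/-- [A97-END-A] -/
theorem end_A (S : Finset ι) (a : ι → ℤ) (d : ι → ℕ) (triv : ι) (m b : ℕ) (δ : ℤ)
    (hm : 2 ≤ m) (hb : m + 2 ≤ b) (hδ : δ = 0 ∨ δ = 1)
    (htriv : triv ∈ S) (hatriv : a triv = 1) (hdtriv : d triv = 1)
    (hS : ∀ i ∈ S, i ≠ triv → a i = -1 ∧ ∃ k : ℕ, d i = 2 ^ (k * (m + 1) + 1) * (2 ^ m - 1))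
    (hcard : S.card ≤ 2 ^ m - 1)
    (hdvd : (2 : ℤ) ^ b ∣ ∑ i ∈ S, a i * (d i : ℤ) - δ * ((2 ^ m - 1 : ℕ) : ℤ)) : False := by
  have h2m : 1 ≤ 2 ^ m := Nat.one_le_two_pow
  obtain ⟨n0, j, hn0, hsum⟩ := endA_sum_form (S.erase triv) d m (2 ^ m - 1)
    (fun i hi => (hS i (Finset.mem_of_mem_erase hi) (Finset.ne_of_mem_erase hi)).2)
  rw [Finset.card_erase_of_mem htriv] at hn0
  have hcardpos : 1 ≤ S.card := Finset.card_pos.mpr ⟨triv, htriv⟩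
  have hsumS : ∑ i ∈ S, a i * (d i : ℤ) = 1 - ((∑ i ∈ S.erase triv, d i : ℕ) : ℤ) := by
    rw [← Finset.add_sum_erase S _ htriv, hatriv, hdtriv]
    have : ∑ i ∈ S.erase triv, a i * (d i : ℤ) = - ((∑ i ∈ S.erase triv, d i : ℕ) : ℤ) := by
      rw [Nat.cast_sum, ← Finset.sum_neg_distrib]
      apply Finset.sum_congr rfl
      intro i hi
      rw [(hS i (Finset.mem_of_mem_erase hi) (Finset.ne_of_mem_erase hi)).1]
      ring
    rw [this]
    push_cast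
    ring
  rw [hsumS, hsum] at hdvd
  push_cast [Nat.cast_sub h2m] at hdvd
  exact endA_arith m b n0 j δ hm hb hδ (by omega) hdvd

end

end Cfsg.Agent.Lib.Helper92.BT97
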