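import Mathlib

/-!
# S0997-[A97-END-B] (helper17's Brauer–Tuan farm): `b = α + 1`
-/

set_option autoImplicit false

namespace Cfsg.Agent.Lib.Helper92.BT97

/-- `2 ^ c ≡ 2 (mod 2A+1)` with `A = 2 ^ α`, `c ≤ 2α+2` forces `c = 1`. -/
theorem endB_pow_eq (α c : ℕ) (hα : 2 ≤ α) (hc : c ≤ 2 * α + 2)
    (h : 2 ^ c ≡ 2 [MOD 2 ^ (α + 1) + 1]) : c = 1 := by
  have hA : 4 ≤ 2 ^ α := by
    calc 4 = 2 ^ 2 := by norm_num
      _ ≤ 2 ^ α := Nat.pow_le_pow_right (by norm_num) hα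
  have hp : 2 ^ (α + 1) = 2 * 2 ^ α := by rw [pow_succ]; ring
  rcases Nat.lt_or_ge c (α + 2) with hlt | hge
  · -- `2 ^ c ≤ 2 ^ (α+1) < p`
    have h1 : 2 ^ c ≤ 2 ^ (α + 1) := Nat.pow_le_pow_right (by norm_num) (by omega)
    have h2 : 2 ^ c = 2 := Nat.ModEq.eq_of_lt_of_lt h (by omega) (by omega)
    have h3 : (2 : ℕ) ^ c = 2 ^ 1 := by rw [h2, pow_one]
    exact Nat.pow_right_injective (le_refl 2) h3
  · exfalso
    obtain ⟨j, rfl⟩ : ∃ j, c = α + 1 + j := ⟨c - (α + 1), by omega⟩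
    have hj1 : 1 ≤ j := by omega
    have hj2 : j ≤ α + 1 := by omega
    -- `2 ^ c + 2 ^ j = p * 2 ^ j`
    have h1 : 2 ^ (α + 1 + j) + 2 ^ j = (2 ^ (α + 1) + 1) * 2 ^ j := by rw [pow_add]; ring
    have h2 : 2 ^ (α + 1 + j) + 2 ^ j ≡ 0 [MOD 2 ^ (α + 1) + 1] := by
      rw [h1]
      exact (Nat.modEq_zero_iff_dvd).mpr (dvd_mul_right _ _)
    have h3 : 2 + 2 ^ j ≡ 0 [MOD 2 ^ (α + 1) + 1] := (h.symm.add_right _).trans h2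
    have h4 : 2 ^ (α + 1) + 1 ∣ 2 + 2 ^ j := (Nat.modEq_zero_iff_dvd).mp h3
    have h5 : 2 ^ j ≤ 2 ^ (α + 1) := Nat.pow_le_pow_right (by norm_num) hj2
    obtain ⟨i, rfl⟩ : ∃ i, j = i + 1 := ⟨j - 1, by omega⟩
    have h6 : 2 ^ (i + 1) = 2 * 2 ^ i := by rw [pow_succ]; ring
    obtain ⟨t, ht⟩ := h4
    have ht1 : t = 1 := by
      rcases Nat.lt_or_ge t 1 with h7 | h7
      · have : t = 0 := by omega
        subst this; omega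
      · rcases Nat.lt_or_ge t 2 with h8 | h8
        · omega
        · exfalso
          have : (2 ^ (α + 1) + 1) * 2 ≤ (2 ^ (α + 1) + 1) * t := Nat.mul_le_mul_left _ h8
          omega
    subst ht1
    omega

/-- [A97-END-B] -/
theorem end_B (α b n : ℕ) (S₀ : ℤ) (hα : 2 ≤ α) (hS₀ : S₀ ≠ 0) (hdvd : (2 : ℤ) ^ b ∣ S₀)
    (hcs : S₀ ^ 2 ≤
      (((2 ^ (α + 1) + 1) * ((2 ^ (α + 1) + 1) * 2 ^ b * (2 ^ α + 1)) : ℕ) : ℤ))
    (hn : n * 2 ^ α = 2 ^ b * (2 ^ α + 1)) (hn1 : n ≡ 1 [MOD 2 ^ (α + 1) + 1]) :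
    b = α + 1 := by
  have hA : 4 ≤ 2 ^ α := by
    calc 4 = 2 ^ 2 := by norm_num
      _ ≤ 2 ^ α := Nat.pow_le_pow_right (by norm_num) hα
  have hp : 2 ^ (α + 1) = 2 * 2 ^ α := by rw [pow_succ]; ring
  -- `α ≤ b`
  have hαb : α ≤ b := by
    have h1 : 2 ^ α ∣ 2 ^ b * (2 ^ α + 1) := ⟨n, by rw [← hn]; ring⟩
    have hcop : Nat.Coprime (2 ^ α) (2 ^ α + 1) := by simp
    have h2 : 2 ^ α ∣ 2 ^ b := hcop.dvd_of_dvd_mul_right h1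
    exact (Nat.pow_dvd_pow_iff_le_right (by norm_num)).mp h2
  obtain ⟨c, rfl⟩ : ∃ c, b = α + c := ⟨b - α, by omega⟩
  -- `n = 2 ^ c * (2 ^ α + 1)`
  have hn' : n = 2 ^ c * (2 ^ α + 1) := by
    have h1 : 2 ^ α * n = 2 ^ α * (2 ^ c * (2 ^ α + 1)) := by
      rw [mul_comm, hn, pow_add]; ring
    exact Nat.eq_of_mul_eq_mul_left (by positivity) h1
  -- `2 ^ c ≡ 2`
  have hc2 : 2 ^ c ≡ 2 [MOD 2 ^ (α + 1) + 1] := by
    have h1 : 2 ^ c * (2 ^ α + 1) * 2 ≡ 1 * 2 [MOD 2 ^ (α + 1) + 1] := by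
      rw [← hn']; exact hn1.mul_right 2
    have h2 : 2 ^ c * (2 ^ α + 1) * 2 = 2 ^ c + 2 ^ c * (2 ^ (α + 1) + 1) := by rw [hp]; ring
    rw [h2, one_mul] at h1
    have h3 : 2 ^ c + 2 ^ c * (2 ^ (α + 1) + 1) ≡ 2 ^ c + 0 [MOD 2 ^ (α + 1) + 1] :=
      Nat.ModEq.add_left _ ((Nat.modEq_zero_iff_dvd).mpr (dvd_mul_left _ _))
    rw [add_zero] at h3
    exact h3.symm.trans h1
  -- `2 ^ (α + c) ≤ p² y`
  have hT : (2 : ℤ) ^ (α + c) ≤ (2 ^ (α + 1) + 1) * ((2 ^ (α + 1) + 1) * (2 ^ α + 1)) := by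
    obtain ⟨k, hk⟩ := hdvd
    have hk0 : k ≠ 0 := by rintro rfl; exact hS₀ (by rw [hk, mul_zero])
    have hk1 : 1 ≤ k ^ 2 := by
      have : 0 < k ^ 2 := by positivity
      omega
    have hTpos : (0 : ℤ) < 2 ^ (α + c) := by positivity
    have h1 : ((2 : ℤ) ^ (α + c)) ^ 2 ≤ S₀ ^ 2 := by
      rw [hk, mul_pow]
      nlinarith [sq_nonneg ((2 : ℤ) ^ (α + c))]
    have h2 : ((2 : ℤ) ^ (α + c)) * 2 ^ (α + c) ≤
        2 ^ (α + c) * ((2 ^ (α + 1) + 1) * ((2 ^ (α + 1) + 1) * (2 ^ α + 1))) := by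
      have h3 := h1.trans hcs
      push_cast at h3
      calc ((2 : ℤ) ^ (α + c)) * 2 ^ (α + c) = ((2 : ℤ) ^ (α + c)) ^ 2 := by ring
        _ ≤ _ := h3
        _ = _ := by ring
    exact le_of_mul_le_mul_left h2 hTpos
  -- hence `c ≤ 2 α + 2`
  have hc : c ≤ 2 * α + 2 := by
    by_contra hcon
    rw [not_le] at hcon
    have h1 : (2 : ℤ) ^ (3 * α + 3) ≤ 2 ^ (α + c) :=
      pow_le_pow_right₀ (by norm_num) (by omega)
    have h2 : (2 : ℤ) ^ (3 * α + 3) = 8 * (2 ^ α) ^ 3 := by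
      rw [pow_add, pow_mul', ← pow_mul]; ring_nf
    have h3 : (2 : ℤ) ^ (α + 1) = 2 * 2 ^ α := by rw [pow_succ]; ring
    have hA' : (4 : ℤ) ≤ 2 ^ α := by exact_mod_cast hA
    rw [h3] at hT
    have h4 := h1.trans hT
    rw [h2] at h4
    nlinarith [mul_pos (show (0 : ℤ) < 2 ^ α by positivity) (show (0 : ℤ) < 2 ^ α by positivity),
      mul_le_mul_of_nonneg_left hA' (show (0 : ℤ) ≤ 2 ^ α * 2 ^ α by positivity)]
  have := endB_pow_eq α c hα hc hc2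
  omega

end Cfsg.Agent.Lib.Helper92.BT97
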