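import Mathlib

/-!
# S0997-[A97-TYPES-B] (helper17's Brauer–Tuan farm): the two types of degrees, case `ε = -1`
-/

set_option autoImplicit false

namespace Cfsg.Agent.Lib.Helper92.BT97

/-- the core: `P = 2A+1 ∣ 2^β' f - a'`, `A = 2^α`, `β' ≤ α`, `f ∣ A+1`, `a' = ±1` -/
theorem typesB_core (α β' f : ℕ) (a' : ℤ) (hα : 1 ≤ α) (ha' : a' = 1 ∨ a' = -1)
    (hβ' : β' < α + 1) (hf : f ∣ 2 ^ α + 1)
    (hmod : ((2 : ℤ) ^ (α + 1) + 1) ∣ 2 ^ β' * (f : ℤ) - a') :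
    a' = 1 ∧ ((β' = 0 ∧ f = 1) ∨ (β' = 1 ∧ f = 2 ^ α + 1)) := by
  have hA2 : 2 ≤ 2 ^ α := by
    calc 2 = 2 ^ 1 := by norm_num
      _ ≤ 2 ^ α := Nat.pow_le_pow_right (by norm_num) hα
  have hfpos : 1 ≤ f := Nat.pos_of_dvd_of_pos hf (by positivity)
  have hfle : f ≤ 2 ^ α + 1 := Nat.le_of_dvd (by positivity) hf
  have hfodd : ¬ 2 ∣ f := by
    intro h2
    have h1 : 2 ∣ 2 ^ α + 1 := h2.trans hf
    have h3 : 2 ∣ 2 ^ α := dvd_pow_self 2 (by omega)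
    have : 2 ∣ 1 := (Nat.dvd_add_right h3).mp h1
    omega
  obtain ⟨s, hs⟩ : ∃ s, s = α + 1 - β' := ⟨_, rfl⟩
  have hs1 : 1 ≤ s := by omega
  have hsβ : s + β' = α + 1 := by omega
  have hsle : 2 ^ s ≤ 2 ^ (α + 1) := Nat.pow_le_pow_right (by norm_num) (by omega)
  have hp : 2 ^ (α + 1) = 2 * 2 ^ α := by rw [pow_succ]; ring
  -- `P ∣ f + a' 2^s`
  have h1 : ((2 : ℤ) ^ (α + 1) + 1) ∣ (f : ℤ) + a' * 2 ^ s := by
    have h2 : ((2 : ℤ) ^ (α + 1) + 1) ∣ 2 ^ s * (2 ^ β' * (f : ℤ) - a') := Dvd.dvd.mul_left hmod _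
    have h3 : ((2 : ℤ) ^ (α + 1) + 1) ∣ ((2 : ℤ) ^ (α + 1) + 1) * (f : ℤ) := dvd_mul_right _ _
    have h4 : (f : ℤ) + a' * 2 ^ s =
        ((2 : ℤ) ^ (α + 1) + 1) * (f : ℤ) - 2 ^ s * (2 ^ β' * (f : ℤ) - a') := by
      rw [← hsβ, pow_add]; ring
    rw [h4]
    exact dvd_sub h3 h2
  -- move to ℕ-valued facts
  have hfZ1 : (1 : ℤ) ≤ f := by exact_mod_cast hfpos
  have hfZ2 : (f : ℤ) ≤ 2 ^ α + 1 := by exact_mod_cast hfle
  have hsZ : (2 : ℤ) ^ s ≤ 2 ^ (α + 1) := by exact_mod_cast hsle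
  have hs2 : (2 : ℤ) ≤ 2 ^ s := by
    calc (2 : ℤ) = 2 ^ 1 := by norm_num
      _ ≤ 2 ^ s := pow_le_pow_right₀ (by norm_num) hs1
  have hpZ : (2 : ℤ) ^ (α + 1) = 2 * 2 ^ α := by rw [pow_succ]; ring
  have hAZ : (2 : ℤ) ≤ 2 ^ α := by exact_mod_cast hA2
  rcases ha' with rfl | rfl
  · refine ⟨rfl, ?_⟩
    rw [one_mul] at h1
    obtain ⟨t, ht⟩ := h1
    -- `t = 1`
    have ht1 : t = 1 := by
      have hpos : 0 < ((2 : ℤ) ^ (α + 1) + 1) * t := by rw [← ht]; linarith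
      have hlt : ((2 : ℤ) ^ (α + 1) + 1) * t < ((2 : ℤ) ^ (α + 1) + 1) * 2 := by
        rw [← ht]; linarith
      have hPpos : (0 : ℤ) < 2 ^ (α + 1) + 1 := by positivity
      have h5 : 0 < t := pos_of_mul_pos_left (by rw [mul_comm]; exact hpos) hPpos.le |> fun h => h
      have h6 : t < 2 := lt_of_mul_lt_mul_left hlt hPpos.le
      omega
    rw [ht1, mul_one] at ht
    rcases Nat.eq_zero_or_pos β' with h0 | hpos
    · left
      refine ⟨h0, ?_⟩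
      have : s = α + 1 := by omega
      rw [this] at ht
      have : (f : ℤ) = 1 := by linarith
      exact_mod_cast this
    · right
      have hsα : s ≤ α := by omega
      have hsle' : (2 : ℤ) ^ s ≤ 2 ^ α := pow_le_pow_right₀ (by norm_num) hsα
      have hfe : (f : ℤ) = 2 ^ α + 1 := by linarith
      have hse : (2 : ℤ) ^ s = 2 ^ α := by linarith
      have hsα' : s = α := by
        have : (2 : ℕ) ^ s = 2 ^ α := by exact_mod_cast hse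
        exact Nat.pow_right_injective (le_refl 2) this
      refine ⟨by omega, ?_⟩
      exact_mod_cast hfe
  · exfalso
    have h2 : (f : ℤ) + -1 * 2 ^ s = 0 := by
      apply Int.eq_zero_of_abs_lt_dvd h1
      rw [abs_lt]
      constructor <;> linarith
    have h3 : (f : ℤ) = 2 ^ s := by linarith
    have h4 : f = 2 ^ s := by exact_mod_cast h3
    exact hfodd (h4 ▸ dvd_pow_self 2 (by omega))

/-- [A97-TYPES-B] -/
theorem types_B (α b d : ℕ) (a : ℤ) (hα : 1 ≤ α) (ha : a = 1 ∨ a = -1)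
    (hdd : d ∣ 2 ^ b * (2 ^ α + 1)) (hmod : ((2 ^ (α + 1) + 1 : ℕ) : ℤ) ∣ (d : ℤ) - a) :
    (∃ k : ℕ, d = 2 ^ (k * (α + 1)) ∧ a = (-1) ^ k) ∨
    (∃ k : ℕ, d = 2 ^ (k * (α + 1) + 1) * (2 ^ α + 1) ∧ a = (-1) ^ k) := by
  obtain ⟨d1, f, hd1, hf, rfl⟩ := Nat.dvd_mul.mp hdd
  obtain ⟨β, -, rfl⟩ := (Nat.dvd_prime_pow Nat.prime_two).mp hd1
  obtain ⟨k, hk⟩ : ∃ k, k = β / (α + 1) := ⟨_, rfl⟩
  obtain ⟨β', hβ'⟩ : ∃ β', β' = β % (α + 1) := ⟨_, rfl⟩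
  have hβ : β = k * (α + 1) + β' := by rw [hk, hβ']; exact (Nat.div_add_mod' β (α + 1)).symm
  have hβ'lt : β' < α + 1 := by rw [hβ']; exact Nat.mod_lt _ (by omega)
  have hsq : ((-1 : ℤ) ^ k) * (-1) ^ k = 1 := by rw [← mul_pow]; norm_num
  have hpm : ((-1 : ℤ) ^ k) = 1 ∨ ((-1 : ℤ) ^ k) = -1 := by
    rcases Nat.even_or_odd k with h | h
    · left; exact h.neg_one_pow
    · right; exact h.neg_one_pow
  have hmod' : ((2 : ℤ) ^ (α + 1) + 1) ∣ 2 ^ β' * (f : ℤ) - (-1) ^ k * a := by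
    push_cast at hmod
    have h1 : ((2 : ℤ) ^ (α + 1) - (-1)) ∣ (2 ^ (α + 1)) ^ k - (-1) ^ k := sub_dvd_pow_sub_pow _ _ k
    rw [sub_neg_eq_add] at h1
    have h2 : 2 ^ β' * (f : ℤ) - (-1) ^ k * a =
        (-1) ^ k * ((2 : ℤ) ^ β * f - a) -
          (-1) ^ k * (((2 : ℤ) ^ (α + 1)) ^ k - (-1) ^ k) * (2 ^ β' * f) := by
      rw [hβ, pow_add, pow_mul']
      linear_combination (-(2 : ℤ) ^ β' * f) * hsq
    rw [h2]
    exact dvd_sub (Dvd.dvd.mul_left hmod _) (Dvd.dvd.mul_right (Dvd.dvd.mul_left h1 _) _)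
  have ha' : (-1 : ℤ) ^ k * a = 1 ∨ (-1 : ℤ) ^ k * a = -1 := by
    rcases hpm with h | h <;> rcases ha with h' | h' <;> rw [h, h'] <;> norm_num
  obtain ⟨h1, h2⟩ := typesB_core α β' f _ hα ha' hβ'lt hf hmod'
  have hak : a = (-1) ^ k := by
    calc a = ((-1 : ℤ) ^ k * (-1) ^ k) * a := by rw [hsq, one_mul]
      _ = (-1) ^ k * ((-1) ^ k * a) := by ring
      _ = (-1) ^ k := by rw [h1, mul_one]
  rcases h2 with ⟨h0, hf1⟩ | ⟨h0, hf1⟩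
  · left
    refine ⟨k, ?_, hak⟩
    rw [hβ, h0, hf1, add_zero, mul_one]
  · right
    refine ⟨k, ?_, hak⟩
    rw [hβ, h0, hf1]

end Cfsg.Agent.Lib.Helper92.BT97
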