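import Mathlib
import Cfsg.Agent.S0713

/-!
# Degree `11`: explicit permutations of `ZMod 11` and decidable lemmas

Coordinates: `m1 : x ↦ x + 1`, `m3 : x ↦ 3 x`.  A permutation `τ` fixing `0` with
`τ (3 x) = 3 ^ k * τ x` is determined by `τ 1` and `τ 2` (`eq_cand`).  All the case analysis on
such permutations is done by `decide` on the family `cand k y y'`.
-/

set_option autoImplicit false
set_option linter.unusedSectionVars false

namespace Cfsg.Agent.Lib.Helper92.Deg11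

open Equiv

/-- `x ↦ x + 1`. -/
def m1 : Perm (ZMod 11) where
  toFun x := x + 1
  invFun x := x - 1
  left_inv x := by ring
  right_inv x := by ring

/-- `x ↦ 3 x`. -/
def m3 : Perm (ZMod 11) where
  toFun x := 3 * x
  invFun x := 4 * x
  left_inv := by decide
  right_inv := by decide

/-- `x ↦ -x`. -/
def neg : Perm (ZMod 11) where
  toFun x := -x
  invFun x := -x
  left_inv x := by ring
  right_inv x := by ring

/-- Lookup in a table. -/
def tab (l : List (ZMod 11)) (x : ZMod 11) : ZMod 11 := l.getD x.val 0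

/-- An element of order `4` normalizing `⟨m3⟩`, whose square is `1/x` on squares and `5/x` on
non-squares. -/
def s5 : Perm (ZMod 11) where
  toFun := tab [0, 1, 10, 9, 5, 3, 2, 7, 6, 4, 8]
  invFun := tab [0, 1, 6, 5, 9, 4, 8, 7, 10, 3, 2]
  left_inv := by decide
  right_inv := by decide

/-- The same with `9` in place of `5`. -/
def s9 : Perm (ZMod 11) where
  toFun := tab [0, 1, 6, 9, 5, 3, 10, 2, 8, 4, 7]
  invFun := tab [0, 1, 7, 5, 9, 4, 2, 10, 8, 3, 6]
  left_inv := by decide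
  right_inv := by decide

theorem m1_apply (x : ZMod 11) : m1 x = x + 1 := rfl
theorem m3_apply (x : ZMod 11) : m3 x = 3 * x := rfl
theorem neg_apply (x : ZMod 11) : neg x = -x := rfl

theorem m1_pow_apply (n : ℕ) (x : ZMod 11) : (m1 ^ n) x = x + n := by
  induction n with
  | zero => simp
  | succ n ih =>
    rw [pow_succ', Perm.mul_apply, ih, m1_apply]
    push_cast
    ring

theorem m3_pow_apply (n : ℕ) (x : ZMod 11) : (m3 ^ n) x = 3 ^ n * x := by
  induction n with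
  | zero => simp
  | succ n ih =>
    rw [pow_succ', Perm.mul_apply, ih, m3_apply]
    ring

/-- Discrete logarithm data: every non-zero `x` is `3 ^ ex x` or `2 * 3 ^ ex x`. -/
def ex (x : ZMod 11) : ℕ := [0, 0, 0, 1, 4, 3, 1, 2, 4, 2, 3].getD x.val 0

/-- The non-squares. -/
def isN (x : ZMod 11) : Bool := [false, false, true, false, false, false, true, true, true, false,
  true].getD x.val false

theorem eq_pow_ex : ∀ x : ZMod 11, x ≠ 0 → x = 3 ^ ex x * (if isN x then 2 else 1) := by decide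

/-- The candidate maps: `0 ↦ 0`, `3 ^ i ↦ (3 ^ k) ^ i * y`, `2 * 3 ^ i ↦ (3 ^ k) ^ i * y'`. -/
def cand (k : ℕ) (y y' : ZMod 11) : ZMod 11 → ZMod 11 :=
  fun x => if x = 0 then 0 else (3 ^ k) ^ ex x * (if isN x then y' else y)

theorem eq_cand (τ : Perm (ZMod 11)) (k : ℕ) (h0 : τ 0 = 0)
    (hrel : ∀ x, τ (3 * x) = 3 ^ k * τ x) : ∀ x, τ x = cand k (τ 1) (τ 2) x := by
  have hpow : ∀ i : ℕ, ∀ x, τ (3 ^ i * x) = (3 ^ k) ^ i * τ x := by
    intro i
    induction i with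
    | zero => intro x; simp
    | succ i ih =>
      intro x
      rw [pow_succ, mul_assoc, ih, hrel, pow_succ]
      ring
  intro x
  unfold cand
  by_cases hx : x = 0
  · rw [if_pos hx, hx, h0]
  · rw [if_neg hx]
    conv_lhs => rw [eq_pow_ex x hx]
    rw [hpow]
    congr 1
    by_cases hN : isN x = true
    · rw [if_pos hN, if_pos hN]
    · rw [if_neg hN, if_neg hN]

/-- The sign of a map, computed by counting inversions. -/
def sgnF (f : Fin 11 → Fin 11) : ℤˣ :=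
  ∏ j : Fin 11, ∏ i ∈ Finset.Iio j, (if f i < f j then 1 else -1)

theorem sign_eq_sgnF (τ : Perm (ZMod 11)) : Perm.sign τ = sgnF (τ : ZMod 11 → ZMod 11) :=
  Equiv.Perm.sign_eq_prod_prod_Iio (n := 11) τ

/-- Iterates of a map. -/
def iter (f : ZMod 11 → ZMod 11) : ℕ → ZMod 11 → ZMod 11
  | 0 => id
  | n + 1 => f ∘ iter f n

theorem iter_perm (τ : Perm (ZMod 11)) (n : ℕ) : iter τ n = ⇑(τ ^ n) := by
  induction n with
  | zero => rfl
  | succ n ih =>
    rw [iter, ih, pow_succ']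
    rfl

/-- The number of points moved by a map. -/
def suppCard (f : ZMod 11 → ZMod 11) : ℕ := (Finset.univ.filter fun x => f x ≠ x).card

/-- Some power of `f` moves exactly `p` points, `p ∈ {2, 3, 5, 7}`, and has order dividing `p`. -/
def isBadFn (f : ZMod 11 → ZMod 11) : Prop :=
  ∃ m ∈ Finset.range 13, ∃ p ∈ ({2, 3, 5, 7} : Finset ℕ),
    suppCard (iter f m) = p ∧ ∀ x, iter f (m * p) x = x

instance : DecidablePred isBadFn := by
  intro f
  unfold isBadFn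
  infer_instance

/-- A permutation of prime order `p` moving exactly `p` points is a cycle. -/
theorem isCycle_of_pow_eq_one {β : Type*} [Fintype β] [DecidableEq β] {g : Perm β} {p : ℕ}
    (hp : p.Prime) (hg : g ^ p = 1) (hsupp : g.support.card = p) : g.IsCycle := by
  have hg1 : g ≠ 1 := by
    rintro rfl
    rw [Perm.support_one, Finset.card_empty] at hsupp
    exact hp.ne_zero hsupp.symm
  have : Fact p.Prime := ⟨hp⟩
  have hord : orderOf g = p := orderOf_eq_prime hg hg1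
  obtain ⟨n, hn⟩ := Perm.cycleType_prime_order (σ := g) (by rw [hord]; exact hp)
  have hsum : g.cycleType.sum = p := by rw [Perm.sum_cycleType, hsupp]
  rw [hn, hord, Multiset.sum_replicate, smul_eq_mul] at hsum
  have hn0 : n = 0 := by
    have h1 : (n + 1) * p = 1 * p := by rw [hsum, one_mul]
    have := Nat.eq_of_mul_eq_mul_right hp.pos h1
    omega
  rw [← Perm.card_cycleType_eq_one, hn, hn0]
  rfl

theorem cycle_of_isBadFn (τ : Perm (ZMod 11)) (h : isBadFn τ) :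
    ∃ m p : ℕ, p.Prime ∧ p + 3 ≤ 11 ∧ (τ ^ m).IsCycle ∧ (τ ^ m).support.card = p := by
  obtain ⟨m, -, p, hp, hsupp, hpow⟩ := h
  have hp' : p.Prime ∧ p + 3 ≤ 11 := by
    simp only [Finset.mem_insert, Finset.mem_singleton] at hp
    rcases hp with rfl | rfl | rfl | rfl <;> norm_num
  have hs : (τ ^ m).support.card = p := by
    rw [← hsupp, iter_perm]
    rfl
  have hg : (τ ^ m) ^ p = 1 := by
    rw [← pow_mul]
    ext x
    have := hpow x
    rw [iter_perm] at this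
    rw [this]
    rfl
  exact ⟨m, p, hp'.1, hp'.2, isCycle_of_pow_eq_one hp'.1 hg hs, hs⟩

/-- A primitive group of degree `11` not containing the alternating group has no "bad" element. -/
theorem not_isBadFn_of_mem (H : Subgroup (Perm (ZMod 11)))
    (hprim : MulAction.IsPreprimitive H (ZMod 11))
    (hnA : ¬ alternatingGroup (ZMod 11) ≤ H) {τ : Perm (ZMod 11)} (hτ : τ ∈ H) :
    ¬ isBadFn τ := by
  intro hbad
  obtain ⟨m, p, hp, hp3, hcyc, hsupp⟩ := cycle_of_isBadFn τ hbad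
  apply hnA
  have hcard : Fintype.card (ZMod 11) = 11 := ZMod.card 11
  exact Cfsg.Agent.S0713.result H hprim hp (by rw [hcard]; norm_num) (by rw [hcard]; exact hp3)
    hcyc hsupp (H.pow_mem hτ m)

/-! ### Decidable lemmas -/

/-- Elements of prime order `≠ 5` commuting with `m3`. -/
theorem cent_lemma : ∀ y y' : ZMod 11, ∀ r ∈ ({2, 3, 7, 11} : Finset ℕ),
    (∀ x, iter (cand 1 y y') r x = x) → sgnF (cand 1 y y') = 1 → ∀ x, cand 1 y y' x = x := by
  decide +kernel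

/-- Even involutions normalizing `⟨m3⟩` invert it. -/
theorem inv_lemma : ∀ j ∈ Finset.range 5, ∀ y y' : ZMod 11,
    (∀ x, cand j y y' (cand j y y' x) = x) → sgnF (cand j y y') = 1 →
      (∀ x, cand j y y' x = x) ∨ j = 4 := by
  decide +kernel

/-- Conjugation by `m3 ^ i` on maps. -/
def conjF (i : ℕ) (f : ZMod 11 → ZMod 11) : ZMod 11 → ZMod 11 := fun x => 3 ^ i * f (4 ^ i * x)

/-- The other three candidates of order `4`. -/
def s1 : Perm (ZMod 11) where
  toFun := tab [0, 1, 7, 9, 5, 3, 8, 6, 2, 4, 10]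
  invFun := tab [0, 1, 8, 5, 9, 4, 7, 2, 6, 3, 10]
  left_inv := by decide
  right_inv := by decide

def s3 : Perm (ZMod 11) where
  toFun := tab [0, 1, 8, 9, 5, 3, 6, 10, 7, 4, 2]
  invFun := tab [0, 1, 10, 5, 9, 4, 6, 8, 2, 3, 7]
  left_inv := by decide
  right_inv := by decide

def s4 : Perm (ZMod 11) where
  toFun := tab [0, 1, 2, 9, 5, 3, 7, 8, 10, 4, 6]
  invFun := tab [0, 1, 2, 5, 9, 4, 10, 6, 7, 3, 8]
  left_inv := by decide
  right_inv := by decide

set_option synthInstance.maxSize 2000 in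
set_option synthInstance.maxHeartbeats 400000 in
/-- Even elements of order `4` normalizing `⟨m3⟩`: up to conjugation by a power of `m3` and
inversion they are `s1`, `s3`, `s4`, `s5` or `s9`. -/
theorem s_lemma : ∀ j ∈ Finset.range 5, ∀ y y' : ZMod 11,
    (∀ x, iter (cand j y y') 4 x = x) → ¬ (∀ x, iter (cand j y y') 2 x = x) →
      sgnF (cand j y y') = 1 →
      ∃ i ∈ Finset.range 5, ∃ s ∈ ([s1, s3, s4, s5, s9] : List (Perm (ZMod 11))),
        (∀ x, conjF i (cand j y y') x = s x) ∨ (∀ x, conjF i (cand j y y') x = s⁻¹ x) := by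
  decide +kernel

theorem bad1 : isBadFn ⇑(s1 * s1 * m1 ^ 3) := by decide +kernel

theorem bad3 : isBadFn ⇑(s3 * s3 * m1 * (s3 * s3) * m1 ^ 2) := by decide +kernel

theorem bad4 : isBadFn ⇑(s4 * s4 * m3 * m1 * (s4 * s4) * m1 ^ 2) := by decide +kernel

/-- With `x ↦ -x` added, forbidden cycle types appear. -/
theorem bad5_neg : isBadFn ⇑(neg * s5 * m1) := by decide +kernel

theorem bad9_neg : isBadFn ⇑(s9 * neg * m1) := by decide +kernel

/-- Affine maps of order `5`. -/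
theorem aff_lemma : ∀ r b : ZMod 11,
    (∀ j, r * (r * (r * (r * (r * j + b) + b) + b) + b) + b = j) → (∃ j, r * j + b ≠ j) →
      ∃ j0 : ZMod 11, ∃ e ∈ Finset.range 5, r * j0 + b = j0 ∧ r ^ e = 3 := by
  decide +kernel

theorem fix_lemma : ∀ j ∈ Finset.range 5, j ≠ 0 → ∀ x : ZMod 11, x = 3 ^ j * x → x = 0 := by
  decide +kernel


/-! ### Words witnessing `4`-transitivity of `⟨m1, m3, s5⟩` and `⟨m1, m3, s9⟩` -/

/-- The product of a word in three generators. -/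
def wordPerm (g : Fin 3 → Perm (ZMod 11)) : List (Fin 3) → Perm (ZMod 11)
  | [] => 1
  | k :: w => g k * wordPerm g w

theorem wordPerm_mem (H : Subgroup (Perm (ZMod 11))) (g : Fin 3 → Perm (ZMod 11))
    (hg : ∀ k, g k ∈ H) (w : List (Fin 3)) : wordPerm g w ∈ H := by
  induction w with
  | nil => exact H.one_mem
  | cons k w ih => exact H.mul_mem (hg k) ih

def gens5 : Fin 3 → Perm (ZMod 11) := ![m1, m3, s5]

def gens9 : Fin 3 → Perm (ZMod 11) := ![m1, m3, s9]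

def words1_5 : List (List (Fin 3)) :=
  [[],
   [1, 1, 0, 2, 0, 0],
   [1],
   [2, 1, 1],
   [1, 1, 1],
   [0, 2, 2, 1, 0, 0],
   [0, 0, 2, 0, 0, 0],
   [1, 0, 2, 0, 0],
   [1, 1],
   [0, 2, 0, 0]]

def words2_5 : List (List (Fin 3)) :=
  [[],
   [0, 2, 2, 1, 0, 2, 0],
   [2, 0, 2, 0, 2, 0],
   [0, 2, 0, 0, 1, 1],
   [2, 2, 2],
   [1, 0, 0, 2, 1, 0],
   [2, 2],
   [0, 2, 0, 2, 0],
   [2]]

def words3_5 : List (List (Fin 3)) :=
  [[],
   [1, 2, 1, 0, 2, 0, 2, 0, 1],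
   [0, 2, 0, 2, 0, 2],
   [1, 2, 2, 0, 2, 0, 0, 2, 2, 1],
   [2, 1, 0, 0, 2, 2, 0, 0, 1, 0],
   [0, 2, 2, 1, 0, 0, 2, 1],
   [2, 0, 2, 0, 0, 2, 1],
   [2, 1, 0, 0, 2, 1, 0, 2]]

theorem trans1_5 : ∀ x : ZMod 11, x ≠ 0 → ∃ w ∈ words1_5,
    wordPerm gens5 w 0 = 0 ∧ wordPerm gens5 w 1 = x := by
  decide +kernel

theorem trans2_5 : ∀ x : ZMod 11, x ≠ 0 → x ≠ 1 → ∃ w ∈ words2_5,
    wordPerm gens5 w 0 = 0 ∧ wordPerm gens5 w 1 = 1 ∧ wordPerm gens5 w 2 = x := by
  decide +kernel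

theorem trans3_5 : ∀ x : ZMod 11, x ≠ 0 → x ≠ 1 → x ≠ 2 → ∃ w ∈ words3_5,
    wordPerm gens5 w 0 = 0 ∧ wordPerm gens5 w 1 = 1 ∧ wordPerm gens5 w 2 = 2 ∧
      wordPerm gens5 w 3 = x := by
  decide +kernel

def words1_9 : List (List (Fin 3)) :=
  [[],
   [2, 0, 0, 2, 0, 0, 0],
   [1],
   [2, 1, 1],
   [1, 1, 1],
   [0, 2, 1, 0, 0, 1],
   [0, 0, 2, 0, 0, 0],
   [0, 2, 1, 0, 2, 0],
   [1, 1],
   [0, 2, 2, 0, 0, 1]]

def words2_9 : List (List (Fin 3)) :=
  [[],
   [1, 1, 0, 2, 2, 0, 0],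
   [0, 2, 0, 1, 1, 1, 0],
   [2, 0, 2, 0, 1, 1, 1, 0],
   [2],
   [2, 2, 2],
   [0, 0, 2, 2, 2, 0, 1, 0],
   [0, 0, 2, 1, 0, 2],
   [2, 2]]

def words3_9 : List (List (Fin 3)) :=
  [[],
   [1, 0, 2, 0, 1, 2, 0, 0, 0],
   [2, 2, 2, 0, 0, 2, 1, 0],
   [0, 2, 1, 0, 0, 2, 1, 2],
   [0, 0, 2, 1, 0, 2, 2],
   [0, 2, 2, 0, 0, 2, 1],
   [0, 0, 2, 2, 1, 2, 0, 0, 2, 0],
   [1, 2, 0, 0, 1, 2, 2, 0, 1, 0]]

theorem trans1_9 : ∀ x : ZMod 11, x ≠ 0 → ∃ w ∈ words1_9,
    wordPerm gens9 w 0 = 0 ∧ wordPerm gens9 w 1 = x := by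
  decide +kernel

theorem trans2_9 : ∀ x : ZMod 11, x ≠ 0 → x ≠ 1 → ∃ w ∈ words2_9,
    wordPerm gens9 w 0 = 0 ∧ wordPerm gens9 w 1 = 1 ∧ wordPerm gens9 w 2 = x := by
  decide +kernel

theorem trans3_9 : ∀ x : ZMod 11, x ≠ 0 → x ≠ 1 → x ≠ 2 → ∃ w ∈ words3_9,
    wordPerm gens9 w 0 = 0 ∧ wordPerm gens9 w 1 = 1 ∧ wordPerm gens9 w 2 = 2 ∧
      wordPerm gens9 w 3 = x := by
  decide +kernel

end Cfsg.Agent.Lib.Helper92.Deg11
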