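import Mathlib
import Cfsg.Agent.Lib.Helper92.Deg11Elem

/-!
# Degree `11`: the normalizer of a Sylow `5`-subgroup

`H` is a group of even permutations of `ZMod 11` containing `m1 : x ↦ x + 1` and `m3 : x ↦ 3 x`
and not containing the alternating group.  If the Sylow `11`-normalizer has order `55`, then `H`
has order `55`, `660` or `7920`, and in the last case `H` contains `s5` or `s9`.
-/

set_option autoImplicit false
set_option linter.unusedSectionVars false

namespace Cfsg.Agent.Lib.Helper92.Deg11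

open Equiv

section Part2

variable (H : Subgroup (Perm (ZMod 11)))

theorem exists_apply_eq (hm1 : m1 ∈ H) (x y : ZMod 11) : ∃ g ∈ H, g x = y := by
  refine ⟨m1 ^ (y - x).val, H.pow_mem hm1 _, ?_⟩
  rw [m1_pow_apply, ZMod.natCast_zmod_val]
  ring

theorem isPretransitive_of_m1 (hm1 : m1 ∈ H) : MulAction.IsPretransitive H (ZMod 11) :=
  ⟨fun x y => by
    obtain ⟨g, hg, h⟩ := exists_apply_eq H hm1 x y
    exact ⟨⟨g, hg⟩, h⟩⟩

theorem isPreprimitive_of_m1 (hm1 : m1 ∈ H) : MulAction.IsPreprimitive H (ZMod 11) := by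
  have := isPretransitive_of_m1 H hm1
  exact MulAction.IsPreprimitive.of_prime_card
    (by rw [Nat.card_eq_fintype_card, ZMod.card]; norm_num)

/-- A permutation of prime order `p` moving fewer than `2 p` points is a `p`-cycle. -/
theorem isCycle_of_orderOf_prime {β : Type*} [Fintype β] [DecidableEq β] {g : Perm β} {p : ℕ}
    (hp : p.Prime) (hord : orderOf g = p) (hsupp : g.support.card < 2 * p) :
    g.IsCycle ∧ g.support.card = p := by
  obtain ⟨n, hn⟩ := Perm.cycleType_prime_order (σ := g) (by rw [hord]; exact hp)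
  have hsum : g.cycleType.sum = g.support.card := Perm.sum_cycleType g
  rw [hn, hord, Multiset.sum_replicate, smul_eq_mul] at hsum
  have hn0 : n = 0 := by
    by_contra hne
    have h2 : 2 ≤ n + 1 := by omega
    have := Nat.mul_le_mul_right p h2
    omega
  subst hn0
  refine ⟨?_, by rw [← hsum]; ring⟩
  rw [← Perm.card_cycleType_eq_one, hn]
  rfl

/-- `H` has no element of prime order `p ≤ 8` moving fewer than `2 p` points. -/
theorem no_prime_cycle (hm1 : m1 ∈ H) (hnA : ¬ alternatingGroup (ZMod 11) ≤ H)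
    {g : Perm (ZMod 11)} (hg : g ∈ H) {p : ℕ} (hp : p.Prime) (hp3 : p + 3 ≤ 11)
    (hord : orderOf g = p) (hsupp : g.support.card < 2 * p) : False := by
  obtain ⟨hcyc, hcard⟩ := isCycle_of_orderOf_prime hp hord hsupp
  apply hnA
  have hcard11 : Fintype.card (ZMod 11) = 11 := ZMod.card 11
  exact Cfsg.Agent.S0713.result H (isPreprimitive_of_m1 H hm1) hp (by rw [hcard11]; norm_num)
    (by rw [hcard11]; exact hp3) hcyc hcard hg

theorem not_seven_dvd (hm1 : m1 ∈ H) (hnA : ¬ alternatingGroup (ZMod 11) ≤ H) :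
    ¬ 7 ∣ Nat.card H := by
  intro h
  have : Fact (Nat.Prime 7) := ⟨by norm_num⟩
  obtain ⟨g, hg⟩ := exists_prime_orderOf_dvd_card' (G := H) 7 h
  have hord : orderOf (g : Perm (ZMod 11)) = 7 := by rw [Subgroup.orderOf_coe, hg]
  refine no_prime_cycle H hm1 hnA g.2 (by norm_num) (by norm_num) hord ?_
  have := Finset.card_le_univ (g : Perm (ZMod 11)).support
  rw [ZMod.card] at this
  omega

theorem not_25_dvd (hm1 : m1 ∈ H) (hnA : ¬ alternatingGroup (ZMod 11) ≤ H) :
    ¬ 25 ∣ Nat.card H := by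
  intro h
  have : Fact (Nat.Prime 5) := ⟨by norm_num⟩
  obtain ⟨S, hS⟩ := Sylow.exists_subgroup_card_pow_prime 5 (show 5 ^ 2 ∣ Nat.card H from h)
  have hSp : IsPGroup 5 S := IsPGroup.of_card hS
  obtain ⟨a, ha⟩ := hSp.nonempty_fixed_point_of_prime_not_dvd_card (ZMod 11)
    (by rw [Nat.card_eq_fintype_card, ZMod.card]; norm_num)
  obtain ⟨x, hx⟩ : ∃ x : ZMod 11, x ≠ a := by
    refine ⟨a + 1, fun h => ?_⟩
    have h1 : (1 : ZMod 11) = 0 := by
      have h2 : a + 1 = a + 0 := by rw [h, add_zero]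
      exact add_left_cancel h2
    exact absurd h1 (by decide)
  -- the stabilizer of `x` in `S` has order divisible by `5`
  have h1 := (MulAction.stabilizer S x).card_mul_index
  rw [hS, MulAction.index_stabilizer] at h1
  have h2 : (MulAction.orbit S x).ncard ≤ 11 := by
    have := Set.ncard_le_card (MulAction.orbit S x)
    rwa [Nat.card_eq_fintype_card (α := ZMod 11), ZMod.card] at this
  have h3 : 5 ∣ Nat.card (MulAction.stabilizer S x) := by
    have hd : (MulAction.orbit S x).ncard ∣ 5 ^ 2 := ⟨_, by rw [← h1, mul_comm]⟩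
    obtain ⟨k, hk, hk'⟩ := (Nat.dvd_prime_pow (by norm_num : Nat.Prime 5)).mp hd
    rw [hk'] at h1 h2
    interval_cases k
    · exact ⟨5, by omega⟩
    · exact ⟨1, by omega⟩
    · omega
  obtain ⟨h, hh⟩ := exists_prime_orderOf_dvd_card' (G := MulAction.stabilizer S x) 5 h3
  -- `h` fixes `x` and `a`
  obtain ⟨η, hη⟩ : ∃ η : Perm (ZMod 11), η = (((h : S) : H) : Perm (ZMod 11)) := ⟨_, rfl⟩
  have hηH : η ∈ H := by rw [hη]; exact ((h : S) : H).2
  have hord : orderOf η = 5 := by
    rw [hη, Subgroup.orderOf_coe, Subgroup.orderOf_coe, Subgroup.orderOf_coe, hh]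
  have hηx : η x = x := by
    have := h.2
    rw [MulAction.mem_stabilizer_iff] at this
    rw [hη]
    exact this
  have hηa : η a = a := by
    have := ha (h : S)
    rw [hη]
    exact this
  refine no_prime_cycle H hm1 hnA hηH (by norm_num) (by norm_num) hord ?_
  have hsub : η.support ⊆ (Finset.univ.erase a).erase x := by
    intro y hy
    rw [Perm.mem_support] at hy
    rw [Finset.mem_erase, Finset.mem_erase]
    refine ⟨?_, ?_, Finset.mem_univ _⟩
    · rintro rfl
      exact hy hηx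
    · rintro rfl
      exact hy hηa
  have := Finset.card_le_card hsub
  rw [Finset.card_erase_of_mem (by simp [hx]), Finset.card_erase_of_mem (Finset.mem_univ _),
    Finset.card_univ, ZMod.card] at this
  omega

theorem card_dvd (hA : H ≤ alternatingGroup (ZMod 11)) : Nat.card H ∣ 19958400 := by
  have h1 := Subgroup.card_dvd_of_le hA
  have : Nontrivial (ZMod 11) := ⟨⟨0, 1, by decide⟩⟩
  have h2 : Nat.card (alternatingGroup (ZMod 11)) = 19958400 := by
    rw [nat_card_alternatingGroup, Nat.card_eq_fintype_card, ZMod.card]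
    decide
  rwa [h2] at h1

theorem orderOf_m3 : orderOf m3 = 5 := by
  have : Fact (Nat.Prime 5) := ⟨by norm_num⟩
  refine orderOf_eq_prime ?_ ?_
  · ext x
    rw [m3_pow_apply]
    revert x
    decide
  · intro h
    have := congrArg (fun g : Perm (ZMod 11) => g 1) h
    revert this
    decide

/-- Elements of `H` of prime order commuting with `m3` have order `5`. -/
theorem prime_eq_five_of_commute (hA : H ≤ alternatingGroup (ZMod 11)) {z : Perm (ZMod 11)}
    (hz : z ∈ H) (hcomm : z * m3 = m3 * z) {r : ℕ} (hr : r.Prime) (hord : orderOf z = r) :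
    r = 5 := by
  by_contra h5
  have hr11 : r ≤ 11 := by
    have h1 : r ∣ Nat.card (Perm (ZMod 11)) := hord ▸ orderOf_dvd_natCard z
    rw [Nat.card_eq_fintype_card, Fintype.card_perm, ZMod.card] at h1
    exact (Nat.Prime.dvd_factorial hr).mp h1
  have hr' : r ∈ ({2, 3, 7, 11} : Finset ℕ) := by
    interval_cases r <;> first | (exfalso; revert hr; decide) | (exfalso; exact h5 rfl) | decide
  have h0 : z 0 = 0 := by
    have := congrArg (fun g : Perm (ZMod 11) => g 0) hcomm
    simp only [Perm.mul_apply, m3_apply, mul_zero] at this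
    exact fix_lemma 1 (by decide) (by decide) (z 0) (by rw [pow_one]; exact this)
  have hrel : ∀ x, z (3 * x) = 3 ^ 1 * z x := by
    intro x
    have := congrArg (fun g : Perm (ZMod 11) => g x) hcomm
    simpa [Perm.mul_apply, m3_apply] using this
  have hc := eq_cand z 1 h0 hrel
  have hfun : (z : ZMod 11 → ZMod 11) = cand 1 (z 1) (z 2) := funext hc
  have hiter : ∀ x, iter (cand 1 (z 1) (z 2)) r x = x := by
    intro x
    rw [← hfun, iter_perm, ← hord, pow_orderOf_eq_one]
    rfl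
  have hsgn : sgnF (cand 1 (z 1) (z 2)) = 1 := by
    rw [← hfun, ← sign_eq_sgnF]
    exact Perm.mem_alternatingGroup.mp (hA hz)
  have hid := cent_lemma (z 1) (z 2) r hr' hiter hsgn
  have hz1 : z = 1 := by
    ext x
    rw [hc x, hid x]
    rfl
  rw [hz1, orderOf_one] at hord
  exact hr.one_lt.ne hord

/-- The element `m3` of `H`. -/
def dH (hm3 : m3 ∈ H) : H := ⟨m3, hm3⟩

theorem orderOf_dH (hm3 : m3 ∈ H) : orderOf (dH H hm3) = 5 := by
  rw [← Subgroup.orderOf_coe]
  exact orderOf_m3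

theorem card_zpowers_dH (hm3 : m3 ∈ H) : Nat.card (Subgroup.zpowers (dH H hm3)) = 5 := by
  rw [Nat.card_zpowers, orderOf_dH]

theorem card_centralizer (hm3 : m3 ∈ H) (hA : H ≤ alternatingGroup (ZMod 11))
    (h25 : ¬ 25 ∣ Nat.card H) :
    Nat.card (Subgroup.centralizer ((Subgroup.zpowers (dH H hm3) : Subgroup H) : Set H)) = 5 := by
  obtain ⟨C, hC⟩ : ∃ C : Subgroup H,
    C = Subgroup.centralizer ((Subgroup.zpowers (dH H hm3) : Subgroup H) : Set H) := ⟨_, rfl⟩
  rw [← hC]
  have hprime : ∀ {r : ℕ}, r.Prime → r ∣ Nat.card C → r = 5 := by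
    intro r hr hdvd
    have : Fact r.Prime := ⟨hr⟩
    obtain ⟨z, hz⟩ := exists_prime_orderOf_dvd_card' (G := C) r hdvd
    have hzC : (z : H) ∈ Subgroup.centralizer
        ((Subgroup.zpowers (dH H hm3) : Subgroup H) : Set H) := hC ▸ z.2
    have hcomm : dH H hm3 * (z : H) = (z : H) * dH H hm3 :=
      hzC (dH H hm3) (Subgroup.mem_zpowers _)
    have hcomm' : (((z : H) : Perm (ZMod 11))) * m3 = m3 * ((z : H) : Perm (ZMod 11)) :=
      (congrArg Subtype.val hcomm).symm
    exact prime_eq_five_of_commute H hA (z : H).2 hcomm' hr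
      (by rw [Subgroup.orderOf_coe, Subgroup.orderOf_coe, hz])
  have hpow := Nat.eq_prime_pow_of_unique_prime_dvd (Nat.card_pos (α := C)).ne' hprime
  obtain ⟨k, hk⟩ : ∃ k, Nat.card C = 5 ^ k := ⟨_, hpow⟩
  have hle : Subgroup.zpowers (dH H hm3) ≤ C := by
    rw [hC, Subgroup.zpowers_le, Subgroup.mem_centralizer_iff]
    intro h hh
    obtain ⟨n, rfl⟩ := Subgroup.mem_zpowers_iff.mp hh
    exact (Commute.refl _).zpow_left n |>.eq
  have h5 : 5 ∣ Nat.card C := by
    rw [← card_zpowers_dH H hm3]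
    exact Subgroup.card_dvd_of_le hle
  have hk1 : k = 1 := by
    rcases Nat.lt_or_ge k 2 with h | h
    · interval_cases k
      · rw [hk] at h5
        omega
      · rfl
    · exfalso
      apply h25
      have h1 : 25 ∣ Nat.card C := by
        rw [hk]
        exact (pow_dvd_pow 5 h : 5 ^ 2 ∣ 5 ^ k)
      exact h1.trans (Subgroup.card_subgroup_dvd_card C)
  rw [hk, hk1, pow_one]

theorem card_normalizer (hm3 : m3 ∈ H) (hA : H ≤ alternatingGroup (ZMod 11))
    (h25 : ¬ 25 ∣ Nat.card H) : ∃ e, e ∣ 4 ∧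
    Nat.card (Subgroup.normalizer ((Subgroup.zpowers (dH H hm3) : Subgroup H) : Set H)) = 5 * e := by
  have hp5 : Fact (Nat.Prime 5) := ⟨by norm_num⟩
  obtain ⟨D, hD⟩ : ∃ D : Subgroup H, D = Subgroup.zpowers (dH H hm3) := ⟨_, rfl⟩
  have hDcard : Nat.card D = 5 := by rw [hD]; exact card_zpowers_dH H hm3
  have hCcard : Nat.card (Subgroup.centralizer (D : Set H)) = 5 := by
    rw [hD]; exact card_centralizer H hm3 hA h25
  rw [← hD]
  have : IsCyclic D := isCyclic_of_prime_card hDcard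
  have key := Subgroup.card_dvd_of_injective _
    (QuotientGroup.kerLift_injective D.normalizerMonoidHom)
  rw [Subgroup.normalizerMonoidHom_ker, ← Subgroup.index, IsCyclic.card_mulAut, hDcard,
    Nat.totient_prime hp5.out] at key
  have hN := Subgroup.card_mul_index
    ((Subgroup.centralizer (D : Set H)).subgroupOf (Subgroup.normalizer (D : Set H)))
  have hCN : Nat.card ((Subgroup.centralizer (D : Set H)).subgroupOf
      (Subgroup.normalizer (D : Set H))) = Nat.card (Subgroup.centralizer (D : Set H)) :=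
    Nat.card_congr (Subgroup.subgroupOfEquivOfLe (Subgroup.centralizer_le_normalizer _)).toEquiv
  rw [hCN, hCcard] at hN
  exact ⟨_, key, hN.symm⟩

theorem exists_sylow_five (hm3 : m3 ∈ H) (h25 : ¬ 25 ∣ Nat.card H) :
    ∃ Q : Sylow 5 H, (Q : Subgroup H) = Subgroup.zpowers (dH H hm3) := by
  have hp5 : Fact (Nat.Prime 5) := ⟨by norm_num⟩
  have hDcard := card_zpowers_dH H hm3
  have hDp : IsPGroup 5 (Subgroup.zpowers (dH H hm3)) :=
    IsPGroup.of_card (n := 1) (by rw [hDcard, pow_one])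
  obtain ⟨Q, hQ⟩ := hDp.exists_le_sylow
  obtain ⟨m, hm⟩ := IsPGroup.iff_card.mp Q.isPGroup'
  have hm1 : m = 1 := by
    rcases Nat.lt_or_ge m 2 with h | h
    · interval_cases m
      · have := Subgroup.card_dvd_of_le hQ
        rw [hDcard, hm] at this
        omega
      · rfl
    · exfalso
      apply h25
      have h1 : 25 ∣ Nat.card Q := by
        rw [hm]
        exact (pow_dvd_pow 5 h : 5 ^ 2 ∣ 5 ^ m)
      exact h1.trans (Subgroup.card_subgroup_dvd_card (Q : Subgroup H))
  refine ⟨Q, (Subgroup.eq_of_le_of_card_ge hQ ?_).symm⟩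
  rw [hDcard, hm, hm1, pow_one]

theorem arith_a : ∀ i ≤ 7, ∀ j ≤ 4, (2 ^ i * 3 ^ j) % 11 = 1 →
    2 ^ i * 3 ^ j = 1 ∨ 2 ^ i * 3 ^ j = 12 ∨ 2 ^ i * 3 ^ j = 144 ∨ 2 ^ i * 3 ^ j = 1728 := by
  decide

/-- The possible orders, with the order of the Sylow `5`-normalizer. -/
theorem card_cases (hm1 : m1 ∈ H) (hm3 : m3 ∈ H) (hA : H ≤ alternatingGroup (ZMod 11))
    (hnA : ¬ alternatingGroup (ZMod 11) ≤ H) (a : ℕ) (hcard : Nat.card H = 55 * a)
    (ha : a % 11 = 1) :
    Nat.card H = 55 ∨ Nat.card H = 660 ∨ (Nat.card H = 7920 ∧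
      Nat.card (Subgroup.normalizer ((Subgroup.zpowers (dH H hm3) : Subgroup H) : Set H)) = 20) := by
  have hp5 : Fact (Nat.Prime 5) := ⟨by norm_num⟩
  have h7 := not_seven_dvd H hm1 hnA
  have h25 := not_25_dvd H hm1 hnA
  have hdvd := card_dvd H hA
  rw [hcard] at h7 h25 hdvd
  -- `a` divides `2 ^ 7 * 3 ^ 4`
  have ha1 : a ∣ 362880 :=
    Nat.dvd_of_mul_dvd_mul_left (by norm_num : 0 < 55) (by norm_num at hdvd ⊢; exact hdvd)
  have h5a : ¬ 5 ∣ a := by
    rintro ⟨b, rfl⟩
    exact h25 ⟨11 * b, by ring⟩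
  have h7a : ¬ 7 ∣ a := fun h => h7 (h.mul_left 55)
  have hc : a.Coprime 35 := by
    have h35 : (35 : ℕ) = 5 * 7 := by norm_num
    rw [h35]
    apply Nat.Coprime.mul_right
    · rw [Nat.coprime_comm]
      exact (Nat.Prime.coprime_iff_not_dvd (by norm_num)).mpr h5a
    · rw [Nat.coprime_comm]
      exact (Nat.Prime.coprime_iff_not_dvd (by norm_num)).mpr h7a
  have ha2 : a ∣ 2 ^ 7 * 3 ^ 4 := by
    have h1 : a ∣ (2 ^ 7 * 3 ^ 4) * 35 := by norm_num at ha1 ⊢; exact ha1
    exact hc.dvd_of_dvd_mul_right h1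
  obtain ⟨k₁, k₂, hk1, hk2, hk⟩ := (Nat.dvd_mul).mp ha2
  obtain ⟨i, hi, rfl⟩ := (Nat.dvd_prime_pow Nat.prime_two).mp hk1
  obtain ⟨j, hj, rfl⟩ := (Nat.dvd_prime_pow Nat.prime_three).mp hk2
  have ha3 := arith_a i hi j hj (by rw [hk]; exact ha)
  rw [hk] at ha3
  -- the Sylow `5`-normalizer
  obtain ⟨e, he, hN⟩ := card_normalizer H hm3 hA (by rw [hcard]; exact h25)
  obtain ⟨Q, hQ⟩ := exists_sylow_five H hm3 (by rw [hcard]; exact h25)
  have h1 : Nat.card (Sylow 5 H) ≡ 1 [MOD 5] := card_sylow_modEq_one 5 H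
  have h2 := Sylow.card_eq_index_normalizer Q
  have hQ' : (Q : Set H) = ((Subgroup.zpowers (dH H hm3) : Subgroup H) : Set H) := by
    rw [← hQ]
    rfl
  rw [hQ'] at h2
  have h3 := Subgroup.card_mul_index
    (Subgroup.normalizer ((Subgroup.zpowers (dH H hm3) : Subgroup H) : Set H))
  rw [← h2, hN, hcard] at h3
  obtain ⟨n, hn⟩ : ∃ n, n = Nat.card (Sylow 5 H) := ⟨_, rfl⟩
  rw [← hn] at h1 h3
  have h1' : n % 5 = 1 := h1
  have he4 : e ≤ 4 := Nat.le_of_dvd (by norm_num) he
  have he' : e = 1 ∨ e = 2 ∨ e = 4 := by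
    interval_cases e
    · simp at he
    · left; rfl
    · right; left; rfl
    · exfalso; revert he; decide
    · right; right; rfl
  rw [hN]
  rcases ha3 with h | h | h | h <;> rcases he' with rfl | rfl | rfl <;> rw [h] at h3 <;> omega

theorem m3_inv_pow_apply (n : ℕ) (x : ZMod 11) : ((m3 ^ n)⁻¹) x = 4 ^ n * x := by
  induction n generalizing x with
  | zero => simp
  | succ n ih =>
    rw [pow_succ, mul_inv_rev, Perm.mul_apply, ih]
    have : m3⁻¹ (4 ^ n * x) = 4 * (4 ^ n * x) := rfl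
    rw [this]
    ring

/-- An element of the normalizer of `⟨m3⟩` conjugates `m3` to a power of itself. -/
theorem exists_pow_of_mem_normalizer (hm3 : m3 ∈ H) {t : H}
    (ht : t ∈ Subgroup.normalizer ((Subgroup.zpowers (dH H hm3) : Subgroup H) : Set H)) :
    ∃ j < 5, (t : Perm (ZMod 11)) * m3 = m3 ^ j * (t : Perm (ZMod 11)) := by
  have h1 : t * dH H hm3 * t⁻¹ ∈ Subgroup.zpowers (dH H hm3) :=
    (Subgroup.mem_normalizer_iff.mp ht (dH H hm3)).mp (Subgroup.mem_zpowers _)
  have hfo : IsOfFinOrder (dH H hm3) := isOfFinOrder_of_finite _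
  rw [← hfo.mem_powers_iff_mem_zpowers, Submonoid.mem_powers_iff] at h1
  obtain ⟨k, hk⟩ := h1
  refine ⟨k % 5, Nat.mod_lt _ (by norm_num), ?_⟩
  have h2 : dH H hm3 ^ (k % 5) = t * dH H hm3 * t⁻¹ := by
    rw [← hk, ← orderOf_dH H hm3, pow_mod_orderOf]
  have h3 : dH H hm3 ^ (k % 5) * t = t * dH H hm3 := by
    rw [h2]
    group
  have h4 := congrArg (Subtype.val : H → Perm (ZMod 11)) h3
  exact h4.symm

/-- Relations of an element `t` with `t * m3 = m3 ^ j * t`, `0 < j < 5`, in coordinates. -/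
theorem coords_of_rel {t : Perm (ZMod 11)} {j : ℕ} (hj : j < 5) (hj0 : j ≠ 0)
    (hrel : t * m3 = m3 ^ j * t) : ∀ x, t x = cand j (t 1) (t 2) x := by
  have h0 : t 0 = 0 := by
    have := congrArg (fun g : Perm (ZMod 11) => g 0) hrel
    simp only [Perm.mul_apply, m3_apply, mul_zero, m3_pow_apply] at this
    exact fix_lemma j (Finset.mem_range.mpr hj) hj0 (t 0) this
  have hrel' : ∀ x, t (3 * x) = 3 ^ j * t x := by
    intro x
    have := congrArg (fun g : Perm (ZMod 11) => g x) hrel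
    simpa [Perm.mul_apply, m3_apply, m3_pow_apply] using this
  exact eq_cand t j h0 hrel'

theorem m3_ne_one : m3 ≠ 1 := by
  intro h
  have := orderOf_m3
  rw [h, orderOf_one] at this
  omega

theorem ne_zero_of_rel {t : Perm (ZMod 11)} {j : ℕ} (hrel : t * m3 = m3 ^ j * t) : j ≠ 0 := by
  rintro rfl
  rw [pow_zero, one_mul] at hrel
  exact m3_ne_one (mul_left_cancel (hrel.trans (mul_one t).symm))

/-- Involutions of `H` normalizing `⟨m3⟩` invert `m3`. -/
theorem inv_of_involution (hA : H ≤ alternatingGroup (ZMod 11)) {t : Perm (ZMod 11)}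
    (ht : t ∈ H) (ht2 : t * t = 1) (ht1 : t ≠ 1) {j : ℕ} (hj : j < 5)
    (hrel : t * m3 = m3 ^ j * t) : t * m3 = m3⁻¹ * t := by
  have hj0 := ne_zero_of_rel hrel
  have hc := coords_of_rel hj hj0 hrel
  have hfun : (t : ZMod 11 → ZMod 11) = cand j (t 1) (t 2) := funext hc
  have h1 : ∀ x, cand j (t 1) (t 2) (cand j (t 1) (t 2) x) = x := by
    intro x
    rw [← hfun, ← Perm.mul_apply, ht2]
    rfl
  have h2 : sgnF (cand j (t 1) (t 2)) = 1 := by
    rw [← hfun, ← sign_eq_sgnF]
    exact Perm.mem_alternatingGroup.mp (hA ht)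
  rcases inv_lemma j (Finset.mem_range.mpr hj) (t 1) (t 2) h1 h2 with h | h
  · exfalso
    apply ht1
    ext x
    rw [hc x, h x]
    rfl
  · rw [hrel, h]
    congr 1
    rw [eq_inv_iff_mul_eq_one, ← pow_succ]
    have h5 : m3 ^ 5 = 1 := by rw [← orderOf_m3]; exact pow_orderOf_eq_one m3
    exact h5

/-- From a Sylow `5`-normalizer of order `20` we get an element of order `4` normalizing `⟨m3⟩`. -/
theorem exists_order_four (hm3 : m3 ∈ H) (hA : H ≤ alternatingGroup (ZMod 11))
    (hN : Nat.card (Subgroup.normalizer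
      ((Subgroup.zpowers (dH H hm3) : Subgroup H) : Set H)) = 20) :
    ∃ s : Perm (ZMod 11), s ∈ H ∧ s ^ 4 = 1 ∧ s ^ 2 ≠ 1 ∧ ∃ j < 5, s * m3 = m3 ^ j * s := by
  have hp2 : Fact (Nat.Prime 2) := ⟨Nat.prime_two⟩
  obtain ⟨N, hNdef⟩ : ∃ N : Subgroup H, N = Subgroup.normalizer
      ((Subgroup.zpowers (dH H hm3) : Subgroup H) : Set H) := ⟨_, rfl⟩
  rw [← hNdef] at hN
  obtain ⟨K, hK⟩ := Sylow.exists_subgroup_card_pow_prime 2
    (show 2 ^ 2 ∣ Nat.card N from by rw [hN]; norm_num)
  have hrelK : ∀ k : K, ∃ j < 5, (((k : N) : H) : Perm (ZMod 11)) * m3 =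
      m3 ^ j * (((k : N) : H) : Perm (ZMod 11)) := by
    intro k
    exact exists_pow_of_mem_normalizer H hm3 (hNdef ▸ (k : N).2)
  by_cases h : ∃ k : K, k ^ 2 ≠ 1
  · obtain ⟨k, hk⟩ := h
    refine ⟨(((k : N) : H) : Perm (ZMod 11)), ((k : N) : H).2, ?_, ?_, hrelK k⟩
    · have h4 : k ^ 4 = 1 := by
        have := pow_card_eq_one' (G := K) (x := k)
        rwa [hK] at this
      have := congrArg (fun k : K => (((k : N) : H) : Perm (ZMod 11))) h4
      simpa using this
    · intro h2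
      apply hk
      apply Subtype.ext
      apply Subtype.ext
      apply Subtype.ext
      simpa using h2
  · exfalso
    push Not at h
    -- two distinct non-identity elements of `K`
    have hnt : Nontrivial K := by
      rw [← Finite.one_lt_card_iff_nontrivial, hK]
      norm_num
    obtain ⟨t1, ht1⟩ := exists_ne (1 : K)
    obtain ⟨t2, ht21, ht22⟩ : ∃ t2 : K, t2 ≠ 1 ∧ t2 ≠ t1 := by
      by_contra hcon
      push Not at hcon
      have hinj : Function.Injective (fun t : K => (t = 1 : Bool)) := by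
        intro x y hxy
        simp only [decide_eq_decide] at hxy
        by_cases hx : x = 1
        · rw [hx, ← hxy.mp hx]
        · have hy : y ≠ 1 := fun hy => hx (hxy.mpr hy)
          rw [hcon x hx, hcon y hy]
      have := Nat.card_le_card_of_injective _ hinj
      rw [hK, Nat.card_eq_fintype_card, Fintype.card_bool] at this
      omega
    -- coordinates
    have key : ∀ t : K, t ≠ 1 → (((t : N) : H) : Perm (ZMod 11)) * m3 =
        m3⁻¹ * (((t : N) : H) : Perm (ZMod 11)) := by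
      intro t ht
      obtain ⟨j, hj, hrel⟩ := hrelK t
      refine inv_of_involution H hA ((t : N) : H).2 ?_ ?_ hj hrel
      · have := congrArg (fun k : K => (((k : N) : H) : Perm (ZMod 11))) (h t)
        simpa [pow_two] using this
      · intro h1
        apply ht
        apply Subtype.ext
        apply Subtype.ext
        apply Subtype.ext
        simpa using h1
    have ht12 : t1 * t2 ≠ 1 := by
      intro h12
      apply ht22
      have h1 := h t1
      rw [pow_two] at h1
      exact mul_left_cancel (h12.trans h1.symm)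
    have k1 := key t1 ht1
    have k2 := key t2 ht21
    have k3 := key (t1 * t2) ht12
    obtain ⟨a, ha⟩ : ∃ a : Perm (ZMod 11), a = (((t1 : N) : H) : Perm (ZMod 11)) := ⟨_, rfl⟩
    obtain ⟨b, hb⟩ : ∃ b : Perm (ZMod 11), b = (((t2 : N) : H) : Perm (ZMod 11)) := ⟨_, rfl⟩
    have hab : ((((t1 * t2 : K) : N) : H) : Perm (ZMod 11)) = a * b := by
      rw [ha, hb]
      rfl
    rw [hab] at k3
    rw [← ha] at k1
    rw [← hb] at k2
    -- `a b m3 = a m3⁻¹ b = m3 a b`, so `m3 = m3⁻¹`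
    have h1 : a * b * m3 = m3 * (a * b) := by
      have h2 : a * m3⁻¹ = m3 * a := by
        have := congrArg (fun g => m3 * g * m3⁻¹) k1
        simp only [mul_assoc, mul_inv_cancel, mul_one] at this
        rw [← mul_assoc, mul_inv_cancel, one_mul] at this
        exact this.symm
      calc a * b * m3 = a * (b * m3) := mul_assoc _ _ _
        _ = a * (m3⁻¹ * b) := by rw [k2]
        _ = a * m3⁻¹ * b := (mul_assoc _ _ _).symm
        _ = m3 * a * b := by rw [h2]
        _ = m3 * (a * b) := mul_assoc _ _ _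
    have h3 : m3 * (a * b) = m3⁻¹ * (a * b) := h1.symm.trans k3
    have h4 : m3 = m3⁻¹ := mul_right_cancel h3
    have h5 : m3 ^ 2 = 1 := by rw [pow_two]; nth_rewrite 1 [h4]; exact inv_mul_cancel m3
    have := orderOf_dvd_of_pow_eq_one h5
    rw [orderOf_m3] at this
    omega

/-- In the case of order `7920` the group contains `s5` or `s9`. -/
theorem mem_s5_or_s9 (hm1 : m1 ∈ H) (hm3 : m3 ∈ H) (hA : H ≤ alternatingGroup (ZMod 11))
    (hnA : ¬ alternatingGroup (ZMod 11) ≤ H)
    (hN : Nat.card (Subgroup.normalizer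
      ((Subgroup.zpowers (dH H hm3) : Subgroup H) : Set H)) = 20) : s5 ∈ H ∨ s9 ∈ H := by
  obtain ⟨s, hsH, hs4, hs2, j, hj, hrel⟩ := exists_order_four H hm3 hA hN
  have hj0 := ne_zero_of_rel hrel
  have hc := coords_of_rel hj hj0 hrel
  have hfun : (s : ZMod 11 → ZMod 11) = cand j (s 1) (s 2) := funext hc
  have h1 : ∀ x, iter (cand j (s 1) (s 2)) 4 x = x := by
    intro x
    rw [← hfun, iter_perm, hs4]
    rfl
  have h2 : ¬ ∀ x, iter (cand j (s 1) (s 2)) 2 x = x := by
    intro h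
    apply hs2
    ext x
    have := h x
    rw [← hfun, iter_perm] at this
    rw [this]
    rfl
  have h3 : sgnF (cand j (s 1) (s 2)) = 1 := by
    rw [← hfun, ← sign_eq_sgnF]
    exact Perm.mem_alternatingGroup.mp (hA hsH)
  obtain ⟨i, -, s', hs', hcases⟩ := s_lemma j (Finset.mem_range.mpr hj) (s 1) (s 2) h1 h2 h3
  have hρH : m3 ^ i * s * (m3 ^ i)⁻¹ ∈ H :=
    H.mul_mem (H.mul_mem (H.pow_mem hm3 i) hsH) (H.inv_mem (H.pow_mem hm3 i))
  have hρ : ∀ x, (m3 ^ i * s * (m3 ^ i)⁻¹) x = conjF i (cand j (s 1) (s 2)) x := by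
    intro x
    rw [Perm.mul_apply, Perm.mul_apply, m3_pow_apply, m3_inv_pow_apply, hc]
    rfl
  have hs'H : s' ∈ H := by
    rcases hcases with h | h
    · have : m3 ^ i * s * (m3 ^ i)⁻¹ = s' := by
        ext x
        rw [hρ, h]
      rw [← this]
      exact hρH
    · have : m3 ^ i * s * (m3 ^ i)⁻¹ = s'⁻¹ := by
        ext x
        rw [hρ, h]
      rw [← H.inv_mem_iff, ← this]
      exact hρH
  have hprim := isPreprimitive_of_m1 H hm1
  simp only [List.mem_cons, List.not_mem_nil, or_false] at hs'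
  rcases hs' with rfl | rfl | rfl | rfl | rfl
  · exfalso
    refine not_isBadFn_of_mem H hprim hnA ?_ bad1
    exact H.mul_mem (H.mul_mem hs'H hs'H) (H.pow_mem hm1 3)
  · exfalso
    refine not_isBadFn_of_mem H hprim hnA ?_ bad3
    exact H.mul_mem (H.mul_mem (H.mul_mem (H.mul_mem hs'H hs'H) hm1) (H.mul_mem hs'H hs'H))
      (H.pow_mem hm1 2)
  · exfalso
    refine not_isBadFn_of_mem H hprim hnA ?_ bad4
    exact H.mul_mem (H.mul_mem (H.mul_mem (H.mul_mem (H.mul_mem hs'H hs'H) hm3) hm1)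
      (H.mul_mem hs'H hs'H)) (H.pow_mem hm1 2)
  · left; exact hs'H
  · right; exact hs'H

/-- Main result of this file. -/
theorem part2 (hm1 : m1 ∈ H) (hm3 : m3 ∈ H) (hA : H ≤ alternatingGroup (ZMod 11))
    (hnA : ¬ alternatingGroup (ZMod 11) ≤ H) (a : ℕ) (hcard : Nat.card H = 55 * a)
    (ha : a % 11 = 1) :
    Nat.card H = 55 ∨ Nat.card H = 660 ∨ (Nat.card H = 7920 ∧ (s5 ∈ H ∨ s9 ∈ H)) := by
  rcases card_cases H hm1 hm3 hA hnA a hcard ha with h | h | ⟨h, hN⟩
  · left; exact h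
  · right; left; exact h
  · right; right
    exact ⟨h, mem_s5_or_s9 H hm1 hm3 hA hnA hN⟩

end Part2

end Cfsg.Agent.Lib.Helper92.Deg11
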