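import Mathlib

/-!
# Restricting a permutation group to an invariant subtype

For a subgroup `K` of `Equiv.Perm α` all of whose elements preserve a predicate `p`, the
restriction homomorphism `K →* Equiv.Perm (Subtype p)`, with criteria for injectivity, the sign of
a restricted permutation and transitivity of the image.
-/

set_option autoImplicit false

namespace Cfsg.Agent.Lib.Helper92.PermRes

open Equiv

variable {α : Type*}

/-- Restriction of the elements of `K` to the invariant subtype `p`. -/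
def resHom (K : Subgroup (Perm α)) (p : α → Prop)
    (hp : ∀ g ∈ K, ∀ x, p (g x) ↔ p x) : ↥K →* Perm (Subtype p) where
  toFun g := (g : Perm α).subtypePerm (hp g.1 g.2)
  map_one' := by
    ext x
    rfl
  map_mul' g h := by
    ext x
    rfl

theorem resHom_apply (K : Subgroup (Perm α)) (p : α → Prop)
    (hp : ∀ g ∈ K, ∀ x, p (g x) ↔ p x) (g : ↥K) (x : Subtype p) :
    ((resHom K p hp g x : Subtype p) : α) = (g : Perm α) x := rfl

theorem resHom_injective (K : Subgroup (Perm α)) (p : α → Prop)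
    (hp : ∀ g ∈ K, ∀ x, p (g x) ↔ p x)
    (h : ∀ g ∈ K, (∀ x, p x → g x = x) → g = 1) : Function.Injective (resHom K p hp) := by
  rw [← MonoidHom.ker_eq_bot_iff, eq_bot_iff]
  intro g hg
  rw [MonoidHom.mem_ker] at hg
  rw [Subgroup.mem_bot]
  apply Subtype.ext
  apply h g.1 g.2
  intro x hx
  have := congrArg (fun σ : Perm (Subtype p) => ((σ ⟨x, hx⟩ : Subtype p) : α)) hg
  exact this

theorem mem_ker_resHom (K : Subgroup (Perm α)) (p : α → Prop)
    (hp : ∀ g ∈ K, ∀ x, p (g x) ↔ p x) (g : ↥K) :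
    g ∈ (resHom K p hp).ker ↔ ∀ x, p x → (g : Perm α) x = x := by
  rw [MonoidHom.mem_ker]
  constructor
  · intro hg x hx
    have := congrArg (fun σ : Perm (Subtype p) => ((σ ⟨x, hx⟩ : Subtype p) : α)) hg
    exact this
  · intro h
    ext x
    exact h x.1 x.2

theorem sign_resHom [Fintype α] [DecidableEq α] (K : Subgroup (Perm α)) (p : α → Prop)
    [DecidablePred p] (hp : ∀ g ∈ K, ∀ x, p (g x) ↔ p x) (g : ↥K)
    (h₂ : ∀ x, (g : Perm α) x ≠ x → p x) :
    Perm.sign (resHom K p hp g) = Perm.sign (g : Perm α) :=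
  Perm.sign_subtypePerm (g : Perm α) (hp g.1 g.2) h₂

theorem isPretransitive_range (K : Subgroup (Perm α)) (p : α → Prop)
    (hp : ∀ g ∈ K, ∀ x, p (g x) ↔ p x)
    (h : ∀ x y, p x → p y → ∃ g ∈ K, g x = y) :
    MulAction.IsPretransitive ↥(resHom K p hp).range (Subtype p) := by
  constructor
  intro x y
  obtain ⟨g, hg, hgx⟩ := h x.1 y.1 x.2 y.2
  refine ⟨⟨resHom K p hp ⟨g, hg⟩, ⟨⟨g, hg⟩, rfl⟩⟩, ?_⟩
  apply Subtype.ext
  exact hgx

end Cfsg.Agent.Lib.Helper92.PermRes
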