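import Mathlib
import Cfsg.Agent.S0144
import Cfsg.Agent.S3378
import Cfsg.Agent.Lib.Helper12.PrimeDegree4
import Cfsg.Agent.Lib.Helper72.SolvableNormal
import Cfsg.Agent.Lib.Helper92.PermCount
import Cfsg.Agent.Lib.Helper92.PermRes

/-!
# Small degree permutation groups: general tools

* `{2,3}`-groups are solvable (from Burnside's theorem);
* a proper subgroup of index `k` of a simple group `G` forces `|G| ∣ k!`;
* a solvable transitive group of prime degree normalizes its Sylow `p`-subgroup;
* the Sylow `7`-normalizer of a transitive group of even permutations of degree `7` has odd order;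
* the point stabilizer of a subgroup of `Perm β`, restricted to the remaining points.
-/

set_option autoImplicit false
set_option linter.unusedSectionVars false

namespace Cfsg.Agent.Lib.Helper92.SmallDeg

open Equiv Cfsg.Agent.Lib.Helper92.PermCount Cfsg.Agent.Lib.Helper92.PermRes

/-- Groups whose order divides `2 ^ a * 3 ^ b` are solvable. -/
theorem isSolvable_of_card_dvd {G : Type*} [Group G] [Finite G] (a b : ℕ)
    (h : Nat.card G ∣ 2 ^ a * 3 ^ b) : Group.IsSolvable G := by
  obtain ⟨k₁, k₂, h1, h2, h3⟩ := (Nat.dvd_mul).mp h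
  obtain ⟨a', -, rfl⟩ := (Nat.dvd_prime_pow Nat.prime_two).mp h1
  obtain ⟨b', -, rfl⟩ := (Nat.dvd_prime_pow Nat.prime_three).mp h2
  exact Cfsg.Agent.S0144.result 2 3 a' b' Nat.prime_two Nat.prime_three h3.symm

/-- If `5` and `7` do not divide the order of a subgroup of `S_8`, it is solvable. -/
theorem isSolvable_of_card_dvd_factorial {G : Type*} [Group G] [Finite G] {n : ℕ} (hn : n ≤ 8)
    (h : Nat.card G ∣ n.factorial) (h5 : ¬ 5 ∣ Nat.card G) (h7 : ¬ 7 ∣ Nat.card G) :
    Group.IsSolvable G := by
  have h8 : Nat.card G ∣ (2 ^ 7 * 3 ^ 2) * 35 := by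
    refine h.trans ((Nat.factorial_dvd_factorial hn).trans ?_)
    decide
  have hc : (Nat.card G).Coprime 35 := by
    have h35 : (35 : ℕ) = 5 * 7 := by norm_num
    rw [h35]
    apply Nat.Coprime.mul_right
    · rw [Nat.coprime_comm]
      exact (Nat.Prime.coprime_iff_not_dvd (by norm_num)).mpr h5
    · rw [Nat.coprime_comm]
      exact (Nat.Prime.coprime_iff_not_dvd (by norm_num)).mpr h7
  exact isSolvable_of_card_dvd 7 2 (hc.dvd_of_dvd_mul_right h8)

/-- A proper subgroup of finite index `k` in a simple group `G` gives `|G| ∣ k!`. -/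
theorem card_dvd_factorial_index {G : Type*} [Group G] [Finite G] [IsSimpleGroup G]
    (H : Subgroup G) (hH : H ≠ ⊤) : Nat.card G ∣ (H.index).factorial := by
  classical
  let f : G →* Perm (G ⧸ H) := MulAction.toPermHom G (G ⧸ H)
  have hker : f.ker = ⊥ := by
    rcases (f.normal_ker).eq_bot_or_eq_top with h | h
    · exact h
    · exfalso
      apply hH
      rw [eq_top_iff]
      intro g _
      have hg : g ∈ f.ker := by rw [h]; trivial
      rw [MonoidHom.mem_ker] at hg
      have h1 := congrArg (fun σ : Perm (G ⧸ H) => σ ((1 : G) : G ⧸ H)) hg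
      simp only [Perm.coe_one, id_eq] at h1
      have h2 : f g ((1 : G) : G ⧸ H) = ((g * 1 : G) : G ⧸ H) := rfl
      rw [h2, mul_one] at h1
      have := QuotientGroup.eq.mp h1
      simpa using this
  have hinj : Function.Injective f := (MonoidHom.ker_eq_bot_iff f).mp hker
  have h1 : Nat.card G = Nat.card f.range := (Nat.card_range_of_injective hinj).symm
  rw [h1]
  have h2 := Subgroup.card_subgroup_dvd_card f.range
  have : Finite (G ⧸ H) := inferInstance
  have : Fintype (G ⧸ H) := Fintype.ofFinite _
  rw [Nat.card_eq_fintype_card (α := Perm (G ⧸ H)), Fintype.card_perm] at h2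
  have h3 : Fintype.card (G ⧸ H) = H.index := by
    rw [← Nat.card_eq_fintype_card]
    rfl
  rwa [h3] at h2

section PrimeDeg

variable {β : Type*} [Fintype β] [DecidableEq β] {p : ℕ} [Fact p.Prime]

/-- In a solvable transitive group of prime degree the Sylow `p`-subgroups are normal. -/
theorem sylow_normal_of_isSolvable (hβ : Fintype.card β = p) (G : Subgroup (Perm β))
    [MulAction.IsPretransitive G β] (hs : Group.IsSolvable G) (P : Sylow p G) :
    (P : Subgroup G).Normal := by
  have hp := (Fact.out : p.Prime)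
  obtain ⟨a⟩ : Nonempty β := by
    rw [← Fintype.card_pos_iff, hβ]; exact hp.pos
  have hcard := Cfsg.Agent.Lib.Helper12.card_eq_mul_card_stabilizer hβ G a
  have hnt : Nontrivial G := by
    rw [← Finite.one_lt_card_iff_nontrivial, hcard]
    have h1 : 0 < Nat.card (MulAction.stabilizer G a) := Nat.card_pos
    have h2 := hp.two_le
    nlinarith
  obtain ⟨q, hq, Q, hQn, hQ, hQq⟩ := Cfsg.Agent.Lib.Helper72.exists_normal_pgroup_of_solvable hs
  have hpQ : p ∣ Nat.card Q := by
    rcases Cfsg.Agent.Lib.Helper12.normal_eq_bot_or_dvd_card hβ G Q with h | h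
    · exact absurd h hQ
    · exact h
  have hqp : q = p := by
    have : Fact q.Prime := ⟨hq⟩
    obtain ⟨k, hk⟩ := IsPGroup.iff_card.mp hQq
    rw [hk] at hpQ
    exact ((Nat.prime_dvd_prime_iff_eq hp hq).mp (hp.dvd_of_dvd_pow hpQ)).symm
  subst hqp
  obtain ⟨P', hP'⟩ := IsPGroup.exists_le_sylow hQq
  have hP'card := Cfsg.Agent.Lib.Helper12.card_sylow_eq hβ G P'
  have hQcard : Nat.card Q = q := by
    have h1 : Nat.card Q ∣ q := by
      rw [← hP'card]; exact Subgroup.card_dvd_of_le hP'
    rcases (Nat.dvd_prime hp).mp h1 with h | h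
    · exact absurd (Subgroup.card_eq_one.mp h) hQ
    · exact h
  have hQP' : Q = (P' : Subgroup G) :=
    Subgroup.eq_of_le_of_card_ge hP' (by rw [hP'card, hQcard])
  have hP'n : (P' : Subgroup G).Normal := hQP' ▸ hQn
  have := Sylow.unique_of_normal P' hP'n
  have hPP' : P = P' := Subsingleton.elim _ _
  rw [hPP']
  exact hP'n

theorem card_dvd_of_isSolvable (hβ : Fintype.card β = p) (G : Subgroup (Perm β))
    [MulAction.IsPretransitive G β] (hs : Group.IsSolvable G) : Nat.card G ∣ p * (p - 1) := by
  obtain ⟨P⟩ : Nonempty (Sylow p G) := inferInstance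
  have hn := sylow_normal_of_isSolvable hβ G hs P
  have h1 := Cfsg.Agent.Lib.Helper12.card_normalizer_dvd hβ G P
  rw [Subgroup.normalizer_eq_top_iff.mpr hn, Subgroup.card_top] at h1
  exact h1

end PrimeDeg

section Parity

/-- The permutation `j ↦ -j + c` of `ZMod 7`. -/
def negAdd (c : ZMod 7) : Perm (ZMod 7) where
  toFun j := -j + c
  invFun j := -j + c
  left_inv j := by ring
  right_inv j := by ring

theorem sign_negAdd : ∀ c : ZMod 7, Perm.sign (negAdd c) = -1 := by decide

variable {β : Type*} [Fintype β] [DecidableEq β]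

/-- In a transitive group of even permutations of degree `7` the Sylow `7`-normalizer has odd
order. -/
theorem not_even_card_normalizer (hβ : Fintype.card β = 7) (G : Subgroup (Perm β))
    [MulAction.IsPretransitive G β] (hA : G ≤ alternatingGroup β) (P : Sylow 7 G) :
    ¬ Even (Nat.card (Subgroup.normalizer ((P : Subgroup G) : Set G))) := by
  have : Fact (Nat.Prime 7) := ⟨by norm_num⟩
  intro heven
  obtain ⟨σ, t, ι, c, -, -, ht⟩ :=
    Cfsg.Agent.Lib.Helper12.sylow_setup hβ (by norm_num) G P heven
  have h1 : Perm.sign (t : Perm β) = 1 := Perm.mem_alternatingGroup.mp (hA t.2)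
  have h2 : ι.symm.permCongr (t : Perm β) = negAdd c := by
    ext j
    rw [Equiv.permCongr_apply]
    have := ht j
    rw [Subgroup.smul_def, Perm.smul_def] at this
    simp only [Equiv.symm_symm]
    rw [this, Equiv.symm_apply_apply]
    rfl
  have h3 := Perm.sign_permCongr ι.symm (t : Perm β)
  rw [h2, sign_negAdd, h1] at h3
  exact absurd h3 (by decide)

end Parity

section Stab

variable {β : Type*} [Fintype β] [DecidableEq β]

/-- The stabilizer of `b` in `G`, as a subgroup of `Perm β`. -/
def stb (G : Subgroup (Perm β)) (b : β) : Subgroup (Perm β) :=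
  G ⊓ MulAction.stabilizer (Perm β) b

theorem mem_stb {G : Subgroup (Perm β)} {b : β} {g : Perm β} :
    g ∈ stb G b ↔ g ∈ G ∧ g b = b := by
  unfold stb
  rw [Subgroup.mem_inf, MulAction.mem_stabilizer_iff, Perm.smul_def]

theorem stb_preserves (G : Subgroup (Perm β)) (b : β) :
    ∀ g ∈ stb G b, ∀ x, g x ≠ b ↔ x ≠ b := by
  intro g hg x
  have hb := (mem_stb.mp hg).2
  constructor
  · intro h hx
    exact h (hx ▸ hb)
  · intro h hx
    apply h
    apply g.injective
    rw [hx, hb]

/-- Restriction of the point stabilizer to the other points. -/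
def stbRes (G : Subgroup (Perm β)) (b : β) : ↥(stb G b) →* Perm {x // x ≠ b} :=
  resHom (stb G b) (· ≠ b) (stb_preserves G b)

theorem stbRes_apply (G : Subgroup (Perm β)) (b : β) (g : ↥(stb G b)) (x : {x // x ≠ b}) :
    ((stbRes G b g x : {x // x ≠ b}) : β) = (g : Perm β) x := rfl

theorem stbRes_injective (G : Subgroup (Perm β)) (b : β) : Function.Injective (stbRes G b) := by
  apply resHom_injective
  intro g hg h
  ext x
  by_cases hx : x = b
  · rw [hx]
    exact (mem_stb.mp hg).2
  · exact h x hx

theorem card_range_stbRes (G : Subgroup (Perm β)) (b : β) :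
    Nat.card (stbRes G b).range = Nat.card (stb G b) :=
  Nat.card_range_of_injective (stbRes_injective G b)

theorem card_eq_mul_stb (G : Subgroup (Perm β)) (htr : ∀ x y : β, ∃ g ∈ G, g x = y) (b : β) :
    Nat.card G = Fintype.card β * Nat.card (stb G b) := by
  have h1 := card_eq_orb_mul G b
  have h2 : orb G b = Finset.univ := by
    rw [Finset.eq_univ_iff_forall]
    intro y
    exact mem_orb.mpr (htr b y)
  rw [h2, Finset.card_univ] at h1
  exact h1

theorem sign_stbRes (G : Subgroup (Perm β)) (b : β) (g : ↥(stb G b)) :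
    Perm.sign (stbRes G b g) = Perm.sign (g : Perm β) := by
  apply sign_resHom
  intro x hx hxb
  apply hx
  rw [hxb]
  exact (mem_stb.mp g.2).2

theorem range_stbRes_le_alt (G : Subgroup (Perm β)) (b : β) (hA : G ≤ alternatingGroup β) :
    (stbRes G b).range ≤ alternatingGroup {x // x ≠ b} := by
  rintro _ ⟨g, rfl⟩
  rw [Perm.mem_alternatingGroup, sign_stbRes]
  exact Perm.mem_alternatingGroup.mp (hA (mem_stb.mp g.2).1)

theorem card_subtype_ne (b : β) : Fintype.card {x // x ≠ b} = Fintype.card β - 1 := by
  rw [Fintype.card_subtype_compl, Fintype.card_subtype_eq]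

/-- If some element of the stabilizer moves `x` to `y` for all `x, y ≠ b`, the restricted
stabilizer is transitive. -/
theorem isPretransitive_stbRes (G : Subgroup (Perm β)) (b : β)
    (h : ∀ x y, x ≠ b → y ≠ b → ∃ g ∈ stb G b, g x = y) :
    MulAction.IsPretransitive ↥(stbRes G b).range {x // x ≠ b} :=
  isPretransitive_range (stb G b) (· ≠ b) (stb_preserves G b) h

end Stab

end Cfsg.Agent.Lib.Helper92.SmallDeg
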