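import Mathlib
import Cfsg.Agent.Lib.Helper92.SmallDegA
import Cfsg.Agent.S0680

/-!
# Auxiliary results in degrees `11` and `12`

* a transitive group of even permutations of degree `11` whose order is prime to `5` has order `11`;
* there is no sharply `2`-transitive group of degree `12`.
-/

set_option autoImplicit false
set_option linter.unusedSectionVars false

namespace Cfsg.Agent.Lib.Helper92.Deg13

open Equiv

/-- The permutation `j ↦ -j + c` of `ZMod 11`. -/
def negAdd (c : ZMod 11) : Perm (ZMod 11) where
  toFun j := -j + c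
  invFun j := -j + c
  left_inv j := by ring
  right_inv j := by ring

theorem sign_negAdd : ∀ c : ZMod 11, Perm.sign (negAdd c) = -1 := by decide

variable {β : Type*} [Fintype β] [DecidableEq β]

/-- In a transitive group of even permutations of degree `11` the Sylow `11`-normalizer has odd
order. -/
theorem not_even_card_normalizer (hβ : Fintype.card β = 11) (G : Subgroup (Perm β))
    [MulAction.IsPretransitive G β] (hA : G ≤ alternatingGroup β) (P : Sylow 11 G) :
    ¬ Even (Nat.card (Subgroup.normalizer ((P : Subgroup G) : Set G))) := by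
  have : Fact (Nat.Prime 11) := ⟨by norm_num⟩
  intro heven
  obtain ⟨σ, t, ι, c, -, -, ht⟩ :=
    Cfsg.Agent.Lib.Helper12.sylow_setup hβ (by norm_num) G P heven
  have h1 : Perm.sign (t : Perm β) = 1 := Perm.mem_alternatingGroup.mp (hA t.2)
  have h2 : ι.symm.permCongr (t : Perm β) = negAdd c := by
    ext j
    rw [Equiv.permCongr_apply]
    have := ht j
    rw [Subgroup.smul_def, Perm.smul_def] at this
    simp only [Equiv.symm_symm]
    rw [this, Equiv.symm_apply_apply]
    rfl
  have h3 := Perm.sign_permCongr ι.symm (t : Perm β)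
  rw [h2, sign_negAdd, h1] at h3
  exact absurd h3 (by decide)

/-- A transitive group of even permutations of degree `11` of order prime to `5` has order `11`. -/
theorem card_eq_eleven (hβ : Fintype.card β = 11) (K : Subgroup (Perm β))
    [MulAction.IsPretransitive K β] (hA : K ≤ alternatingGroup β) (h5 : ¬ 5 ∣ Nat.card K) :
    Nat.card K = 11 := by
  have : Fact (Nat.Prime 11) := ⟨by norm_num⟩
  obtain ⟨P⟩ : Nonempty (Sylow 11 K) := inferInstance
  have h1 := Cfsg.Agent.Lib.Helper12.card_normalizer_dvd hβ K P
  have h2 := not_even_card_normalizer hβ K hA P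
  have h3 := Cfsg.Agent.Lib.Helper12.dvd_card_normalizer hβ K P
  have h4 : ¬ 5 ∣ Nat.card (Subgroup.normalizer ((P : Subgroup K) : Set K)) := fun h =>
    h5 (h.trans (Subgroup.card_subgroup_dvd_card _))
  have hN : Nat.card (Subgroup.normalizer ((P : Subgroup K) : Set K)) = 11 := by
    have hle : Nat.card (Subgroup.normalizer ((P : Subgroup K) : Set K)) ≤ 110 :=
      Nat.le_of_dvd (by norm_num) h1
    rw [Nat.even_iff] at h2
    obtain ⟨k, hk⟩ := h3
    rw [hk] at h1 h2 h4 hle ⊢
    have hk10 : k ≤ 10 := by omega
    interval_cases k <;> omega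
  exact Cfsg.Agent.Lib.Helper12.card_eq_of_card_normalizer_eq hβ K P hN

theorem twelve_ne_prime_pow {p e : ℕ} (hp : p.Prime) (h : 12 = p ^ e) : False := by
  have he : e ≠ 0 := by
    rintro rfl
    simp at h
  have hd : p ∣ 12 := by
    rw [h]
    exact dvd_pow_self p he
  have hcase : p = 2 ∨ p = 3 := by
    have h12 : (12 : ℕ) = 2 ^ 2 * 3 := by norm_num
    rw [h12] at hd
    rcases (Nat.Prime.dvd_mul hp).mp hd with h1 | h1
    · left
      exact (Nat.prime_dvd_prime_iff_eq hp Nat.prime_two).mp (hp.dvd_of_dvd_pow h1)
    · right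
      exact (Nat.prime_dvd_prime_iff_eq hp Nat.prime_three).mp h1
  rcases hcase with rfl | rfl
  · rcases Nat.lt_or_ge e 4 with h3 | h3
    · interval_cases e <;> simp at h
    · have := Nat.pow_le_pow_right (by norm_num : 0 < 2) h3
      omega
  · rcases Nat.lt_or_ge e 3 with h3 | h3
    · interval_cases e <;> simp at h
    · have := Nat.pow_le_pow_right (by norm_num : 0 < 3) h3
      omega

/-- There is no sharply `2`-transitive group of degree `12`. -/
theorem false_of_card_132 (hβ : Fintype.card β = 12) (L : Subgroup (Perm β))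
    [hL2 : MulAction.IsMultiplyPretransitive L β 2] (hL : Nat.card L = 132) : False := by
  have hsharp : ∀ e : Fin 2 ↪ β, MulAction.stabilizer L e = ⊥ := by
    intro e
    have h1 := MulAction.index_stabilizer L e
    have h2 : MulAction.orbit L e = Set.univ := by
      rw [Set.eq_univ_iff_forall]
      intro e'
      obtain ⟨g, hg⟩ := hL2.exists_smul_eq e e'
      exact ⟨g, hg⟩
    have key : (MulAction.orbit L e).ncard = 132 := by
      rw [h2, Set.ncard_univ, Nat.card_eq_fintype_card, Fintype.card_embedding_eq, hβ,
        Fintype.card_fin]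
      decide
    have h1' : (MulAction.stabilizer L e).index = 132 := h1.trans key
    have h3 := (MulAction.stabilizer L e).card_mul_index
    rw [h1', hL] at h3
    apply Subgroup.eq_bot_of_card_eq
    omega
  obtain ⟨p, j, hp, -, hpj, -⟩ := Cfsg.Agent.S0680.result L hsharp (by rw [hβ]; norm_num)
  rw [hβ] at hpj
  exact twelve_ne_prime_pow hp hpj

end Cfsg.Agent.Lib.Helper92.Deg13
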