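import Mathlib
import Cfsg.Agent.Lib.Helper92.Deg11Norm
import Cfsg.Agent.Lib.Helper92.Deg13a
import Cfsg.Agent.Lib.Helper12.PrimeDegree4

/-!
# Degree `11`: transitive groups of even permutations not containing `A₁₁`

Such a group has order `11`, `55`, `660` or `7920`; in the last case it contains, in suitable
coordinates `ι : ZMod 11 ≃ α`, the permutations `x ↦ x + 1`, `x ↦ 3 x` and `s5` or `s9`.
-/

set_option autoImplicit false
set_option linter.unusedSectionVars false

namespace Cfsg.Agent.Lib.Helper92.Deg11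

open Equiv

variable {α : Type*} [Fintype α] [DecidableEq α]

theorem fact11 : Fact (Nat.Prime 11) := ⟨by norm_num⟩

attribute [local instance] fact11

/-- A group of degree `11` containing an element of order `11` is transitive. -/
theorem exists_apply_eq_of_orderOf (hα : Fintype.card α = 11) (G : Subgroup (Perm α))
    {c : Perm α} (hc : c ∈ G) (hord : orderOf c = 11) (x y : α) : ∃ g ∈ G, g x = y := by
  obtain ⟨ι, hι⟩ := Cfsg.Agent.Lib.Helper12.cycle_param hα c hord
  obtain ⟨a, rfl⟩ := ι.surjective x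
  obtain ⟨b, rfl⟩ := ι.surjective y
  refine ⟨c ^ (b - a).val, G.pow_mem hc _, ?_⟩
  rw [Cfsg.Agent.Lib.Helper12.cycle_param_pow c ι hι, ZMod.natCast_zmod_val]
  congr 1
  ring

theorem isPretransitive_of_orderOf (hα : Fintype.card α = 11) (G : Subgroup (Perm α))
    {c : Perm α} (hc : c ∈ G) (hord : orderOf c = 11) : MulAction.IsPretransitive G α :=
  ⟨fun x y => by
    obtain ⟨g, hg, h⟩ := exists_apply_eq_of_orderOf hα G hc hord x y
    exact ⟨⟨g, hg⟩, h⟩⟩

/-- Coordinates adapted to an element of order `11` and an element of order `5` normalizing it. -/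
theorem exists_coords (hα : Fintype.card α = 11) (G : Subgroup (Perm α))
    (hA : G ≤ alternatingGroup α) {c0 : Perm α} (hc0 : c0 ∈ G) (hord : orderOf c0 = 11) :
    Nat.card G = 11 ∨ ∃ (ι : ZMod 11 ≃ α) (d : Perm α) (a : ℕ), d ∈ G ∧
      (∀ j, c0 (ι j) = ι (j + 1)) ∧ (∀ j, d (ι j) = ι (3 * j)) ∧ Nat.card G = 55 * a ∧
      a % 11 = 1 := by
  have hp5 : Fact (Nat.Prime 5) := ⟨by norm_num⟩
  have htr := isPretransitive_of_orderOf hα G hc0 hord
  obtain ⟨c0', hc0'⟩ : ∃ c0' : G, c0' = ⟨c0, hc0⟩ := ⟨_, rfl⟩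
  have hord' : orderOf c0' = 11 := by
    rw [← Subgroup.orderOf_coe, hc0']
    exact hord
  have hPg : IsPGroup 11 (Subgroup.zpowers c0') :=
    IsPGroup.of_card (n := 1) (by rw [Nat.card_zpowers, hord', pow_one])
  obtain ⟨P, hP⟩ := hPg.exists_le_sylow
  have hPcard := Cfsg.Agent.Lib.Helper12.card_sylow_eq hα G P
  have hPeq : (P : Subgroup G) = Subgroup.zpowers c0' :=
    (Subgroup.eq_of_le_of_card_ge hP (by rw [hPcard, Nat.card_zpowers, hord'])).symm
  have hN1 := Cfsg.Agent.Lib.Helper12.card_normalizer_dvd hα G P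
  have hN2 := Cfsg.Agent.Lib.Helper12.dvd_card_normalizer hα G P
  have hN3 := Cfsg.Agent.Lib.Helper92.Deg13.not_even_card_normalizer hα G hA P
  have hNcases : Nat.card (Subgroup.normalizer ((P : Subgroup G) : Set G)) = 11 ∨
      Nat.card (Subgroup.normalizer ((P : Subgroup G) : Set G)) = 55 := by
    obtain ⟨k, hk⟩ := hN2
    rw [hk] at hN1 hN3 ⊢
    have hk10 : k ∣ 10 := Nat.dvd_of_mul_dvd_mul_left (by norm_num : 0 < 11) hN1
    have hkle : k ≤ 10 := Nat.le_of_dvd (by norm_num) hk10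
    rw [Nat.even_iff] at hN3
    interval_cases k <;> omega
  rcases hNcases with hN | hN
  · left
    exact Cfsg.Agent.Lib.Helper12.card_eq_of_card_normalizer_eq hα G P hN
  · right
    -- the number of Sylow `11`-subgroups
    have h1 : Nat.card (Sylow 11 G) ≡ 1 [MOD 11] := card_sylow_modEq_one 11 G
    have h2 := Sylow.card_eq_index_normalizer P
    have h3 := Subgroup.card_mul_index (Subgroup.normalizer ((P : Subgroup G) : Set G))
    have h2' : Nat.card (Sylow 11 G) =
        (Subgroup.normalizer ((P : Subgroup G) : Set G)).index := h2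
    rw [← h2', hN] at h3
    -- an element of order `5` in the normalizer
    obtain ⟨δN, hδN⟩ := exists_prime_orderOf_dvd_card'
      (G := Subgroup.normalizer ((P : Subgroup G) : Set G)) 5 (by rw [hN]; norm_num)
    obtain ⟨δ, hδ⟩ : ∃ δ : Perm α, δ = ((δN : G) : Perm α) := ⟨_, rfl⟩
    have hδG : δ ∈ G := by rw [hδ]; exact (δN : G).2
    have hordδ : orderOf δ = 5 := by
      rw [hδ, Subgroup.orderOf_coe, Subgroup.orderOf_coe, hδN]
    obtain ⟨r, hr⟩ : ∃ r : ℕ, δ * c0 = c0 ^ r * δ := by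
      have hmem : (δN : G) * c0' * (δN : G)⁻¹ ∈ (P : Subgroup G) :=
        (Subgroup.mem_normalizer_iff.mp δN.2 c0').mp (by rw [hPeq]; exact Subgroup.mem_zpowers _)
      have hmem' : (δN : G) * c0' * (δN : G)⁻¹ ∈ Subgroup.zpowers c0' := by
        rw [← hPeq]
        exact hmem
      have hfo : IsOfFinOrder c0' := isOfFinOrder_of_finite _
      rw [← hfo.mem_powers_iff_mem_zpowers, Submonoid.mem_powers_iff] at hmem'
      obtain ⟨r, hr⟩ := hmem'
      refine ⟨r, ?_⟩
      have h4 : c0' ^ r * (δN : G) = (δN : G) * c0' := by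
        rw [hr]
        group
      have h5 := congrArg (Subtype.val : G → Perm α) h4
      rw [hδ]
      rw [hc0'] at h5
      exact h5.symm
    obtain ⟨ι0, hι0⟩ := Cfsg.Agent.Lib.Helper12.cycle_param hα c0 hord
    obtain ⟨τ, hτ⟩ : ∃ τ : ZMod 11 → ZMod 11, ∀ j, τ j = ι0.symm (δ (ι0 j)) := ⟨_, fun _ => rfl⟩
    have hτ' : ∀ j, δ (ι0 j) = ι0 (τ j) := by
      intro j; rw [hτ, Equiv.apply_symm_apply]
    have hstep : ∀ j, τ (j + 1) = τ j + r := by
      intro j
      apply ι0.injective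
      rw [← hτ', hι0, ← Perm.mul_apply, hr, Perm.mul_apply, hτ',
        Cfsg.Agent.Lib.Helper12.cycle_param_pow c0 ι0 hι0]
    have hnat : ∀ n : ℕ, τ (n : ZMod 11) = (r : ZMod 11) * n + τ 0 := by
      intro n
      induction n with
      | zero => simp
      | succ n ih =>
        push_cast
        rw [hstep, ih]
        ring
    have hall : ∀ j : ZMod 11, τ j = (r : ZMod 11) * j + τ 0 := by
      intro j
      have := hnat j.val
      rwa [ZMod.natCast_zmod_val] at this
    have e1 : ∀ j, δ (ι0 j) = ι0 ((r : ZMod 11) * j + τ 0) := fun j => by rw [hτ', hall]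
    have hδ5 : δ ^ 5 = 1 := by rw [← hordδ]; exact pow_orderOf_eq_one δ
    have h5 : ∀ j, (r : ZMod 11) * ((r : ZMod 11) * ((r : ZMod 11) * ((r : ZMod 11) *
        ((r : ZMod 11) * j + τ 0) + τ 0) + τ 0) + τ 0) + τ 0 = j := by
      intro j
      have := congrArg (fun g : Perm α => g (ι0 j)) hδ5
      simp only [pow_succ, pow_zero, one_mul, Perm.mul_apply, e1, Perm.one_apply] at this
      exact ι0.injective this
    have hne : ∃ j, (r : ZMod 11) * j + τ 0 ≠ j := by
      by_contra hcon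
      push Not at hcon
      have : δ = 1 := by
        ext x
        obtain ⟨j, rfl⟩ := ι0.surjective x
        rw [e1, hcon]
        rfl
      rw [this, orderOf_one] at hordδ
      omega
    obtain ⟨j0, e, -, hfix, hre⟩ := aff_lemma (r : ZMod 11) (τ 0) h5 hne
    have hd : ∀ n : ℕ, ∀ j, (δ ^ n) (ι0 (j + j0)) = ι0 ((r : ZMod 11) ^ n * j + j0) := by
      intro n
      induction n with
      | zero => intro j; simp
      | succ n ih =>
        intro j
        rw [pow_succ', Perm.mul_apply, ih, e1]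
        congr 1
        linear_combination hfix
    refine ⟨(Equiv.addRight j0).trans ι0, δ ^ e, Nat.card (Sylow 11 G), G.pow_mem hδG e, ?_, ?_,
      h3.symm, h1⟩
    · intro j
      simp only [Equiv.trans_apply, Equiv.coe_addRight]
      rw [← hι0]
      congr 1
      ring
    · intro j
      simp only [Equiv.trans_apply, Equiv.coe_addRight]
      rw [hd, hre]

/-- Transport of permutations to `ZMod 11`. -/
def pull (ι : ZMod 11 ≃ α) : Perm α ≃* Perm (ZMod 11) := ι.symm.permCongrHom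

theorem pull_apply (ι : ZMod 11 ≃ α) (g : Perm α) (x : ZMod 11) :
    pull ι g x = ι.symm (g (ι x)) := rfl

theorem sign_pull (ι : ZMod 11 ≃ α) (g : Perm α) : Perm.sign (pull ι g) = Perm.sign g :=
  Perm.sign_permCongr ι.symm g

/-- The transported group. -/
def pullG (ι : ZMod 11 ≃ α) (G : Subgroup (Perm α)) : Subgroup (Perm (ZMod 11)) :=
  G.map (pull ι).toMonoidHom

theorem mem_pullG {ι : ZMod 11 ≃ α} {G : Subgroup (Perm α)} {τ : Perm (ZMod 11)} :
    τ ∈ pullG ι G ↔ ∃ g ∈ G, pull ι g = τ := Subgroup.mem_map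

theorem card_pullG (ι : ZMod 11 ≃ α) (G : Subgroup (Perm α)) :
    Nat.card (pullG ι G) = Nat.card G :=
  Subgroup.card_map_of_injective (pull ι).injective

theorem pull_eq_of_apply {ι : ZMod 11 ≃ α} {g : Perm α} {τ : Perm (ZMod 11)}
    (h : ∀ j, g (ι j) = ι (τ j)) : pull ι g = τ := by
  ext x
  rw [pull_apply, h, Equiv.symm_apply_apply]

theorem apply_of_pull_eq {ι : ZMod 11 ≃ α} {g : Perm α} {τ : Perm (ZMod 11)}
    (h : pull ι g = τ) (j : ZMod 11) : g (ι j) = ι (τ j) := by
  rw [← h, pull_apply, Equiv.apply_symm_apply]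

theorem pullG_le_alt (ι : ZMod 11 ≃ α) {G : Subgroup (Perm α)} (hA : G ≤ alternatingGroup α) :
    pullG ι G ≤ alternatingGroup (ZMod 11) := by
  intro τ hτ
  obtain ⟨g, hg, rfl⟩ := mem_pullG.mp hτ
  rw [Perm.mem_alternatingGroup, sign_pull]
  exact Perm.mem_alternatingGroup.mp (hA hg)

theorem not_alt_le_pullG (ι : ZMod 11 ≃ α) {G : Subgroup (Perm α)}
    (hnA : ¬ alternatingGroup α ≤ G) : ¬ alternatingGroup (ZMod 11) ≤ pullG ι G := by
  intro h
  apply hnA
  intro g hg
  have h1 : pull ι g ∈ alternatingGroup (ZMod 11) := by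
    rw [Perm.mem_alternatingGroup, sign_pull]
    exact Perm.mem_alternatingGroup.mp hg
  obtain ⟨g', hg', h2⟩ := mem_pullG.mp (h h1)
  rw [← (pull ι).injective h2]
  exact hg'

/-- The normal form of a group of order `7920`. -/
def NF (G : Subgroup (Perm α)) (c0 : Perm α) : Prop :=
  ∃ (ι : ZMod 11 ≃ α) (d s : Perm α), d ∈ G ∧ s ∈ G ∧ (∀ j, c0 (ι j) = ι (j + 1)) ∧
    (∀ j, d (ι j) = ι (3 * j)) ∧ ((∀ j, s (ι j) = ι (s5 j)) ∨ (∀ j, s (ι j) = ι (s9 j)))

/-- The possible orders. -/
theorem core (hα : Fintype.card α = 11) (G : Subgroup (Perm α))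
    (hA : G ≤ alternatingGroup α) (hnA : ¬ alternatingGroup α ≤ G) {c0 : Perm α} (hc0 : c0 ∈ G)
    (hord : orderOf c0 = 11) :
    (Nat.card G = 11 ∨ Nat.card G = 55 ∨ Nat.card G = 660) ∨ (Nat.card G = 7920 ∧ NF G c0) := by
  rcases exists_coords hα G hA hc0 hord with h | ⟨ι, d, a, hd, hcι, hdι, hcard, ha⟩
  · left; left; exact h
  · have hm1 : m1 ∈ pullG ι G := mem_pullG.mpr ⟨c0, hc0, pull_eq_of_apply hcι⟩
    have hm3 : m3 ∈ pullG ι G := mem_pullG.mpr ⟨d, hd, pull_eq_of_apply hdι⟩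
    rcases part2 (pullG ι G) hm1 hm3 (pullG_le_alt ι hA) (not_alt_le_pullG ι hnA) a
      (by rw [card_pullG, hcard]) ha with h | h | ⟨h, hs⟩
    · left; right; left; rw [← card_pullG ι G]; exact h
    · left; right; right; rw [← card_pullG ι G]; exact h
    · right
      refine ⟨by rw [← card_pullG ι G]; exact h, ?_⟩
      rcases hs with hs | hs
      · obtain ⟨s, hs, hs'⟩ := mem_pullG.mp hs
        exact ⟨ι, d, s, hd, hs, hcι, hdι, Or.inl (apply_of_pull_eq hs')⟩
      · obtain ⟨s, hs, hs'⟩ := mem_pullG.mp hs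
        exact ⟨ι, d, s, hd, hs, hcι, hdι, Or.inr (apply_of_pull_eq hs')⟩

end Cfsg.Agent.Lib.Helper92.Deg11
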