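import Mathlib
import Cfsg.Agent.Lib.Helper92.Deg11Core
import Cfsg.Agent.Lib.Helper61.Zas11
import Cfsg.Agent.S0676
import Cfsg.Agent.S0144

/-!
# Degree `11`: non-solvable transitive groups not containing `A₁₁`
-/

set_option autoImplicit false
set_option linter.unusedSectionVars false

namespace Cfsg.Agent.Lib.Helper92.Deg11

open Equiv

attribute [local instance] fact11

/-- Explicit `4`-transitivity. -/
def Trans4 {β : Type*} (H : Subgroup (Perm β)) : Prop :=
  ∀ a b : Fin 4 ↪ β, ∃ h ∈ H, ∀ i, h (a i) = b i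

theorem trans4_of_chain (H : Subgroup (Perm (ZMod 11)))
    (h0 : ∀ x, ∃ g ∈ H, g 0 = x)
    (h1 : ∀ x, x ≠ 0 → ∃ g ∈ H, g 0 = 0 ∧ g 1 = x)
    (h2 : ∀ x, x ≠ 0 → x ≠ 1 → ∃ g ∈ H, g 0 = 0 ∧ g 1 = 1 ∧ g 2 = x)
    (h3 : ∀ x, x ≠ 0 → x ≠ 1 → x ≠ 2 → ∃ g ∈ H, g 0 = 0 ∧ g 1 = 1 ∧ g 2 = 2 ∧ g 3 = x) :
    Trans4 H := by
  have key : ∀ a : Fin 4 ↪ ZMod 11, ∃ g ∈ H, g 0 = a 0 ∧ g 1 = a 1 ∧ g 2 = a 2 ∧ g 3 = a 3 := by
    intro a
    have hne : ∀ i j : Fin 4, i ≠ j → a i ≠ a j := fun i j hij h => hij (a.injective h)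
    obtain ⟨g0, hg0, e0⟩ := h0 (a 0)
    obtain ⟨g1, hg1, e10, e11⟩ := h1 (g0⁻¹ (a 1)) (by
      intro h
      rw [Perm.inv_eq_iff_eq, e0] at h
      exact hne 1 0 (by decide) h)
    have e11' : g0 (g1 1) = a 1 := by rw [e11]; simp
    obtain ⟨g2, hg2, e20, e21, e22⟩ := h2 (g1⁻¹ (g0⁻¹ (a 2))) (by
      intro h
      rw [Perm.inv_eq_iff_eq, e10, Perm.inv_eq_iff_eq, e0] at h
      exact hne 2 0 (by decide) h) (by
      intro h
      rw [Perm.inv_eq_iff_eq, Perm.inv_eq_iff_eq, e11'] at h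
      exact hne 2 1 (by decide) h)
    have e22' : g0 (g1 (g2 2)) = a 2 := by rw [e22]; simp
    obtain ⟨g3, hg3, e30, e31, e32, e33⟩ := h3 (g2⁻¹ (g1⁻¹ (g0⁻¹ (a 3)))) (by
      intro h
      rw [Perm.inv_eq_iff_eq, e20, Perm.inv_eq_iff_eq, e10, Perm.inv_eq_iff_eq, e0] at h
      exact hne 3 0 (by decide) h) (by
      intro h
      rw [Perm.inv_eq_iff_eq, e21, Perm.inv_eq_iff_eq, Perm.inv_eq_iff_eq, e11'] at h
      exact hne 3 1 (by decide) h) (by
      intro h
      rw [Perm.inv_eq_iff_eq, Perm.inv_eq_iff_eq, Perm.inv_eq_iff_eq, e22'] at h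
      exact hne 3 2 (by decide) h)
    refine ⟨g0 * g1 * g2 * g3, H.mul_mem (H.mul_mem (H.mul_mem hg0 hg1) hg2) hg3, ?_, ?_, ?_, ?_⟩
    · simp only [Perm.mul_apply]
      rw [e30, e20, e10, e0]
    · simp only [Perm.mul_apply]
      rw [e31, e21, e11']
    · simp only [Perm.mul_apply]
      rw [e32, e22']
    · simp only [Perm.mul_apply]
      rw [e33]
      simp
  intro a b
  obtain ⟨ga, hga, a0, a1, a2, a3⟩ := key a
  obtain ⟨gb, hgb, b0, b1, b2, b3⟩ := key b
  refine ⟨gb * ga⁻¹, H.mul_mem hgb (H.inv_mem hga), ?_⟩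
  intro i
  rw [Perm.mul_apply]
  fin_cases i
  · rw [show a ⟨0, by decide⟩ = ga 0 from a0.symm, show ga⁻¹ (ga 0) = 0 by simp]; exact b0
  · rw [show a ⟨1, by decide⟩ = ga 1 from a1.symm, show ga⁻¹ (ga 1) = 1 by simp]; exact b1
  · rw [show a ⟨2, by decide⟩ = ga 2 from a2.symm, show ga⁻¹ (ga 2) = 2 by simp]; exact b2
  · rw [show a ⟨3, by decide⟩ = ga 3 from a3.symm, show ga⁻¹ (ga 3) = 3 by simp]; exact b3

theorem trans4_of_s5 (H : Subgroup (Perm (ZMod 11))) (hm1 : m1 ∈ H) (hm3 : m3 ∈ H)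
    (hs : s5 ∈ H) : Trans4 H := by
  have hg : ∀ k, gens5 k ∈ H := by
    intro k
    fin_cases k
    · exact hm1
    · exact hm3
    · exact hs
  refine trans4_of_chain H (fun x => exists_apply_eq H hm1 0 x) ?_ ?_ ?_
  · intro x hx
    obtain ⟨w, -, hw⟩ := trans1_5 x hx
    exact ⟨_, wordPerm_mem H gens5 hg w, hw⟩
  · intro x hx0 hx1
    obtain ⟨w, -, hw⟩ := trans2_5 x hx0 hx1
    exact ⟨_, wordPerm_mem H gens5 hg w, hw⟩
  · intro x hx0 hx1 hx2
    obtain ⟨w, -, hw⟩ := trans3_5 x hx0 hx1 hx2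
    exact ⟨_, wordPerm_mem H gens5 hg w, hw⟩

theorem trans4_of_s9 (H : Subgroup (Perm (ZMod 11))) (hm1 : m1 ∈ H) (hm3 : m3 ∈ H)
    (hs : s9 ∈ H) : Trans4 H := by
  have hg : ∀ k, gens9 k ∈ H := by
    intro k
    fin_cases k
    · exact hm1
    · exact hm3
    · exact hs
  refine trans4_of_chain H (fun x => exists_apply_eq H hm1 0 x) ?_ ?_ ?_
  · intro x hx
    obtain ⟨w, -, hw⟩ := trans1_9 x hx
    exact ⟨_, wordPerm_mem H gens9 hg w, hw⟩
  · intro x hx0 hx1
    obtain ⟨w, -, hw⟩ := trans2_9 x hx0 hx1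
    exact ⟨_, wordPerm_mem H gens9 hg w, hw⟩
  · intro x hx0 hx1 hx2
    obtain ⟨w, -, hw⟩ := trans3_9 x hx0 hx1 hx2
    exact ⟨_, wordPerm_mem H gens9 hg w, hw⟩

variable {α : Type*} [Fintype α] [DecidableEq α]

theorem trans4_of_pullG (ι : ZMod 11 ≃ α) (G : Subgroup (Perm α)) (h : Trans4 (pullG ι G)) :
    Trans4 G := by
  intro a b
  obtain ⟨τ, hτ, hab⟩ := h (a.trans ι.symm.toEmbedding) (b.trans ι.symm.toEmbedding)
  obtain ⟨g, hg, rfl⟩ := mem_pullG.mp hτ
  refine ⟨g, hg, fun i => ?_⟩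
  have := hab i
  simp only [Function.Embedding.trans_apply, Equiv.coe_toEmbedding, pull_apply,
    Equiv.apply_symm_apply] at this
  exact ι.symm.injective this

theorem isMultiplyPretransitive_of_trans4 (G : Subgroup (Perm α)) (h : Trans4 G) :
    MulAction.IsMultiplyPretransitive G α 4 := by
  refine ⟨fun x y => ?_⟩
  obtain ⟨g, hg, hxy⟩ := h x y
  refine ⟨⟨g, hg⟩, ?_⟩
  ext i
  exact hxy i

/-- Sharpness from the order. -/
theorem sharp_of_card (hα : Fintype.card α = 11) (G : Subgroup (Perm α))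
    [h4 : MulAction.IsMultiplyPretransitive G α 4] (hcard : Nat.card G = 7920)
    (e : Fin 4 ↪ α) : MulAction.stabilizer G e = ⊥ := by
  have h1 := MulAction.index_stabilizer G e
  have h2 : MulAction.orbit G e = Set.univ := by
    rw [Set.eq_univ_iff_forall]
    intro e'
    obtain ⟨g, hg⟩ := h4.exists_smul_eq e e'
    exact ⟨g, hg⟩
  have key : (MulAction.orbit G e).ncard = 7920 := by
    rw [h2, Set.ncard_univ, Nat.card_eq_fintype_card, Fintype.card_embedding_eq, hα,
      Fintype.card_fin]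
    decide
  have h1' : (MulAction.stabilizer G e).index = 7920 := h1.trans key
  have h3 := (MulAction.stabilizer G e).card_mul_index
  rw [h1', hcard] at h3
  apply Subgroup.eq_bot_of_card_eq
  omega

theorem sharp4_of_NF (hα : Fintype.card α = 11) (G : Subgroup (Perm α)) {c0 : Perm α}
    (hc0 : c0 ∈ G) (hcard : Nat.card G = 7920) (hNF : NF G c0) :
    MulAction.IsMultiplyPretransitive G α 4 ∧
      ∀ x : Fin 4 ↪ α, MulAction.stabilizer G x = ⊥ := by
  obtain ⟨ι, d, s, hd, hs, hcι, hdι, hsι⟩ := hNF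
  have hm1 : m1 ∈ pullG ι G := mem_pullG.mpr ⟨c0, hc0, pull_eq_of_apply hcι⟩
  have hm3 : m3 ∈ pullG ι G := mem_pullG.mpr ⟨d, hd, pull_eq_of_apply hdι⟩
  have ht : Trans4 (pullG ι G) := by
    rcases hsι with h | h
    · exact trans4_of_s5 _ hm1 hm3 (mem_pullG.mpr ⟨s, hs, pull_eq_of_apply h⟩)
    · exact trans4_of_s9 _ hm1 hm3 (mem_pullG.mpr ⟨s, hs, pull_eq_of_apply h⟩)
  have h4 := isMultiplyPretransitive_of_trans4 G (trans4_of_pullG ι G ht)
  exact ⟨h4, fun x => sharp_of_card hα G hcard x⟩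

/-! ### Simplicity in order `660` -/

/-- A non-solvable transitive group of even permutations of degree `11` and order `660` not
containing the alternating group is simple. -/
theorem isSimpleGroup_of_card_660 (hα : Fintype.card α = 11) (G : Subgroup (Perm α))
    [MulAction.IsPretransitive G α] (hA : G ≤ alternatingGroup α)
    (hnA : ¬ alternatingGroup α ≤ G) (hns : ¬ Group.IsSolvable G) (hcard : Nat.card G = 660) :
    IsSimpleGroup G := by
  have hnt : Nontrivial G := by
    rw [← Finite.one_lt_card_iff_nontrivial, hcard]; norm_num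
  refine { toNontrivial := hnt, eq_bot_or_eq_top_of_normal := fun M hM => ?_ }
  rcases Cfsg.Agent.Lib.Helper12.normal_eq_bot_or_dvd_card hα G M with h | h11
  · exact Or.inl h
  right
  have hM'card : Nat.card (M.map G.subtype) = Nat.card M :=
    Subgroup.card_map_of_injective G.subtype_injective
  have hM'le : M.map G.subtype ≤ G := by
    rintro _ ⟨g, -, rfl⟩
    exact g.2
  obtain ⟨c1, hc1, hord1⟩ := Cfsg.Agent.Lib.Helper92.PermCount.exists_orderOf_eq_prime
    (M.map G.subtype) 11 (by rw [hM'card]; exact h11)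
  have hdvd : Nat.card M ∣ 660 := by
    rw [← hcard]; exact Subgroup.card_subgroup_dvd_card M
  have hcases := core hα (M.map G.subtype) (hM'le.trans hA) (fun h => hnA (h.trans hM'le)) hc1 hord1
  rw [hM'card] at hcases
  rcases hcases with (h | h | h) | ⟨h, -⟩
  · -- order `11`: a normal Sylow subgroup
    exfalso
    have hp : IsPGroup 11 M := IsPGroup.of_card (n := 1) (by rw [h]; norm_num)
    obtain ⟨P, hP⟩ := hp.exists_le_sylow
    have hPcard := Cfsg.Agent.Lib.Helper12.card_sylow_eq hα G P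
    have hMP : M = (P : Subgroup G) :=
      Subgroup.eq_of_le_of_card_ge hP (by rw [hPcard, h])
    have hPn : (P : Subgroup G).Normal := hMP ▸ hM
    have h1 := Cfsg.Agent.Lib.Helper12.card_normalizer_dvd hα G P
    rw [Subgroup.normalizer_eq_top_iff.mpr hPn, Subgroup.card_top, hcard] at h1
    exact absurd h1 (by decide)
  · -- order `55`: solvable by solvable
    exfalso
    apply hns
    have hs1 : Group.IsSolvable M :=
      Cfsg.Agent.S0144.result 5 11 1 1 (by norm_num) (by norm_num) (by rw [h]; norm_num)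
    have hq : Nat.card (G ⧸ M) = 12 := by
      have := Subgroup.card_eq_card_quotient_mul_card_subgroup M
      rw [hcard, h] at this
      omega
    have hs2 : Group.IsSolvable (G ⧸ M) :=
      Cfsg.Agent.S0144.result 2 3 2 1 (by norm_num) (by norm_num) (by rw [hq]; norm_num)
    exact Group.isSolvable_of_ker_le_range M.subtype (QuotientGroup.mk' M) (by simp)
  · exact Subgroup.eq_top_of_card_eq M (by rw [h, hcard])
  · exfalso
    rw [h] at hdvd
    exact absurd hdvd (by decide)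

/-! ### Reduction to even permutations -/

/-- A `3`-transitive group of degree `11` has order divisible by `990`. -/
theorem dvd_card_of_three (hα : Fintype.card α = 11) (G : Subgroup (Perm α))
    [h3 : MulAction.IsMultiplyPretransitive G α 3] : 990 ∣ Nat.card G := by
  obtain ⟨e⟩ : Nonempty (Fin 3 ↪ α) :=
    Function.Embedding.nonempty_of_card_le (by rw [hα, Fintype.card_fin]; norm_num)
  have h1 := MulAction.index_stabilizer G e
  have h2 : MulAction.orbit G e = Set.univ := by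
    rw [Set.eq_univ_iff_forall]
    intro e'
    obtain ⟨g, hg⟩ := h3.exists_smul_eq e e'
    exact ⟨g, hg⟩
  have key : (MulAction.orbit G e).ncard = 990 := by
    rw [h2, Set.ncard_univ, Nat.card_eq_fintype_card, Fintype.card_embedding_eq, hα,
      Fintype.card_fin]
    decide
  have h1' : (MulAction.stabilizer G e).index = 990 := h1.trans key
  have := (MulAction.stabilizer G e).index_dvd_card
  rwa [h1'] at this

/-- The even part has index `2` in a group containing an odd permutation. -/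
theorem card_eq_two_mul (hα : Fintype.card α = 11) (G : Subgroup (Perm α))
    (hGA : ¬ G ≤ alternatingGroup α) :
    Nat.card G = 2 * Nat.card (G ⊓ alternatingGroup α : Subgroup (Perm α)) := by
  have hnt : Nontrivial α := Fintype.one_lt_card_iff_nontrivial.mp (by rw [hα]; norm_num)
  have h1 : (alternatingGroup α).relIndex G ∣ 2 := by
    rw [← alternatingGroup.index_eq_two (α := α)]
    exact Subgroup.relIndex_dvd_index_of_normal _ _
  have h2 : (alternatingGroup α).relIndex G ≠ 1 := by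
    rw [Ne, Subgroup.relIndex_eq_one]; exact hGA
  have h3 : (alternatingGroup α).relIndex G = 2 := by
    rcases (Nat.dvd_prime Nat.prime_two).mp h1 with h | h
    · exact absurd h h2
    · exact h
  have h4 : (G ⊓ alternatingGroup α).relIndex G = 2 := by rw [Subgroup.inf_relIndex_left, h3]
  have h5 := Subgroup.relIndex_mul_relIndex (H := ⊥) (K := G ⊓ alternatingGroup α) (L := G)
    bot_le inf_le_left
  rw [Subgroup.relIndex_bot_left, Subgroup.relIndex_bot_left, h4] at h5
  omega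

/-- An involution normalising a given subgroup of order `11`. -/
theorem exists_involution (hα : Fintype.card α = 11) (G : Subgroup (Perm α))
    [MulAction.IsPretransitive G α] {c0 : Perm α} (hc0 : c0 ∈ G) (hord : orderOf c0 = 11)
    (P : Sylow 11 G) (hP : (⟨c0, hc0⟩ : G) ∈ (P : Subgroup G))
    (heven : Even (Nat.card (Subgroup.normalizer ((P : Subgroup G) : Set G)))) :
    ∃ t ∈ G, t * t = 1 ∧ t ≠ 1 ∧ ∃ k : ℕ, t * c0 = c0 ^ k * t := by
  have hPcard : Nat.card P = 11 := Cfsg.Agent.Lib.Helper12.card_sylow_eq hα G P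
  have : Fact (Nat.Prime 2) := ⟨Nat.prime_two⟩
  obtain ⟨tN, htN⟩ := exists_prime_orderOf_dvd_card'
    (G := Subgroup.normalizer ((P : Subgroup G) : Set G)) 2 heven.two_dvd
  have htN2 : tN * tN = 1 := by
    have := pow_orderOf_eq_one tN
    rwa [htN, pow_two] at this
  have htN1 : tN ≠ 1 := by
    intro h1
    rw [h1, orderOf_one] at htN
    omega
  have hgen : ∀ y : P, y ∈ Subgroup.zpowers (⟨⟨c0, hc0⟩, hP⟩ : P) := by
    intro y
    apply mem_zpowers_of_prime_card hPcard
    intro h1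
    have h2 : c0 = 1 := congrArg (fun z : P => ((z : G) : Perm α)) h1
    rw [h2, orderOf_one] at hord
    omega
  have hconj : (tN : G) * ⟨c0, hc0⟩ * (tN : G)⁻¹ ∈ (P : Subgroup G) := by
    have hmemN := tN.2
    rw [Subgroup.mem_normalizer_iff] at hmemN
    exact (hmemN _).mp hP
  have hz := hgen ⟨_, hconj⟩
  have hfo : IsOfFinOrder (⟨⟨c0, hc0⟩, hP⟩ : P) := isOfFinOrder_of_finite _
  rw [← hfo.mem_powers_iff_mem_zpowers, Submonoid.mem_powers_iff] at hz
  obtain ⟨k, hk⟩ := hz
  have hk' : c0 ^ k = ((tN : G) : Perm α) * c0 * ((tN : G) : Perm α)⁻¹ :=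
    congrArg (fun z : P => ((z : G) : Perm α)) hk
  refine ⟨((tN : G) : Perm α), (tN : G).2, ?_, ?_, k, ?_⟩
  · exact congrArg (fun z : Subgroup.normalizer ((P : Subgroup G) : Set G) =>
      ((z : G) : Perm α)) htN2
  · intro h1
    apply htN1
    apply Subtype.ext
    apply Subtype.ext
    exact h1
  · rw [hk']
    group

/-- A transitive non-solvable group of degree `11` not containing the alternating group consists
of even permutations. -/
theorem le_alt (hα : Fintype.card α = 11) (G : Subgroup (Perm α))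
    [MulAction.IsPretransitive G α] (hns : ¬ Group.IsSolvable G)
    (hnA : ¬ alternatingGroup α ≤ G) : G ≤ alternatingGroup α := by
  by_contra hGA
  obtain ⟨a0⟩ : Nonempty α := by
    rw [← Fintype.card_pos_iff, hα]; norm_num
  have h11 : 11 ∣ Nat.card G := by
    rw [Cfsg.Agent.Lib.Helper12.card_eq_mul_card_stabilizer hα G a0]
    exact dvd_mul_right _ _
  obtain ⟨c0, hc0, hord⟩ := Cfsg.Agent.Lib.Helper92.PermCount.exists_orderOf_eq_prime G 11 h11
  have hc0A : c0 ∈ alternatingGroup α := by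
    rw [Perm.mem_alternatingGroup]
    have h1 : Perm.sign c0 ^ 11 = 1 := by
      rw [← map_pow, ← hord, pow_orderOf_eq_one, map_one]
    rcases Int.units_eq_one_or (Perm.sign c0) with h | h
    · exact h
    · rw [h] at h1
      exact absurd h1 (by decide)
  obtain ⟨G0, hG0⟩ : ∃ G0 : Subgroup (Perm α), G0 = G ⊓ alternatingGroup α := ⟨_, rfl⟩
  have hc0G0 : c0 ∈ G0 := by rw [hG0]; exact ⟨hc0, hc0A⟩
  have hG0A : G0 ≤ alternatingGroup α := by rw [hG0]; exact inf_le_right
  have hG0G : G0 ≤ G := by rw [hG0]; exact inf_le_left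
  have hnA0 : ¬ alternatingGroup α ≤ G0 := fun h => hnA (h.trans hG0G)
  have hcard2 : Nat.card G = 2 * Nat.card G0 := by
    rw [hG0]; exact card_eq_two_mul hα G hGA
  have hns0 : ¬ Group.IsSolvable G0 := by
    intro hs
    apply hns
    exact Group.isSolvable_of_ker_le_range (Subgroup.inclusion hG0G)
      ((Perm.sign).comp G.subtype) (by
        intro x hx
        rw [MonoidHom.mem_ker, MonoidHom.comp_apply] at hx
        have hx0 : (x : Perm α) ∈ G0 := by
          rw [hG0]
          exact ⟨x.2, Perm.mem_alternatingGroup.mpr hx⟩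
        exact ⟨⟨x, hx0⟩, rfl⟩)
  -- the Sylow subgroup
  have hp : IsPGroup 11 (Subgroup.zpowers (⟨c0, hc0⟩ : G)) := by
    apply IsPGroup.of_card (n := 1)
    rw [Nat.card_zpowers, Subgroup.orderOf_mk, hord, pow_one]
  obtain ⟨P, hPle⟩ := hp.exists_le_sylow
  have hP : (⟨c0, hc0⟩ : G) ∈ (P : Subgroup G) := hPle (Subgroup.mem_zpowers _)
  have hN1 := Cfsg.Agent.Lib.Helper12.card_normalizer_dvd hα G P
  have hN2 := Cfsg.Agent.Lib.Helper12.dvd_card_normalizer hα G P
  have hN3 : Nat.card (Sylow 11 G) = (Subgroup.normalizer ((P : Subgroup G) : Set G)).index :=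
    Sylow.card_eq_index_normalizer P
  have hN4 : Nat.card (Sylow 11 G) % 11 = 1 := card_sylow_modEq_one 11 G
  have hN5 := (Subgroup.normalizer ((P : Subgroup G) : Set G)).card_mul_index
  rw [← hN3] at hN5
  -- the even part
  have hcases := core hα G0 hG0A hnA0 hc0G0 hord
  have heven : Nat.card G0 = 660 ∨ Nat.card G0 = 7920 →
      Even (Nat.card (Subgroup.normalizer ((P : Subgroup G) : Set G))) := by
    intro h0
    obtain ⟨k, hk⟩ := hN2
    rw [hk] at hN1 hN5 ⊢
    have hk10 : k ∣ 10 := Nat.dvd_of_mul_dvd_mul_left (by norm_num : 0 < 11) hN1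
    have hkle : k ≤ 10 := Nat.le_of_dvd (by norm_num) hk10
    have hkpos : 0 < k := Nat.pos_of_dvd_of_pos hk10 (by norm_num)
    rw [hcard2] at hN5
    interval_cases k
    · rcases h0 with h0 | h0 <;> (rw [h0] at hN5; omega)
    · exact ⟨11, by norm_num⟩
    · omega
    · omega
    · rcases h0 with h0 | h0 <;> (rw [h0] at hN5; omega)
    · omega
    · omega
    · omega
    · omega
    · exact ⟨55, by norm_num⟩
  rcases hcases with (h | h | h) | ⟨h, hNF⟩
  · apply hns0
    exact Cfsg.Agent.S0144.result 11 2 1 0 (by norm_num) (by norm_num) (by rw [h]; norm_num)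
  · apply hns0
    exact Cfsg.Agent.S0144.result 5 11 1 1 (by norm_num) (by norm_num) (by rw [h]; norm_num)
  · have h3 := Cfsg.Agent.S0676.result hα G hns P (heven (Or.inl h))
    have h990 := dvd_card_of_three hα G
    rw [hcard2, h] at h990
    exact absurd h990 (by decide)
  · obtain ⟨t, ht, ht2, ht1, k, hk⟩ := exists_involution hα G hc0 hord P hP (heven (Or.inr h))
    obtain ⟨ι, d, s, hd, hs, hcι, hdι, hsι⟩ := hNF
    obtain ⟨c, hc⟩ := Cfsg.Agent.Lib.Helper12.involution_normalizing (by norm_num) c0 t ι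
      (fun j => (hcι j).symm) ht2 ht1 k hk
    have hprim := isPreprimitive_of_m1 (pullG ι G)
      (mem_pullG.mpr ⟨c0, hc0, pull_eq_of_apply hcι⟩)
    have hm1 : m1 ∈ pullG ι G := mem_pullG.mpr ⟨c0, hc0, pull_eq_of_apply hcι⟩
    have hneg : neg ∈ pullG ι G := by
      refine mem_pullG.mpr ⟨t * c0 ^ c.val, G.mul_mem ht (G.pow_mem hc0 _), pull_eq_of_apply ?_⟩
      intro j
      rw [Perm.mul_apply, Cfsg.Agent.Lib.Helper12.cycle_param_pow c0 ι (fun j => (hcι j).symm),
        hc, ZMod.natCast_zmod_val, neg_apply]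
      congr 1
      ring
    have hnA' := not_alt_le_pullG ι hnA
    rcases hsι with h5 | h9
    · have hs5 : s5 ∈ pullG ι G := mem_pullG.mpr ⟨s, hG0G hs, pull_eq_of_apply h5⟩
      exact not_isBadFn_of_mem (pullG ι G) hprim hnA'
        ((pullG ι G).mul_mem ((pullG ι G).mul_mem hneg hs5) hm1) bad5_neg
    · have hs9 : s9 ∈ pullG ι G := mem_pullG.mpr ⟨s, hG0G hs, pull_eq_of_apply h9⟩
      exact not_isBadFn_of_mem (pullG ι G) hprim hnA'
        ((pullG ι G).mul_mem ((pullG ι G).mul_mem hs9 hneg) hm1) bad9_neg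

/-- **Transitive groups of degree `11`.** -/
theorem main (hα : Fintype.card α = 11) (G : Subgroup (Perm α))
    [MulAction.IsPretransitive G α] (hns : ¬ Group.IsSolvable G)
    (hnA : ¬ alternatingGroup α ≤ G) :
    (MulAction.IsMultiplyPretransitive G α 4 ∧ ∀ x : Fin 4 ↪ α, MulAction.stabilizer G x = ⊥) ∨
      Nonempty (G ≃* Matrix.ProjectiveSpecialLinearGroup (Fin 2) (ZMod 11)) := by
  have hA := le_alt hα G hns hnA
  obtain ⟨a0⟩ : Nonempty α := by
    rw [← Fintype.card_pos_iff, hα]; norm_num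
  have h11 : 11 ∣ Nat.card G := by
    rw [Cfsg.Agent.Lib.Helper12.card_eq_mul_card_stabilizer hα G a0]
    exact dvd_mul_right _ _
  obtain ⟨c0, hc0, hord⟩ := Cfsg.Agent.Lib.Helper92.PermCount.exists_orderOf_eq_prime G 11 h11
  rcases core hα G hA hnA hc0 hord with (h | h | h) | ⟨h, hNF⟩
  · exfalso
    apply hns
    exact Cfsg.Agent.S0144.result 11 2 1 0 (by norm_num) (by norm_num) (by rw [h]; norm_num)
  · exfalso
    apply hns
    exact Cfsg.Agent.S0144.result 5 11 1 1 (by norm_num) (by norm_num) (by rw [h]; norm_num)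
  · right
    have := isSimpleGroup_of_card_660 hα G hA hnA hns h
    exact Cfsg.Agent.Lib.Helper61.Zas.iso_of_card_660 h (ZMod.card 11)
  · left
    exact sharp4_of_NF hα G hc0 h hNF

end Cfsg.Agent.Lib.Helper92.Deg11
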