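import Mathlib
import Cfsg.Agent.Lib.Helper92.Deg13a

/-!
# Degree `13`: multiple transitivity and the order

A primitive group of degree `13` containing an `11`-cycle is `3`-transitive; a `3`-transitive group
of even permutations of degree `13` has order divisible by `5`.
-/

set_option autoImplicit false
set_option linter.unusedSectionVars false

namespace Cfsg.Agent.Lib.Helper92.Deg13

open Equiv Cfsg.Agent.Lib.Helper92.SmallDeg

variable {β : Type*} [Fintype β] [DecidableEq β]

/-- Explicit `3`-transitivity. -/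
def T3 (G : Subgroup (Perm β)) : Prop :=
  ∀ a b c a' b' c' : β, a ≠ b → a ≠ c → b ≠ c → a' ≠ b' → a' ≠ c' → b' ≠ c' →
    ∃ g ∈ G, g a = a' ∧ g b = b' ∧ g c = c'

/-- The embedding of `Fin 3` given by three distinct points. -/
def emb3 (a b c : β) (hab : a ≠ b) (hac : a ≠ c) (hbc : b ≠ c) : Fin 3 ↪ β where
  toFun := ![a, b, c]
  inj' := by
    intro i j hij
    fin_cases i <;> fin_cases j <;> simp_all

theorem t3_of (G : Subgroup (Perm β)) (h : MulAction.IsMultiplyPretransitive G β 3) : T3 G := by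
  intro a b c a' b' c' hab hac hbc hab' hac' hbc'
  obtain ⟨g, hg⟩ := h.exists_smul_eq (emb3 a b c hab hac hbc) (emb3 a' b' c' hab' hac' hbc')
  refine ⟨g.1, g.2, ?_, ?_, ?_⟩
  · have := congrArg (fun f : Fin 3 ↪ β => f 0) hg
    simp only [Function.Embedding.smul_apply, Subgroup.smul_def, Perm.smul_def] at this
    exact this
  · have := congrArg (fun f : Fin 3 ↪ β => f 1) hg
    simp only [Function.Embedding.smul_apply, Subgroup.smul_def, Perm.smul_def] at this
    exact this
  · have := congrArg (fun f : Fin 3 ↪ β => f 2) hg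
    simp only [Function.Embedding.smul_apply, Subgroup.smul_def, Perm.smul_def] at this
    exact this

/-- Jordan: a primitive group of degree `13` containing an `11`-cycle is `3`-transitive. -/
theorem t3_of_cycle (hβ : Fintype.card β = 13) (G : Subgroup (Perm β))
    (hprim : MulAction.IsPreprimitive G β) {x : Perm β} (hx : x ∈ G) (hc : x.IsCycle)
    (hs : x.support.card = 11) : T3 G := by
  classical
  apply t3_of
  have hsc : Set.ncard ((x.support)ᶜ : Set β) = 1 + 1 := by
    apply Nat.add_left_cancel (n := (x.support : Set β).ncard)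
    rw [Set.ncard_add_ncard_compl, Set.ncard_coe_finset, hs, Nat.card_eq_fintype_card, hβ]
  have h3 : MulAction.IsMultiplyPreprimitive G β (1 + 2) := by
    apply hprim.isMultiplyPreprimitive hsc
    · rw [Nat.card_eq_fintype_card, hβ]; norm_num
    have := Perm.isPretransitive_of_isCycle_mem hc hx
    apply MulAction.IsPreprimitive.of_prime_card
    have h11 : Nat.Prime 11 := by norm_num
    convert h11
    rw [Nat.card_eq_fintype_card, Fintype.card_subtype, ← hs]
    congr 1
    ext a
    simp [SubMulAction.mem_ofFixingSubgroup_iff]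
  exact MulAction.IsMultiplyPreprimitive.isMultiplyPretransitive G β 3

theorem exists_notMem (S : Finset β) (h : S.card < Fintype.card β) : ∃ c, c ∉ S := by
  by_contra hno
  push Not at hno
  have : S = Finset.univ := Finset.eq_univ_iff_forall.mpr hno
  rw [this, Finset.card_univ] at h
  omega

/-- `2`-transitivity from `3`-transitivity. -/
theorem t2_of_t3 (hβ : 3 ≤ Fintype.card β) {G : Subgroup (Perm β)} (h3 : T3 G)
    {u v u' v' : β} (huv : u ≠ v) (huv' : u' ≠ v') : ∃ g ∈ G, g u = u' ∧ g v = v' := by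
  obtain ⟨w, hw⟩ := exists_notMem ({u, v} : Finset β)
    (lt_of_le_of_lt (Finset.card_le_two) (by omega))
  obtain ⟨w', hw'⟩ := exists_notMem ({u', v'} : Finset β)
    (lt_of_le_of_lt (Finset.card_le_two) (by omega))
  simp only [Finset.mem_insert, Finset.mem_singleton, not_or] at hw hw'
  obtain ⟨g, hg, h1, h2, -⟩ := h3 u v w u' v' w' huv (Ne.symm hw.1) (Ne.symm hw.2) huv'
    (Ne.symm hw'.1) (Ne.symm hw'.2)
  exact ⟨g, hg, h1, h2⟩

/-- Transitivity from `3`-transitivity. -/
theorem t1_of_t3 (hβ : 3 ≤ Fintype.card β) {G : Subgroup (Perm β)} (h3 : T3 G)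
    (u u' : β) : ∃ g ∈ G, g u = u' := by
  obtain ⟨v, hv⟩ := exists_notMem ({u} : Finset β) (by rw [Finset.card_singleton]; omega)
  obtain ⟨v', hv'⟩ := exists_notMem ({u'} : Finset β) (by rw [Finset.card_singleton]; omega)
  rw [Finset.mem_singleton] at hv hv'
  obtain ⟨g, hg, h1, -⟩ := t2_of_t3 hβ h3 (Ne.symm hv) (Ne.symm hv')
  exact ⟨g, hg, h1⟩

/-- A `3`-transitive group of even permutations of degree `13` has order divisible by `5`. -/
theorem five_dvd_card (hβ : Fintype.card β = 13) (G : Subgroup (Perm β))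
    (hA : G ≤ alternatingGroup β) (h3 : T3 G) : 5 ∣ Nat.card G := by
  by_contra h5
  have hβ3 : 3 ≤ Fintype.card β := by rw [hβ]; norm_num
  obtain ⟨a, b, hab⟩ := Fintype.one_lt_card_iff.mp (by rw [hβ]; norm_num : 1 < Fintype.card β)
  -- the point stabilizer
  have htr : ∀ u v : β, ∃ g ∈ G, g u = v := t1_of_t3 hβ3 h3
  have hcardG := card_eq_mul_stb G htr a
  rw [hβ, ← card_range_stbRes] at hcardG
  set L := (stbRes G a).range with hL
  have hLA : L ≤ alternatingGroup {c // c ≠ a} := range_stbRes_le_alt G a hA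
  have hX : Fintype.card {c // c ≠ a} = 12 := by rw [card_subtype_ne, hβ]
  -- lifting elements of `G` fixing `a`
  have lift : ∀ g ∈ G, g a = a → ∃ k ∈ L, ∀ c : {c // c ≠ a}, ((k c : {c // c ≠ a}) : β) = g c := by
    intro g hg hga
    exact ⟨stbRes G a ⟨g, mem_stb.mpr ⟨hg, hga⟩⟩, ⟨_, rfl⟩, fun c => rfl⟩
  have hL2 : ∀ c d c' d' : {c // c ≠ a}, c ≠ d → c' ≠ d' → ∃ k ∈ L, k c = c' ∧ k d = d' := by
    intro c d c' d' hcd hcd'
    obtain ⟨g, hg, h1, h2, h3'⟩ := h3 a c d a c' d' (Ne.symm c.2) (Ne.symm d.2)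
      (fun h => hcd (Subtype.ext h)) (Ne.symm c'.2) (Ne.symm d'.2) (fun h => hcd' (Subtype.ext h))
    obtain ⟨k, hk, hkc⟩ := lift g hg h1
    exact ⟨k, hk, Subtype.ext ((hkc c).trans h2), Subtype.ext ((hkc d).trans h3')⟩
  have hL2' : MulAction.IsMultiplyPretransitive L {c // c ≠ a} 2 := by
    rw [MulAction.is_two_pretransitive_iff]
    intro c d c' d' hcd hcd'
    obtain ⟨k, hk, h1, h2⟩ := hL2 c d c' d' hcd hcd'
    exact ⟨⟨k, hk⟩, h1, h2⟩
  have hLtr : ∀ c c' : {c // c ≠ a}, ∃ k ∈ L, k c = c' := by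
    intro c c'
    obtain ⟨g, hg, h1, h2⟩ := t2_of_t3 hβ3 h3 (Ne.symm c.2) (Ne.symm c'.2)
    obtain ⟨k, hk, hkc⟩ := lift g hg h1
    exact ⟨k, hk, Subtype.ext ((hkc c).trans h2)⟩
  -- the two-point stabilizer
  set b' : {c // c ≠ a} := ⟨b, Ne.symm hab⟩ with hb'
  have hcardL := card_eq_mul_stb L hLtr b'
  rw [hX, ← card_range_stbRes] at hcardL
  set K := (stbRes L b').range with hK
  have hKA : K ≤ alternatingGroup {c // c ≠ b'} := range_stbRes_le_alt L b' hLA
  have hY : Fintype.card {c // c ≠ b'} = 11 := by rw [card_subtype_ne, hX]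
  have hKtr : MulAction.IsPretransitive K {c // c ≠ b'} := by
    apply isPretransitive_stbRes
    intro c d hc hd
    obtain ⟨g, hg, h1, h2, h3'⟩ := h3 a b c a b d hab (Ne.symm c.2)
      (fun h => hc (Subtype.ext h.symm)) hab (Ne.symm d.2) (fun h => hd (Subtype.ext h.symm))
    obtain ⟨k, hk, hkc⟩ := lift g hg h1
    refine ⟨k, mem_stb.mpr ⟨hk, Subtype.ext ((hkc b').trans h2)⟩, Subtype.ext ((hkc c).trans h3')⟩
  have hK5 : ¬ 5 ∣ Nat.card K := by
    intro h
    apply h5
    rw [hcardG, hcardL]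
    exact Dvd.dvd.mul_left (Dvd.dvd.mul_left h 12) 13
  have hK11 := card_eq_eleven hY K hKA hK5
  rw [hK11] at hcardL
  exact false_of_card_132 hX L (by rw [hcardL])

end Cfsg.Agent.Lib.Helper92.Deg13
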