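import Mathlib
import Cfsg.Agent.S0713
import Cfsg.Agent.Lib.Helper92.PermCount
import Cfsg.Agent.Lib.Helper92.Deg13b

/-!
# Degree `13`: a `3`-transitive group of order divisible by `5` contains the alternating group

If `t` has order `5` and is not a `5`-cycle, it has exactly three fixed points; by a Sylow argument
the normalizer of `⟨t⟩` induces the full symmetric group on them, so the centralizer of `t` contains
an element inducing a `3`-cycle there; a power of it is a `3`-cycle.
-/

set_option autoImplicit false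
set_option linter.unusedSectionVars false

namespace Cfsg.Agent.Lib.Helper92.Deg13

open Equiv Cfsg.Agent.Lib.Helper92.PermCount

variable {β : Type*} [Fintype β] [DecidableEq β]

theorem card_support_add_card_fixIn (g : Perm β) :
    g.support.card + (fixIn g Finset.univ).card = Fintype.card β := by
  have h1 : g.support = Finset.univ.filter fun x => ¬ g x = x := by
    ext x
    simp
  rw [h1, fixIn, add_comm, Finset.card_filter_add_card_filter_not, Finset.card_univ]

/-- An element of order `5` in degree `13` is a `5`-cycle or has exactly three fixed points. -/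
theorem card_fixIn_of_orderOf_five (hβ : Fintype.card β = 13) {g : Perm β} (hg : orderOf g = 5) :
    (g.IsCycle ∧ g.support.card = 5) ∨ (fixIn g Finset.univ).card = 3 := by
  have : Fact (Nat.Prime 5) := ⟨by norm_num⟩
  have h1 := card_fixIn_modEq (p := 5) g (by rw [← hg]; exact pow_orderOf_eq_one g) Finset.univ
    (fun x => by simp)
  rw [Finset.card_univ, hβ] at h1
  have h2 := card_support_add_card_fixIn g
  rw [hβ] at h2
  unfold Nat.ModEq at h1
  have h3 : g.support.card ≠ 0 := by
    intro h
    rw [Finset.card_eq_zero, Perm.support_eq_empty_iff] at h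
    rw [h, orderOf_one] at hg
    omega
  have hcases : (fixIn g Finset.univ).card = 3 ∨ (fixIn g Finset.univ).card = 8 := by omega
  rcases hcases with h | h
  · right; exact h
  · left
    have hs : g.support.card = 5 := by omega
    refine ⟨Perm.isCycle_of_prime_order (by rw [hg]; norm_num) (by rw [hs, hg]; norm_num), hs⟩

/-- The pointwise stabilizer of three points. -/
def stb3 (G : Subgroup (Perm β)) (a b c : β) : Subgroup (Perm β) :=
  G ⊓ MulAction.stabilizer (Perm β) a ⊓ MulAction.stabilizer (Perm β) b ⊓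
    MulAction.stabilizer (Perm β) c

theorem mem_stb3 {G : Subgroup (Perm β)} {a b c : β} {g : Perm β} :
    g ∈ stb3 G a b c ↔ g ∈ G ∧ g a = a ∧ g b = b ∧ g c = c := by
  unfold stb3
  simp only [Subgroup.mem_inf, MulAction.mem_stabilizer_iff, Perm.smul_def]
  tauto

/-- If `G` has no `5`-cycle, `25` does not divide the order of a three-point stabilizer. -/
theorem not_sq_dvd_card_stb3 (hβ : Fintype.card β = 13) (G : Subgroup (Perm β))
    (hno : ∀ g ∈ G, g.IsCycle → g.support.card ≠ 5) {a b c : β} (hab : a ≠ b) (hac : a ≠ c)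
    (hbc : b ≠ c) : ¬ 5 ^ 2 ∣ Nat.card (stb3 G a b c) := by
  have : Fact (Nat.Prime 5) := ⟨by norm_num⟩
  intro h25
  obtain ⟨e, he⟩ := exists_notMem ({a, b, c} : Finset β)
    (lt_of_le_of_lt Finset.card_le_three (by rw [hβ]; norm_num))
  simp only [Finset.mem_insert, Finset.mem_singleton, not_or] at he
  have h1 := card_eq_orb_mul (stb3 G a b c) e
  -- the stabilizer of a fourth point has order prime to `5`
  have h5 : ¬ 5 ∣ Nat.card ↥(stb3 G a b c ⊓ MulAction.stabilizer (Perm β) e) := by
    intro hd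
    obtain ⟨g, hg, hog⟩ := exists_orderOf_eq_prime _ 5 hd
    rw [Subgroup.mem_inf, mem_stb3, MulAction.mem_stabilizer_iff, Perm.smul_def] at hg
    obtain ⟨⟨hgG, hga, hgb, hgc⟩, hge⟩ := hg
    rcases card_fixIn_of_orderOf_five hβ hog with ⟨hc, hs⟩ | h3
    · exact hno g hgG hc hs
    · have hsub : ({a, b, c, e} : Finset β) ⊆ fixIn g Finset.univ := by
        intro x hx
        simp only [Finset.mem_insert, Finset.mem_singleton] at hx
        rw [mem_fixIn]
        refine ⟨Finset.mem_univ _, ?_⟩
        rcases hx with rfl | rfl | rfl | rfl <;> assumption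
      have hcard : ({a, b, c, e} : Finset β).card = 4 := by
        rw [Finset.card_insert_of_notMem, Finset.card_insert_of_notMem,
          Finset.card_insert_of_notMem, Finset.card_singleton]
        · simp only [Finset.mem_singleton]; exact fun h => he.2.2 h.symm
        · simp only [Finset.mem_insert, Finset.mem_singleton, not_or]
          exact ⟨hbc, fun h => he.2.1 h.symm⟩
        · simp only [Finset.mem_insert, Finset.mem_singleton, not_or]
          exact ⟨hab, hac, fun h => he.1 h.symm⟩
      have := Finset.card_le_card hsub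
      omega
  -- the orbit of the fourth point has at most `10` elements
  have horb : (orb (stb3 G a b c) e).card ≤ 10 := by
    have hsub : orb (stb3 G a b c) e ⊆ Finset.univ \ {a, b, c} := by
      intro x hx
      obtain ⟨g, hg, rfl⟩ := mem_orb.mp hx
      rw [mem_stb3] at hg
      obtain ⟨-, hga, hgb, hgc⟩ := hg
      simp only [Finset.mem_sdiff, Finset.mem_univ, true_and, Finset.mem_insert,
        Finset.mem_singleton, not_or]
      refine ⟨fun h => he.1 ?_, fun h => he.2.1 ?_, fun h => he.2.2 ?_⟩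
      · exact g.injective (h.trans hga.symm)
      · exact g.injective (h.trans hgb.symm)
      · exact g.injective (h.trans hgc.symm)
    have h2 := Finset.card_le_card hsub
    have h3 : (Finset.univ \ ({a, b, c} : Finset β)).card = 10 := by
      rw [Finset.card_sdiff_of_subset (Finset.subset_univ _), Finset.card_univ, hβ]
      have : ({a, b, c} : Finset β).card = 3 := by
        rw [Finset.card_insert_of_notMem, Finset.card_insert_of_notMem, Finset.card_singleton]
        · simp only [Finset.mem_singleton]; exact hbc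
        · simp only [Finset.mem_insert, Finset.mem_singleton, not_or]; exact ⟨hab, hac⟩
      rw [this]
    omega
  have hpos : 0 < (orb (stb3 G a b c) e).card :=
    Finset.card_pos.mpr ⟨e, self_mem_orb _ e⟩
  rw [h1] at h25
  have hcop : Nat.Coprime (5 ^ 2) (Nat.card ↥(stb3 G a b c ⊓ MulAction.stabilizer (Perm β) e)) :=
    Nat.Coprime.pow_left 2 ((Nat.Prime.coprime_iff_not_dvd (by norm_num)).mpr h5)
  have := Nat.le_of_dvd hpos (hcop.dvd_of_dvd_mul_right h25)
  omega

/-- Sylow: an element of `G` permuting the three fixed points of `t` can be corrected by an element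
of their pointwise stabilizer so as to normalize `⟨t⟩`. -/
theorem exists_normalizing (G : Subgroup (Perm β)) {a b c : β} {t : Perm β} (ht : t ∈ G)
    (hot : orderOf t = 5) (hta : t a = a) (htb : t b = b) (htc : t c = c)
    (h25 : ¬ 5 ^ 2 ∣ Nat.card (stb3 G a b c)) {g : Perm β} (hg : g ∈ G) {u₁ u₂ u₃ : β}
    (h1 : g u₁ = a) (h2 : g u₂ = b) (h3 : g u₃ = c) (ht1 : t u₁ = u₁) (ht2 : t u₂ = u₂)
    (ht3 : t u₃ = u₃) :
    ∃ n ∈ G, ∃ i : ℤ, n * t * n⁻¹ = t ^ i ∧ n u₁ = a ∧ n u₂ = b ∧ n u₃ = c := by
  have : Fact (Nat.Prime 5) := ⟨by norm_num⟩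
  have htW : t ∈ stb3 G a b c := mem_stb3.mpr ⟨ht, hta, htb, htc⟩
  have hconj : ∀ {v w : β}, g v = w → t v = v → (g * t * g⁻¹) w = w := by
    intro v w hv htv
    rw [← hv]
    simp only [Perm.mul_apply]
    rw [show g⁻¹ (g v) = v from Perm.inv_eq_iff_eq.mpr rfl, htv]
  have ht1W : g * t * g⁻¹ ∈ stb3 G a b c :=
    mem_stb3.mpr ⟨G.mul_mem (G.mul_mem hg ht) (G.inv_mem hg), hconj h1 ht1, hconj h2 ht2,
      hconj h3 ht3⟩
  have ho1 : orderOf (⟨t, htW⟩ : stb3 G a b c) = 5 := by rw [Subgroup.orderOf_mk, hot]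
  have ho2 : orderOf (⟨g * t * g⁻¹, ht1W⟩ : stb3 G a b c) = 5 := by
    rw [Subgroup.orderOf_mk]
    have : g * t * g⁻¹ = MulAut.conj g t := rfl
    rw [this, MulEquiv.orderOf_eq, hot]
  obtain ⟨u, i, hu⟩ := Cfsg.Agent.S0713.conj_of_not_sq_dvd h25 ho1 ho2
  have hu' : (u : Perm β) * (g * t * g⁻¹) * (u : Perm β)⁻¹ = t ^ i := by
    have := congrArg (Subtype.val : stb3 G a b c → Perm β) hu
    simpa using this
  obtain ⟨huG, hua, hub, huc⟩ := mem_stb3.mp u.2
  refine ⟨u * g, G.mul_mem huG hg, i, ?_, ?_, ?_, ?_⟩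
  · rw [← hu']
    group
  · rw [Perm.mul_apply, h1, hua]
  · rw [Perm.mul_apply, h2, hub]
  · rw [Perm.mul_apply, h3, huc]

/-- A `3`-transitive primitive group of degree `13` of order divisible by `5` contains the
alternating group. -/
theorem alt_le_of_five_dvd (hβ : Fintype.card β = 13) (G : Subgroup (Perm β))
    (hprim : MulAction.IsPreprimitive G β) (h3 : T3 G) (h5 : 5 ∣ Nat.card G) :
    alternatingGroup β ≤ G := by
  have : Fact (Nat.Prime 5) := ⟨by norm_num⟩
  have : Fact (Nat.Prime 3) := ⟨by norm_num⟩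
  by_cases h5c : ∃ g ∈ G, g.IsCycle ∧ g.support.card = 5
  · obtain ⟨g, hg, hc, hs⟩ := h5c
    exact Cfsg.Agent.S0713.result G hprim (p := 5) (by norm_num) (by rw [hβ]; norm_num)
      (by rw [hβ]; norm_num) hc hs hg
  have hno : ∀ g ∈ G, g.IsCycle → g.support.card ≠ 5 := by
    intro g hg hc hs
    exact h5c ⟨g, hg, hc, hs⟩
  obtain ⟨t, ht, hot⟩ := exists_orderOf_eq_prime G 5 h5
  have hF : (fixIn t Finset.univ).card = 3 := by
    rcases card_fixIn_of_orderOf_five hβ hot with ⟨hc, hs⟩ | h
    · exact absurd hs (hno t ht hc)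
    · exact h
  obtain ⟨a, b, c, hab, hac, hbc, hFeq⟩ := Finset.card_eq_three.mp hF
  have hfix : ∀ x, t x = x ↔ x = a ∨ x = b ∨ x = c := by
    intro x
    have : x ∈ fixIn t Finset.univ ↔ x ∈ ({a, b, c} : Finset β) := by rw [hFeq]
    rw [mem_fixIn] at this
    simpa using this
  have hta : t a = a := (hfix a).mpr (Or.inl rfl)
  have htb : t b = b := (hfix b).mpr (Or.inr (Or.inl rfl))
  have htc : t c = c := (hfix c).mpr (Or.inr (Or.inr rfl))
  have h25 := not_sq_dvd_card_stb3 hβ G hno hab hac hbc
  -- two elements of the normalizer inducing transpositions on the fixed points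
  obtain ⟨g₁, hg₁, h11, h12, h13⟩ := h3 b a c a b c hab.symm hbc hac hab hac hbc
  obtain ⟨n₁, hn₁, i, hni, hn1b, hn1a, hn1c⟩ :=
    exists_normalizing G ht hot hta htb htc h25 hg₁ h11 h12 h13 htb hta htc
  obtain ⟨g₂, hg₂, h21, h22, h23⟩ := h3 a c b a b c hac hab hbc.symm hab hac hbc
  obtain ⟨n₂, hn₂, j, hnj, hn2a, hn2c, hn2b⟩ :=
    exists_normalizing G ht hot hta htb htc h25 hg₂ h21 h22 h23 hta htc htb
  -- inverse values
  have hn1b' : n₁⁻¹ b = a := by rw [Perm.inv_eq_iff_eq]; exact hn1a.symm
  have hn1a' : n₁⁻¹ a = b := by rw [Perm.inv_eq_iff_eq]; exact hn1b.symm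
  have hn1c' : n₁⁻¹ c = c := by rw [Perm.inv_eq_iff_eq]; exact hn1c.symm
  have hn2a' : n₂⁻¹ a = a := by rw [Perm.inv_eq_iff_eq]; exact hn2a.symm
  have hn2b' : n₂⁻¹ b = c := by rw [Perm.inv_eq_iff_eq]; exact hn2c.symm
  have hn2c' : n₂⁻¹ c = b := by rw [Perm.inv_eq_iff_eq]; exact hn2b.symm
  set w := n₁⁻¹ * n₂⁻¹ * n₁ * n₂ with hw
  have hwG : w ∈ G :=
    G.mul_mem (G.mul_mem (G.mul_mem (G.inv_mem hn₁) (G.inv_mem hn₂)) hn₁) hn₂
  have hwa : w a = c := by
    simp only [hw, Perm.mul_apply, hn2a, hn1a, hn2b', hn1c']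
  have hwc : w c = b := by
    simp only [hw, Perm.mul_apply, hn2c, hn1b, hn2a', hn1a']
  have hwb : w b = a := by
    simp only [hw, Perm.mul_apply, hn2b, hn1c, hn2c', hn1b']
  -- `w` centralizes `t`
  have hcomm : w * t = t * w := by
    have hA : (n₁ * n₂) * t * (n₁ * n₂)⁻¹ = t ^ (i * j) := by
      have : (n₁ * n₂) * t * (n₁ * n₂)⁻¹ = n₁ * (n₂ * t * n₂⁻¹) * n₁⁻¹ := by group
      rw [this, hnj, ← conj_zpow, hni, ← zpow_mul]
    have hB : (n₂ * n₁) * t * (n₂ * n₁)⁻¹ = t ^ (i * j) := by
      have : (n₂ * n₁) * t * (n₂ * n₁)⁻¹ = n₂ * (n₁ * t * n₁⁻¹) * n₂⁻¹ := by group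
      rw [this, hni, ← conj_zpow, hnj, ← zpow_mul, mul_comm]
    have hAB := hA.trans hB.symm
    have h1 : w = (n₂ * n₁)⁻¹ * (n₁ * n₂) := by rw [hw]; group
    have h2 : (n₂ * n₁)⁻¹ * ((n₁ * n₂) * t * (n₁ * n₂)⁻¹) * (n₂ * n₁) = t := by
      rw [hAB]; group
    calc w * t = ((n₂ * n₁)⁻¹ * ((n₁ * n₂) * t * (n₁ * n₂)⁻¹) * (n₂ * n₁)) * w := by
          rw [h1]; group
      _ = t * w := by rw [h2]
  -- the order of `w` is divisible by `3`
  have hw3 : ∀ q : ℕ, (w ^ (3 * q)) a = a := by
    intro q
    induction q with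
    | zero => simp
    | succ q ih =>
      rw [Nat.mul_succ, pow_add, Perm.mul_apply]
      have : (w ^ 3) a = a := by
        simp only [pow_succ, pow_zero, one_mul, Perm.mul_apply, hwa, hwc, hwb]
      rw [this, ih]
  have hdvd : 3 ∣ orderOf w := by
    have hpow : (w ^ orderOf w) a = a := by rw [pow_orderOf_eq_one]; rfl
    have hdm := Nat.div_add_mod (orderOf w) 3
    rw [← hdm, pow_add, Perm.mul_apply] at hpow
    have hlt := Nat.mod_lt (orderOf w) (by norm_num : 0 < 3)
    rcases Nat.lt_or_ge 0 (orderOf w % 3) with hpos | hzero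
    · exfalso
      have hcase : orderOf w % 3 = 1 ∨ orderOf w % 3 = 2 := by omega
      rcases hcase with h | h
      · rw [h, pow_one, hwa] at hpow
        -- `w ^ (3 q)` maps `c` to `a`, but it fixes `a`
        have := (w ^ (3 * (orderOf w / 3))).injective (hpow.trans (hw3 _).symm)
        exact hac this.symm
      · rw [h, pow_succ, pow_one, Perm.mul_apply, hwa, hwc] at hpow
        have := (w ^ (3 * (orderOf w / 3))).injective (hpow.trans (hw3 _).symm)
        exact hab this.symm
    · exact Nat.dvd_of_mod_eq_zero (by omega)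
  -- an element of order `3` in the centralizer
  have hopos : 0 < orderOf w := orderOf_pos w
  obtain ⟨k, hk⟩ := hdvd
  have hk0 : k ≠ 0 := by
    rintro rfl
    omega
  set z := w ^ k with hz
  have hzG : z ∈ G := G.pow_mem hwG k
  have hoz : orderOf z = 3 := by
    rw [hz, orderOf_pow_of_dvd hk0 ⟨3, by rw [hk]; ring⟩, hk]
    exact Nat.mul_div_cancel _ (Nat.pos_of_ne_zero hk0)
  have hzt : z * t = t * z := by
    have : Commute w t := hcomm
    exact (this.pow_left k)
  have hz3 : z ^ 3 = 1 := by rw [← hoz]; exact pow_orderOf_eq_one z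
  have ht5 : t ^ 5 = 1 := by rw [← hot]; exact pow_orderOf_eq_one t
  -- `z` fixes the support of `t` pointwise
  have hztx : ∀ x, z (t x) = t (z x) := by
    intro x
    have := congrArg (fun σ : Perm β => σ x) hzt
    simpa using this
  have hS : ∀ x, z x ∈ t.support ↔ x ∈ t.support := by
    intro x
    rw [Perm.mem_support, Perm.mem_support, ← hztx, not_iff_not]
    exact z.injective.eq_iff
  have hm3 := card_fixIn_modEq (p := 3) z hz3 t.support hS
  have hFt : ∀ x, t x ∈ fixIn z t.support ↔ x ∈ fixIn z t.support := by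
    intro x
    rw [mem_fixIn, mem_fixIn, Perm.apply_mem_support, hztx]
    exact and_congr_right fun _ => t.injective.eq_iff
  have hm5 := card_fixIn_modEq (p := 5) t ht5 (fixIn z t.support) hFt
  have hempty : fixIn t (fixIn z t.support) = ∅ := by
    rw [Finset.eq_empty_iff_forall_notMem]
    intro x hx
    rw [mem_fixIn, mem_fixIn, Perm.mem_support] at hx
    exact hx.1.1 hx.2
  have hsupp : t.support.card = 10 := by
    have := card_support_add_card_fixIn t
    rw [hβ, hF] at this
    omega
  rw [hempty, Finset.card_empty] at hm5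
  rw [hsupp] at hm3
  unfold Nat.ModEq at hm3 hm5
  have hle : (fixIn z t.support).card ≤ 10 := by
    rw [← hsupp]
    exact Finset.card_le_card (Finset.filter_subset _ _)
  have hcard : (fixIn z t.support).card = 10 := by omega
  have hall : fixIn z t.support = t.support :=
    Finset.eq_of_subset_of_card_le (Finset.filter_subset _ _) (by rw [hcard, hsupp])
  have hzfix : ∀ x, t x ≠ x → z x = x := by
    intro x hx
    have : x ∈ fixIn z t.support := by rw [hall]; exact Perm.mem_support.mpr hx
    exact (mem_fixIn.mp this).2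
  -- hence `z` is a `3`-cycle
  have hzs : z.support ⊆ {a, b, c} := by
    intro x hx
    rw [Perm.mem_support] at hx
    have : t x = x := by
      by_contra h
      exact hx (hzfix x h)
    have := (hfix x).mp this
    simpa using this
  have hzcard : z.support.card = 3 := by
    have h1 : z.support.card ≤ 3 := (Finset.card_le_card hzs).trans Finset.card_le_three
    obtain ⟨n, hn⟩ := Perm.cycleType_prime_order (σ := z) (by rw [hoz]; norm_num)
    have h2 := Perm.sum_cycleType z
    rw [hn, Multiset.sum_replicate, hoz, smul_eq_mul] at h2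
    nlinarith
  exact Perm.alternatingGroup_le_of_isPreprimitive_of_isThreeCycle_mem hprim
    (card_support_eq_three_iff.mp hzcard) hzG

end Cfsg.Agent.Lib.Helper92.Deg13
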