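import Mathlib
import Cfsg.Prelude.Def_ChevAutomorphisms
import Cfsg.Prelude.Def_ChevE6
import Cfsg.Prelude.Def_ChevE7
import Cfsg.Prelude.Def_ChevE8

/-!
# Diagram symmetries of `E6`, `E7`, `E8`

`E7` and `E8` have only the identity, `E6` has the identity and `ρ = [5,1,4,3,2,0]`.
The node numbering of the tables is Bourbaki's (shifted by one): chain `0-2-3-4-5-6-7`, node `1` attached to `3`.
The search over all permutations is pruned: the nodes are assigned one at a time and the bond conditions are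
tested as soon as both ends are assigned.
-/

set_option autoImplicit false

namespace Cfsg.Agent.Lib.Helper92.DiagSym

open Cfsg Cfsg.Lie

/-- adjacency of the `E_n` diagrams in the numbering of the tables -/
def adjE (i j : ℕ) : Bool :=
  (i + 1 == j && 2 ≤ i) || (j + 1 == i && 2 ≤ j) || (i == 0 && j == 2) || (i == 2 && j == 0) ||
    (i == 1 && j == 3) || (i == 3 && j == 1)

/-- the bonds table of the `E_n` diagrams -/
def tabE (i j : ℕ) : ℤ := if i = j then 4 else if adjE i j then 1 else 0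

theorem bonds_E8 : ∀ i j : Fin 8, chevE8.bonds i j = tabE i j := by decide +kernel

theorem bonds_E7 : ∀ i j : Fin 7, chevE7.bonds i j = tabE i j := by decide +kernel

theorem bonds_E6 : ∀ i j : Fin 6, chevE6.bonds i j = tabE i j := by decide +kernel

/-- compatibility of a partial assignment `i ↦ a`, `j ↦ b` -/
def okE (a b : ℕ) (i j : ℕ) : Bool := a != b && tabE a b == tabE i j

set_option synthInstance.maxHeartbeats 400000 in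
set_option synthInstance.maxSize 4096 in
theorem prune_E8 : ∀ a3 : Fin 8,
    ∀ a1 : Fin 8, okE a3 a1 3 1 = true →
    ∀ a2 : Fin 8, (okE a3 a2 3 2 && okE a1 a2 1 2) = true →
    ∀ a4 : Fin 8, (okE a3 a4 3 4 && okE a1 a4 1 4 && okE a2 a4 2 4) = true →
    ∀ a0 : Fin 8, (okE a3 a0 3 0 && okE a1 a0 1 0 && okE a2 a0 2 0 && okE a4 a0 4 0) = true →
    ∀ a5 : Fin 8, (okE a3 a5 3 5 && okE a1 a5 1 5 && okE a2 a5 2 5 && okE a4 a5 4 5 && okE a0 a5 0 5) = true →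
    ∀ a6 : Fin 8, (okE a3 a6 3 6 && okE a1 a6 1 6 && okE a2 a6 2 6 && okE a4 a6 4 6 && okE a0 a6 0 6 && okE a5 a6 5 6) = true →
    ∀ a7 : Fin 8, (okE a3 a7 3 7 && okE a1 a7 1 7 && okE a2 a7 2 7 && okE a4 a7 4 7 && okE a0 a7 0 7 && okE a5 a7 5 7 && okE a6 a7 6 7) = true →
    [(a0 : ℕ), (a1 : ℕ), (a2 : ℕ), (a3 : ℕ), (a4 : ℕ), (a5 : ℕ), (a6 : ℕ), (a7 : ℕ)] = [0, 1, 2, 3, 4, 5, 6, 7] := by
  decide +kernel

set_option synthInstance.maxHeartbeats 400000 in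
set_option synthInstance.maxSize 4096 in
theorem prune_E7 : ∀ a3 : Fin 7,
    ∀ a1 : Fin 7, okE a3 a1 3 1 = true →
    ∀ a2 : Fin 7, (okE a3 a2 3 2 && okE a1 a2 1 2) = true →
    ∀ a4 : Fin 7, (okE a3 a4 3 4 && okE a1 a4 1 4 && okE a2 a4 2 4) = true →
    ∀ a0 : Fin 7, (okE a3 a0 3 0 && okE a1 a0 1 0 && okE a2 a0 2 0 && okE a4 a0 4 0) = true →
    ∀ a5 : Fin 7, (okE a3 a5 3 5 && okE a1 a5 1 5 && okE a2 a5 2 5 && okE a4 a5 4 5 && okE a0 a5 0 5) = true →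
    ∀ a6 : Fin 7, (okE a3 a6 3 6 && okE a1 a6 1 6 && okE a2 a6 2 6 && okE a4 a6 4 6 && okE a0 a6 0 6 && okE a5 a6 5 6) = true →
    [(a0 : ℕ), (a1 : ℕ), (a2 : ℕ), (a3 : ℕ), (a4 : ℕ), (a5 : ℕ), (a6 : ℕ)] = [0, 1, 2, 3, 4, 5, 6] := by
  decide +kernel

set_option synthInstance.maxHeartbeats 400000 in
set_option synthInstance.maxSize 4096 in
theorem prune_E6 : ∀ a3 : Fin 6,
    ∀ a1 : Fin 6, okE a3 a1 3 1 = true →
    ∀ a2 : Fin 6, (okE a3 a2 3 2 && okE a1 a2 1 2) = true →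
    ∀ a4 : Fin 6, (okE a3 a4 3 4 && okE a1 a4 1 4 && okE a2 a4 2 4) = true →
    ∀ a0 : Fin 6, (okE a3 a0 3 0 && okE a1 a0 1 0 && okE a2 a0 2 0 && okE a4 a0 4 0) = true →
    ∀ a5 : Fin 6, (okE a3 a5 3 5 && okE a1 a5 1 5 && okE a2 a5 2 5 && okE a4 a5 4 5 && okE a0 a5 0 5) = true →
    ([(a0 : ℕ), (a1 : ℕ), (a2 : ℕ), (a3 : ℕ), (a4 : ℕ), (a5 : ℕ)] = [0, 1, 2, 3, 4, 5] ∨ [(a0 : ℕ), (a1 : ℕ), (a2 : ℕ), (a3 : ℕ), (a4 : ℕ), (a5 : ℕ)] = [5, 1, 4, 3, 2, 0]) := by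
  decide +kernel

/-- the only diagram symmetry of `E8` is the identity -/
theorem symm_E8 (π : Equiv.Perm (Fin chevE8.rank)) (h : chevE8.IsDiagramSymmetry π) :
    π = 1 := by
  have hr : chevE8.rank = 8 := rfl
  have key : ∀ i j : Fin chevE8.rank, i ≠ j → okE (π i) (π j) i j = true := by
    intro i j hij
    have h1 := h i j hij
    rw [bonds_E8 (π i) (π j), bonds_E8 i j] at h1
    have h2 : ((π i : Fin chevE8.rank) : ℕ) ≠ ((π j : Fin chevE8.rank) : ℕ) := fun h3 => hij (π.injective (Fin.ext h3))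
    simp [okE, h1, h2]
  have l0 : (0 : ℕ) < chevE8.rank := by decide
  have l1 : (1 : ℕ) < chevE8.rank := by decide
  have l2 : (2 : ℕ) < chevE8.rank := by decide
  have l3 : (3 : ℕ) < chevE8.rank := by decide
  have l4 : (4 : ℕ) < chevE8.rank := by decide
  have l5 : (5 : ℕ) < chevE8.rank := by decide
  have l6 : (6 : ℕ) < chevE8.rank := by decide
  have l7 : (7 : ℕ) < chevE8.rank := by decide
  have k31 := key ⟨3, l3⟩ ⟨1, l1⟩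
    (Fin.ne_of_val_ne (show (3 : ℕ) ≠ 1 by decide))
  have k32 := key ⟨3, l3⟩ ⟨2, l2⟩
    (Fin.ne_of_val_ne (show (3 : ℕ) ≠ 2 by decide))
  have k12 := key ⟨1, l1⟩ ⟨2, l2⟩
    (Fin.ne_of_val_ne (show (1 : ℕ) ≠ 2 by decide))
  have k34 := key ⟨3, l3⟩ ⟨4, l4⟩
    (Fin.ne_of_val_ne (show (3 : ℕ) ≠ 4 by decide))
  have k14 := key ⟨1, l1⟩ ⟨4, l4⟩
    (Fin.ne_of_val_ne (show (1 : ℕ) ≠ 4 by decide))
  have k24 := key ⟨2, l2⟩ ⟨4, l4⟩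
    (Fin.ne_of_val_ne (show (2 : ℕ) ≠ 4 by decide))
  have k30 := key ⟨3, l3⟩ ⟨0, l0⟩
    (Fin.ne_of_val_ne (show (3 : ℕ) ≠ 0 by decide))
  have k10 := key ⟨1, l1⟩ ⟨0, l0⟩
    (Fin.ne_of_val_ne (show (1 : ℕ) ≠ 0 by decide))
  have k20 := key ⟨2, l2⟩ ⟨0, l0⟩
    (Fin.ne_of_val_ne (show (2 : ℕ) ≠ 0 by decide))
  have k40 := key ⟨4, l4⟩ ⟨0, l0⟩
    (Fin.ne_of_val_ne (show (4 : ℕ) ≠ 0 by decide))
  have k35 := key ⟨3, l3⟩ ⟨5, l5⟩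
    (Fin.ne_of_val_ne (show (3 : ℕ) ≠ 5 by decide))
  have k15 := key ⟨1, l1⟩ ⟨5, l5⟩
    (Fin.ne_of_val_ne (show (1 : ℕ) ≠ 5 by decide))
  have k25 := key ⟨2, l2⟩ ⟨5, l5⟩
    (Fin.ne_of_val_ne (show (2 : ℕ) ≠ 5 by decide))
  have k45 := key ⟨4, l4⟩ ⟨5, l5⟩
    (Fin.ne_of_val_ne (show (4 : ℕ) ≠ 5 by decide))
  have k05 := key ⟨0, l0⟩ ⟨5, l5⟩
    (Fin.ne_of_val_ne (show (0 : ℕ) ≠ 5 by decide))
  have k36 := key ⟨3, l3⟩ ⟨6, l6⟩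
    (Fin.ne_of_val_ne (show (3 : ℕ) ≠ 6 by decide))
  have k16 := key ⟨1, l1⟩ ⟨6, l6⟩
    (Fin.ne_of_val_ne (show (1 : ℕ) ≠ 6 by decide))
  have k26 := key ⟨2, l2⟩ ⟨6, l6⟩
    (Fin.ne_of_val_ne (show (2 : ℕ) ≠ 6 by decide))
  have k46 := key ⟨4, l4⟩ ⟨6, l6⟩
    (Fin.ne_of_val_ne (show (4 : ℕ) ≠ 6 by decide))
  have k06 := key ⟨0, l0⟩ ⟨6, l6⟩
    (Fin.ne_of_val_ne (show (0 : ℕ) ≠ 6 by decide))
  have k56 := key ⟨5, l5⟩ ⟨6, l6⟩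
    (Fin.ne_of_val_ne (show (5 : ℕ) ≠ 6 by decide))
  have k37 := key ⟨3, l3⟩ ⟨7, l7⟩
    (Fin.ne_of_val_ne (show (3 : ℕ) ≠ 7 by decide))
  have k17 := key ⟨1, l1⟩ ⟨7, l7⟩
    (Fin.ne_of_val_ne (show (1 : ℕ) ≠ 7 by decide))
  have k27 := key ⟨2, l2⟩ ⟨7, l7⟩
    (Fin.ne_of_val_ne (show (2 : ℕ) ≠ 7 by decide))
  have k47 := key ⟨4, l4⟩ ⟨7, l7⟩
    (Fin.ne_of_val_ne (show (4 : ℕ) ≠ 7 by decide))
  have k07 := key ⟨0, l0⟩ ⟨7, l7⟩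
    (Fin.ne_of_val_ne (show (0 : ℕ) ≠ 7 by decide))
  have k57 := key ⟨5, l5⟩ ⟨7, l7⟩
    (Fin.ne_of_val_ne (show (5 : ℕ) ≠ 7 by decide))
  have k67 := key ⟨6, l6⟩ ⟨7, l7⟩
    (Fin.ne_of_val_ne (show (6 : ℕ) ≠ 7 by decide))
  have hp := prune_E8 (π ⟨3, l3⟩) (π ⟨1, l1⟩) k31 (π ⟨2, l2⟩) (by simp only [k32, k12, Bool.and_self]) (π ⟨4, l4⟩) (by simp only [k34, k14, k24, Bool.and_self]) (π ⟨0, l0⟩) (by simp only [k30, k10, k20, k40, Bool.and_self]) (π ⟨5, l5⟩) (by simp only [k35, k15, k25, k45, k05, Bool.and_self]) (π ⟨6, l6⟩) (by simp only [k36, k16, k26, k46, k06, k56, Bool.and_self]) (π ⟨7, l7⟩) (by simp only [k37, k17, k27, k47, k07, k57, k67, Bool.and_self])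
  simp only [List.cons.injEq, and_true] at hp
  obtain ⟨e0, e1, e2, e3, e4, e5, e6, e7⟩ := hp
  apply Equiv.ext
  intro i
  apply Fin.ext
  obtain ⟨k, hk⟩ := i
  rw [Equiv.Perm.one_apply]
  have hk' : k < 8 := hk
  interval_cases k
  · exact e0
  · exact e1
  · exact e2
  · exact e3
  · exact e4
  · exact e5
  · exact e6
  · exact e7

/-- the only diagram symmetry of `E7` is the identity -/
theorem symm_E7 (π : Equiv.Perm (Fin chevE7.rank)) (h : chevE7.IsDiagramSymmetry π) :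
    π = 1 := by
  have hr : chevE7.rank = 7 := rfl
  have key : ∀ i j : Fin chevE7.rank, i ≠ j → okE (π i) (π j) i j = true := by
    intro i j hij
    have h1 := h i j hij
    rw [bonds_E7 (π i) (π j), bonds_E7 i j] at h1
    have h2 : ((π i : Fin chevE7.rank) : ℕ) ≠ ((π j : Fin chevE7.rank) : ℕ) := fun h3 => hij (π.injective (Fin.ext h3))
    simp [okE, h1, h2]
  have l0 : (0 : ℕ) < chevE7.rank := by decide
  have l1 : (1 : ℕ) < chevE7.rank := by decide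
  have l2 : (2 : ℕ) < chevE7.rank := by decide
  have l3 : (3 : ℕ) < chevE7.rank := by decide
  have l4 : (4 : ℕ) < chevE7.rank := by decide
  have l5 : (5 : ℕ) < chevE7.rank := by decide
  have l6 : (6 : ℕ) < chevE7.rank := by decide
  have k31 := key ⟨3, l3⟩ ⟨1, l1⟩
    (Fin.ne_of_val_ne (show (3 : ℕ) ≠ 1 by decide))
  have k32 := key ⟨3, l3⟩ ⟨2, l2⟩
    (Fin.ne_of_val_ne (show (3 : ℕ) ≠ 2 by decide))
  have k12 := key ⟨1, l1⟩ ⟨2, l2⟩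
    (Fin.ne_of_val_ne (show (1 : ℕ) ≠ 2 by decide))
  have k34 := key ⟨3, l3⟩ ⟨4, l4⟩
    (Fin.ne_of_val_ne (show (3 : ℕ) ≠ 4 by decide))
  have k14 := key ⟨1, l1⟩ ⟨4, l4⟩
    (Fin.ne_of_val_ne (show (1 : ℕ) ≠ 4 by decide))
  have k24 := key ⟨2, l2⟩ ⟨4, l4⟩
    (Fin.ne_of_val_ne (show (2 : ℕ) ≠ 4 by decide))
  have k30 := key ⟨3, l3⟩ ⟨0, l0⟩
    (Fin.ne_of_val_ne (show (3 : ℕ) ≠ 0 by decide))
  have k10 := key ⟨1, l1⟩ ⟨0, l0⟩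
    (Fin.ne_of_val_ne (show (1 : ℕ) ≠ 0 by decide))
  have k20 := key ⟨2, l2⟩ ⟨0, l0⟩
    (Fin.ne_of_val_ne (show (2 : ℕ) ≠ 0 by decide))
  have k40 := key ⟨4, l4⟩ ⟨0, l0⟩
    (Fin.ne_of_val_ne (show (4 : ℕ) ≠ 0 by decide))
  have k35 := key ⟨3, l3⟩ ⟨5, l5⟩
    (Fin.ne_of_val_ne (show (3 : ℕ) ≠ 5 by decide))
  have k15 := key ⟨1, l1⟩ ⟨5, l5⟩
    (Fin.ne_of_val_ne (show (1 : ℕ) ≠ 5 by decide))
  have k25 := key ⟨2, l2⟩ ⟨5, l5⟩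
    (Fin.ne_of_val_ne (show (2 : ℕ) ≠ 5 by decide))
  have k45 := key ⟨4, l4⟩ ⟨5, l5⟩
    (Fin.ne_of_val_ne (show (4 : ℕ) ≠ 5 by decide))
  have k05 := key ⟨0, l0⟩ ⟨5, l5⟩
    (Fin.ne_of_val_ne (show (0 : ℕ) ≠ 5 by decide))
  have k36 := key ⟨3, l3⟩ ⟨6, l6⟩
    (Fin.ne_of_val_ne (show (3 : ℕ) ≠ 6 by decide))
  have k16 := key ⟨1, l1⟩ ⟨6, l6⟩
    (Fin.ne_of_val_ne (show (1 : ℕ) ≠ 6 by decide))
  have k26 := key ⟨2, l2⟩ ⟨6, l6⟩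
    (Fin.ne_of_val_ne (show (2 : ℕ) ≠ 6 by decide))
  have k46 := key ⟨4, l4⟩ ⟨6, l6⟩
    (Fin.ne_of_val_ne (show (4 : ℕ) ≠ 6 by decide))
  have k06 := key ⟨0, l0⟩ ⟨6, l6⟩
    (Fin.ne_of_val_ne (show (0 : ℕ) ≠ 6 by decide))
  have k56 := key ⟨5, l5⟩ ⟨6, l6⟩
    (Fin.ne_of_val_ne (show (5 : ℕ) ≠ 6 by decide))
  have hp := prune_E7 (π ⟨3, l3⟩) (π ⟨1, l1⟩) k31 (π ⟨2, l2⟩) (by simp only [k32, k12, Bool.and_self]) (π ⟨4, l4⟩) (by simp only [k34, k14, k24, Bool.and_self]) (π ⟨0, l0⟩) (by simp only [k30, k10, k20, k40, Bool.and_self]) (π ⟨5, l5⟩) (by simp only [k35, k15, k25, k45, k05, Bool.and_self]) (π ⟨6, l6⟩) (by simp only [k36, k16, k26, k46, k06, k56, Bool.and_self])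
  simp only [List.cons.injEq, and_true] at hp
  obtain ⟨e0, e1, e2, e3, e4, e5, e6⟩ := hp
  apply Equiv.ext
  intro i
  apply Fin.ext
  obtain ⟨k, hk⟩ := i
  rw [Equiv.Perm.one_apply]
  have hk' : k < 7 := hk
  interval_cases k
  · exact e0
  · exact e1
  · exact e2
  · exact e3
  · exact e4
  · exact e5
  · exact e6

/-- the diagram symmetries of `E6` are the identity and `ρ = [5,1,4,3,2,0]` -/
theorem symm_E6 (π : Equiv.Perm (Fin chevE6.rank)) (h : chevE6.IsDiagramSymmetry π) :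
    π = 1 ∨ ∀ i : Fin chevE6.rank, ((π i : Fin chevE6.rank) : ℕ) = [5, 1, 4, 3, 2, 0].getD i 0 := by
  have hr : chevE6.rank = 6 := rfl
  have key : ∀ i j : Fin chevE6.rank, i ≠ j → okE (π i) (π j) i j = true := by
    intro i j hij
    have h1 := h i j hij
    rw [bonds_E6 (π i) (π j), bonds_E6 i j] at h1
    have h2 : ((π i : Fin chevE6.rank) : ℕ) ≠ ((π j : Fin chevE6.rank) : ℕ) := fun h3 => hij (π.injective (Fin.ext h3))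
    simp [okE, h1, h2]
  have l0 : (0 : ℕ) < chevE6.rank := by decide
  have l1 : (1 : ℕ) < chevE6.rank := by decide
  have l2 : (2 : ℕ) < chevE6.rank := by decide
  have l3 : (3 : ℕ) < chevE6.rank := by decide
  have l4 : (4 : ℕ) < chevE6.rank := by decide
  have l5 : (5 : ℕ) < chevE6.rank := by decide
  have k31 := key ⟨3, l3⟩ ⟨1, l1⟩
    (Fin.ne_of_val_ne (show (3 : ℕ) ≠ 1 by decide))
  have k32 := key ⟨3, l3⟩ ⟨2, l2⟩
    (Fin.ne_of_val_ne (show (3 : ℕ) ≠ 2 by decide))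
  have k12 := key ⟨1, l1⟩ ⟨2, l2⟩
    (Fin.ne_of_val_ne (show (1 : ℕ) ≠ 2 by decide))
  have k34 := key ⟨3, l3⟩ ⟨4, l4⟩
    (Fin.ne_of_val_ne (show (3 : ℕ) ≠ 4 by decide))
  have k14 := key ⟨1, l1⟩ ⟨4, l4⟩
    (Fin.ne_of_val_ne (show (1 : ℕ) ≠ 4 by decide))
  have k24 := key ⟨2, l2⟩ ⟨4, l4⟩
    (Fin.ne_of_val_ne (show (2 : ℕ) ≠ 4 by decide))
  have k30 := key ⟨3, l3⟩ ⟨0, l0⟩
    (Fin.ne_of_val_ne (show (3 : ℕ) ≠ 0 by decide))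
  have k10 := key ⟨1, l1⟩ ⟨0, l0⟩
    (Fin.ne_of_val_ne (show (1 : ℕ) ≠ 0 by decide))
  have k20 := key ⟨2, l2⟩ ⟨0, l0⟩
    (Fin.ne_of_val_ne (show (2 : ℕ) ≠ 0 by decide))
  have k40 := key ⟨4, l4⟩ ⟨0, l0⟩
    (Fin.ne_of_val_ne (show (4 : ℕ) ≠ 0 by decide))
  have k35 := key ⟨3, l3⟩ ⟨5, l5⟩
    (Fin.ne_of_val_ne (show (3 : ℕ) ≠ 5 by decide))
  have k15 := key ⟨1, l1⟩ ⟨5, l5⟩
    (Fin.ne_of_val_ne (show (1 : ℕ) ≠ 5 by decide))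
  have k25 := key ⟨2, l2⟩ ⟨5, l5⟩
    (Fin.ne_of_val_ne (show (2 : ℕ) ≠ 5 by decide))
  have k45 := key ⟨4, l4⟩ ⟨5, l5⟩
    (Fin.ne_of_val_ne (show (4 : ℕ) ≠ 5 by decide))
  have k05 := key ⟨0, l0⟩ ⟨5, l5⟩
    (Fin.ne_of_val_ne (show (0 : ℕ) ≠ 5 by decide))
  have hp := prune_E6 (π ⟨3, l3⟩) (π ⟨1, l1⟩) k31 (π ⟨2, l2⟩) (by simp only [k32, k12, Bool.and_self]) (π ⟨4, l4⟩) (by simp only [k34, k14, k24, Bool.and_self]) (π ⟨0, l0⟩) (by simp only [k30, k10, k20, k40, Bool.and_self]) (π ⟨5, l5⟩) (by simp only [k35, k15, k25, k45, k05, Bool.and_self])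
  rcases hp with hp | hp
  · left
    simp only [List.cons.injEq, and_true] at hp
    obtain ⟨e0, e1, e2, e3, e4, e5⟩ := hp
    apply Equiv.ext
    intro i
    apply Fin.ext
    obtain ⟨k, hk⟩ := i
    rw [Equiv.Perm.one_apply]
    have hk' : k < 6 := hk
    interval_cases k
    · exact e0
    · exact e1
    · exact e2
    · exact e3
    · exact e4
    · exact e5
  · right
    simp only [List.cons.injEq, and_true] at hp
    obtain ⟨e0, e1, e2, e3, e4, e5⟩ := hp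
    intro i
    obtain ⟨k, hk⟩ := i
    have hk' : k < 6 := hk
    interval_cases k
    · exact e0
    · exact e1
    · exact e2
    · exact e3
    · exact e4
    · exact e5

end Cfsg.Agent.Lib.Helper92.DiagSym
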