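import Mathlib
import Cfsg.Agent.Lib.Helper76.GOut.P1Defs
import Cfsg.Agent.Lib.Helper92.GOutSM

/-!
# GOUT-[P1-FRAT] (helper92): the Frattini argument for `SolvMod`

Sheet: `Lib/Helper76/GOut/GOUT_SHEET.md` (BLOCK P1), statement from `SkelP1.lean.txt`.
-/

set_option autoImplicit false
set_option linter.unusedSectionVars false

namespace Cfsg.Agent.Lib.Helper76.GOut

open scoped Pointwise

theorem solvMod_of_sylow_normalizer {A : Type*} [Group A] [Finite A] (X Y : Subgroup A) (hYX : Y ≤ X)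
    (hnorm : ∀ x ∈ X, ∀ y ∈ Y, x * y * x⁻¹ ∈ Y) (p : ℕ) [Fact p.Prime] (P : Sylow p ↥Y)
    (hsol : Group.IsSolvable
      ↥(X ⊓ Subgroup.normalizer ((((P : Subgroup ↥Y).map Y.subtype : Subgroup A)) : Set A))) :
    SolvMod X Y := by
  set PA : Subgroup A := (P : Subgroup ↥Y).map Y.subtype with hPA
  set N : Subgroup A := X ⊓ Subgroup.normalizer (PA : Set A) with hN
  have hXle : X ≤ Y ⊔ N := by
    intro x hx
    -- conjugation by `x` on `Y`
    let φ : MulAut ↥Y :=
      { toFun := fun y => ⟨x * y.1 * x⁻¹, hnorm x hx y.1 y.2⟩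
        invFun := fun y => ⟨x⁻¹ * y.1 * x, by simpa using hnorm x⁻¹ (X.inv_mem hx) y.1 y.2⟩
        left_inv := fun y => Subtype.ext (by simp [mul_assoc])
        right_inv := fun y => Subtype.ext (by simp [mul_assoc])
        map_mul' := fun a b => Subtype.ext (by simp [mul_assoc]) }
    obtain ⟨n, hn⟩ := MulAction.exists_smul_eq ↥Y (φ • P) P
    have hmem : (n : A) * x ∈ N := by
      refine ⟨X.mul_mem (hYX n.2) hx, ?_⟩
      show (n : A) * x ∈ Subgroup.normalizer (PA : Set A)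
      have h1 : ((n • φ • P : Sylow p ↥Y) : Subgroup ↥Y) = P := congrArg _ hn
      rw [Sylow.smul_def, Sylow.pointwise_smul_def, Sylow.pointwise_smul_def,
        Subgroup.pointwise_smul_def, Subgroup.pointwise_smul_def] at h1
      have key : ∀ b : ↥Y, b ∈ (P : Subgroup ↥Y) ↔
          ∃ a ∈ (P : Subgroup ↥Y), n * φ a * n⁻¹ = b := by
        intro b
        constructor
        · intro hb
          rw [← h1] at hb
          obtain ⟨c, hc, hcb⟩ := Subgroup.mem_map.1 hb
          obtain ⟨a, ha, hac⟩ := Subgroup.mem_map.1 hc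
          exact ⟨a, ha, by rw [← hcb, ← hac]; rfl⟩
        · rintro ⟨a, ha, rfl⟩
          rw [← h1]
          exact Subgroup.mem_map.2 ⟨φ a, Subgroup.mem_map.2 ⟨a, ha, rfl⟩, rfl⟩
      have hconj : ∀ a : ↥Y, ((n * φ a * n⁻¹ : ↥Y) : A) = ((n : A) * x) * a * ((n : A) * x)⁻¹ := by
        intro a
        show (n : A) * (x * (a : A) * x⁻¹) * (n : A)⁻¹ = _
        group
      rw [Subgroup.mem_normalizer_iff]
      intro h
      constructor
      · intro hh
        obtain ⟨a, ha, rfl⟩ := Subgroup.mem_map.1 hh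
        refine Subgroup.mem_map.2 ⟨n * φ a * n⁻¹, (key _).2 ⟨a, ha, rfl⟩, ?_⟩
        exact hconj a
      · intro hh
        obtain ⟨b, hb, hbe⟩ := Subgroup.mem_map.1 hh
        obtain ⟨a, ha, hab⟩ := (key b).1 hb
        refine Subgroup.mem_map.2 ⟨a, ha, ?_⟩
        have h3 : ((n : A) * x) * a * ((n : A) * x)⁻¹ = ((n : A) * x) * h * ((n : A) * x)⁻¹ := by
          rw [← hconj a, hab]
          exact hbe
        exact mul_left_cancel (mul_right_cancel h3)
    have : x = (n : A)⁻¹ * ((n : A) * x) := by group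
    rw [this]
    exact Subgroup.mul_mem_sup (Y.inv_mem n.2) hmem
  have hNnorm : ∀ h ∈ N, ∀ y ∈ Y, h * y * h⁻¹ ∈ Y := fun h hh y hy => hnorm h hh.1 y hy
  have h1 : SolvMod N ⊥ := solvMod_of_isSolvable hsol ⊥
  have h2 := SolvMod.sup_left hNnorm h1
  rw [sup_bot_eq] at h2
  exact SolvMod.mono_left hXle h2

end Cfsg.Agent.Lib.Helper76.GOut
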