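import Mathlib
import Cfsg.Agent.Lib.Helper76.GOut.P1Defs
import Cfsg.Agent.Lib.Helper92.GOutSM
import Cfsg.Agent.Lib.Helper92.GOutFrat
import Cfsg.Agent.S2904
import Cfsg.Agent.Lib.Helper55.HuppertA1

/-!
# GOUT-[P1-ZS] (helper92), `_of` form: the case `dim V ≠ 6`

`h92_P1_of_ne_six_of` takes the statement of GOUT-[P1-IRRSOLV] as a hypothesis.
Sheet: `Lib/Helper76/GOut/GOUT_SHEET.md` (BLOCK P1), statement from `SkelP1.lean.txt`.
-/

set_option autoImplicit false
set_option linter.unusedSectionVars false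

namespace Cfsg.Agent.Lib.Helper76.GOut

section Lin

variable {V : Type*} [AddCommGroup V] [Module (ZMod 2) V] [Finite V]

/-- a transitive subgroup has order divisible by `|V| - 1` -/
theorem h92_card_sub_one_dvd (Y : Subgroup (V ≃ₗ[ZMod 2] V)) (htrans : TransSub Y)
    (v₀ : V) (hv₀ : v₀ ≠ 0) : Nat.card V - 1 ∣ Nat.card ↥Y := by
  classical
  have horb : MulAction.orbit ↥Y v₀ = ({0} : Set V)ᶜ := by
    ext w
    constructor
    · rintro ⟨y, rfl⟩
      show (y : V ≃ₗ[ZMod 2] V) v₀ ∉ ({0} : Set V)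
      intro h
      exact hv₀ ((y : V ≃ₗ[ZMod 2] V).map_eq_zero_iff.1 h)
    · intro hw
      obtain ⟨y, hy, hyw⟩ := htrans v₀ w hv₀ hw
      exact ⟨⟨y, hy⟩, hyw⟩
  have h1 : (MulAction.orbit ↥Y v₀).ncard = Nat.card V - 1 := by
    rw [horb, Set.ncard_compl, Set.ncard_singleton]
  rw [← h1, ← MulAction.index_stabilizer]
  exact Subgroup.index_dvd_card _

/-- GOUT-[P1-ZS] in `_of` form: the hypothesis `hirrsolv` is the statement of GOUT-[P1-IRRSOLV]. -/
theorem h92_P1_of_ne_six_of
    (hirrsolv : ∀ (P : Subgroup (V ≃ₗ[ZMod 2] V)) (r : ℕ) [Fact r.Prime],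
      IsPGroup r P → P ≠ ⊥ → (∀ x ∈ P, x ≠ 1 → IrrSub (Subgroup.zpowers x)) →
      Group.IsSolvable ↥(Subgroup.normalizer (P : Set (V ≃ₗ[ZMod 2] V))))
    (X Y : Subgroup (V ≃ₗ[ZMod 2] V)) (hYX : Y ≤ X)
    (hnorm : ∀ x ∈ X, ∀ y ∈ Y, x * y * x⁻¹ ∈ Y) (htrans : TransSub Y)
    (hn : Module.finrank (ZMod 2) V ≠ 6) : SolvMod X Y := by
  classical
  have : Fact (Nat.Prime 2) := ⟨Nat.prime_two⟩
  set n := Module.finrank (ZMod 2) V with hndef
  have hcardV : Nat.card V = 2 ^ n := by
    rw [Module.natCard_eq_pow_finrank (K := ZMod 2) (V := V), Nat.card_zmod]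
  rcases Nat.lt_or_ge n 2 with hn2 | hn2
  · -- `|V| ≤ 2`: every linear automorphism is trivial
    have hle : Nat.card V ≤ 2 := by
      rw [hcardV]
      calc 2 ^ n ≤ 2 ^ 1 := Nat.pow_le_pow_right (by norm_num) (by omega)
        _ = 2 := by norm_num
    have htriv : ∀ e : V ≃ₗ[ZMod 2] V, e = 1 := by
      intro e
      ext v
      show e v = v
      by_contra hev
      by_cases hv : v = 0
      · apply hev
        rw [hv, map_zero]
      · have hev0 : e v ≠ 0 := fun h => hv (e.map_eq_zero_iff.1 h)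
        let _ : Fintype V := Fintype.ofFinite V
        have h3 : ({0, v, e v} : Finset V).card = 3 :=
          Finset.card_eq_three.2 ⟨0, v, e v, Ne.symm hv, Ne.symm hev0, Ne.symm hev, rfl⟩
        have h4 := Finset.card_le_univ ({0, v, e v} : Finset V)
        rw [h3, ← Nat.card_eq_fintype_card] at h4
        omega
    refine ⟨0, ?_⟩
    intro x hx
    rw [htriv x]
    exact Y.one_mem
  · -- Zsigmondy
    obtain ⟨r, hr, hrdvd, hrprim⟩ := Cfsg.Agent.S2904.result 2 n (by norm_num) (by omega)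
      (fun h => hn h.2) (by
        rintro ⟨-, m, hm⟩
        rcases m with _ | _ | m
        · norm_num at hm
        · norm_num at hm
        · have : (2 : ℕ) ^ (m + 1 + 1) = 4 * 2 ^ m := by ring
          omega)
    have : Fact r.Prime := ⟨hr⟩
    have hdvdY : r ∣ Nat.card ↥Y := by
      refine hrdvd.trans ?_
      rw [← hcardV]
      have hnt : Nontrivial V := by
        rw [← Finite.one_lt_card_iff_nontrivial, hcardV]
        calc 1 < 2 ^ 2 := by norm_num
          _ ≤ 2 ^ n := Nat.pow_le_pow_right (by norm_num) hn2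
      obtain ⟨v₀, hv₀⟩ := exists_ne (0 : V)
      exact h92_card_sub_one_dvd Y htrans v₀ hv₀
    obtain ⟨P⟩ : Nonempty (Sylow r ↥Y) := inferInstance
    have hPbot : (P : Subgroup ↥Y) ≠ ⊥ := P.ne_bot_of_dvd_card hdvdY
    set PA : Subgroup (V ≃ₗ[ZMod 2] V) := (P : Subgroup ↥Y).map Y.subtype with hPA
    have hPA_p : IsPGroup r PA := P.2.map Y.subtype
    have hPA_bot : PA ≠ ⊥ := by
      intro h
      apply hPbot
      exact (Subgroup.map_eq_bot_iff_of_injective _ Y.subtype_injective).1 h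
    have hirr : ∀ x ∈ PA, x ≠ 1 → IrrSub (Subgroup.zpowers x) := by
      intro x hx hx1
      obtain ⟨k, hk⟩ := hPA_p ⟨x, hx⟩
      have hk' : x ^ r ^ k = 1 := by
        have := congrArg Subtype.val hk
        simpa using this
      obtain ⟨j, hjk, hj⟩ := (Nat.dvd_prime_pow hr).1 (orderOf_dvd_of_pow_eq_one hk')
      have hj0 : j ≠ 0 := by
        rintro rfl
        rw [pow_zero, orderOf_eq_one_iff] at hj
        exact hx1 hj
      obtain ⟨i, rfl⟩ := Nat.exists_eq_succ_of_ne_zero hj0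
      set z := x ^ r ^ i with hz
      have hzr : z ^ r = 1 := by
        rw [hz, ← pow_mul, ← pow_succ, ← hj]
        exact pow_orderOf_eq_one x
      have hz1 : z ≠ 1 := by
        intro h
        have h1 : orderOf x ∣ r ^ i := orderOf_dvd_of_pow_eq_one h
        rw [hj] at h1
        have := (Nat.pow_dvd_pow_iff_le_right hr.one_lt).1 h1
        omega
      have hzirr := (Cfsg.Agent.Lib.Helper55.Huppert.prim_fpf_irr (q := 2) z r hrdvd
        (fun i hi1 hin => hrprim i (by omega) hin) hzr hz1).2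
      intro W hW
      refine hzirr W (fun v hv => ?_)
      exact hW z (Subgroup.pow_mem _ (Subgroup.mem_zpowers x) _) v hv
    have hsolN := hirrsolv PA r hPA_p hPA_bot hirr
    have hsol : Group.IsSolvable ↥(X ⊓ Subgroup.normalizer (PA : Set (V ≃ₗ[ZMod 2] V))) :=
      Group.isSolvable_of_isSolvable_injective
        (f := Subgroup.inclusion (inf_le_right :
          X ⊓ Subgroup.normalizer (PA : Set (V ≃ₗ[ZMod 2] V)) ≤ Subgroup.normalizer (PA : Set (V ≃ₗ[ZMod 2] V))))
        (Subgroup.inclusion_injective _)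
    exact solvMod_of_sylow_normalizer X Y hYX hnorm r P hsol

end Lin

end Cfsg.Agent.Lib.Helper76.GOut
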