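import Cfsg.Agent.S5548

/-!
# Functionals on the Golay code and the number of octad words in their kernels

* `dotf l c`: the dot product; `exists_light_repr`: every linear functional on `golayCode` is the
  dot product with a word of weight at most 4;
* `cnt φ`: the number of code words of weight 8 on which `φ` vanishes; `cnt_zero` (759),
  `cnt_pair` (407 for the word `wordOf 3` of weight 2), `cnt_tetrad` (375 for `wordOf 15` of
  weight 4); `cnt_dotf_act`: invariance under `M24`.
-/

set_option autoImplicit false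
open Cfsg

namespace Cfsg.Agent.Lib.Helper92
open Cfsg.Agent.Lib.Helper7 Cfsg.Agent.S5550 Cfsg.Agent.S5548
open Cfsg.Agent.Lib.Helper93 (IsGolayLike supp)
open scoped Pointwise

/-! ### Dot products and functionals on the code -/

/-- The dot product functional of a word. -/
def dotf (l c : GolayPt → ZMod 2) : ZMod 2 := ∑ p, l p * c p

theorem dotf_add_left (l l' c : GolayPt → ZMod 2) : dotf (l + l') c = dotf l c + dotf l' c := by
  simp [dotf, add_mul, Finset.sum_add_distrib]

theorem dotf_add_right (l c c' : GolayPt → ZMod 2) : dotf l (c + c') = dotf l c + dotf l c' := by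
  simp [dotf, mul_add, Finset.sum_add_distrib]

theorem dotf_e (p : GolayPt) (c : GolayPt → ZMod 2) : dotf (e p) c = c p := by
  simp [dotf, e_apply]

theorem dotf_act (σ : Equiv.Perm GolayPt) (l c : GolayPt → ZMod 2) :
    dotf (act σ l) c = dotf l (act σ⁻¹ c) := by
  unfold dotf
  rw [← Equiv.sum_comp σ]
  apply Finset.sum_congr rfl
  intro p _
  rw [act_apply, act_apply, Equiv.symm_apply_apply]
  rfl

theorem dotf_eq_card (l c : GolayPt → ZMod 2) :
    dotf l c = ((support₂ l ∩ support₂ c).card : ZMod 2) :=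
  Cfsg.Agent.Lib.Helper93.dot_eq_card_inter l c

theorem dotf_one (l : GolayPt → ZMod 2) : dotf l 1 = (hammingNorm l : ZMod 2) := by
  rw [dotf_eq_card]
  have : support₂ (1 : GolayPt → ZMod 2) = Finset.univ := by
    ext q; simp [support₂]
  rw [this, Finset.inter_univ, card_support₂_eq_hammingNorm]

theorem dotf_wordOf (m n : ℕ) : dotf (wordOf m) (wordOf n) = (pc (m &&& n) : ZMod 2) := by
  rw [dotf_eq_card, support₂_wordOf, support₂_wordOf, ← setOf_and, card_setOf]

/-- Every linear functional on the code is a dot product with a word of weight at most 4. -/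
theorem exists_light_repr (ψ : ↥golayCode →ₗ[ZMod 2] ZMod 2) :
    ∃ l : GolayPt → ZMod 2, hammingNorm l ≤ 4 ∧
      ∀ c : ↥golayCode, ψ c = dotf l (c : GolayPt → ZMod 2) := by
  obtain ⟨g, hg⟩ := LinearMap.exists_extend ψ
  have hv : ∀ c : ↥golayCode, ψ c = dotf (fun p => g (Pi.single p 1)) (c : GolayPt → ZMod 2) := by
    intro c
    have h1 : ψ c = g (c : GolayPt → ZMod 2) := by rw [← hg]; rfl
    rw [h1, LinearMap.pi_apply_eq_sum_univ g (c : GolayPt → ZMod 2)]
    unfold dotf
    apply Finset.sum_congr rfl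
    intro p _
    rw [smul_eq_mul, mul_comm]
    congr 2
    funext q
    by_cases h : q = p
    · subst h; simp
    · simp [h, Ne.symm h]
  obtain ⟨A, hA, _, l, hlA⟩ := exists_light_set (fun p => g (Pi.single p 1))
  obtain ⟨hlv, hl4⟩ := (hA l).mp hlA
  refine ⟨l, hl4, ?_⟩
  intro c
  rw [hv c]
  have h2 : dotf (l - fun p => g (Pi.single p 1)) (c : GolayPt → ZMod 2) = 0 :=
    golay_orth _ _ hlv c.2
  rw [Cfsg.Agent.Lib.Helper93.sub_eq_add_zmod2, dotf_add_left] at h2
  have h3 : dotf l (c : GolayPt → ZMod 2) = dotf l (c : GolayPt → ZMod 2) +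
      (dotf (fun p => g (Pi.single p 1)) (c : GolayPt → ZMod 2) +
        dotf (fun p => g (Pi.single p 1)) (c : GolayPt → ZMod 2)) := by
    rw [zmod2_add_self, add_zero]
  rw [h3, ← add_assoc, h2, zero_add]

/-! ### Counting octad words in the kernel of a functional -/

/-- The information indices of the code words of weight 8. -/
@[irreducible] def octIdx : List ℕ := (List.range 4096).filter (fun k => pc (enc k) = 8)

set_option maxRecDepth 1000000 in
theorem octIdx_counts : octIdx.length = 759 ∧
    (octIdx.filter (fun k => pc (3 &&& enc k) % 2 = 0)).length = 407 ∧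
    (octIdx.filter (fun k => pc (15 &&& enc k) % 2 = 0)).length = 375 := by
  decide +kernel

theorem mem_octIdx {k : ℕ} : k ∈ octIdx ↔ k < 4096 ∧ pc (enc k) = 8 := by
  unfold octIdx
  simp

theorem octIdx_nodup : octIdx.Nodup := by
  unfold octIdx
  exact List.Nodup.filter _ List.nodup_range

/-- Counting the elements of the image of a list under an injective map satisfying a
predicate. -/
theorem card_filter_image_list {α : Type*} [DecidableEq α] (L : List ℕ) (hL : L.Nodup)
    (f : ℕ → α) (hinj : Set.InjOn f (↑L.toFinset : Set ℕ)) (P : α → Prop) [DecidablePred P] :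
    ((L.toFinset.image f).filter P).card = (L.filter (fun k => P (f k))).length := by
  rw [Finset.filter_image, Finset.card_image_of_injOn
    (hinj.mono (by intro k hk; exact (Finset.mem_filter.mp hk).1)),
    ← List.toFinset_card_of_nodup (List.Nodup.filter _ hL), List.toFinset_filter]
  congr 1
  apply Finset.filter_congr
  intro k _
  simp

/-- The code words of weight 8, as a finite set. -/
def oct8 : Finset (GolayPt → ZMod 2) := octIdx.toFinset.image (fun k => wordOf (enc k))

theorem mem_oct8 {c : GolayPt → ZMod 2} : c ∈ oct8 ↔ c ∈ golayCode ∧ hammingNorm c = 8 := by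
  unfold oct8
  rw [Finset.mem_image]
  constructor
  · rintro ⟨k, hk, rfl⟩
    rw [List.mem_toFinset, mem_octIdx] at hk
    exact ⟨wordOf_enc_mem k, by rw [hammingNorm_wordOf]; exact hk.2⟩
  · rintro ⟨hc, h8⟩
    obtain ⟨k, hk, rfl⟩ := (mem_golayCode_iff c).mp hc
    refine ⟨k, ?_, rfl⟩
    rw [List.mem_toFinset, mem_octIdx]
    exact ⟨hk, by rw [← hammingNorm_wordOf]; exact h8⟩

/-- The number of octad words on which a function vanishes. -/
def cnt (φ : (GolayPt → ZMod 2) → ZMod 2) : ℕ := (oct8.filter (fun c => φ c = 0)).card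

theorem word_injOn : Set.InjOn (fun k => wordOf (enc k)) (↑octIdx.toFinset : Set ℕ) := by
  intro k hk k' hk' h
  rw [Finset.mem_coe, List.mem_toFinset, mem_octIdx] at hk hk'
  exact enc_injOn hk.1 hk'.1 (wordOf_injOn (enc_lt k) (enc_lt k') h)

theorem cnt_dotf_wordOf (m : ℕ) :
    cnt (dotf (wordOf m)) = (octIdx.filter (fun k => pc (m &&& enc k) % 2 = 0)).length := by
  unfold cnt oct8
  rw [card_filter_image_list octIdx octIdx_nodup _ word_injOn]
  have h : octIdx.filter (fun k => decide (dotf (wordOf m) (wordOf (enc k)) = 0))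
      = octIdx.filter (fun k => decide (pc (m &&& enc k) % 2 = 0)) := by
    apply List.filter_congr
    intro k _
    have h1 : dotf (wordOf m) (wordOf (enc k)) = 0 ↔ pc (m &&& enc k) % 2 = 0 := by
      rw [dotf_wordOf, ZMod.natCast_eq_zero_iff_even, Nat.even_iff]
    exact decide_eq_decide.mpr h1
  exact congrArg List.length h

theorem cnt_zero : cnt (dotf 0) = 759 := by
  rw [← wordOf_zero, cnt_dotf_wordOf]
  have : (octIdx.filter (fun k => pc (0 &&& enc k) % 2 = 0)) = octIdx := by
    apply List.filter_eq_self.mpr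
    intro k _
    simp [pc]
  rw [this]
  exact octIdx_counts.1

theorem cnt_pair : cnt (dotf (wordOf 3)) = 407 := by
  rw [cnt_dotf_wordOf]; exact octIdx_counts.2.1

theorem cnt_tetrad : cnt (dotf (wordOf 15)) = 375 := by
  rw [cnt_dotf_wordOf]; exact octIdx_counts.2.2

/-- Transport of the count along a map of the octad words into themselves that is injective. -/
theorem cnt_le_of_map {φ φ' : (GolayPt → ZMod 2) → ZMod 2} (T : (GolayPt → ZMod 2) → GolayPt → ZMod 2)
    (hT : ∀ c ∈ oct8, T c ∈ oct8) (hinj : ∀ c ∈ oct8, ∀ c' ∈ oct8, T c = T c' → c = c')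
    (hφ : ∀ c ∈ oct8, φ' c = φ (T c)) : cnt φ' ≤ cnt φ := by
  unfold cnt
  apply Finset.card_le_card_of_injOn T
  · intro c hc
    rw [Finset.mem_coe, Finset.mem_filter] at hc ⊢
    exact ⟨hT c hc.1, by rw [← hφ c hc.1]; exact hc.2⟩
  · intro c hc c' hc' h
    rw [Finset.mem_coe, Finset.mem_filter] at hc hc'
    exact hinj c hc.1 c' hc'.1 h

/-- The count is invariant under `M24`. -/
theorem cnt_dotf_act {σ : Equiv.Perm GolayPt} (hσ : σ ∈ M24) (l : GolayPt → ZMod 2) :
    cnt (dotf (act σ l)) = cnt (dotf l) := by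
  have key : ∀ τ ∈ M24, ∀ l : GolayPt → ZMod 2, cnt (dotf (act τ l)) ≤ cnt (dotf l) := by
    intro τ hτ l
    apply cnt_le_of_map (act τ⁻¹)
    · intro c hc
      rw [mem_oct8] at hc ⊢
      exact ⟨act_mem (inv_mem hτ) hc.1, by rw [hammingNorm_act]; exact hc.2⟩
    · intro c _ c' _ h
      have := congrArg (act τ) h
      rwa [← act_mul, ← act_mul, mul_inv_cancel, act_one, act_one] at this
    · intro c _
      exact dotf_act τ l c
  apply le_antisymm (key σ hσ l)
  have := key σ⁻¹ (inv_mem hσ) (act σ l)
  rwa [act_inv_act] at this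

end Cfsg.Agent.Lib.Helper92
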