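import Mathlib
import Cfsg.Prelude.Def_Characters
import Cfsg.Prelude.Def_ParabolicCharacters
import Cfsg.Agent.Lib.Helper5.HeckeGAlgDefs
import Cfsg.Agent.Lib.Helper92.HeckeGAlg
import Cfsg.Agent.Lib.Helper78.CharMore
import Cfsg.Agent.Lib.Helper81.GlaubermanId
import Cfsg.Agent.Lib.Helper3.PermChar

/-!
# S2319-[CHAR] (helper92, for helper5)

`dim (e · Z(ℂG))`, `e` the averaging idempotent of a subgroup `B`, is the number of irreducible
constituents of the permutation character `1_B^G`.
-/

set_option autoImplicit false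

namespace Cfsg.Agent.Lib.Helper92.HeckeChar

open Cfsg MonoidAlgebra Cfsg.Agent.Lib.Helper5.GAlg Cfsg.Agent.Lib.Helper92.HeckeGAlg
  Cfsg.Agent.Lib.Helper78
open scoped ComplexConjugate

universe u

section center

variable {G : Type u} [Group G]

/-- An element commuting with all group elements is central. -/
theorem mem_center_of_forall_single' {z : MonoidAlgebra ℂ G}
    (h : ∀ g : G, single g (1 : ℂ) * z = z * single g 1) :
    z ∈ Subalgebra.center ℂ (MonoidAlgebra ℂ G) := by
  rw [Subalgebra.mem_center_iff]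
  intro b
  induction b using MonoidAlgebra.induction_linear with
  | zero => simp
  | add x y hx hy => rw [add_mul, mul_add, hx, hy]
  | single g c =>
    have : single g c = c • single g (1 : ℂ) := by
      rw [smul_single, smul_eq_mul, mul_one]
    rw [this, smul_mul_assoc, mul_smul_comm, h g]

/-- The coefficient function of a central element is a class function. -/
theorem coeff_conj_of_mem_center' {z : MonoidAlgebra ℂ G}
    (hz : z ∈ Subalgebra.center ℂ (MonoidAlgebra ℂ G)) (g h : G) :
    z.coeff (h * g * h⁻¹) = z.coeff g := by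
  have h1 := (Subalgebra.mem_center_iff.mp hz) (single h 1)
  have h2 : (single h (1 : ℂ) * z).coeff (h * g) = z.coeff g := by
    rw [coeff_single_mul_mul, one_mul]
  have h3 : (z * single h (1 : ℂ)).coeff (h * g * h⁻¹ * h) = z.coeff (h * g * h⁻¹) := by
    rw [coeff_mul_single_mul, mul_one]
  rw [← h3, ← h1, inv_mul_cancel_right, h2]

/-- An element whose coefficient function is a class function is central. -/
theorem mem_center_of_coeff_conj' {z : MonoidAlgebra ℂ G}
    (hz : ∀ g h : G, z.coeff (h * g * h⁻¹) = z.coeff g) :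
    z ∈ Subalgebra.center ℂ (MonoidAlgebra ℂ G) := by
  apply mem_center_of_forall_single'
  intro h
  ext x
  have h2 : (single h (1 : ℂ) * z).coeff (h * (h⁻¹ * x)) = z.coeff (h⁻¹ * x) := by
    rw [coeff_single_mul_mul, one_mul]
  have h3 : (z * single h (1 : ℂ)).coeff (x * h⁻¹ * h) = z.coeff (x * h⁻¹) := by
    rw [coeff_mul_single_mul, mul_one]
  rw [mul_inv_cancel_left] at h2
  rw [inv_mul_cancel_right] at h3
  rw [h2, h3, ← hz (h⁻¹ * x) h]
  congr 1
  group

end center

variable {G : Type u} [Group G] [Fintype G]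

/-- the central element `∑_g conj χ(g) g` attached to an irreducible character -/
noncomputable def cen (χ : IrrCharacter G) : MonoidAlgebra ℂ G :=
  ofFun fun g => conj ((χ : G → ℂ) g)

lemma coeff_cen (χ : IrrCharacter G) (g : G) : (cen χ).coeff g = conj ((χ : G → ℂ) g) :=
  coeff_ofFun _ g

lemma cen_mem_center (χ : IrrCharacter G) :
    cen χ ∈ Subalgebra.center ℂ (MonoidAlgebra ℂ G) := by
  apply mem_center_of_coeff_conj'
  intro g h
  rw [coeff_cen, coeff_cen, isClassFunction_irr χ g h]

lemma gstar_cen (χ : IrrCharacter G) : gstar (cen χ) = cen χ := by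
  ext g
  rw [coeff_gstar, coeff_cen, coeff_cen, Complex.conj_conj,
    IsCharacter.inv (IsIrrCharacter.isCharacter χ.2) g]

lemma card_ne_zero' : (Nat.card G : ℂ) ≠ 0 := by
  have : Nat.card G ≠ 0 := Nat.card_pos.ne'
  exact_mod_cast this

/-- generalised orthogonality in the group algebra -/
lemma cen_mul_cen (χ ψ : IrrCharacter G) :
    cen χ * cen ψ =
      if χ = ψ then ((Nat.card G : ℂ) / (χ : G → ℂ) 1) • cen χ else 0 := by
  have hψc : IsCharacter G (ψ : G → ℂ) := IsIrrCharacter.isCharacter ψ.2
  have key : ∀ g : G, (cen χ * cen ψ).coeff g =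
      if χ = ψ then (Nat.card G : ℂ) * (ψ : G → ℂ) g⁻¹ / (ψ : G → ℂ) 1 else 0 := by
    intro g
    rw [coeff_mul_fintype, ← Cfsg.Agent.Lib.Helper81.sum_conj_irr_mul_irr_mul χ ψ g⁻¹]
    refine Finset.sum_congr rfl fun h _ => ?_
    rw [coeff_cen, coeff_cen, ← IsCharacter.inv hψc, mul_inv_rev, inv_inv,
      IsCharacter.mul_comm hψc]
  ext g
  rw [key g]
  by_cases h : χ = ψ
  · rw [if_pos h, if_pos h, coeff_smul_apply, coeff_cen, smul_eq_mul, IsCharacter.inv hψc, h]
    ring
  · rw [if_neg h, if_neg h]
    simp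

/-- every central element is a combination of the `cen χ` -/
lemma center_le_span {z : MonoidAlgebra ℂ G}
    (hz : z ∈ Subalgebra.center ℂ (MonoidAlgebra ℂ G)) :
    ∃ d : IrrCharacter G → ℂ, z = ∑ χ : IrrCharacter G, d χ • cen χ := by
  set f : G → ℂ := fun g => conj (z.coeff g) with hf
  have hfc : IsClassFunction G f := by
    intro g h
    simp only [hf]
    rw [coeff_conj_of_mem_center' hz]
  have hsum := classFunction_eq_sum_irr hfc
  refine ⟨fun χ => conj (classInner f (χ : G → ℂ)), ?_⟩
  ext g
  have h1 : z.coeff g = conj (f g) := by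
    simp only [hf]
    rw [Complex.conj_conj]
  rw [h1, coeff_sum, Finsupp.finsetSum_apply]
  conv_lhs => rw [hsum]
  rw [Finset.sum_apply, map_sum]
  refine Finset.sum_congr rfl fun χ _ => ?_
  rw [coeff_smul_apply, coeff_cen, Pi.smul_apply, smul_eq_mul, smul_eq_mul, map_mul]

section permchar

variable (B : Subgroup G)

/-- the `B`-sum of a function -/
noncomputable def bsum (f : G → ℂ) : ℂ :=
  by classical exact ∑ g : G, if g ∈ B then f g else 0

open Classical in
lemma bsum_def (f : G → ℂ) : bsum B f = ∑ g : G, if g ∈ B then f g else 0 := by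
  unfold bsum
  rfl

open Classical in
/-- the sum of a class function over a point stabiliser of `G ⧸ B` -/
lemma stab_sum_eq {f : G → ℂ} (hf : IsClassFunction G f) (c : G ⧸ B) :
    (∑ g : G, if g • c = c then f g else 0) = bsum B f := by
  have hinv : ∀ (x : G) (c : G ⧸ B),
      (∑ g : G, if g • (x • c) = x • c then f g else 0) =
        ∑ g : G, if g • c = c then f g else 0 := by
    intro x c
    symm
    refine Fintype.sum_equiv (MulAut.conj x).toEquiv _ _ (fun g => ?_)
    have h1 : (MulAut.conj x).toEquiv g = x * g * x⁻¹ := rfl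
    rw [h1, hf g x]
    have h2 : (x * g * x⁻¹) • (x • c) = x • (g • c) := by
      rw [smul_smul, smul_smul, inv_mul_cancel_right]
    rw [h2]
    have h3 : (x • (g • c) = x • c) ↔ (g • c = c) := smul_left_cancel_iff x
    simp only [h3]
  induction c using QuotientGroup.induction_on with
  | H x =>
    have h0 : ((x : G) : G ⧸ B) = x • ((1 : G) : G ⧸ B) := by
      rw [MulAction.Quotient.smul_mk, smul_eq_mul, mul_one]
    rw [h0, hinv, bsum_def]
    refine Finset.sum_congr rfl fun g _ => ?_
    have h4 : (g • ((1 : G) : G ⧸ B) = ((1 : G) : G ⧸ B)) ↔ g ∈ B := by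
      rw [MulAction.Quotient.smul_mk, smul_eq_mul, mul_one, QuotientGroup.eq, mul_one,
        inv_mem_iff]
    simp only [h4]

open Classical in
/-- the permutation character as a sum of indicators -/
lemma fpc_eq_sum (g : G) :
    fixedPointCharacter B g = ∑ c : G ⧸ B, if g • c = c then (1 : ℂ) else 0 := by
  unfold fixedPointCharacter
  rw [Finset.sum_boole, Nat.card_eq_fintype_card, Fintype.card_subtype]
  congr 2

/-- the inner product of the permutation character with a class function -/
lemma sum_fpc_mul {f : G → ℂ} (hf : IsClassFunction G f) :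
    ∑ g : G, fixedPointCharacter B g * f g = (B.index : ℂ) * bsum B f := by
  classical
  have h1 : ∀ g : G, fixedPointCharacter B g * f g =
      ∑ c : G ⧸ B, if g • c = c then f g else 0 := by
    intro g
    rw [fpc_eq_sum, Finset.sum_mul]
    refine Finset.sum_congr rfl fun c _ => ?_
    split_ifs <;> simp
  simp only [h1]
  rw [Finset.sum_comm]
  simp only [stab_sum_eq B hf]
  rw [Finset.sum_const, Finset.card_univ, nsmul_eq_mul, Subgroup.index_eq_card,
    Nat.card_eq_fintype_card]

lemma card_B_ne_zero : (Nat.card B : ℂ) ≠ 0 := by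
  have : Nat.card B ≠ 0 := Nat.card_pos.ne'
  exact_mod_cast this

lemma classInner_fpc_irr (χ : IrrCharacter G) :
    classInner (fixedPointCharacter B) (χ : G → ℂ) =
      (Nat.card B : ℂ)⁻¹ * bsum B (fun g => conj ((χ : G → ℂ) g)) := by
  unfold classInner
  rw [sum_fpc_mul B (isClassFunction_conj (isClassFunction_irr χ)), ← mul_assoc]
  congr 1
  have h := Subgroup.card_mul_index B
  have h' : (Nat.card B : ℂ) * (B.index : ℂ) = (Nat.card G : ℂ) := by exact_mod_cast h
  have hB := card_B_ne_zero B
  have hG : (Nat.card G : ℂ) ≠ 0 := card_ne_zero'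
  have hidx : (B.index : ℂ) ≠ 0 := by
    intro h0
    apply hG
    rw [← h', h0, mul_zero]
  rw [← h']
  field_simp

/-- the coefficient at `1` of `e · a_χ` -/
lemma coeff_one_avg_mul_cen (χ : IrrCharacter G) :
    (avg B * cen χ).coeff 1 = (Nat.card B : ℂ)⁻¹ * bsum B (χ : G → ℂ) := by
  classical
  rw [coeff_mul_fintype, bsum_def, Finset.mul_sum]
  refine Finset.sum_congr rfl fun h _ => ?_
  rw [mul_one, coeff_cen, IsCharacter.inv (IsIrrCharacter.isCharacter χ.2) h, Complex.conj_conj]
  by_cases hh : h ∈ B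
  · rw [coeff_avg_of_mem hh, if_pos hh]
  · rw [coeff_avg_of_not_mem hh, if_neg hh, zero_mul, mul_zero]

lemma conj_bsum (f : G → ℂ) : conj (bsum B f) = bsum B (fun g => conj (f g)) := by
  classical
  rw [bsum_def, bsum_def, map_sum]
  refine Finset.sum_congr rfl fun g _ => ?_
  split_ifs
  · rfl
  · simp

/-- `⟨1_B^G, χ⟩` is the conjugate of the coefficient at `1` of `e · a_χ` -/
lemma classInner_fpc_eq_conj (χ : IrrCharacter G) :
    classInner (fixedPointCharacter B) (χ : G → ℂ) = conj ((avg B * cen χ).coeff 1) := by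
  rw [classInner_fpc_irr, coeff_one_avg_mul_cen, map_mul, map_inv₀, map_natCast, conj_bsum]

/-- `e · a_χ = 0` when `χ` is not a constituent -/
lemma avg_mul_cen_eq_zero (χ : IrrCharacter G) (h : (avg B * cen χ).coeff 1 = 0) :
    avg B * cen χ = 0 := by
  apply eq_zero_of_coeff_one_gstar_mul
  have hcomm : cen χ * avg B = avg B * cen χ :=
    ((Subalgebra.mem_center_iff.mp (cen_mem_center χ)) (avg B)).symm
  have h1 : gstar (avg B * cen χ) * (avg B * cen χ) =
      ((Nat.card G : ℂ) / (χ : G → ℂ) 1) • (avg B * cen χ) := by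
    rw [gstar_mul, gstar_cen, gstar_avg]
    calc cen χ * avg B * (avg B * cen χ) = cen χ * (avg B * avg B) * cen χ := by
          simp only [mul_assoc]
      _ = avg B * (cen χ * cen χ) := by rw [avg_mul_avg, hcomm, mul_assoc]
      _ = ((Nat.card G : ℂ) / (χ : G → ℂ) 1) • (avg B * cen χ) := by
          rw [cen_mul_cen, if_pos rfl, mul_smul_comm]
  rw [h1, coeff_smul_apply, h, smul_zero]

/-- the constituents of the permutation character -/
lemma exists_add_iff (χ : IrrCharacter G) :
    (∃ φ : G → ℂ, IsCharacter G φ ∧ fixedPointCharacter B = (χ : G → ℂ) + φ) ↔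
      (avg B * cen χ).coeff 1 ≠ 0 := by
  classical
  have hπ : IsCharacter G (fixedPointCharacter B) :=
    Cfsg.Agent.Lib.Helper3.isCharacter_card_fixedBy (G := G) (X := G ⧸ B)
  have hiff : (avg B * cen χ).coeff 1 ≠ 0 ↔
      classInner (fixedPointCharacter B) (χ : G → ℂ) ≠ 0 := by
    rw [classInner_fpc_eq_conj]
    exact (map_ne_zero (starRingEnd ℂ)).symm
  rw [hiff]
  constructor
  · rintro ⟨φ, hφ, hsum⟩
    obtain ⟨k, hk⟩ := IsCharacter.exists_nat_classInner hφ χ
    rw [hsum, classInner_add_left, classInner_irr_self χ.2, hk]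
    have h0 : (1 + k : ℕ) ≠ 0 := by omega
    exact_mod_cast h0
  · intro hne
    obtain ⟨m, hm⟩ := (isCharacter_iff_exists_nat_combination _).mp hπ
    have hmχ : classInner (fixedPointCharacter B) (χ : G → ℂ) = (m χ : ℂ) := by
      rw [hm]
      exact classInner_nat_combination (fun ψ => (m ψ : ℂ)) χ
    have hm1 : 1 ≤ m χ := by
      rcases Nat.eq_zero_or_pos (m χ) with h0 | h0
      · exfalso
        apply hne
        rw [hmχ, h0, Nat.cast_zero]
      · exact h0
    set m' : IrrCharacter G → ℕ := fun ψ => if ψ = χ then m χ - 1 else m ψ with hm'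
    refine ⟨∑ ψ : IrrCharacter G, (m' ψ : ℂ) • (ψ : G → ℂ),
      (isCharacter_iff_exists_nat_combination _).mpr ⟨m', rfl⟩, ?_⟩
    have hsplit : ∀ ψ : IrrCharacter G,
        (m ψ : ℂ) • (ψ : G → ℂ) =
          (if ψ = χ then (ψ : G → ℂ) else 0) + (m' ψ : ℂ) • (ψ : G → ℂ) := by
      intro ψ
      by_cases h : ψ = χ
      · subst h
        simp only [hm', if_true]
        have : (m ψ : ℂ) = 1 + ((m ψ - 1 : ℕ) : ℂ) := by
          have : m ψ = 1 + (m ψ - 1) := by omega
          exact_mod_cast this
        rw [this, add_smul, one_smul]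
      · simp only [hm', if_neg h, zero_add]
    rw [hm]
    rw [Finset.sum_congr rfl (fun ψ _ => hsplit ψ), Finset.sum_add_distrib,
      Finset.sum_ite_eq' Finset.univ χ]
    simp

end permchar

/-- **S2319-[CHAR]** -/
theorem finrank_avg_mul_center {G : Type u} [Group G] [Fintype G] (B : Subgroup G) :
    Module.finrank ℂ ↥(Submodule.map (LinearMap.mulLeft ℂ (avg B))
      (Subalgebra.toSubmodule (Subalgebra.center ℂ (MonoidAlgebra ℂ G)))) =
      Nat.card {χ : IrrCharacter G // ∃ φ : G → ℂ, IsCharacter G φ ∧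
        fixedPointCharacter B = (χ : G → ℂ) + φ} := by
  classical
  -- the index set
  let T := {χ : IrrCharacter G // (avg B * cen χ).coeff 1 ≠ 0}
  let v : T → MonoidAlgebra ℂ G := fun χ => avg B * cen χ.1
  -- linear independence
  have hv : LinearIndependent ℂ v := by
    rw [linearIndependent_iff']
    intro s c hc ψ hψ
    have h1 := congrArg (fun x => x * cen ψ.1) hc
    simp only [Finset.sum_mul, zero_mul, smul_mul_assoc] at h1
    rw [Finset.sum_eq_single ψ] at h1
    · have h2 : v ψ * cen ψ.1 = ((Nat.card G : ℂ) / (ψ.1 : G → ℂ) 1) • v ψ := by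
        show avg B * cen ψ.1 * cen ψ.1 = _
        rw [mul_assoc, cen_mul_cen, if_pos rfl, mul_smul_comm]
      rw [h2, smul_smul] at h1
      have hvne : v ψ ≠ 0 := by
        intro h0
        apply ψ.2
        show (avg B * cen ψ.1).coeff 1 = 0
        have : avg B * cen ψ.1 = 0 := h0
        rw [this]
        simp
      rcases smul_eq_zero.mp h1 with h3 | h3
      · have hk : (Nat.card G : ℂ) / (ψ.1 : G → ℂ) 1 ≠ 0 :=
          div_ne_zero card_ne_zero' (IsIrrCharacter.apply_one_ne_zero ψ.1.2)
        exact (mul_eq_zero.mp h3).resolve_right hk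
      · exact absurd h3 hvne
    · intro χ _ hne
      have h2 : v χ * cen ψ.1 = 0 := by
        show avg B * cen χ.1 * cen ψ.1 = 0
        rw [mul_assoc, cen_mul_cen, if_neg (fun h => hne (Subtype.ext h)), mul_zero]
      rw [h2, smul_zero]
    · intro h; exact absurd hψ h
  -- the space is the span
  have hS : Submodule.map (LinearMap.mulLeft ℂ (avg B))
      (Subalgebra.toSubmodule (Subalgebra.center ℂ (MonoidAlgebra ℂ G))) =
      Submodule.span ℂ (Set.range v) := by
    apply le_antisymm
    · rintro x ⟨z, hz, rfl⟩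
      obtain ⟨d, hd⟩ := center_le_span ((Subalgebra.mem_toSubmodule _).mp hz)
      rw [hd, map_sum]
      apply Submodule.sum_mem
      intro χ _
      rw [map_smul]
      apply Submodule.smul_mem
      by_cases hχ : (avg B * cen χ).coeff 1 = 0
      · have : LinearMap.mulLeft ℂ (avg B) (cen χ) = 0 := by
          rw [LinearMap.mulLeft_apply]
          exact avg_mul_cen_eq_zero B χ hχ
        rw [this]
        exact Submodule.zero_mem _
      · exact Submodule.subset_span ⟨⟨χ, hχ⟩, rfl⟩
    · rw [Submodule.span_le]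
      rintro x ⟨χ, rfl⟩
      exact ⟨cen χ.1, (Subalgebra.mem_toSubmodule _).mpr (cen_mem_center χ.1), rfl⟩
  rw [hS, finrank_span_eq_card hv, ← Nat.card_eq_fintype_card]
  exact Nat.card_congr (Equiv.subtypeEquivRight fun χ => (exists_add_iff B χ).symm)

end Cfsg.Agent.Lib.Helper92.HeckeChar
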