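import Mathlib
import Cfsg.Prelude.Def_Sporadic_a
import Cfsg.Agent.Lib.Helper7.LeechSet

/-!
Leech lattice: minimal norm 32 **assuming** the weight distribution of the binary Golay code
(hypothesis `hW`, which is exactly the statement of S0359), and the standard consequence on
short vectors congruent modulo twice the lattice.
-/

set_option autoImplicit false

namespace Cfsg.Agent.Lib.Helper92
open Cfsg

theorem card_support_eq_hammingNorm (w : GolayPt → ZMod 2) : (support₂ w).card = hammingNorm w := rfl

/-- Minimal norm of vectors of `leechSet`, given the weights of the code. -/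
theorem min_norm_leechSet
    (hW : ∀ w : GolayPt → ZMod 2, w ∈ golayCode → hammingNorm w = 0 ∨ hammingNorm w = 8 ∨
      hammingNorm w = 12 ∨ hammingNorm w = 16 ∨ hammingNorm w = 24)
    (x : GolayPt → ℤ) (hx : x ∈ leechSet) (h0 : x ≠ 0) : 32 ≤ sqNorm x := by
  obtain ⟨m, hpar, hsum, hsets⟩ := hx
  -- cardinalities of the residue classes
  have hcard : ∀ k : ℤ, (Finset.univ.filter fun i => x i ≡ k [ZMOD 4]).card = 0 ∨
      8 ≤ (Finset.univ.filter fun i => x i ≡ k [ZMOD 4]).card := by
    intro k
    obtain ⟨w, hw, hs⟩ := hsets k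
    rw [← hs, card_support_eq_hammingNorm]
    rcases hW w hw with h | h | h | h | h <;> omega
  have hcard4 : ∀ k : ℤ, 4 ∣ (Finset.univ.filter fun i => x i ≡ k [ZMOD 4]).card := by
    intro k
    obtain ⟨w, hw, hs⟩ := hsets k
    rw [← hs, card_support_eq_hammingNorm]
    rcases hW w hw with h | h | h | h | h <;> rw [h] <;> decide
  unfold sqNorm
  rcases Int.emod_two_eq_zero_or_one m with hm | hm
  · -- even case
    have heven : ∀ i, x i % 2 = 0 := by
      intro i
      have := hpar i
      unfold Int.ModEq at this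
      omega
    rcases hcard 2 with h2 | h2
    · -- no coordinates ≡ 2 mod 4 : all ≡ 0 mod 4
      have h4 : ∀ i, x i % 4 = 0 := by
        intro i
        by_contra hne
        have hi : i ∈ (Finset.univ.filter fun i => x i ≡ 2 [ZMOD 4]) := by
          simp only [Finset.mem_filter, Finset.mem_univ, true_and]
          have := heven i
          unfold Int.ModEq
          omega
        rw [Finset.card_eq_zero] at h2
        rw [h2] at hi
        exact absurd hi (Finset.notMem_empty i)
      -- some nonzero coordinate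
      have : ∃ i, x i ≠ 0 := by
        by_contra hno
        push Not at hno
        exact h0 (funext hno)
      obtain ⟨i, hi⟩ := this
      by_cases hother : ∃ j, j ≠ i ∧ x j ≠ 0
      · obtain ⟨j, hji, hj⟩ := hother
        have hi16 : 16 ≤ x i ^ 2 := by
          have := h4 i
          have h4' : 4 ≤ |x i| := by
            rcases abs_cases (x i) with ⟨h, _⟩ | ⟨h, _⟩ <;> omega
          nlinarith [sq_abs (x i)]
        have hj16 : 16 ≤ x j ^ 2 := by
          have := h4 j
          have h4' : 4 ≤ |x j| := by
            rcases abs_cases (x j) with ⟨h, _⟩ | ⟨h, _⟩ <;> omega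
          nlinarith [sq_abs (x j)]
        have hpair : x i ^ 2 + x j ^ 2 ≤ ∑ p, x p ^ 2 := by
          have hsub : ({i, j} : Finset GolayPt) ⊆ Finset.univ := Finset.subset_univ _
          have := Finset.sum_le_sum_of_subset_of_nonneg (f := fun p => x p ^ 2) hsub
            (fun p _ _ => sq_nonneg (x p))
          rw [Finset.sum_pair (Ne.symm hji)] at this
          exact this
        linarith
      · push Not at hother
        -- x = x i • e_i, sum = x i ≡ 0 mod 8
        have hsum' : ∑ p, x p = x i := by
          rw [Finset.sum_eq_single i]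
          · intro b _ hb
            exact hother b hb
          · intro h; exact absurd (Finset.mem_univ i) h
        rw [hsum'] at hsum
        have h8 : x i % 8 = 0 := by
          unfold Int.ModEq at hsum
          omega
        have h8' : 8 ≤ |x i| := by
          rcases abs_cases (x i) with ⟨h, _⟩ | ⟨h, _⟩ <;> omega
        have hi64 : 64 ≤ x i ^ 2 := by nlinarith [sq_abs (x i)]
        have : x i ^ 2 ≤ ∑ p, x p ^ 2 :=
          Finset.single_le_sum (f := fun p => x p ^ 2) (fun p _ => sq_nonneg _) (Finset.mem_univ i)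
        linarith
    · -- at least 8 coordinates ≡ 2 mod 4, each of square ≥ 4
      set S := (Finset.univ.filter fun i => x i ≡ 2 [ZMOD 4]) with hS
      have hterm : ∀ i ∈ S, (4 : ℤ) ≤ x i ^ 2 := by
        intro i hi
        rw [hS] at hi
        simp only [Finset.mem_filter, Finset.mem_univ, true_and] at hi
        unfold Int.ModEq at hi
        have h2' : 2 ≤ |x i| := by
          rcases abs_cases (x i) with ⟨h, _⟩ | ⟨h, _⟩ <;> omega
        nlinarith [sq_abs (x i)]
      have h1 : ∑ i ∈ S, (4 : ℤ) ≤ ∑ i ∈ S, x i ^ 2 := Finset.sum_le_sum hterm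
      have h2'' : ∑ i ∈ S, x i ^ 2 ≤ ∑ i, x i ^ 2 :=
        Finset.sum_le_sum_of_subset_of_nonneg (Finset.subset_univ _) (fun p _ _ => sq_nonneg (x p))
      rw [Finset.sum_const, nsmul_eq_mul] at h1
      have : (8 : ℤ) ≤ (S.card : ℤ) := by exact_mod_cast h2
      linarith
  · -- odd case
    have hodd : ∀ i, x i % 2 = 1 := by
      intro i
      have := hpar i
      unfold Int.ModEq at this
      omega
    have hone : ∀ i, (1 : ℤ) ≤ x i ^ 2 := by
      intro i
      have := hodd i
      have h1' : 1 ≤ |x i| := by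
        rcases abs_cases (x i) with ⟨h, _⟩ | ⟨h, _⟩ <;> omega
      nlinarith [sq_abs (x i)]
    by_cases hbig : ∃ i, 3 ≤ |x i|
    · obtain ⟨i, hi⟩ := hbig
      have hi9 : 9 ≤ x i ^ 2 := by nlinarith [sq_abs (x i)]
      -- sum = x i ^2 + sum over others ≥ 9 + 23
      have hsplit : ∑ p, x p ^ 2 = x i ^ 2 + ∑ p ∈ Finset.univ.erase i, x p ^ 2 :=
        (Finset.add_sum_erase Finset.univ (fun p => x p ^ 2) (Finset.mem_univ i)).symm
      have hrest : (23 : ℤ) ≤ ∑ p ∈ Finset.univ.erase i, x p ^ 2 := by
        have h := Finset.sum_le_sum (s := Finset.univ.erase i) (f := fun _ => (1 : ℤ))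
          (g := fun p => x p ^ 2) (fun p _ => hone p)
        rw [Finset.sum_const, nsmul_eq_mul, Finset.card_erase_of_mem (Finset.mem_univ i)] at h
        have hc : (Finset.univ : Finset GolayPt).card = 24 := by decide
        rw [hc] at h
        calc (23 : ℤ) = ((24 - 1 : ℕ) : ℤ) * 1 := by norm_num
          _ ≤ _ := h
      rw [hsplit]
      linarith
    · push Not at hbig
      exfalso
      -- all coordinates are ±1
      have hpm : ∀ i, x i = 1 ∨ x i = -1 := by
        intro i
        have h1 := hbig i
        have h2 := hodd i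
        rcases abs_cases (x i) with ⟨h, _⟩ | ⟨h, _⟩ <;> omega
      -- S = positions with x i = -1, i.e. ≡ 3 mod 4
      set S := (Finset.univ.filter fun i => x i ≡ 3 [ZMOD 4]) with hS
      have hS4 := hcard4 3
      rw [← hS] at hS4
      have hsumS : ∑ i, x i = 24 - 2 * (S.card : ℤ) := by
        have hx' : ∀ i, x i = 1 - 2 * (if i ∈ S then 1 else 0) := by
          intro i
          rw [hS]
          simp only [Finset.mem_filter, Finset.mem_univ, true_and]
          rcases hpm i with h | h <;> rw [h] <;> simp [Int.ModEq]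
        have : ∑ i, x i = ∑ i, ((1 : ℤ) - 2 * (if i ∈ S then 1 else 0)) :=
          Finset.sum_congr rfl (fun i _ => hx' i)
        rw [this, Finset.sum_sub_distrib, ← Finset.mul_sum]
        simp only [Finset.sum_const, nsmul_eq_mul, mul_one]
        have hc : (Finset.univ : Finset GolayPt).card = 24 := by decide
        rw [hc, Finset.sum_ite_mem, Finset.univ_inter]
        simp
      rw [hsumS] at hsum
      obtain ⟨c, hc⟩ := hS4
      unfold Int.ModEq at hsum
      rw [hc] at hsum
      push_cast at hsum
      omega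


/-- Minimal norm of the Leech lattice, given the weights of the code (hypothesis = statement of S0359). -/
theorem min_norm_leechLattice
    (hW : ∀ w : GolayPt → ZMod 2, w ∈ golayCode → hammingNorm w = 0 ∨ hammingNorm w = 8 ∨
      hammingNorm w = 12 ∨ hammingNorm w = 16 ∨ hammingNorm w = 24)
    (x : GolayPt → ℤ) (hx : x ∈ leechLattice) (h0 : x ≠ 0) : 32 ≤ sqNorm x :=
  min_norm_leechSet hW x ((Cfsg.Agent.Lib.Helper7.mem_leechLattice_iff x).mp hx) h0

theorem sqNorm_two_smul (z : GolayPt → ℤ) : sqNorm (2 • z) = 4 * sqNorm z := by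
  unfold sqNorm
  rw [Finset.mul_sum]
  apply Finset.sum_congr rfl
  intro i _
  simp only [Pi.smul_apply, smul_eq_mul]
  ring

theorem parallelogram (v w : GolayPt → ℤ) :
    sqNorm (v - w) + sqNorm (v + w) = 2 * sqNorm v + 2 * sqNorm w := by
  unfold sqNorm
  rw [Finset.mul_sum, Finset.mul_sum, ← Finset.sum_add_distrib, ← Finset.sum_add_distrib]
  apply Finset.sum_congr rfl
  intro i _
  simp only [Pi.sub_apply, Pi.add_apply]
  ring

theorem short_congruent_of_min_norm (hmin : ∀ x : GolayPt → ℤ, x ∈ leechLattice → x ≠ 0 → 32 ≤ sqNorm x)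
    (v w : Cfsg.GolayPt → ℤ) (hv : v ∈ Cfsg.leechLattice) (hw : w ∈ Cfsg.leechLattice) (hv0 : v ≠ 0) (hw0 : w ≠ 0) (hvn : Cfsg.sqNorm v ≤ 64) (hwn : Cfsg.sqNorm w ≤ 64) (hc : ∃ z ∈ Cfsg.leechLattice, v - w = 2 • z) : Cfsg.sqNorm v = Cfsg.sqNorm w ∧ (Cfsg.sqNorm v < 64 → w = v ∨ w = -v) := by
  obtain ⟨z, hz, hvw⟩ := hc
  by_cases h1 : w = v
  · subst h1
    exact ⟨rfl, fun _ => Or.inl rfl⟩
  by_cases h2 : w = -v
  · subst h2
    refine ⟨?_, fun _ => Or.inr rfl⟩
    unfold sqNorm
    apply Finset.sum_congr rfl
    intro i _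
    simp
  -- otherwise both z and z + w are nonzero lattice vectors
  have hz0 : z ≠ 0 := by
    intro h0
    apply h1
    rw [h0, smul_zero] at hvw
    exact (sub_eq_zero.mp hvw).symm
  have hzw : z + w ∈ leechLattice := leechLattice.add_mem hz hw
  have hsum : v + w = 2 • (z + w) := by
    have : v = 2 • z + w := by rw [← hvw]; abel
    rw [this, smul_add, two_smul ℕ w]
    abel
  have hzw0 : z + w ≠ 0 := by
    intro h0
    apply h2
    rw [h0, smul_zero] at hsum
    exact eq_neg_of_add_eq_zero_right hsum
  have n1 := hmin z hz hz0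
  have n2 := hmin (z + w) hzw hzw0
  have p := parallelogram v w
  rw [hvw, hsum, sqNorm_two_smul, sqNorm_two_smul] at p
  have hv64 : sqNorm v = 64 := by linarith
  have hw64 : sqNorm w = 64 := by linarith
  refine ⟨by rw [hv64, hw64], fun h => ?_⟩
  rw [hv64] at h
  exact absurd h (lt_irrefl _)


end Cfsg.Agent.Lib.Helper92
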