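import Mathlib
import Cfsg.Prelude.Def_Solvable
import Cfsg.Agent.Lib.Helper55.Cores2
import Cfsg.Agent.Lib.Helper97.Cores
import Cfsg.Agent.Lib.Helper72.SolvableNormal

/-!
# Groups with `O_2(G) = O_{2'}(G) = 1`

`Red G` says that the largest normal `2`-subgroup and the largest normal subgroup of odd order of
`G` are trivial.  Such a group has no nontrivial solvable normal subgroup, the property passes to
normal subgroups and along isomorphisms.
-/

set_option autoImplicit false

namespace Cfsg.Agent.Lib.Helper92.RedG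

open Cfsg

/-- `O_2(G) = 1` and `O_{2'}(G) = 1`. -/
def Red (G : Type*) [Group G] : Prop := pCore 2 G = ⊥ ∧ pPrimeCore 2 G = ⊥

variable {G : Type*} [Group G]

theorem Red.eq_bot_of_two {N : Subgroup G} (h : Red G) (hN : N.Normal) (hp : IsPGroup 2 N) :
    N = ⊥ := by
  have := Cfsg.Agent.Lib.Helper55.le_pCore hN hp
  rw [h.1] at this
  exact le_bot_iff.mp this

theorem Red.eq_bot_of_odd {N : Subgroup G} (h : Red G) (hN : N.Normal)
    (hc : (Nat.card N).Coprime 2) : N = ⊥ := by
  have := Cfsg.Agent.Lib.Helper55.le_pPrimeCore hN hc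
  rw [h.2] at this
  exact le_bot_iff.mp this

theorem Red.eq_bot_of_isPGroup {N : Subgroup G} (h : Red G) (hN : N.Normal) {q : ℕ}
    (hq : q.Prime) (hp : IsPGroup q N) [Finite N] : N = ⊥ := by
  rcases hq.eq_two_or_odd with h2 | hodd
  · subst h2
    exact h.eq_bot_of_two hN hp
  · apply h.eq_bot_of_odd hN
    have : Fact q.Prime := ⟨hq⟩
    obtain ⟨k, hk⟩ := IsPGroup.iff_card.mp hp
    rw [hk]
    apply Nat.Coprime.pow_left
    rw [Nat.coprime_comm, Nat.Prime.coprime_iff_not_dvd Nat.prime_two]
    intro hd
    have := (Nat.prime_dvd_prime_iff_eq Nat.prime_two hq).mp hd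
    omega

theorem Red.of_mulEquiv {G' : Type*} [Group G'] (e : G ≃* G') (h : Red G) : Red G' := by
  constructor
  · rw [← Cfsg.Agent.Lib.Helper97.pCore_map_equiv e 2, h.1, Subgroup.map_bot]
  · rw [← Cfsg.Agent.Lib.Helper97.pPrimeCore_map_equiv e 2, h.2, Subgroup.map_bot]

theorem Red.normal [Finite G] (h : Red G) (N : Subgroup G) [N.Normal] : Red ↥N := by
  have : Fact (Nat.Prime 2) := ⟨Nat.prime_two⟩
  constructor
  · have h1 := Cfsg.Agent.Lib.Helper55.pCore_map_subtype_le 2 N
    rw [h.1, le_bot_iff] at h1
    exact (Subgroup.map_eq_bot_iff_of_injective _ N.subtype_injective).mp h1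
  · exact Cfsg.Agent.Lib.Helper55.pPrimeCore_eq_bot_of_normal 2 N h.2

/-- A group with trivial cores which is solvable is trivial. -/
theorem Red.subsingleton_of_isSolvable [Finite G] (h : Red G) (hs : Group.IsSolvable G) :
    Subsingleton G := by
  by_contra hns
  rw [not_subsingleton_iff_nontrivial] at hns
  obtain ⟨q, hq, K, hKn, hK, hKq⟩ := Cfsg.Agent.Lib.Helper72.exists_normal_pgroup_of_solvable hs
  exact hK (h.eq_bot_of_isPGroup hKn hq hKq)

theorem Red.not_isSolvable [Finite G] [Nontrivial G] (h : Red G) : ¬ Group.IsSolvable G := by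
  intro hs
  have := h.subsingleton_of_isSolvable hs
  exact not_subsingleton G this

/-- A solvable normal subgroup of a group with trivial cores is trivial. -/
theorem Red.eq_bot_of_isSolvable [Finite G] (h : Red G) (N : Subgroup G) [N.Normal]
    (hs : Group.IsSolvable N) : N = ⊥ := by
  have := (h.normal N).subsingleton_of_isSolvable hs
  exact Subgroup.eq_bot_of_subsingleton N

/-- An injective homomorphism from a normal subgroup into a solvable group forces triviality. -/
theorem Red.ker_eq_bot_of_isSolvable [Finite G] (h : Red G) {M : Type*} [Group M] (f : G →* M)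
    (hs : Group.IsSolvable f.ker) : Function.Injective f := by
  rw [← MonoidHom.ker_eq_bot_iff]
  exact h.eq_bot_of_isSolvable f.ker hs

end Cfsg.Agent.Lib.Helper92.RedG
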