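import Mathlib
import Cfsg.Agent.Lib.Helper92.RedBasic
import Cfsg.Agent.Lib.Helper92.AddPerm1344

/-!
# Subgroups of order 1344 of `GL₄(2)` have a nontrivial normal 2-subgroup

A subgroup `H` of order `1344` of `GL₄(2)` fixes a nonzero vector or stabilizes a hyperplane
(`AddPerm1344.fix_or_hyperplane`).  In the second case the elements fixing the hyperplane pointwise
form a nontrivial normal elementary abelian 2-subgroup; the first case is reduced to the second by
the inverse-transpose automorphism.  Hence `O_2(H) ≠ 1`.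
-/

set_option autoImplicit false
set_option linter.unusedSectionVars false

namespace Cfsg.Agent.Lib.Helper92.Lin1344

open Equiv Matrix Cfsg.Agent.Lib.Helper92.RedG Cfsg.Agent.Lib.Helper92.A7Trans
  Cfsg.Agent.Lib.Helper92.AddPerm1344

/-- The vectors. -/
abbrev Vec4 := Fin 4 → ZMod 2

/-- The permutation of the vectors induced by an invertible matrix. -/
def rho4 : GL (Fin 4) (ZMod 2) →* Perm Vec4 where
  toFun g :=
    { toFun := fun v => (g : Matrix (Fin 4) (Fin 4) (ZMod 2)) *ᵥ v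
      invFun := fun v => ((g⁻¹ : GL (Fin 4) (ZMod 2)) : Matrix (Fin 4) (Fin 4) (ZMod 2)) *ᵥ v
      left_inv := by
        intro v
        show ((g⁻¹ : GL (Fin 4) (ZMod 2)) : Matrix (Fin 4) (Fin 4) (ZMod 2)) *ᵥ
          ((g : Matrix (Fin 4) (Fin 4) (ZMod 2)) *ᵥ v) = v
        rw [Matrix.mulVec_mulVec, ← Units.val_mul, inv_mul_cancel, Units.val_one, Matrix.one_mulVec]
      right_inv := by
        intro v
        show (g : Matrix (Fin 4) (Fin 4) (ZMod 2)) *ᵥ
          (((g⁻¹ : GL (Fin 4) (ZMod 2)) : Matrix (Fin 4) (Fin 4) (ZMod 2)) *ᵥ v) = v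
        rw [Matrix.mulVec_mulVec, ← Units.val_mul, mul_inv_cancel, Units.val_one,
          Matrix.one_mulVec] }
  map_one' := by
    apply Equiv.ext
    intro v
    show ((1 : GL (Fin 4) (ZMod 2)) : Matrix (Fin 4) (Fin 4) (ZMod 2)) *ᵥ v = v
    rw [Units.val_one, Matrix.one_mulVec]
  map_mul' g h := by
    apply Equiv.ext
    intro v
    show ((g * h : GL (Fin 4) (ZMod 2)) : Matrix (Fin 4) (Fin 4) (ZMod 2)) *ᵥ v =
      (g : Matrix (Fin 4) (Fin 4) (ZMod 2)) *ᵥ ((h : Matrix (Fin 4) (Fin 4) (ZMod 2)) *ᵥ v)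
    rw [Matrix.mulVec_mulVec, Units.val_mul]

theorem rho4_apply (g : GL (Fin 4) (ZMod 2)) (v : Vec4) :
    rho4 g v = (g : Matrix (Fin 4) (Fin 4) (ZMod 2)) *ᵥ v := rfl

theorem rho4_injective : Function.Injective rho4 := by
  intro g h hgh
  apply Units.ext
  apply Matrix.mulVec_injective
  funext v
  have := congrArg (fun p : Perm Vec4 => p v) hgh
  exact this

theorem rho4_isAdd (g : GL (Fin 4) (ZMod 2)) : IsAdd (rho4 g) := by
  intro x y
  rw [rho4_apply, rho4_apply, rho4_apply, Matrix.mulVec_add]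

/-- The inverse transpose automorphism. -/
def tau4 : GL (Fin 4) (ZMod 2) →* GL (Fin 4) (ZMod 2) where
  toFun g :=
    ⟨((g⁻¹ : GL (Fin 4) (ZMod 2)) : Matrix (Fin 4) (Fin 4) (ZMod 2))ᵀ,
      (g : Matrix (Fin 4) (Fin 4) (ZMod 2))ᵀ,
      by rw [← Matrix.transpose_mul, ← Units.val_mul, mul_inv_cancel, Units.val_one,
        Matrix.transpose_one],
      by rw [← Matrix.transpose_mul, ← Units.val_mul, inv_mul_cancel, Units.val_one,
        Matrix.transpose_one]⟩
  map_one' := by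
    apply Units.ext
    show ((1⁻¹ : GL (Fin 4) (ZMod 2)) : Matrix (Fin 4) (Fin 4) (ZMod 2))ᵀ = 1
    rw [inv_one, Units.val_one, Matrix.transpose_one]
  map_mul' g h := by
    apply Units.ext
    show (((g * h)⁻¹ : GL (Fin 4) (ZMod 2)) : Matrix (Fin 4) (Fin 4) (ZMod 2))ᵀ =
      ((g⁻¹ : GL (Fin 4) (ZMod 2)) : Matrix (Fin 4) (Fin 4) (ZMod 2))ᵀ *
        ((h⁻¹ : GL (Fin 4) (ZMod 2)) : Matrix (Fin 4) (Fin 4) (ZMod 2))ᵀ
    rw [_root_.mul_inv_rev, Units.val_mul, Matrix.transpose_mul]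

theorem tau4_val (g : GL (Fin 4) (ZMod 2)) :
    ((tau4 g : GL (Fin 4) (ZMod 2)) : Matrix (Fin 4) (Fin 4) (ZMod 2)) =
      ((g⁻¹ : GL (Fin 4) (ZMod 2)) : Matrix (Fin 4) (Fin 4) (ZMod 2))ᵀ := rfl

theorem tau4_injective : Function.Injective tau4 := by
  intro g h hgh
  have h1 := congrArg (fun u : GL (Fin 4) (ZMod 2) => (u : Matrix (Fin 4) (Fin 4) (ZMod 2))) hgh
  simp only [tau4_val] at h1
  have h2 := Matrix.transpose_injective h1
  have h3 : g⁻¹ = h⁻¹ := Units.ext h2
  exact inv_injective h3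

theorem card_vec4 : Fintype.card Vec4 = 16 := by
  rw [Fintype.card_fun, ZMod.card, Fintype.card_fin]
  norm_num

theorem vec4_add_self (x : Vec4) : x + x = 0 := by
  funext i
  exact CharTwo.add_self_eq_zero (x i)

theorem card_perp : ∀ v : Vec4, v ≠ 0 →
    (Finset.univ.filter (fun φ : Vec4 => φ ⬝ᵥ v = 0)).card = 8 := by decide

/-- The hyperplane orthogonal to `v`. -/
def perp (v : Vec4) : AddSubgroup Vec4 where
  carrier := {φ | φ ⬝ᵥ v = 0}
  add_mem' := by
    intro a b ha hb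
    show (a + b) ⬝ᵥ v = 0
    rw [add_dotProduct, ha, hb, add_zero]
  zero_mem' := zero_dotProduct v
  neg_mem' := by
    intro a ha
    show (-a) ⬝ᵥ v = 0
    rw [neg_dotProduct, ha, neg_zero]

theorem mem_perp {v φ : Vec4} : φ ∈ perp v ↔ φ ⬝ᵥ v = 0 := Iff.rfl

theorem card_perp' {v : Vec4} (hv : v ≠ 0) : Nat.card (perp v) = 8 := by
  have e : perp v ≃ {φ // φ ∈ Finset.univ.filter (fun φ : Vec4 => φ ⬝ᵥ v = 0)} :=
    Equiv.subtypeEquivRight (fun φ => by rw [Finset.mem_filter, mem_perp]; simp)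
  rw [Nat.card_congr e, Nat.card_eq_fintype_card, Fintype.card_coe, card_perp v hv]

/-- Transfer of a normal 2-subgroup along an injective homomorphism. -/
theorem not_red_of_image {G G' : Type*} [Group G] [Group G'] (ψ : G →* G')
    (hψ : Function.Injective ψ) (H : Subgroup G) (N : Subgroup G') (hN : N ≤ H.map ψ)
    (hne : N ≠ ⊥) (hexp : ∀ n ∈ N, n * n = 1)
    (hnorm : ∀ j ∈ H.map ψ, ∀ n ∈ N, j * n * j⁻¹ ∈ N) : ¬ Red H := by
  intro hR
  let M : Subgroup H := (N.comap ψ).subgroupOf H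
  have hMmem : ∀ m : H, m ∈ M ↔ ψ (m : G) ∈ N := fun m => Iff.rfl
  have hMn : M.Normal := by
    constructor
    intro m hm h
    rw [hMmem] at hm ⊢
    have := hnorm (ψ (h : G)) (Subgroup.mem_map_of_mem ψ h.2) _ hm
    simpa using this
  have hM2 : IsPGroup 2 M := by
    intro m
    refine ⟨1, ?_⟩
    apply Subtype.ext
    apply Subtype.ext
    apply hψ
    have := hexp _ ((hMmem m.1).mp m.2)
    simp only [pow_one, Subgroup.coe_pow, Subgroup.coe_one, map_pow, map_one]
    rw [pow_two]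
    exact this
  have hMbot := hR.eq_bot_of_two hMn hM2
  apply hne
  rw [eq_bot_iff]
  intro n hn
  obtain ⟨h, hh, rfl⟩ := hN hn
  have : (⟨h, hh⟩ : H) ∈ M := (hMmem _).mpr hn
  rw [hMbot, Subgroup.mem_bot] at this
  have h1 : h = 1 := congrArg Subtype.val this
  rw [Subgroup.mem_bot, h1, map_one]

/-- **Subgroups of order 1344 of `GL₄(2)` have `O_2 ≠ 1`.** -/
theorem not_red_of_card_1344 (H : Subgroup (GL (Fin 4) (ZMod 2))) (hc : Nat.card H = 1344) :
    ¬ Red H := by
  have hJc : Nat.card (H.map rho4) = 1344 := by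
    rw [← hc]
    exact (Nat.card_congr (H.equivMapOfInjective rho4 rho4_injective).toEquiv).symm
  have hJadd : ∀ j ∈ H.map rho4, IsAdd j := by
    rintro j ⟨g, -, rfl⟩
    exact rho4_isAdd g
  rcases fix_or_hyperplane card_vec4 vec4_add_self (H.map rho4) hJadd hJc with
    ⟨v, hv, hfix⟩ | ⟨W, hW, hinv⟩
  · -- a fixed vector: pass to the inverse transpose
    have hψ : Function.Injective (rho4.comp tau4) := rho4_injective.comp tau4_injective
    have hJc' : Nat.card (H.map (rho4.comp tau4)) = 1344 := by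
      rw [← hc]
      exact (Nat.card_congr (H.equivMapOfInjective _ hψ).toEquiv).symm
    have hJadd' : ∀ j ∈ H.map (rho4.comp tau4), IsAdd j := by
      rintro j ⟨g, -, rfl⟩
      exact rho4_isAdd (tau4 g)
    have hinv' : ∀ j ∈ H.map (rho4.comp tau4), ∀ x, j x ∈ perp v ↔ x ∈ perp v := by
      rintro j ⟨g, hg, rfl⟩ x
      have hgv : ((g⁻¹ : GL (Fin 4) (ZMod 2)) : Matrix (Fin 4) (Fin 4) (ZMod 2)) *ᵥ v = v := by
        have h1 := hfix (rho4 g⁻¹) (Subgroup.mem_map_of_mem rho4 (H.inv_mem hg))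
        exact h1
      rw [mem_perp, mem_perp, MonoidHom.comp_apply, rho4_apply, tau4_val, Matrix.mulVec_transpose,
        ← Matrix.dotProduct_mulVec, hgv]
    obtain ⟨N, hN, hne, hexp, hnorm⟩ := exists_normal_of_hyperplane card_vec4 vec4_add_self
      (H.map (rho4.comp tau4)) hJadd' hJc' (perp v) (card_perp' hv) hinv'
    exact not_red_of_image (rho4.comp tau4) hψ H N hN hne hexp hnorm
  · obtain ⟨N, hN, hne, hexp, hnorm⟩ := exists_normal_of_hyperplane card_vec4 vec4_add_self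
      (H.map rho4) hJadd hJc W hW hinv
    exact not_red_of_image rho4 rho4_injective H N hN hne hexp hnorm

end Cfsg.Agent.Lib.Helper92.Lin1344
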