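import Mathlib
import Cfsg.Agent.Lib.Helper78.FiniteAbelianDual

/-!
# Linear characters trivial on a normal subgroup with abelian quotient (helper92)

Module [LINCHAR] for helper79's S0999/S4701 assembly.
-/

set_option autoImplicit false
set_option linter.style.haveILetI false

namespace Cfsg.Agent.Lib.Helper92.LinChar

theorem linear_chars_of_abelian_quotient {N : Type*} [Group N] [Finite N] (K : Subgroup N) [K.Normal]
    (hcomm : ∀ a b : N, a * b * a⁻¹ * b⁻¹ ∈ K) :
    ∃ Λ : Subgroup (N →* ℂˣ), (∀ l : N →* ℂˣ, l ∈ Λ ↔ ∀ k ∈ K, l k = 1) ∧ Nat.card Λ = K.index ∧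
      (∀ y : N, y ∈ K → ∑ᶠ l ∈ (Λ : Set (N →* ℂˣ)), ((l y : ℂˣ) : ℂ) = (K.index : ℂ)) ∧
      (∀ y : N, y ∉ K → ∑ᶠ l ∈ (Λ : Set (N →* ℂˣ)), ((l y : ℂˣ) : ℂ) = 0) := by
  classical
  letI instQ : CommGroup (N ⧸ K) :=
    { (inferInstance : Group (N ⧸ K)) with
      mul_comm := by
        intro a b
        induction a using QuotientGroup.induction_on with
        | _ a =>
        induction b using QuotientGroup.induction_on with
        | _ b =>
        rw [← QuotientGroup.mk_mul, ← QuotientGroup.mk_mul, QuotientGroup.eq]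
        have := hcomm b⁻¹ a⁻¹
        simpa [mul_assoc] using this }
  haveI : Fintype (N ⧸ K) := Fintype.ofFinite _
  let Λ : Subgroup (N →* ℂˣ) :=
    { carrier := {l | ∀ k ∈ K, l k = 1}
      mul_mem' := by
        intro a b ha hb k hk
        rw [MonoidHom.mul_apply, ha k hk, hb k hk, one_mul]
      one_mem' := by
        intro k hk
        rfl
      inv_mem' := by
        intro a ha k hk
        rw [MonoidHom.inv_apply, ha k hk, inv_one] }
  have hmem : ∀ l : N →* ℂˣ, l ∈ Λ ↔ ∀ k ∈ K, l k = 1 := fun l => Iff.rfl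
  let e : ((N ⧸ K) →* ℂˣ) ≃ Λ :=
    { toFun := fun φ => ⟨φ.comp (QuotientGroup.mk' K), by
        intro k hk
        rw [MonoidHom.comp_apply, QuotientGroup.mk'_apply, (QuotientGroup.eq_one_iff k).mpr hk,
          map_one]⟩
      invFun := fun l => QuotientGroup.lift K l.1 (fun k hk => l.2 k hk)
      left_inv := by
        intro φ
        ext x
        rfl
      right_inv := by
        intro l
        ext x
        rfl }
  have hcardQ : Nat.card ((N ⧸ K) →* ℂˣ) = Nat.card (N ⧸ K) := by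
    have := Cfsg.Agent.Lib.Helper78.hasEnoughRoots_exponent (A := N ⧸ K)
    exact CommGroup.card_monoidHom_of_hasEnoughRootsOfUnity (N ⧸ K) ℂ
  haveI : Finite ((N ⧸ K) →* ℂˣ) := by
    apply Nat.finite_of_card_ne_zero
    rw [hcardQ]
    exact Nat.card_pos.ne'
  haveI : Fintype ((N ⧸ K) →* ℂˣ) := Fintype.ofFinite _
  have hcard : Nat.card Λ = K.index := by
    rw [← Nat.card_congr e, hcardQ]
    rfl
  have hsum : ∀ y : N, ∑ᶠ l ∈ (Λ : Set (N →* ℂˣ)), ((l y : ℂˣ) : ℂ) =
      ∑ φ : (N ⧸ K) →* ℂˣ, ((φ (y : N ⧸ K) : ℂˣ) : ℂ) := by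
    intro y
    rw [← finsum_set_coe_eq_finsum_mem (Λ : Set (N →* ℂˣ))]
    rw [← finsum_eq_sum_of_fintype]
    symm
    apply finsum_eq_of_bijective e e.bijective
    intro φ
    rfl
  refine ⟨Λ, hmem, hcard, ?_, ?_⟩
  · intro y hy
    rw [hsum y, Cfsg.Agent.Lib.Helper78.dual_sum_apply, if_pos ((QuotientGroup.eq_one_iff y).mpr hy)]
    congr 1
    rw [Subgroup.index, Nat.card_eq_fintype_card]
  · intro y hy
    rw [hsum y, Cfsg.Agent.Lib.Helper78.dual_sum_apply, if_neg]
    intro h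
    exact hy ((QuotientGroup.eq_one_iff y).mp h)

end Cfsg.Agent.Lib.Helper92.LinChar
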