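import Cfsg.Agent.Lib.Helper92.M24Aut
import Cfsg.Agent.Lib.Helper93.M24Extra

/-!
# Octads through a point determine all octads

An octad avoiding the point `none` is the symmetric difference of two octads through `none`
meeting in four points; hence a permutation fixing `none` and mapping the octads through `none`
to octads lies in `M24`.
-/

set_option autoImplicit false

namespace Cfsg.Agent.Lib.Helper92.M23Aut
open Cfsg Cfsg.Agent.Lib.Helper7 Cfsg.Agent.Lib.Helper92.PermCount Cfsg.Agent.Lib.Helper92.M24Index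
  Cfsg.Agent.Lib.Helper92.M24Aut
open Cfsg.Agent.Lib.Helper93 (supp supp_add card_symmDiff_add)
open scoped Pointwise

/-- The symmetric difference of two octads meeting in four points is an octad. -/
theorem symmDiff_mem_octads {o1 o2 : Finset GolayPt} (h1 : o1 ∈ octads) (h2 : o2 ∈ octads)
    (h4 : (o1 ∩ o2).card = 4) : symmDiff o1 o2 ∈ octads := by
  obtain ⟨w1, hw1, hs1, hc1⟩ := (mem_octads_iff o1).mp h1
  obtain ⟨w2, hw2, hs2, hc2⟩ := (mem_octads_iff o2).mp h2
  rw [mem_octads_iff]
  refine ⟨w1 + w2, golayCode.add_mem hw1 hw2, ?_, ?_⟩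
  · rw [← supp_eq_support₂, supp_add, supp_eq_support₂, supp_eq_support₂, hs1, hs2]
  · have := card_symmDiff_add o1 o2
    omega

/-- An octad avoiding `none` is the symmetric difference of two octads through `none` meeting in
four points. -/
theorem exists_symmDiff {o : Finset GolayPt} (ho : o ∈ octads) (hn : (none : GolayPt) ∉ o) :
    ∃ o1 ∈ octads, ∃ o2 ∈ octads, (none : GolayPt) ∈ o1 ∧ (none : GolayPt) ∈ o2 ∧
      (o1 ∩ o2).card = 4 ∧ symmDiff o1 o2 = o := by
  have ho8 : o.card = 8 := octads_steiner.1 o ho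
  obtain ⟨T, hT, hT4⟩ := Finset.exists_subset_card_eq (s := o) (n := 4) (by rw [ho8]; norm_num)
  have hnT : (none : GolayPt) ∉ T := fun h => hn (hT h)
  obtain ⟨o1, ⟨ho1, hS5⟩, _⟩ := octads_steiner.2 (insert none T)
    (by rw [Finset.card_insert_of_notMem hnT, hT4])
  have hn1 : (none : GolayPt) ∈ o1 := hS5 (Finset.mem_insert_self _ _)
  have hne : o1 ≠ o := fun h => hn (h ▸ hn1)
  have hTsub : T ⊆ o1 ∩ o := fun q hq =>
    Finset.mem_inter.mpr ⟨hS5 (Finset.mem_insert_of_mem hq), hT hq⟩
  have hge : 4 ≤ (o1 ∩ o).card := hT4 ▸ Finset.card_le_card hTsub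
  have hlt : (o1 ∩ o).card < 5 := by
    by_contra hcon
    push Not at hcon
    exact hne (octad_eq_of_five ho1 ho hcon)
  have h4 : (o1 ∩ o).card = 4 := by omega
  have ho2 : symmDiff o1 o ∈ octads := symmDiff_mem_octads ho1 ho h4
  refine ⟨o1, ho1, symmDiff o1 o, ho2, hn1, ?_, ?_, symmDiff_symmDiff_cancel_left o1 o⟩
  · rw [Finset.mem_symmDiff]
    exact Or.inl ⟨hn1, hn⟩
  · have heq : o1 ∩ symmDiff o1 o = o1 \ o := by
      ext q
      simp only [Finset.mem_inter, Finset.mem_symmDiff, Finset.mem_sdiff]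
      tauto
    rw [heq]
    have h1 := Finset.card_sdiff_add_card_inter o1 o
    have h8 : o1.card = 8 := octads_steiner.1 o1 ho1
    omega

/-- A permutation fixing `none` and mapping the octads through `none` to octads lies in `M24`. -/
theorem mem_M24_of_maps_octads_through {σ : Equiv.Perm GolayPt}
    (h : ∀ o ∈ octads, (none : GolayPt) ∈ o → σ • o ∈ octads) : σ ∈ M24 := by
  apply mem_M24_of_maps_octads
  intro o ho
  by_cases hn : (none : GolayPt) ∈ o
  · exact h o ho hn
  · obtain ⟨o1, ho1, o2, ho2, hn1, hn2, h4, rfl⟩ := exists_symmDiff ho hn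
    have hsd : σ • symmDiff o1 o2 = symmDiff (σ • o1) (σ • o2) :=
      Finset.image_symmDiff o1 o2 σ.injective
    rw [hsd]
    apply symmDiff_mem_octads (h o1 ho1 hn1) (h o2 ho2 hn2)
    rw [← Finset.smul_finset_inter, card_perm_smul_finset, h4]

end Cfsg.Agent.Lib.Helper92.M23Aut
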