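import Cfsg.Agent.Lib.Helper92.M24Idx759a

/-!
# Subgroups of index 276 of `M24` are the duad stabilizers

Let `J ≤ M24` have order `887040 = |M24| / 276` and let `u ∈ J` have order 11, with fixed points
`y1, y2`.  The orbit of `y1` has size `2` (then `J` is the stabilizer of the duad `{y1, y2}`) or
`24`; sizes `1`, `12` are excluded by Lagrange and by an element of order 7.  In the transitive
case every point stabilizer (order `36960`) fixes exactly one further point, so the fixed points of
an element of order 7 would come in pairs, but there are three of them.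
-/

set_option autoImplicit false

namespace Cfsg.Agent.Lib.Helper92.M24Idx276
open Cfsg Cfsg.Agent.Lib.Helper7 Cfsg.Agent.Lib.Helper92 Cfsg.Agent.Lib.Helper92.PermCount
  Cfsg.Agent.Lib.Helper92.M24Index Cfsg.Agent.Lib.Helper92.M24Fix Cfsg.Agent.Lib.Helper92.M24Aut
  Cfsg.Agent.Lib.Helper92.M24NoIdx253 Cfsg.Agent.Lib.Helper92.M24Idx759
open scoped Pointwise

/-- A subgroup of `M24` fixing two points has order dividing 443520. -/
theorem card_dvd_of_fixesAll_two {J : Subgroup (Equiv.Perm GolayPt)} (hJ : J ≤ M24)
    {S : Finset GolayPt} (hS : S.card = 2) (hfix : FixesAll J S) : Nat.card J ∣ 443520 := by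
  have h := card_fixingSubgroup_M24_mul (k := 2) (by decide) (S : Set GolayPt)
    (by rw [Set.ncard_coe_finset, hS])
  have h24 : (24 : ℕ).factorial = 552 * (22 : ℕ).factorial := by
    rw [show (24 : ℕ) = 22 + 1 + 1 by rfl, Nat.factorial_succ, Nat.factorial_succ]; ring
  rw [h24, show (24 - 2 : ℕ) = 22 by rfl] at h
  have hpos : 0 < (22 : ℕ).factorial := Nat.factorial_pos _
  have h2 : Nat.card (fixingSubgroup M24 (S : Set GolayPt)) * 552 = 244823040 := by
    apply Nat.eq_of_mul_eq_mul_right hpos
    rw [← h]; ring
  have h3 : Nat.card (fixingSubgroup M24 (S : Set GolayPt)) = 443520 := by omega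
  rw [← h3]
  exact card_dvd_card_fixingSubgroup hJ hfix

/-- The stabilizer of a duad in `M24` has order at most 887040. -/
theorem card_stabM24_duad_le {b c : GolayPt} (hbc : b ≠ c) :
    Nat.card ↥(stabM24 ({b, c} : Finset GolayPt)) ≤ 887040 := by
  set K := stabM24 ({b, c} : Finset GolayPt) with hK
  have hKM : K ≤ M24 := fun g hg => (mem_stabM24.mp hg).1
  have hKinv : ∀ g ∈ K, ∀ r, g r ∈ ({b, c} : Finset GolayPt) ↔ r ∈ ({b, c} : Finset GolayPt) :=
    fun g hg r => mem_iff_of_perm_smul_eq (mem_stabM24.mp hg).2 r
  have hmul := card_eq_orb_mul K b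
  have horb : (orb K b).card ≤ 2 := by
    have hsub : orb K b ⊆ {b, c} := orb_subset (by simp) (fun g hg r hr => (hKinv g hg r).mpr hr)
    have := Finset.card_le_card hsub
    rwa [Finset.card_pair hbc] at this
  have hfix2 : FixesAll (K ⊓ MulAction.stabilizer (Equiv.Perm GolayPt) b) {b, c} := by
    intro g hg r hr
    have hgb : g b = b := MulAction.mem_stabilizer_iff.mp hg.2
    simp only [Finset.mem_insert, Finset.mem_singleton] at hr
    rcases hr with rfl | rfl
    · exact hgb
    · have h1 : g r ∈ ({b, r} : Finset GolayPt) := (hKinv g hg.1 r).mpr (by simp)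
      simp only [Finset.mem_insert, Finset.mem_singleton] at h1
      rcases h1 with h1 | h1
      · exfalso; apply hbc; apply g.injective; rw [hgb, h1]
      · exact h1
  have hd := card_dvd_of_fixesAll_two (inf_le_left.trans hKM) (Finset.card_pair hbc) hfix2
  have hle := Nat.le_of_dvd (by norm_num) hd
  rw [hmul]
  calc (orb K b).card * Nat.card ↥(K ⊓ MulAction.stabilizer (Equiv.Perm GolayPt) b)
      ≤ 2 * 443520 := Nat.mul_le_mul horb hle
    _ = 887040 := by norm_num

/-! ### Point stabilizers of order 36960 fix exactly one further point -/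

theorem exists_second_fixed {K : Subgroup (Equiv.Perm GolayPt)} (hK : K ≤ M24) {w : GolayPt}
    (hw : FixesAll K {w}) (hcard : Nat.card K = 36960) :
    ∃ w', w' ≠ w ∧ ∀ q, (∀ g ∈ K, g q = q) ↔ (q = w ∨ q = w') := by
  have : Fact (Nat.Prime 11) := ⟨by norm_num⟩
  have : Fact (Nat.Prime 7) := ⟨by norm_num⟩
  obtain ⟨u, huK, hu⟩ := exists_orderOf_eq_prime K 11 (by rw [hcard]; norm_num)
  obtain ⟨f, hfK, hf⟩ := exists_orderOf_eq_prime K 7 (by rw [hcard]; norm_num)
  obtain ⟨y, hy, hfixu⟩ := exists_fixPts_eq_insert (hw.subset_fixPts huK)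
    (by rw [card_fixPts_11 (hK huK) hu, Finset.card_singleton])
  have hyw : y ≠ w := by simpa using hy
  have hmod11 := card_orb_mod_of_insert hw huK hu hy hfixu
  have hle := hw.card_orb_le hy
  rw [Finset.card_singleton] at hle
  have hmul := card_eq_orb_mul K y
  rw [hcard] at hmul
  have hpos := card_orb_pos K y
  have hmod7 := card_orb_mod hfK hf y
  have hf2 : (fixIn f (orb K y)).card ≤ 2 := by
    have hsub : fixIn f (orb K y) ⊆ fixPts f \ {w} := by
      intro q hq
      rw [mem_fixIn] at hq
      rw [Finset.mem_sdiff]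
      exact ⟨mem_fixPts.mpr hq.2, hw.not_mem_orb hy hq.1⟩
    have h1 := Finset.card_le_card hsub
    rw [Finset.card_sdiff_of_subset (hw.subset_fixPts hfK), card_fixPts_7 (hK hfK) hf,
      Finset.card_singleton] at h1
    exact h1
  have hdvd : (orb K y).card ∣ 36960 := Dvd.intro _ hmul.symm
  have h1 : (orb K y).card = 1 := by
    have hlt : (orb K y).card < 24 := by omega
    generalize (orb K y).card = k at *
    generalize (fixIn f (orb K y)).card = m at *
    interval_cases k <;> omega
  have hfixy := fixes_of_card_orb_eq_one h1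
  refine ⟨y, hyw, fun q => ⟨fun hq => ?_, ?_⟩⟩
  · by_contra hcon
    push Not at hcon
    have h3 : FixesAll K {q, w, y} := by
      intro g hg r hr
      simp only [Finset.mem_insert, Finset.mem_singleton] at hr
      rcases hr with rfl | rfl | rfl
      · exact hq g hg
      · exact hw g hg r (Finset.mem_singleton_self r)
      · exact hfixy g hg
    have hc3 : ({q, w, y} : Finset GolayPt).card = 3 := by
      rw [Finset.card_insert_of_notMem, Finset.card_pair (Ne.symm hyw)]
      simp only [Finset.mem_insert, Finset.mem_singleton, not_or]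
      exact hcon
    have := card_dvd_of_fixesAll_three hK hc3 h3
    rw [hcard] at this
    omega
  · rintro (rfl | rfl)
    · intro g hg; exact hw g hg q (Finset.mem_singleton_self q)
    · exact hfixy

/-! ### The transitive case is impossible -/

theorem no_transitive {J : Subgroup (Equiv.Perm GolayPt)} (hJ : J ≤ M24)
    (hst : ∀ w, Nat.card ↥(ptStab J w) = 36960) : False := by
  have : Fact (Nat.Prime 7) := ⟨by norm_num⟩
  -- the partner of each point
  have hpart : ∀ w, ∃ w', w' ≠ w ∧ ∀ q, (∀ g ∈ ptStab J w, g q = q) ↔ (q = w ∨ q = w') :=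
    fun w => exists_second_fixed (inf_le_left.trans hJ) (fixesAll_ptStab J w) (hst w)
  -- points with a common fixed point have the same stabilizer
  have hsame : ∀ w q, (∀ g ∈ ptStab J w, g q = q) → ptStab J q = ptStab J w := by
    intro w q hq
    symm
    apply Subgroup.eq_of_le_of_card_ge
    · intro g hg
      exact mem_ptStab.mpr ⟨(mem_ptStab.mp hg).1, hq g hg⟩
    · rw [hst, hst]
  obtain ⟨f, hfJ', hf⟩ := exists_orderOf_eq_prime (ptStab J none) 7
    (by rw [hst]; norm_num)
  have hfJ : f ∈ J := (mem_ptStab.mp hfJ').1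
  have hfM : f ∈ M24 := hJ hfJ
  have hcardfix := card_fixPts_7 hfM hf
  -- fixed points of `f` are closed under taking partners
  have hclosed : ∀ p, f p = p → ∀ q, (∀ g ∈ ptStab J p, g q = q) → f q = q := by
    intro p hp q hq
    exact hq f (mem_ptStab.mpr ⟨hfJ, hp⟩)
  obtain ⟨p1, hp1⟩ : (fixPts f).Nonempty := by
    rw [← Finset.card_pos, hcardfix]; norm_num
  rw [mem_fixPts] at hp1
  obtain ⟨q1, hq1ne, hq1⟩ := hpart p1
  have hfq1 : f q1 = q1 := hclosed p1 hp1 q1 ((hq1 q1).mpr (Or.inr rfl))
  have hsub : ({p1, q1} : Finset GolayPt) ⊆ fixPts f := by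
    intro r hr
    simp only [Finset.mem_insert, Finset.mem_singleton] at hr
    rw [mem_fixPts]
    rcases hr with rfl | rfl
    · exact hp1
    · exact hfq1
  obtain ⟨r, hr, hfix⟩ := exists_fixPts_eq_insert hsub
    (by rw [hcardfix, Finset.card_pair (Ne.symm hq1ne)])
  have hfr : f r = r := by
    rw [← mem_fixPts, hfix]; exact Finset.mem_insert_self _ _
  obtain ⟨r', hr'ne, hr'⟩ := hpart r
  have hfr' : f r' = r' := hclosed r hfr r' ((hr' r').mpr (Or.inr rfl))
  have hr'mem : r' ∈ ({p1, q1} : Finset GolayPt) := by
    have h1 : r' ∈ fixPts f := mem_fixPts.mpr hfr'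
    rw [hfix, Finset.mem_insert] at h1
    rcases h1 with h1 | h1
    · exact absurd h1 hr'ne
    · exact h1
  -- `r'` has the same stabilizer as `r` and as `p1`
  have e1 : ptStab J r' = ptStab J r := hsame r r' ((hr' r').mpr (Or.inr rfl))
  have e2 : ptStab J r' = ptStab J p1 := by
    apply hsame p1 r'
    rw [hq1 r']
    simpa using hr'mem
  have e3 : ptStab J r = ptStab J p1 := e1.symm.trans e2
  -- so `r` is fixed by the stabilizer of `p1`
  have h4 : ∀ g ∈ ptStab J p1, g r = r := by
    intro g hg
    rw [← e3] at hg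
    exact (mem_ptStab.mp hg).2
  have h5 := (hq1 r).mp h4
  apply hr
  simp only [Finset.mem_insert, Finset.mem_singleton]
  exact h5

/-! ### Main results -/

/-- A subgroup of `M24` of order `887040` is the stabilizer of a duad. -/
theorem stab_of_card_887040 {J : Subgroup (Equiv.Perm GolayPt)} (hJ : J ≤ M24)
    (hcard : Nat.card J = 887040) :
    ∃ s : Finset GolayPt, s.card = 2 ∧ J = stabM24 s := by
  have : Fact (Nat.Prime 11) := ⟨by norm_num⟩
  have : Fact (Nat.Prime 7) := ⟨by norm_num⟩
  obtain ⟨u, huJ, hu⟩ := exists_orderOf_eq_prime J 11 (by rw [hcard]; norm_num)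
  obtain ⟨f, hfJ, hf⟩ := exists_orderOf_eq_prime J 7 (by rw [hcard]; norm_num)
  obtain ⟨y1, y2, hy12, hfixu⟩ := Finset.card_eq_two.mp (card_fixPts_11 (hJ huJ) hu)
  have hmod11 := card_orb_mod huJ hu y1
  have hmod7 := card_orb_mod hfJ hf y1
  have hmul := card_eq_orb_mul J y1
  rw [hcard] at hmul
  have hpos := card_orb_pos J y1
  have hle : (orb J y1).card ≤ 24 := by
    have h1 := Finset.card_le_univ (orb J y1)
    have h2 : Fintype.card GolayPt = 24 := by decide
    omega
  have hdvd : (orb J y1).card ∣ 887040 := Dvd.intro _ hmul.symm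
  have hd := card_dvd_of_fixesAll_one (inf_le_left.trans hJ) (fixesAll_ptStab J y1)
  change Nat.card ↥(ptStab J y1) ∣ 10200960 at hd
  change 887040 = (orb J y1).card * Nat.card ↥(ptStab J y1) at hmul
  have hf3 : (fixIn f (orb J y1)).card ≤ 3 := by
    have hsub : fixIn f (orb J y1) ⊆ fixPts f := fun q hq => mem_fixPts.mpr (mem_fixIn.mp hq).2
    have := Finset.card_le_card hsub
    rwa [card_fixPts_7 (hJ hfJ) hf] at this
  have hfixin : fixIn u (orb J y1) ⊆ {y1, y2} := by
    intro q hq
    rw [← hfixu]
    exact mem_fixPts.mpr (mem_fixIn.mp hq).2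
  have hy1in : y1 ∈ fixIn u (orb J y1) := by
    rw [mem_fixIn]
    refine ⟨self_mem_orb J y1, ?_⟩
    rw [← mem_fixPts, hfixu]; simp
  by_cases h21 : y2 ∈ orb J y1
  · have hfi : fixIn u (orb J y1) = {y1, y2} := by
      apply Finset.Subset.antisymm hfixin
      intro q hq
      simp only [Finset.mem_insert, Finset.mem_singleton] at hq
      rcases hq with rfl | rfl
      · exact hy1in
      · rw [mem_fixIn]
        refine ⟨h21, ?_⟩
        rw [← mem_fixPts, hfixu]; simp
    rw [hfi, Finset.card_pair hy12] at hmod11
    have hcases : (orb J y1).card = 2 ∨ (orb J y1).card = 24 := by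
      generalize (orb J y1).card = k at *
      interval_cases k <;> omega
    rcases hcases with h2 | h24
    · -- the duad `{y1, y2}` is invariant
      have horb : orb J y1 = {y1, y2} := by
        symm
        apply Finset.eq_of_subset_of_card_le
        · intro q hq
          simp only [Finset.mem_insert, Finset.mem_singleton] at hq
          rcases hq with rfl | rfl
          · exact self_mem_orb J _
          · exact h21
        · rw [h2, Finset.card_pair hy12]
      refine ⟨{y1, y2}, Finset.card_pair hy12, ?_⟩
      have hle' : J ≤ stabM24 ({y1, y2} : Finset GolayPt) := by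
        intro j hj
        rw [mem_stabM24]
        refine ⟨hJ hj, perm_smul_eq_of_mem_iff (fun q => ?_)⟩
        rw [← horb]
        exact apply_mem_orb_iff hj q
      apply Subgroup.eq_of_le_of_card_ge hle'
      rw [hcard]
      exact card_stabM24_duad_le hy12
    · -- transitive
      exfalso
      apply no_transitive hJ
      intro w
      have hw : w ∈ orb J y1 := mem_orb_of_full h24 w
      have horbw : (orb J w).card = 24 := by
        have h3 : (Finset.univ : Finset GolayPt).card = 24 := by decide
        have : orb J w = Finset.univ := by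
          apply Finset.eq_univ_iff_forall.mpr
          intro q
          exact mem_orb_trans (mem_orb_of_full h24 q) (mem_orb_symm hw)
        rw [this, h3]
      have hmulw := card_eq_orb_mul J w
      rw [hcard, horbw] at hmulw
      change 887040 = 24 * Nat.card ↥(ptStab J w) at hmulw
      omega
  · exfalso
    have hfi : fixIn u (orb J y1) = {y1} := by
      apply Finset.Subset.antisymm
      · intro q hq
        have h1 := hfixin hq
        simp only [Finset.mem_insert, Finset.mem_singleton] at h1 ⊢
        rcases h1 with h1 | h1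
        · exact h1
        · exfalso; apply h21; rw [← h1]; exact (mem_fixIn.mp hq).1
      · intro q hq
        rw [Finset.mem_singleton] at hq
        rw [hq]; exact hy1in
    rw [hfi, Finset.card_singleton] at hmod11
    generalize (orb J y1).card = k at *
    generalize (fixIn f (orb J y1)).card = m at *
    generalize Nat.card ↥(ptStab J y1) = c at *
    have hk : k = 1 ∨ k = 12 := by
      interval_cases k <;> omega
    rcases hk with rfl | rfl
    · have : c = 887040 := by omega
      rw [this] at hd
      omega
    · omega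

/-- Subgroups of index 276 of `M24` are the duad stabilizers. -/
theorem index_276 (H : Subgroup ↥M24) (hH : H.index = 276) :
    ∃ s : Finset GolayPt, s.card = 2 ∧ H = MulAction.stabilizer M24 s := by
  have h1 := Subgroup.card_mul_index H
  rw [hH, card_M24] at h1
  have hcardH : Nat.card H = 887040 := by omega
  have hJ : H.map M24.subtype ≤ M24 := by
    rintro _ ⟨h, -, rfl⟩
    exact h.2
  obtain ⟨s, hs2, hJs⟩ := stab_of_card_887040 hJ
    (by rw [Subgroup.card_map_of_injective M24.subtype_injective, hcardH])
  refine ⟨s, hs2, ?_⟩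
  ext h
  rw [MulAction.mem_stabilizer_iff, M24_smul_finset_def]
  constructor
  · intro hh
    have h1 : (h : Equiv.Perm GolayPt) ∈ stabM24 s := by
      rw [← hJs]; exact Subgroup.mem_map_of_mem _ hh
    exact (mem_stabM24.mp h1).2
  · intro hs
    have h1 : (h : Equiv.Perm GolayPt) ∈ H.map M24.subtype := by
      rw [hJs, mem_stabM24]
      exact ⟨h.2, hs⟩
    obtain ⟨h', hh', he⟩ := Subgroup.mem_map.mp h1
    rw [← M24.subtype_injective he]
    exact hh'

end Cfsg.Agent.Lib.Helper92.M24Idx276
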