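import Cfsg.Agent.Lib.Helper92.M24NoIdx253

/-!
# Subgroups of `M24` of order `322560`: the intransitive case

A subgroup `J ≤ M24` of order `322560 = |M24| / 759` either is the stabilizer of an octad or is
transitive on the 24 points with point stabilizers of order `13440`.  Also: the symmetric group of
degree at least 5 has no subgroup of index 3, and Lagrange for subgroups of `M24` fixing four
points.
-/

set_option autoImplicit false

namespace Cfsg.Agent.Lib.Helper92.M24Idx759
open Cfsg Cfsg.Agent.Lib.Helper7 Cfsg.Agent.Lib.Helper92 Cfsg.Agent.Lib.Helper92.PermCount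
  Cfsg.Agent.Lib.Helper92.M24Index Cfsg.Agent.Lib.Helper92.M24Fix Cfsg.Agent.Lib.Helper92.M24Aut
  Cfsg.Agent.Lib.Helper92.M24NoIdx253
open scoped Pointwise

/-! ### No subgroup of index 3 in a symmetric group of degree at least 5 -/

theorem no_index_three {α : Type*} [Fintype α] [DecidableEq α] (hα : 5 ≤ Nat.card α)
    (L : Subgroup (Equiv.Perm α)) (hL : L.index = 3) : False := by
  have hs := alternatingGroup.isSimpleGroup hα
  have hnt : Nontrivial α := by
    rw [← Finite.one_lt_card_iff_nontrivial]; omega
  let φ : ↥(alternatingGroup α) →* Equiv.Perm (Equiv.Perm α ⧸ L) :=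
    (MulAction.toPermHom (Equiv.Perm α) (Equiv.Perm α ⧸ L)).comp (alternatingGroup α).subtype
  rcases hs.eq_bot_or_eq_top_of_normal φ.ker inferInstance with h | h
  · have hinj : Function.Injective φ := (MonoidHom.ker_eq_bot_iff φ).mp h
    have hfin : Finite (Equiv.Perm α ⧸ L) := inferInstance
    have h1 : Nat.card ↥(alternatingGroup α) ≤ Nat.card (Equiv.Perm (Equiv.Perm α ⧸ L)) :=
      Nat.card_le_card_of_injective φ hinj
    have h2 : Nat.card (Equiv.Perm (Equiv.Perm α ⧸ L)) = 6 := by
      rw [Nat.card_perm]
      have : Nat.card (Equiv.Perm α ⧸ L) = 3 := hL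
      rw [this]
      rfl
    have h3 := two_mul_nat_card_alternatingGroup (α := α)
    rw [Nat.card_perm] at h3
    have h4 : (5 : ℕ).factorial ≤ (Nat.card α).factorial := Nat.factorial_le hα
    have h5 : (5 : ℕ).factorial = 120 := by decide
    omega
  · have hle : alternatingGroup α ≤ L := by
      intro a ha
      have hmem : (⟨a, ha⟩ : ↥(alternatingGroup α)) ∈ φ.ker := by rw [h]; trivial
      have h2 : φ ⟨a, ha⟩ = 1 := hmem
      have h3 := congrArg (fun σ : Equiv.Perm (Equiv.Perm α ⧸ L) =>
        σ ((1 : Equiv.Perm α) : Equiv.Perm α ⧸ L)) h2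
      simp only [φ, MonoidHom.comp_apply, Subgroup.subtype_apply, MulAction.toPermHom_apply,
        MulAction.toPerm_apply, Equiv.Perm.coe_one, id_eq] at h3
      rw [MulAction.Quotient.smul_coe, smul_eq_mul, mul_one] at h3
      have h4 := QuotientGroup.eq.mp h3
      simpa using h4
    have := Subgroup.index_dvd_of_le hle
    rw [hL, alternatingGroup.index_eq_two] at this
    omega

/-! ### Lagrange for four fixed points -/

/-- A subgroup of `M24` fixing four points has order dividing 960. -/
theorem card_dvd_of_fixesAll_four {J : Subgroup (Equiv.Perm GolayPt)} (hJ : J ≤ M24)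
    {S : Finset GolayPt} (hS : S.card = 4) (hfix : FixesAll J S) : Nat.card J ∣ 960 := by
  have h := card_fixingSubgroup_M24_mul (k := 4) (by decide) (S : Set GolayPt)
    (by rw [Set.ncard_coe_finset, hS])
  have h24 : (24 : ℕ).factorial = 255024 * (20 : ℕ).factorial := by
    rw [show (24 : ℕ) = 20 + 1 + 1 + 1 + 1 by rfl, Nat.factorial_succ, Nat.factorial_succ,
      Nat.factorial_succ, Nat.factorial_succ]; ring
  rw [h24, show (24 - 4 : ℕ) = 20 by rfl] at h
  have hpos : 0 < (20 : ℕ).factorial := Nat.factorial_pos _
  have h2 : Nat.card (fixingSubgroup M24 (S : Set GolayPt)) * 255024 = 244823040 := by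
    apply Nat.eq_of_mul_eq_mul_right hpos
    rw [← h]; ring
  have h3 : Nat.card (fixingSubgroup M24 (S : Set GolayPt)) = 960 := by omega
  rw [← h3]
  exact card_dvd_card_fixingSubgroup hJ hfix

/-! ### Orbit sizes are multiples of 8 -/

theorem orbit_mult8 {J : Subgroup (Equiv.Perm GolayPt)} (hJ : J ≤ M24)
    (hcard : Nat.card J = 322560) (w : GolayPt) :
    ((orb J w).card = 8 ∧ Nat.card ↥(ptStab J w) = 40320) ∨
    ((orb J w).card = 16 ∧ Nat.card ↥(ptStab J w) = 20160) ∨
    ((orb J w).card = 24 ∧ Nat.card ↥(ptStab J w) = 13440) := by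
  have hmul := card_eq_orb_mul J w
  have hd := card_dvd_of_fixesAll_one (inf_le_left.trans hJ) (fixesAll_ptStab J w)
  have hle : (orb J w).card ≤ 24 := by
    have h1 := Finset.card_le_univ (orb J w)
    have h2 : Fintype.card GolayPt = 24 := by decide
    omega
  rw [hcard] at hmul
  change 322560 = (orb J w).card * Nat.card ↥(ptStab J w) at hmul
  have hd2 : Nat.card ↥(ptStab J w) ∣ 322560 := Dvd.intro_left _ hmul.symm
  have hd3 := Nat.dvd_gcd hd2 hd
  have hg : Nat.gcd 322560 10200960 = 40320 := by norm_num
  rw [hg] at hd3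
  obtain ⟨k, hk⟩ := hd3
  generalize (orb J w).card = n at *
  generalize Nat.card ↥(ptStab J w) = m at *
  have hmpos : 0 < m := by
    rcases Nat.eq_zero_or_pos m with h | h
    · rw [h] at hk; omega
    · exact h
  have hn : n = 8 * k := by
    have h1 : n * m = (8 * k) * m := by
      rw [← hmul]
      have : 8 * k * m = 8 * (m * k) := by ring
      rw [this, ← hk]
    exact Nat.eq_of_mul_eq_mul_right hmpos h1
  have hk3 : k ≤ 3 := by omega
  have hk0 : 0 < k := by
    rcases Nat.eq_zero_or_pos k with h | h
    · rw [h] at hk; omega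
    · exact h
  interval_cases k
  · left; exact ⟨by omega, by omega⟩
  · right; left; exact ⟨by omega, by omega⟩
  · right; right; exact ⟨by omega, by omega⟩

/-! ### An orbit of size 8 is an octad -/

theorem stab_of_orbit_eight {J : Subgroup (Equiv.Perm GolayPt)} (hJ : J ≤ M24)
    (hcard : Nat.card J = 322560) {w : GolayPt} (h8 : (orb J w).card = 8)
    (hst : Nat.card ↥(ptStab J w) = 40320) : ∃ o ∈ octads, J = stabM24 o := by
  have hK : ptStab J w ≤ M24 := inf_le_left.trans hJ
  have hx := fixesAll_ptStab J w
  have hOinv : ∀ g ∈ J, ∀ q, g q ∈ orb J w ↔ q ∈ orb J w := fun g hg q => apply_mem_orb_iff hg q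
  rcases Cfsg.Agent.S1609.main_cases hK hx hst with ⟨s, hs2, hxs, hinv⟩ | ⟨T, hT7, hxT, hinv⟩
  · -- duad type: impossible
    exfalso
    have hJw := Cfsg.Agent.S1609.duad_case hK hx hst hs2 hxs hinv
    obtain ⟨b, c, hbc, rfl⟩ := Finset.card_eq_two.mp hs2
    have hsub : orb J w ⊆ {w, b, c} := by
      apply subset_of_invariant (by rw [h8]; norm_num)
      intro g hg hgw hgb hgc q hq
      have h1 : g ∈ ptStab J w := by
        rw [hJw, mem_stabM24Pt, mem_stabM24]
        refine ⟨⟨hg, perm_smul_eq_of_mem_iff (fun q => ?_)⟩, hgw⟩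
        simp only [Finset.mem_insert, Finset.mem_singleton]
        constructor
        · rintro (h | h)
          · left; exact g.injective (h.trans hgb.symm)
          · right; exact g.injective (h.trans hgc.symm)
        · rintro (rfl | rfl)
          · left; exact hgb
          · right; exact hgc
      exact (hOinv g (mem_ptStab.mp h1).1 q).mpr hq
    have h1 := Finset.card_le_card hsub
    have h2 : ({w, b, c} : Finset GolayPt).card ≤ 3 := Finset.card_le_three
    omega
  · -- octad type
    obtain ⟨ho, hJw⟩ := Cfsg.Agent.S1609.heptad_case hK hx hst hT7 hxT hinv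
    set o := insert w T with hodef
    have ho8 : o.card = 8 := octads_steiner.1 _ ho
    have hsub : orb J w ⊆ o := by
      by_contra hcon
      rw [Finset.not_subset] at hcon
      obtain ⟨p, hpO, hp⟩ := hcon
      have hsub2 : Finset.univ \ o ⊆ orb J w := by
        intro q hq
        rw [Finset.mem_sdiff] at hq
        obtain ⟨e, he, heq⟩ := exists_fixM24_map ho hq.2 hp
        rw [← heq]
        rw [mem_fixM24] at he
        have h1 : e ∈ ptStab J w := by
          rw [hJw, mem_stabM24Pt, mem_stabM24]
          refine ⟨⟨he.1, perm_smul_eq_of_mem_iff (fun q => ?_)⟩,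
            he.2 w (Finset.mem_insert_self w T)⟩
          constructor
          · intro h
            have := he.2 _ h
            rwa [e.injective this] at h
          · intro h
            rw [he.2 q h]; exact h
        exact (hOinv e (mem_ptStab.mp h1).1 p).mpr hpO
      have h1 := Finset.card_le_card hsub2
      have h2 := Finset.le_card_sdiff o Finset.univ
      have h3 : (Finset.univ : Finset GolayPt).card = 24 := by decide
      omega
    have heq : orb J w = o := Finset.eq_of_subset_of_card_le hsub (by rw [h8, ho8])
    refine ⟨o, ho, ?_⟩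
    have hle : J ≤ stabM24 o := by
      intro j hj
      rw [mem_stabM24]
      refine ⟨hJ hj, perm_smul_eq_of_mem_iff (fun q => ?_)⟩
      rw [← heq]
      exact hOinv j hj q
    apply Subgroup.eq_of_le_of_card_ge hle
    rw [hcard, card_stabM24_octad ho]

/-- A subgroup of `M24` of order `322560` is an octad stabilizer or transitive. -/
theorem index_759_cases {J : Subgroup (Equiv.Perm GolayPt)} (hJ : J ≤ M24)
    (hcard : Nat.card J = 322560) :
    (∃ o ∈ octads, J = stabM24 o) ∨
      ∀ w, (orb J w).card = 24 ∧ Nat.card ↥(ptStab J w) = 13440 := by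
  by_cases hall : ∀ w, (orb J w).card = 24 ∧ Nat.card ↥(ptStab J w) = 13440
  · exact Or.inr hall
  · left
    push Not at hall
    obtain ⟨w, hw⟩ := hall
    rcases orbit_mult8 hJ hcard w with h | h | h
    · exact stab_of_orbit_eight hJ hcard h.1 h.2
    · -- orbit of size 16: take a point outside
      have hex : ∃ w', w' ∉ orb J w := by
        by_contra hcon
        push Not at hcon
        have : orb J w = Finset.univ := Finset.eq_univ_iff_forall.mpr hcon
        have h3 : (Finset.univ : Finset GolayPt).card = 24 := by decide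
        rw [this, h3] at h
        omega
      obtain ⟨w', hw'⟩ := hex
      have hdisj := orb_disjoint hw'
      have hsum : (orb J w').card + (orb J w).card ≤ 24 := by
        rw [← Finset.card_union_of_disjoint hdisj]
        have h3 : (Finset.univ : Finset GolayPt).card = 24 := by decide
        rw [← h3]
        exact Finset.card_le_univ _
      rcases orbit_mult8 hJ hcard w' with h' | h' | h'
      · exact stab_of_orbit_eight hJ hcard h'.1 h'.2
      · omega
      · omega
    · exact absurd h.2 (hw h.1)

end Cfsg.Agent.Lib.Helper92.M24Idx759
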