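import Cfsg.Agent.Lib.Helper92.M24Idx759a

/-!
# Subgroups of `M24` of order `322560`: the transitive case is impossible

If `J ≤ M24` of order `322560` were transitive, its point stabilizers `K` (order `13440`) would
have orbits `2 + 21`, `7 + 16` or `8 + 15` on the remaining 23 points (elements of orders 7 and 5).
`8 + 15` gives a subgroup of index 3 in `S_8`; in the other two cases `K` preserves a duad, resp. a
heptad completing the fixed point to an octad `o` with `fixM24 o ≤ K`, and the argument of
`M24NoIdx253` (an element of order 5 with too many fixed points) applies.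
-/

set_option autoImplicit false

namespace Cfsg.Agent.Lib.Helper92.M24Idx759
open Cfsg Cfsg.Agent.Lib.Helper7 Cfsg.Agent.Lib.Helper92 Cfsg.Agent.Lib.Helper92.PermCount
  Cfsg.Agent.Lib.Helper92.M24Index Cfsg.Agent.Lib.Helper92.M24Fix Cfsg.Agent.Lib.Helper92.M24Aut
  Cfsg.Agent.Lib.Helper92.M24NoIdx253 Cfsg.Agent.S1609
open scoped Pointwise

/-! ### A subgroup of order 13440 of a point stabilizer fixes no second point -/

theorem no_second_fixed' {J : Subgroup (Equiv.Perm GolayPt)} (hJ : J ≤ M24)
    {x y : GolayPt} (hxy : y ≠ x) (hx : FixesAll J {x, y}) (hcard : Nat.card J = 13440) : False := by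
  have : Fact (Nat.Prime 7) := ⟨by norm_num⟩
  have : Fact (Nat.Prime 5) := ⟨by norm_num⟩
  have hS2 : ({x, y} : Finset GolayPt).card = 2 := Finset.card_pair (Ne.symm hxy)
  obtain ⟨u, huJ, hu⟩ := exists_orderOf_eq_prime J 7 (by rw [hcard]; norm_num)
  obtain ⟨f, hfJ, hf⟩ := exists_orderOf_eq_prime J 5 (by rw [hcard]; norm_num)
  obtain ⟨w, hw, hfixu⟩ := exists_fixPts_eq_insert (hx.subset_fixPts huJ)
    (by rw [card_fixPts_7 (hJ huJ) hu, hS2])
  have hmod7 := card_orb_mod_of_insert hx huJ hu hw hfixu
  have hle := hx.card_orb_le hw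
  rw [hS2] at hle
  have hmul := card_eq_orb_mul J w
  rw [hcard] at hmul
  have hpos := card_orb_pos J w
  have hmod5 := card_orb_mod hfJ hf w
  have hf2 : (fixIn f (orb J w)).card ≤ 2 := by
    have hsub : fixIn f (orb J w) ⊆ fixPts f \ {x, y} := by
      intro q hq
      rw [mem_fixIn] at hq
      rw [Finset.mem_sdiff]
      exact ⟨mem_fixPts.mpr hq.2, hx.not_mem_orb hw hq.1⟩
    have h1 := Finset.card_le_card hsub
    rw [Finset.card_sdiff_of_subset (hx.subset_fixPts hfJ), card_fixPts_5 (hJ hfJ) hf, hS2] at h1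
    exact h1
  have hdvd : (orb J w).card ∣ 13440 := Dvd.intro _ hmul.symm
  have hcases : (orb J w).card = 1 ∨ (orb J w).card = 15 := by
    have h8 : (orb J w).card ≠ 8 := by
      intro h; rw [h] at hmod5; omega
    have hlt : (orb J w).card < 23 := by omega
    generalize (orb J w).card = k at *
    interval_cases k <;> omega
  have hS3 : (insert w ({x, y} : Finset GolayPt)).card = 3 := by
    rw [Finset.card_insert_of_notMem hw, hS2]
  rcases hcases with h1 | h15
  · have h3 : FixesAll J (insert w {x, y}) := by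
      intro g hg q hq
      rw [Finset.mem_insert] at hq
      rcases hq with rfl | hq
      · exact fixes_of_card_orb_eq_one h1 g hg
      · exact hx g hg q hq
    have := card_dvd_of_fixesAll_three hJ hS3 h3
    rw [hcard] at this
    omega
  · -- the remaining seven points form an orbit
    have hex : ∃ t, t ∉ ({x, y} : Finset GolayPt) ∧ t ∉ orb J w := by
      by_contra hcon
      push Not at hcon
      have hsub : (Finset.univ : Finset GolayPt) ⊆ {x, y} ∪ orb J w := by
        intro t _
        rw [Finset.mem_union]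
        by_cases ht : t ∈ ({x, y} : Finset GolayPt)
        · exact Or.inl ht
        · exact Or.inr (hcon t ht)
      have h1 := Finset.card_le_card hsub
      have h2 := Finset.card_union_le ({x, y} : Finset GolayPt) (orb J w)
      have h3 : (Finset.univ : Finset GolayPt).card = 24 := by decide
      omega
    obtain ⟨t, htS, htw⟩ := hex
    have hdisj : Disjoint (orb J t) (orb J w) := orb_disjoint htw
    have hempty : fixIn u (orb J t) = ∅ := by
      ext q
      rw [mem_fixIn]
      constructor
      · rintro ⟨hq, hgq⟩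
        have h1 : q ∈ fixPts u := mem_fixPts.mpr hgq
        rw [hfixu, Finset.mem_insert] at h1
        rcases h1 with h1 | h1
        · exfalso
          rw [h1] at hq
          exact (Finset.disjoint_left.mp hdisj) hq (self_mem_orb J w)
        · exact absurd h1 (hx.not_mem_orb htS hq)
      · intro hq; exact absurd hq (Finset.notMem_empty q)
    have hm7 := card_orb_mod huJ hu t
    rw [hempty, Finset.card_empty] at hm7
    have hpos' := card_orb_pos J t
    have hle' : (orb J t).card + (orb J w).card + 2 ≤ 24 := by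
      have hd2 : Disjoint (orb J t ∪ orb J w) ({x, y} : Finset GolayPt) := by
        rw [Finset.disjoint_left]
        intro q hq hqS
        rw [Finset.mem_union] at hq
        rcases hq with hq | hq
        · exact hx.not_mem_orb htS hq hqS
        · exact hx.not_mem_orb hw hq hqS
      have h1 : ((orb J t ∪ orb J w) ∪ ({x, y} : Finset GolayPt)).card =
          (orb J t).card + (orb J w).card + 2 := by
        rw [Finset.card_union_of_disjoint hd2, Finset.card_union_of_disjoint hdisj, hS2]
      rw [← h1]
      have h3 : (Finset.univ : Finset GolayPt).card = 24 := by decide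
      rw [← h3]
      exact Finset.card_le_univ _
    have h7 : (orb J t).card = 7 := by omega
    have hmul' := card_eq_orb_mul J t
    rw [hcard, h7] at hmul'
    have h3 := hx.inf_stabilizer t
    have hS3' : (insert t ({x, y} : Finset GolayPt)).card = 3 := by
      rw [Finset.card_insert_of_notMem htS, hS2]
    have hdvd3 := card_dvd_of_fixesAll_three (inf_le_left.trans hJ) hS3' h3
    have : Nat.card ↥(J ⊓ MulAction.stabilizer (Equiv.Perm GolayPt) t) = 1920 := by omega
    rw [this] at hdvd3
    omega

/-! ### The case of orbits of sizes 8 and 15 -/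

theorem no_eight' {J : Subgroup (Equiv.Perm GolayPt)}
    (hcard : Nat.card J = 13440) {A : Finset GolayPt} (hA8 : A.card = 8)
    (hA : ∀ j ∈ J, ∀ q, j q ∈ A ↔ q ∈ A) (htriv : ∀ g ∈ fixer J A, g = 1) : False := by
  set φ := restrict J A hA with hφ
  have hinj : Function.Injective φ := by
    rw [injective_iff_map_eq_one]
    intro g hg
    apply Subtype.ext
    apply htriv
    rw [mem_fixer]
    refine ⟨g.2, fun q hq => ?_⟩
    have := congrArg (fun σ : Equiv.Perm {q // q ∈ A} => ((σ ⟨q, hq⟩ : {q // q ∈ A}) : GolayPt)) hg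
    exact this
  have hcardA : Nat.card {q // q ∈ A} = 8 := by
    rw [Nat.card_eq_fintype_card, Fintype.card_coe, hA8]
  have hrange : Nat.card ↥φ.range = 13440 := by
    rw [← hcard]
    exact (Nat.card_congr (MonoidHom.ofInjective hinj).toEquiv).symm
  have hperm : Nat.card (Equiv.Perm {q // q ∈ A}) = 40320 := by
    rw [Nat.card_perm, hcardA]; decide
  have hidx : φ.range.index = 3 := by
    have := Subgroup.card_mul_index φ.range
    rw [hrange, hperm] at this
    omega
  exact no_index_three (by rw [hcardA]; norm_num) φ.range hidx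

theorem eight_fifteen' {J : Subgroup (Equiv.Perm GolayPt)} (hJ : J ≤ M24) {x a b : GolayPt}
    (hx : FixesAll J {x}) (hcard : Nat.card J = 13440) (hax : a ≠ x) (hbx : b ≠ x)
    (hA8 : (orb J a).card = 8) (hB15 : (orb J b).card = 15) (hba : b ∉ orb J a)
    {u : Equiv.Perm GolayPt} (huJ : u ∈ J) (hu : orderOf u = 7) (hfixu : fixPts u = {x, a, b}) :
    False := by
  have hxa : x ∉ orb J a := fun h =>
    hx.not_mem_orb (s := a) (by simpa using hax) h (Finset.mem_singleton_self x)
  have hxb : x ∉ orb J b := fun h =>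
    hx.not_mem_orb (s := b) (by simpa using hbx) h (Finset.mem_singleton_self x)
  have hdisj : Disjoint (orb J b) (orb J a) := orb_disjoint hba
  have hcover : ∀ q, q = x ∨ q ∈ orb J a ∨ q ∈ orb J b := by
    have hcardU : (insert x (orb J b ∪ orb J a)).card = 24 := by
      rw [Finset.card_insert_of_notMem, Finset.card_union_of_disjoint hdisj, hA8, hB15]
      rw [Finset.mem_union, not_or]
      exact ⟨hxb, hxa⟩
    have huniv : insert x (orb J b ∪ orb J a) = Finset.univ := by
      apply Finset.eq_univ_of_card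
      rw [hcardU]; decide
    intro q
    have hq : q ∈ insert x (orb J b ∪ orb J a) := by rw [huniv]; exact Finset.mem_univ q
    rw [Finset.mem_insert, Finset.mem_union] at hq
    tauto
  have hab : b ≠ a := fun h => hba (h ▸ self_mem_orb J a)
  apply no_eight' hcard hA8 (fun j hj q => apply_mem_orb_iff hj q)
  intro g hg
  exact fixer_trivial hJ hx hcover (by omega) hxa huJ hu hfixu hbx hab hg

/-! ### The orbit analysis -/

theorem main_cases' {J : Subgroup (Equiv.Perm GolayPt)} (hJ : J ≤ M24) {x : GolayPt}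
    (hx : FixesAll J {x}) (hcard : Nat.card J = 13440) :
    (∃ s : Finset GolayPt, s.card = 2 ∧ x ∉ s ∧ ∀ j ∈ J, ∀ q, j q ∈ s ↔ q ∈ s) ∨
    (∃ T : Finset GolayPt, T.card = 7 ∧ x ∉ T ∧ ∀ j ∈ J, ∀ q, j q ∈ T ↔ q ∈ T) := by
  have : Fact (Nat.Prime 7) := ⟨by norm_num⟩
  have : Fact (Nat.Prime 5) := ⟨by norm_num⟩
  obtain ⟨u, huJ, hu⟩ := exists_orderOf_eq_prime J 7 (by rw [hcard]; norm_num)
  obtain ⟨f, hfJ, hf⟩ := exists_orderOf_eq_prime J 5 (by rw [hcard]; norm_num)
  have hux : x ∈ fixPts u := mem_fixPts.mpr (hx u huJ x (Finset.mem_singleton_self x))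
  have hfx : x ∈ fixPts f := mem_fixPts.mpr (hx f hfJ x (Finset.mem_singleton_self x))
  have he2 : ((fixPts u).erase x).card = 2 := by
    rw [Finset.card_erase_of_mem hux, card_fixPts_7 (hJ huJ) hu]
  have hf3 : ((fixPts f).erase x).card = 3 := by
    rw [Finset.card_erase_of_mem hfx, card_fixPts_5 (hJ hfJ) hf]
  obtain ⟨y1, y2, hy12, hye⟩ := Finset.card_eq_two.mp he2
  have hy1 : y1 ∈ (fixPts u).erase x := by rw [hye]; simp
  have hy2 : y2 ∈ (fixPts u).erase x := by rw [hye]; simp
  rw [Finset.mem_erase] at hy1 hy2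
  have hfixu : fixPts u = {x, y1, y2} := by
    rw [← hye, Finset.insert_erase hux]
  -- general facts on orbits of points other than `x`
  have hgen : ∀ w, w ≠ x → (orb J w).card ∣ 13440 ∧ (orb J w).card + 1 ≤ 24 ∧
      0 < (orb J w).card ∧ x ∉ orb J w ∧
      (fixIn f (orb J w)).card ≤ 3 ∧ (fixIn f (orb J w)).card % 5 = (orb J w).card % 5 ∧
      fixIn f (orb J w) ⊆ (fixPts f).erase x := by
    intro w hw
    have hw' : w ∉ ({x} : Finset GolayPt) := by simpa using hw
    have hxw : x ∉ orb J w := fun h => hx.not_mem_orb hw' h (Finset.mem_singleton_self x)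
    have hsub : fixIn f (orb J w) ⊆ (fixPts f).erase x := by
      intro q hq
      rw [mem_fixIn] at hq
      rw [Finset.mem_erase]
      exact ⟨fun h => hxw (h ▸ hq.1), mem_fixPts.mpr hq.2⟩
    refine ⟨Dvd.intro _ (by rw [← card_eq_orb_mul J w, hcard]), ?_, card_orb_pos J w, hxw, ?_,
      card_orb_mod hfJ hf w, hsub⟩
    · have := hx.card_orb_le hw'
      rwa [Finset.card_singleton] at this
    · have := Finset.card_le_card hsub
      rwa [hf3] at this
  obtain ⟨hd1, hl1, hp1, hx1, hf1, hm1, hs1⟩ := hgen y1 hy1.1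
  obtain ⟨hd2, hl2, hp2, hx2, hf2, hm2, hs2⟩ := hgen y2 hy2.1
  have hmod7 : ∀ w, (fixIn u (orb J w)).card % 7 = (orb J w).card % 7 := fun w =>
    card_orb_mod huJ hu w
  by_cases h21 : y2 ∈ orb J y1
  · -- one orbit contains both fixed points
    have hfi : fixIn u (orb J y1) = {y1, y2} := by
      ext q
      rw [mem_fixIn, Finset.mem_insert, Finset.mem_singleton]
      constructor
      · rintro ⟨hq, hq2⟩
        have : q ∈ fixPts u := mem_fixPts.mpr hq2
        rw [hfixu] at this
        simp only [Finset.mem_insert, Finset.mem_singleton] at this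
        rcases this with rfl | h | h
        · exact absurd hq hx1
        · exact Or.inl h
        · exact Or.inr h
      · rintro (rfl | rfl)
        · exact ⟨self_mem_orb J _, mem_fixPts.mp hy1.2⟩
        · exact ⟨h21, mem_fixPts.mp hy2.2⟩
    have h7 := hmod7 y1
    rw [hfi, Finset.card_pair hy12] at h7
    have hcases : (orb J y1).card = 2 ∨ (orb J y1).card = 16 := by
      generalize (orb J y1).card = k at *
      generalize (fixIn f (orb J y1)).card = m at *
      have hk : k < 24 := by omega
      interval_cases k <;> omega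
    rcases hcases with h2 | h16
    · left
      exact ⟨orb J y1, h2, hx1, fun j hj q => apply_mem_orb_iff hj q⟩
    · right
      refine ⟨(insert x (orb J y1))ᶜ, ?_, ?_, ?_⟩
      · rw [Finset.card_compl, Finset.card_insert_of_notMem hx1, h16]
        decide
      · rw [Finset.mem_compl, not_not]
        exact Finset.mem_insert_self _ _
      · intro j hj q
        have hjx : j x = x := hx j hj x (Finset.mem_singleton_self x)
        rw [Finset.mem_compl, Finset.mem_compl, Finset.mem_insert, Finset.mem_insert,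
          apply_mem_orb_iff hj q]
        have : j q = x ↔ q = x := by
          constructor
          · intro h; exact j.injective (h.trans hjx.symm)
          · intro h; rw [h, hjx]
        rw [this]
  · -- the two fixed points lie in different orbits
    exfalso
    have h12 : y1 ∉ orb J y2 := fun h => h21 (mem_orb_symm h)
    have hfi1 : fixIn u (orb J y1) = {y1} := by
      ext q
      rw [mem_fixIn, Finset.mem_singleton]
      constructor
      · rintro ⟨hq, hq2⟩
        have : q ∈ fixPts u := mem_fixPts.mpr hq2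
        rw [hfixu] at this
        simp only [Finset.mem_insert, Finset.mem_singleton] at this
        rcases this with rfl | h | rfl
        · exact absurd hq hx1
        · exact h
        · exact absurd hq h21
      · rintro rfl
        exact ⟨self_mem_orb J _, mem_fixPts.mp hy1.2⟩
    have hfi2 : fixIn u (orb J y2) = {y2} := by
      ext q
      rw [mem_fixIn, Finset.mem_singleton]
      constructor
      · rintro ⟨hq, hq2⟩
        have : q ∈ fixPts u := mem_fixPts.mpr hq2
        rw [hfixu] at this
        simp only [Finset.mem_insert, Finset.mem_singleton] at this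
        rcases this with rfl | rfl | h
        · exact absurd hq hx2
        · exact absurd hq h12
        · exact h
      · rintro rfl
        exact ⟨self_mem_orb J _, mem_fixPts.mp hy2.2⟩
    have h71 := hmod7 y1
    have h72 := hmod7 y2
    rw [hfi1, Finset.card_singleton] at h71
    rw [hfi2, Finset.card_singleton] at h72
    have hne1 : (orb J y1).card ≠ 1 := by
      intro h1
      have hfix := fixes_of_card_orb_eq_one h1
      refine no_second_fixed' hJ hy1.1 ?_ hcard
      intro g hg q hq
      simp only [Finset.mem_insert, Finset.mem_singleton] at hq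
      rcases hq with rfl | rfl
      · exact hx g hg q (Finset.mem_singleton_self q)
      · exact hfix g hg
    have hne2 : (orb J y2).card ≠ 1 := by
      intro h1
      have hfix := fixes_of_card_orb_eq_one h1
      refine no_second_fixed' hJ hy2.1 ?_ hcard
      intro g hg q hq
      simp only [Finset.mem_insert, Finset.mem_singleton] at hq
      rcases hq with rfl | rfl
      · exact hx g hg q (Finset.mem_singleton_self q)
      · exact hfix g hg
    have hc1 : (orb J y1).card = 8 ∨ (orb J y1).card = 15 := by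
      generalize (orb J y1).card = k at *
      have hk : k < 24 := by omega
      interval_cases k <;> omega
    have hc2 : (orb J y2).card = 8 ∨ (orb J y2).card = 15 := by
      generalize (orb J y2).card = k at *
      have hk : k < 24 := by omega
      interval_cases k <;> omega
    have hdisj : Disjoint (orb J y2) (orb J y1) := orb_disjoint h21
    have hsum : (orb J y2).card + (orb J y1).card + 1 ≤ 24 := by
      have h1 : (insert x (orb J y2 ∪ orb J y1)).card = (orb J y2).card + (orb J y1).card + 1 := by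
        rw [Finset.card_insert_of_notMem, Finset.card_union_of_disjoint hdisj]
        rw [Finset.mem_union, not_or]
        exact ⟨hx2, hx1⟩
      rw [← h1]
      have h24 : (Finset.univ : Finset GolayPt).card = 24 := by decide
      rw [← h24]
      exact Finset.card_le_univ _
    rcases hc1 with h8 | h15
    · rcases hc2 with h8' | h15'
      · -- both of size 8: too many fixed points of `f`
        have e1 : (fixIn f (orb J y1)).card = 3 := by rw [h8] at hm1; omega
        have e2 : (fixIn f (orb J y2)).card = 3 := by rw [h8'] at hm2; omega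
        have hd : Disjoint (fixIn f (orb J y2)) (fixIn f (orb J y1)) := by
          rw [Finset.disjoint_left]
          intro q hq2 hq1
          exact (Finset.disjoint_left.mp hdisj) (mem_fixIn.mp hq2).1 (mem_fixIn.mp hq1).1
        have hsub : fixIn f (orb J y2) ∪ fixIn f (orb J y1) ⊆ (fixPts f).erase x :=
          Finset.union_subset hs2 hs1
        have := Finset.card_le_card hsub
        rw [Finset.card_union_of_disjoint hd, e1, e2, hf3] at this
        omega
      · exact eight_fifteen' hJ hx hcard hy1.1 hy2.1 h8 h15' h21 huJ hu hfixu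
    · rcases hc2 with h8' | h15'
      · refine eight_fifteen' hJ hx hcard hy2.1 hy1.1 h8' h15 h12 huJ hu ?_
        rw [hfixu]
        ext q
        simp only [Finset.mem_insert, Finset.mem_singleton]
        tauto
      · omega


/-! ### Conjugating point stabilizers -/

theorem mem_ptStab_conj {J : Subgroup (Equiv.Perm GolayPt)} {g : Equiv.Perm GolayPt}
    (hg : g ∈ J) {a : GolayPt} {j : Equiv.Perm GolayPt} :
    j ∈ ptStab J (g a) ↔ g⁻¹ * j * g ∈ ptStab J a := by
  rw [mem_ptStab, mem_ptStab]
  constructor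
  · rintro ⟨hj, hja⟩
    refine ⟨J.mul_mem (J.mul_mem (J.inv_mem hg) hj) hg, ?_⟩
    rw [Equiv.Perm.mul_apply, Equiv.Perm.mul_apply, hja]
    simp
  · rintro ⟨hj, hja⟩
    have hj' : j = g * (g⁻¹ * j * g) * g⁻¹ := by group
    refine ⟨?_, ?_⟩
    · rw [hj']
      exact J.mul_mem (J.mul_mem hg hj) (J.inv_mem hg)
    · rw [Equiv.Perm.mul_apply, Equiv.Perm.mul_apply] at hja
      have := congrArg g hja
      simpa using this

/-- If `g⁻¹ j g` preserves `s` then `j` preserves `g • s`. -/
theorem preserves_smul {g j : Equiv.Perm GolayPt} {s : Finset GolayPt}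
    (h : ∀ q, (g⁻¹ * j * g) q ∈ s ↔ q ∈ s) (q : GolayPt) : j q ∈ g • s ↔ q ∈ g • s := by
  rw [mem_perm_smul_finset, mem_perm_smul_finset]
  have := h (g.symm q)
  rw [Equiv.Perm.mul_apply, Equiv.Perm.mul_apply, Equiv.apply_symm_apply] at this
  exact this

/-! ### The duad case -/

/-- The point stabilizer of `w` preserves a duad. -/
def DuadInv (J : Subgroup (Equiv.Perm GolayPt)) (w : GolayPt) : Prop :=
  ∃ s : Finset GolayPt, s.card = 2 ∧ w ∉ s ∧ ∀ j ∈ ptStab J w, ∀ q, j q ∈ s ↔ q ∈ s

theorem duadInv_of_mem_orb {J : Subgroup (Equiv.Perm GolayPt)} {a w : GolayPt}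
    (hw : w ∈ orb J a) (h : DuadInv J a) : DuadInv J w := by
  obtain ⟨g, hg, rfl⟩ := mem_orb.mp hw
  obtain ⟨s, hs2, has, hs⟩ := h
  refine ⟨g • s, ?_, ?_, ?_⟩
  · rw [Finset.card_smul_finset, hs2]
  · rw [apply_mem_perm_smul_finset]
    exact has
  · intro j hj q
    exact preserves_smul (hs _ ((mem_ptStab_conj hg).mp hj)) q

/-- Symmetry of the duad relation (order 13440 version). -/
theorem duad_symm' {J : Subgroup (Equiv.Perm GolayPt)} (hJ : J ≤ M24) {x y z : GolayPt}
    (hxy : x ≠ y) (hxz : x ≠ z) (hyz : y ≠ z)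
    (hcardx : Nat.card ↥(ptStab J x) = 13440)
    (hJx : ∀ j ∈ ptStab J x, ∀ q, j q ∈ ({y, z} : Finset GolayPt) ↔ q ∈ ({y, z} : Finset GolayPt))
    {s : Finset GolayPt} (hs2 : s.card = 2) (hys : y ∉ s)
    (hJy : ∀ j ∈ ptStab J y, ∀ q, j q ∈ s ↔ q ∈ s) : s = {x, z} := by
  set K := ptStab J x with hK
  set K0 := ptStab K y with hK0
  -- `K0` has order at least 6720
  have hmul := card_eq_orb_mul K y
  rw [hcardx] at hmul
  have horb : (orb K y).card ≤ 2 := by
    have hsub : orb K y ⊆ {y, z} := orb_subset (by simp) (fun g hg r hr => (hJx g hg r).mpr hr)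
    have := Finset.card_le_card hsub
    rwa [Finset.card_pair hyz] at this
  have hK0card : 6720 ≤ Nat.card ↥K0 := by
    change 13440 = (orb K y).card * Nat.card ↥K0 at hmul
    by_contra hcon
    push Not at hcon
    have : (orb K y).card * Nat.card ↥K0 ≤ 2 * 6719 := Nat.mul_le_mul horb (by omega)
    omega
  -- `K0` fixes `x, y, z`
  have hK0J : K0 ≤ J := inf_le_left.trans inf_le_left
  have hfix3 : FixesAll K0 {x, y, z} := by
    intro g hg r hr
    have hgK : g ∈ K := (mem_ptStab.mp hg).1
    have hgy : g y = y := (mem_ptStab.mp hg).2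
    have hgx : g x = x := (mem_ptStab.mp hgK).2
    simp only [Finset.mem_insert, Finset.mem_singleton] at hr
    rcases hr with rfl | rfl | rfl
    · exact hgx
    · exact hgy
    · have h1 : g r ∈ ({y, r} : Finset GolayPt) := (hJx g hgK r).mpr (by simp)
      simp only [Finset.mem_insert, Finset.mem_singleton] at h1
      rcases h1 with h1 | h1
      · exfalso; apply hyz; apply g.injective; rw [hgy, h1]
      · exact h1
  have hc3 : ({x, y, z} : Finset GolayPt).card = 3 := by
    rw [Finset.card_insert_of_notMem, Finset.card_pair hyz]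
    simp only [Finset.mem_insert, Finset.mem_singleton, not_or]
    exact ⟨hxy, hxz⟩
  -- `K0` preserves `s`
  have hK0s : ∀ g ∈ K0, ∀ q, g q ∈ s ↔ q ∈ s := by
    intro g hg q
    apply hJy g _ q
    exact mem_ptStab.mpr ⟨hK0J hg, (mem_ptStab.mp hg).2⟩
  have hsub : s ⊆ {x, y, z} := by
    intro p hp
    by_contra hp3
    have hmul2 := card_eq_orb_mul K0 p
    have horb2 : (orb K0 p).card ≤ 2 := by
      have hsub : orb K0 p ⊆ s := orb_subset hp (fun g hg r hr => (hK0s g hg r).mpr hr)
      have := Finset.card_le_card hsub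
      rwa [hs2] at this
    have hfix4 : FixesAll (K0 ⊓ MulAction.stabilizer (Equiv.Perm GolayPt) p) (insert p {x, y, z}) :=
      hfix3.inf_stabilizer p
    have hc4 : (insert p ({x, y, z} : Finset GolayPt)).card = 4 := by
      rw [Finset.card_insert_of_notMem hp3, hc3]
    have hd := card_dvd_of_fixesAll_four (inf_le_left.trans (hK0J.trans hJ)) hc4 hfix4
    have hle := Nat.le_of_dvd (by norm_num) hd
    have : (orb K0 p).card * Nat.card ↥(K0 ⊓ MulAction.stabilizer (Equiv.Perm GolayPt) p) ≤
        2 * 960 := Nat.mul_le_mul horb2 hle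
    omega
  have hsub2 : s ⊆ {x, z} := by
    intro q hq
    have := hsub hq
    simp only [Finset.mem_insert, Finset.mem_singleton] at this ⊢
    rcases this with h | h | h
    · left; exact h
    · exact absurd (h ▸ hq) hys
    · right; exact h
  apply Finset.eq_of_subset_of_card_le hsub2
  rw [hs2]
  exact Finset.card_le_two

theorem no_duad' {J : Subgroup (Equiv.Perm GolayPt)} (hJ : J ≤ M24)
    (htr : ∀ w, (orb J w).card = 24 ∧ Nat.card ↥(ptStab J w) = 13440) (a : GolayPt)
    (ha : DuadInv J a) : False := by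
  have : Fact (Nat.Prime 5) := ⟨by norm_num⟩
  have hall : ∀ w, DuadInv J w := fun w =>
    duadInv_of_mem_orb (mem_orb_of_full (htr a).1 w) ha
  obtain ⟨s, hs2, has, hJa⟩ := ha
  obtain ⟨b, c, hbc, rfl⟩ := Finset.card_eq_two.mp hs2
  have hab : a ≠ b := fun h => has (by rw [h]; simp)
  have hac : a ≠ c := fun h => has (by rw [h]; simp)
  obtain ⟨sb, hsb2, hbsb, hJb⟩ := hall b
  obtain ⟨sc, hsc2, hcsc, hJc⟩ := hall c
  have hsb : sb = {a, c} := duad_symm' hJ hab hac hbc (htr a).2 hJa hsb2 hbsb hJb
  have hJa' : ∀ j ∈ ptStab J a, ∀ q,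
      j q ∈ ({c, b} : Finset GolayPt) ↔ q ∈ ({c, b} : Finset GolayPt) := by
    intro j hj q
    rw [Finset.pair_comm]
    exact hJa j hj q
  have hsc : sc = {a, b} := duad_symm' hJ hac hab (Ne.symm hbc) (htr a).2 hJa' hsc2 hcsc hJc
  subst hsb hsc
  obtain ⟨f, hfJa, hf⟩ := exists_orderOf_eq_prime (ptStab J a) 5
    (by rw [(htr a).2]; norm_num)
  have hfJ : f ∈ J := (mem_ptStab.mp hfJa).1
  have hfa : f a = a := (mem_ptStab.mp hfJa).2
  have hfM : f ∈ M24 := hJ hfJ
  have hfbc := fixes_of_pair hf hs2 (hJa f hfJa)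
  have hfb : f b = b := hfbc b (by simp)
  have hfc : f c = c := hfbc c (by simp)
  have h3 : ({a, b, c} : Finset GolayPt).card = 3 := by
    rw [Finset.card_insert_of_notMem, Finset.card_pair hbc]
    simp only [Finset.mem_insert, Finset.mem_singleton, not_or]
    exact ⟨hab, hac⟩
  have hsubfix : ({a, b, c} : Finset GolayPt) ⊆ fixPts f := by
    intro q hq
    simp only [Finset.mem_insert, Finset.mem_singleton] at hq
    rw [mem_fixPts]
    rcases hq with rfl | rfl | rfl
    · exact hfa
    · exact hfb
    · exact hfc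
  obtain ⟨e, he, hfix⟩ := exists_fixPts_eq_insert hsubfix (by rw [card_fixPts_5 hfM hf, h3])
  have hfe : f e = e := by
    rw [← mem_fixPts, hfix]; exact Finset.mem_insert_self _ _
  obtain ⟨se, hse2, hese, hJe⟩ := hall e
  have hfJe : f ∈ ptStab J e := mem_ptStab.mpr ⟨hfJ, hfe⟩
  have hfse := fixes_of_pair hf hse2 (hJe f hfJe)
  have hsesub : se ⊆ {a, b, c} := by
    intro q hq
    have h1 : q ∈ fixPts f := mem_fixPts.mpr (hfse q hq)
    rw [hfix, Finset.mem_insert] at h1
    rcases h1 with h1 | h1
    · exact absurd (h1 ▸ hq) hese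
    · exact h1
  obtain ⟨y, z, hyz, rfl⟩ := Finset.card_eq_two.mp hse2
  have hy : y ∈ ({a, b, c} : Finset GolayPt) := hsesub (by simp)
  have hey : e ≠ y := fun h => he (h ▸ hy)
  have hez : e ≠ z := fun h => hese (by rw [h]; simp)
  have key : ∀ s' : Finset GolayPt, s'.card = 2 → y ∉ s' →
      (∀ j ∈ ptStab J y, ∀ q, j q ∈ s' ↔ q ∈ s') → s' ⊆ {a, b, c} → False := by
    intro s' hs'2 hys' hJy hsub
    have := duad_symm' hJ hey hez hyz (htr e).2 hJe hs'2 hys' hJy
    apply he
    apply hsub
    rw [this]
    simp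
  simp only [Finset.mem_insert, Finset.mem_singleton] at hy
  rcases hy with rfl | rfl | rfl
  · exact key {b, c} hs2 has hJa (by intro q hq; simp at hq ⊢; tauto)
  · exact key {a, c} hsb2 hbsb hJb (by intro q hq; simp at hq ⊢; tauto)
  · exact key {a, b} hsc2 hcsc hJc (by intro q hq; simp at hq ⊢; tauto)

/-! ### The heptad case -/

/-- The point stabilizer of `w` preserves an octad through `w` and contains its pointwise
stabilizer. -/
def OctInv (J : Subgroup (Equiv.Perm GolayPt)) (w : GolayPt) : Prop :=
  ∃ o ∈ octads, w ∈ o ∧ (∀ j ∈ ptStab J w, ∀ q, j q ∈ o ↔ q ∈ o) ∧ fixM24 o ≤ J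

theorem octInv_of_mem_orb {J : Subgroup (Equiv.Perm GolayPt)} (hJ : J ≤ M24) {a w : GolayPt}
    (hw : w ∈ orb J a) (h : OctInv J a) : OctInv J w := by
  obtain ⟨g, hg, rfl⟩ := mem_orb.mp hw
  obtain ⟨o, ho, hao, hs, hfix⟩ := h
  refine ⟨g • o, smul_mem_octads (hJ hg) ho, ?_, ?_, ?_⟩
  · rw [apply_mem_perm_smul_finset]
    exact hao
  · intro j hj q
    exact preserves_smul (hs _ ((mem_ptStab_conj hg).mp hj)) q
  · intro e he
    rw [mem_fixM24] at he
    have h1 : g⁻¹ * e * g ∈ fixM24 o := by
      rw [mem_fixM24]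
      refine ⟨M24.mul_mem (M24.mul_mem (M24.inv_mem (hJ hg)) he.1) (hJ hg), fun p hp => ?_⟩
      rw [Equiv.Perm.mul_apply, Equiv.Perm.mul_apply,
        he.2 (g p) ((apply_mem_perm_smul_finset g o p).mpr hp)]
      simp
    have h2 : e = g * (g⁻¹ * e * g) * g⁻¹ := by group
    rw [h2]
    exact J.mul_mem (J.mul_mem hg (hfix h1)) (J.inv_mem hg)

/-- From an invariant heptad to an invariant octad containing the pointwise stabilizer. -/
theorem octInv_of_heptad {J : Subgroup (Equiv.Perm GolayPt)} (hJ : J ≤ M24) {x : GolayPt}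
    (hcard : Nat.card ↥(ptStab J x) = 13440) {T : Finset GolayPt} (hT7 : T.card = 7)
    (hxT : x ∉ T) (hinv : ∀ j ∈ ptStab J x, ∀ q, j q ∈ T ↔ q ∈ T) : OctInv J x := by
  have : Fact (Nat.Prime 2) := ⟨by norm_num⟩
  set K := ptStab J x with hKdef
  have hKM : K ≤ M24 := inf_le_left.trans hJ
  have hx : FixesAll K {x} := fixesAll_ptStab J x
  have ho8 : (insert x T).card = 8 := by rw [Finset.card_insert_of_notMem hxT, hT7]
  set φ := restrict K T hinv with hφ
  have h1 := Subgroup.card_mul_index φ.ker
  rw [Subgroup.index_ker, hcard] at h1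
  have hcardT : Nat.card {q // q ∈ T} = 7 := by
    rw [Nat.card_eq_fintype_card, Fintype.card_coe, hT7]
  have hperm : Nat.card (Equiv.Perm {q // q ∈ T}) = 5040 := by
    rw [Nat.card_perm, hcardT]; decide
  have hrange : Nat.card ↥φ.range ∣ 5040 := by
    rw [← hperm]; exact Subgroup.card_subgroup_dvd_card _
  set N := φ.ker.map K.subtype with hN
  have hNcard : Nat.card N = Nat.card ↥φ.ker :=
    Subgroup.card_map_of_injective K.subtype_injective
  have hNK : N ≤ K := by
    rintro _ ⟨g, -, rfl⟩
    exact g.2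
  have hfixN : FixesAll N (insert x T) := by
    rintro _ ⟨g, hg, rfl⟩ q hq
    rw [Finset.mem_insert] at hq
    rcases hq with rfl | hq
    · exact hx g g.2 q (Finset.mem_singleton_self q)
    · have hg1 : φ g = 1 := MonoidHom.mem_ker.mp hg
      have := congrArg (fun σ : Equiv.Perm {q // q ∈ T} => ((σ ⟨q, hq⟩ : {q // q ∈ T}) : GolayPt)) hg1
      exact this
  have h48 := card_dvd_of_five_le (hNK.trans hKM) (by omega) hfixN
  rw [hNcard] at h48
  have hk : Nat.card ↥φ.ker = 8 ∨ Nat.card ↥φ.ker = 16 ∨ Nat.card ↥φ.ker = 24 ∨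
      Nat.card ↥φ.ker = 48 := by
    have hle : Nat.card ↥φ.ker ≤ 48 := Nat.le_of_dvd (by norm_num) h48
    have hpos : 0 < Nat.card ↥φ.ker := Nat.card_pos
    have hdv : 13440 ∣ Nat.card ↥φ.ker * 5040 := by
      rw [← h1]; exact Nat.mul_dvd_mul_left _ hrange
    clear h1
    generalize Nat.card ↥φ.ker = k at h48 hle hpos hdv ⊢
    interval_cases k <;> omega
  have heven : 2 ∣ Nat.card N := by
    rw [hNcard]
    rcases hk with h | h | h | h <;> rw [h] <;> norm_num
  obtain ⟨z, hzN, hz⟩ := exists_orderOf_eq_prime N 2 heven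
  have hzx : z x = x := hfixN z hzN x (Finset.mem_insert_self x T)
  have hoct := fixPts_mem_octads (hNK.trans hKM hzN) hz hzx
  have hz8 : (fixPts z).card = 8 := octads_steiner.1 _ hoct
  have heq : insert x T = fixPts z :=
    Finset.eq_of_subset_of_card_le (hfixN.subset_fixPts hzN) (by rw [hz8, ho8])
  have ho : insert x T ∈ octads := by rw [heq]; exact hoct
  -- the kernel is the pointwise stabilizer of the octad
  have hNfix : N ≤ fixM24 (insert x T) := by
    intro g hg
    rw [mem_fixM24]
    exact ⟨hNK.trans hKM hg, fun p hp => hfixN g hg p hp⟩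
  have h16 := (fixM24_octad ho).1
  have hNd : Nat.card N ∣ 16 := by
    rw [← h16]; exact Subgroup.card_dvd_of_le hNfix
  have hk16 : Nat.card ↥φ.ker = 16 := by
    rw [hNcard] at hNd
    rcases hk with h | h | h | h
    · -- image of index 3 in the symmetric group of degree 7
      exfalso
      have hr : Nat.card ↥φ.range = 1680 := by rw [h] at h1; omega
      have hidx : φ.range.index = 3 := by
        have := Subgroup.card_mul_index φ.range
        rw [hr, hperm] at this
        omega
      exact no_index_three (by rw [hcardT]; norm_num) φ.range hidx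
    · exact h
    · rw [h] at hNd; omega
    · rw [h] at hNd; omega
  have hNeq : N = fixM24 (insert x T) := by
    apply Subgroup.eq_of_le_of_card_ge hNfix
    rw [h16, hNcard, hk16]
  refine ⟨insert x T, ho, Finset.mem_insert_self x T, ?_, ?_⟩
  · intro j hj q
    have hjx : j x = x := hx j hj x (Finset.mem_singleton_self x)
    rw [Finset.mem_insert, Finset.mem_insert, hinv j hj q]
    have : j q = x ↔ q = x := by
      constructor
      · intro h; exact j.injective (h.trans hjx.symm)
      · intro h; rw [h, hjx]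
    rw [this]
  · rw [← hNeq]
    exact hNK.trans inf_le_left

/-- The octad of a point of the octad of `x` is the octad of `x`. -/
theorem octad_symm' {J : Subgroup (Equiv.Perm GolayPt)} {y : GolayPt} {o o' : Finset GolayPt}
    (ho : o ∈ octads) (hfix : fixM24 o ≤ J) (hyo : y ∈ o)
    (ho' : o' ∈ octads) (hJy : ∀ j ∈ ptStab J y, ∀ q, j q ∈ o' ↔ q ∈ o') : o' = o := by
  have hinv : ∀ g ∈ fixM24 o, ∀ q ∈ o', g q ∈ o' := by
    intro g hg q hq
    have h2 : g ∈ ptStab J y := mem_ptStab.mpr ⟨hfix hg, (mem_fixM24.mp hg).2 y hyo⟩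
    exact (hJy g h2 q).mpr hq
  have h8 : o.card = 8 := octads_steiner.1 _ ho
  have h8' : o'.card = 8 := octads_steiner.1 _ ho'
  have hsub : o' ⊆ o := by
    by_contra hcon
    rw [Finset.not_subset] at hcon
    obtain ⟨p, hpo', hp⟩ := hcon
    have hsub2 : Finset.univ \ o ⊆ o' := by
      intro q hq
      rw [Finset.mem_sdiff] at hq
      obtain ⟨e, he, heq⟩ := exists_fixM24_map ho hq.2 hp
      rw [← heq]
      exact hinv e he p hpo'
    have h1 := Finset.card_le_card hsub2
    have h2 := Finset.le_card_sdiff o Finset.univ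
    have h3 : (Finset.univ : Finset GolayPt).card = 24 := by decide
    omega
  exact Finset.eq_of_subset_of_card_le hsub (by rw [h8, h8'])

theorem no_octad' {J : Subgroup (Equiv.Perm GolayPt)} (hJ : J ≤ M24)
    (htr : ∀ w, (orb J w).card = 24 ∧ Nat.card ↥(ptStab J w) = 13440) (a : GolayPt)
    (ha : OctInv J a) : False := by
  have : Fact (Nat.Prime 5) := ⟨by norm_num⟩
  have hall : ∀ w, OctInv J w := fun w =>
    octInv_of_mem_orb hJ (mem_orb_of_full (htr a).1 w) ha
  obtain ⟨o, ho, hao, hJa, hfixo⟩ := ha
  obtain ⟨f, hfJa, hf⟩ := exists_orderOf_eq_prime (ptStab J a) 5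
    (by rw [(htr a).2]; norm_num)
  have hfJ : f ∈ J := (mem_ptStab.mp hfJa).1
  have hfM : f ∈ M24 := hJ hfJ
  have h3 := card_fixIn_octad hfM hf ho (hJa f hfJa)
  have hsub : fixIn f o ⊆ fixPts f := fun q hq => mem_fixPts.mpr (mem_fixIn.mp hq).2
  have hsd : (fixPts f \ fixIn f o).card = 1 := by
    rw [Finset.card_sdiff_of_subset hsub, card_fixPts_5 hfM hf, h3]
  obtain ⟨e, he⟩ := Finset.card_eq_one.mp hsd
  have he' : e ∈ fixPts f \ fixIn f o := by rw [he]; exact Finset.mem_singleton_self e
  rw [Finset.mem_sdiff, mem_fixPts, mem_fixIn] at he'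
  have hfe : f e = e := he'.1
  have heo : e ∉ o := fun h => he'.2 ⟨h, hfe⟩
  obtain ⟨oe, hoe, heoe, hJe, hfixoe⟩ := hall e
  have hfJe : f ∈ ptStab J e := mem_ptStab.mpr ⟨hfJ, hfe⟩
  have h3' := card_fixIn_octad hfM hf hoe (hJe f hfJe)
  have hdisj : ∀ y ∈ oe, y ∉ o := by
    intro y hyoe hyo
    obtain ⟨oy, hoy, -, hJy, -⟩ := hall y
    have e1 : oy = o := octad_symm' ho hfixo hyo hoy hJy
    have e2 : oy = oe := octad_symm' hoe hfixoe hyoe hoy hJy
    apply heo
    rw [← e1, e2]
    exact heoe
  have hsub2 : fixIn f oe ⊆ {e} := by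
    intro q hq
    rw [mem_fixIn] at hq
    have h1 : q ∈ fixPts f \ fixIn f o := by
      rw [Finset.mem_sdiff, mem_fixPts, mem_fixIn]
      exact ⟨hq.2, fun h => hdisj q hq.1 h.1⟩
    rw [he] at h1
    exact h1
  have := Finset.card_le_card hsub2
  rw [h3', Finset.card_singleton] at this
  omega

/-! ### Main results -/

/-- A subgroup of `M24` of order `322560` is not transitive. -/
theorem no_transitive {J : Subgroup (Equiv.Perm GolayPt)} (hJ : J ≤ M24)
    (htr : ∀ w, (orb J w).card = 24 ∧ Nat.card ↥(ptStab J w) = 13440) : False := by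
  have hK : ptStab J none ≤ M24 := inf_le_left.trans hJ
  rcases main_cases' hK (fixesAll_ptStab J none) (htr none).2 with
    ⟨s, hs2, hxs, hinv⟩ | ⟨T, hT7, hxT, hinv⟩
  · exact no_duad' hJ htr none ⟨s, hs2, hxs, hinv⟩
  · exact no_octad' hJ htr none (octInv_of_heptad hJ (htr none).2 hT7 hxT hinv)

/-- A subgroup of `M24` of order `322560` is the stabilizer of an octad. -/
theorem stab_of_card_322560 {J : Subgroup (Equiv.Perm GolayPt)} (hJ : J ≤ M24)
    (hcard : Nat.card J = 322560) : ∃ o ∈ octads, J = stabM24 o := by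
  rcases index_759_cases hJ hcard with h | h
  · exact h
  · exact (no_transitive hJ h).elim

/-- Subgroups of index 759 of `M24` are the octad stabilizers. -/
theorem index_759 (H : Subgroup ↥M24) (hH : H.index = 759) :
    ∃ o ∈ octads, H = MulAction.stabilizer M24 o := by
  have h1 := Subgroup.card_mul_index H
  rw [hH, card_M24] at h1
  have hcardH : Nat.card H = 322560 := by omega
  have hJ : H.map M24.subtype ≤ M24 := by
    rintro _ ⟨h, -, rfl⟩
    exact h.2
  obtain ⟨o, ho, hJo⟩ := stab_of_card_322560 hJ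
    (by rw [Subgroup.card_map_of_injective M24.subtype_injective, hcardH])
  refine ⟨o, ho, ?_⟩
  ext h
  rw [MulAction.mem_stabilizer_iff, M24_smul_finset_def]
  constructor
  · intro hh
    have h1 : (h : Equiv.Perm GolayPt) ∈ stabM24 o := by
      rw [← hJo]; exact Subgroup.mem_map_of_mem _ hh
    exact (mem_stabM24.mp h1).2
  · intro hs
    have h1 : (h : Equiv.Perm GolayPt) ∈ H.map M24.subtype := by
      rw [hJo, mem_stabM24]
      exact ⟨h.2, hs⟩
    obtain ⟨h', hh', he⟩ := Subgroup.mem_map.mp h1
    rw [← M24.subtype_injective he]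
    exact hh'

end Cfsg.Agent.Lib.Helper92.M24Idx759
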