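import Cfsg.Agent.S1609
import Cfsg.Agent.S5548
import Cfsg.Agent.Lib.Helper92.OctadSplit

/-!
# `M24` has no subgroup of index 253

A subgroup `J ≤ M24` of order `967680 = |M24| / 253` is transitive on the 24 points (Lagrange in
the point stabilizer), its point stabilizers have order `40320`, hence are duad stabilizers or
heptad stabilizers of the point stabilizer `M23` (S1609).  In both cases the point stabilizers
`J_x` determine a `J`-invariant partition of the points (into triples `{x} ∪ s_x`, resp. into the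
three octads `o_x`), and an element of order 5 of `J` would have too many fixed points.
-/

set_option autoImplicit false

namespace Cfsg.Agent.Lib.Helper92.M24NoIdx253
open Cfsg Cfsg.Agent.Lib.Helper7 Cfsg.Agent.Lib.Helper92 Cfsg.Agent.Lib.Helper92.PermCount
  Cfsg.Agent.Lib.Helper92.M24Index Cfsg.Agent.Lib.Helper92.M24Fix Cfsg.Agent.Lib.Helper92.M24Aut
open scoped Pointwise

/-- The stabilizer of a point in a subgroup of the symmetric group. -/
abbrev ptStab (J : Subgroup (Equiv.Perm GolayPt)) (w : GolayPt) : Subgroup (Equiv.Perm GolayPt) :=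
  J ⊓ MulAction.stabilizer (Equiv.Perm GolayPt) w

theorem mem_ptStab {J : Subgroup (Equiv.Perm GolayPt)} {w : GolayPt} {g : Equiv.Perm GolayPt} :
    g ∈ ptStab J w ↔ g ∈ J ∧ g w = w := by
  rw [ptStab, Subgroup.mem_inf, MulAction.mem_stabilizer_iff]
  rfl

theorem fixesAll_ptStab (J : Subgroup (Equiv.Perm GolayPt)) (w : GolayPt) :
    FixesAll (ptStab J w) {w} := by
  intro g hg q hq
  rw [Finset.mem_singleton] at hq
  rw [hq]
  exact (mem_ptStab.mp hg).2

/-! ### Transitivity -/

theorem orbit_full {J : Subgroup (Equiv.Perm GolayPt)} (hJ : J ≤ M24)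
    (hcard : Nat.card J = 967680) (w : GolayPt) :
    (orb J w).card = 24 ∧ Nat.card ↥(ptStab J w) = 40320 := by
  have hmul := card_eq_orb_mul J w
  have hd := card_dvd_of_fixesAll_one (inf_le_left.trans hJ) (fixesAll_ptStab J w)
  have hle : (orb J w).card ≤ 24 := by
    have h1 := Finset.card_le_univ (orb J w)
    have h2 : Fintype.card GolayPt = 24 := by decide
    omega
  rw [hcard] at hmul
  change 967680 = (orb J w).card * Nat.card ↥(ptStab J w) at hmul
  have hd2 : Nat.card ↥(ptStab J w) ∣ 967680 := Dvd.intro_left _ hmul.symm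
  have hd3 := Nat.dvd_gcd hd2 hd
  have hg : Nat.gcd 967680 10200960 = 40320 := by norm_num
  rw [hg] at hd3
  have hm : Nat.card ↥(ptStab J w) ≤ 40320 := Nat.le_of_dvd (by norm_num) hd3
  generalize (orb J w).card = n at *
  generalize Nat.card ↥(ptStab J w) = m at *
  have hn : n = 24 := by
    by_contra hne
    have h23 : n ≤ 23 := by omega
    have : n * m ≤ 23 * 40320 := Nat.mul_le_mul h23 hm
    omega
  subst hn
  exact ⟨rfl, by omega⟩

/-! ### The two types of point stabilizers -/

/-- `w` is of duad type for `J`. -/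
def DuadType (J : Subgroup (Equiv.Perm GolayPt)) (w : GolayPt) : Prop :=
  ∃ s : Finset GolayPt, s.card = 2 ∧ w ∉ s ∧ ptStab J w = stabM24Pt s w

/-- `w` is of octad type for `J`. -/
def OctadType (J : Subgroup (Equiv.Perm GolayPt)) (w : GolayPt) : Prop :=
  ∃ o ∈ octads, w ∈ o ∧ ptStab J w = stabM24Pt o w

theorem type_cases {J : Subgroup (Equiv.Perm GolayPt)} (hJ : J ≤ M24)
    (hcard : Nat.card J = 967680) (w : GolayPt) : DuadType J w ∨ OctadType J w := by
  have hK : ptStab J w ≤ M24 := inf_le_left.trans hJ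
  have hx := fixesAll_ptStab J w
  have hc := (orbit_full hJ hcard w).2
  rcases Cfsg.Agent.S1609.main_cases hK hx hc with ⟨s, hs2, hxs, hinv⟩ | ⟨T, hT7, hxT, hinv⟩
  · left
    exact ⟨s, hs2, hxs, Cfsg.Agent.S1609.duad_case hK hx hc hs2 hxs hinv⟩
  · right
    obtain ⟨ho, hJo⟩ := Cfsg.Agent.S1609.heptad_case hK hx hc hT7 hxT hinv
    exact ⟨insert w T, ho, Finset.mem_insert_self w T, hJo⟩

/-- Conjugating a point stabilizer. -/
theorem ptStab_conj {J : Subgroup (Equiv.Perm GolayPt)} (hJ : J ≤ M24) {g : Equiv.Perm GolayPt}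
    (hg : g ∈ J) {a : GolayPt} {d : Finset GolayPt} (h : ptStab J a = stabM24Pt d a) :
    ptStab J (g a) = stabM24Pt (g • d) (g a) := by
  ext j
  have h1 : j ∈ ptStab J (g a) ↔ g⁻¹ * j * g ∈ ptStab J a := by
    rw [mem_ptStab, mem_ptStab]
    constructor
    · rintro ⟨hj, hja⟩
      refine ⟨J.mul_mem (J.mul_mem (J.inv_mem hg) hj) hg, ?_⟩
      rw [Equiv.Perm.mul_apply, Equiv.Perm.mul_apply, hja]
      simp
    · rintro ⟨hj, hja⟩
      have hj' : j = g * (g⁻¹ * j * g) * g⁻¹ := by group
      refine ⟨?_, ?_⟩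
      · rw [hj']
        exact J.mul_mem (J.mul_mem hg hj) (J.inv_mem hg)
      · rw [Equiv.Perm.mul_apply, Equiv.Perm.mul_apply] at hja
        have := congrArg g hja
        simpa using this
  rw [h1, h, conj_mem_stabM24Pt (hJ hg) d a]
  have : g * (g⁻¹ * j * g) * g⁻¹ = j := by group
  rw [this]

theorem duadType_of_mem_orb {J : Subgroup (Equiv.Perm GolayPt)} (hJ : J ≤ M24) {a w : GolayPt}
    (hw : w ∈ orb J a) (h : DuadType J a) : DuadType J w := by
  obtain ⟨g, hg, rfl⟩ := mem_orb.mp hw
  obtain ⟨s, hs2, has, hs⟩ := h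
  refine ⟨g • s, ?_, ?_, ptStab_conj hJ hg hs⟩
  · rw [Finset.card_smul_finset, hs2]
  · rw [apply_mem_perm_smul_finset]
    exact has

theorem octadType_of_mem_orb {J : Subgroup (Equiv.Perm GolayPt)} (hJ : J ≤ M24) {a w : GolayPt}
    (hw : w ∈ orb J a) (h : OctadType J a) : OctadType J w := by
  obtain ⟨g, hg, rfl⟩ := mem_orb.mp hw
  obtain ⟨o, ho, hao, hs⟩ := h
  refine ⟨g • o, smul_mem_octads (hJ hg) ho, ?_, ptStab_conj hJ hg hs⟩
  rw [apply_mem_perm_smul_finset]
  exact hao

theorem mem_orb_of_full {J : Subgroup (Equiv.Perm GolayPt)} {a : GolayPt}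
    (h : (orb J a).card = 24) (w : GolayPt) : w ∈ orb J a := by
  have h2 : (Finset.univ : Finset GolayPt).card = 24 := by decide
  have : orb J a = Finset.univ :=
    Finset.eq_of_subset_of_card_le (Finset.subset_univ _) (by rw [h, h2])
  rw [this]
  exact Finset.mem_univ w

/-! ### Invariant sets of the stabilizer of three points -/

/-- A set of fewer than 21 points invariant under the pointwise stabilizer in `M24` of three
points is contained in these three points. -/
theorem subset_of_invariant {a b c : GolayPt} {S : Finset GolayPt} (hS : S.card < 21)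
    (hinv : ∀ g ∈ M24, g a = a → g b = b → g c = c → ∀ q ∈ S, g q ∈ S) :
    S ⊆ {a, b, c} := by
  by_contra hcon
  rw [Finset.not_subset] at hcon
  obtain ⟨p, hpS, hp⟩ := hcon
  have hF : ({a, b, c} : Finset GolayPt).card ≤ 4 :=
    (Finset.card_le_three).trans (by norm_num)
  have hsub : Finset.univ \ ({a, b, c} : Finset GolayPt) ⊆ S := by
    intro q hq
    rw [Finset.mem_sdiff] at hq
    obtain ⟨σ, hσ, hfix, hσp⟩ := Cfsg.Agent.S5548.exists_fix_move _ hF hp hq.2
    rw [← hσp]
    exact hinv σ hσ (hfix a (by simp)) (hfix b (by simp)) (hfix c (by simp)) p hpS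
  have h1 := Finset.card_le_card hsub
  have h2 := Finset.le_card_sdiff ({a, b, c} : Finset GolayPt) Finset.univ
  have h3 : (Finset.univ : Finset GolayPt).card = 24 := by decide
  have h4 : ({a, b, c} : Finset GolayPt).card ≤ 3 := Finset.card_le_three
  omega

/-- An element of order 5 preserving a set of two points fixes both. -/
theorem fixes_of_pair {f : Equiv.Perm GolayPt} (hf : orderOf f = 5) {s : Finset GolayPt}
    (hs : s.card = 2) (hinv : ∀ q, f q ∈ s ↔ q ∈ s) : ∀ q ∈ s, f q = q := by
  have : Fact (Nat.Prime 5) := ⟨by norm_num⟩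
  have hf5 : f ^ 5 = 1 := by rw [← hf]; exact pow_orderOf_eq_one f
  have hmod := card_fixIn_modEq (p := 5) f hf5 s hinv
  have hsub : fixIn f s ⊆ s := Finset.filter_subset _ _
  have hle := Finset.card_le_card hsub
  rw [hs] at hle hmod
  have h2 : (fixIn f s).card = 2 := by
    unfold Nat.ModEq at hmod
    omega
  have heq : fixIn f s = s := Finset.eq_of_subset_of_card_le hsub (by rw [h2, hs])
  intro q hq
  rw [← heq] at hq
  exact (mem_fixIn.mp hq).2

/-! ### The duad case -/

/-- Symmetry of the duad relation. -/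
theorem duad_symm {J : Subgroup (Equiv.Perm GolayPt)} {x y z : GolayPt} (hxy : x ≠ y)
    (hJx : ptStab J x = stabM24Pt {y, z} x) {s : Finset GolayPt} (hs2 : s.card = 2) (hys : y ∉ s)
    (hJy : ptStab J y = stabM24Pt s y) : s = {x, z} := by
  have hinv : ∀ g ∈ M24, g x = x → g y = y → g z = z → ∀ q ∈ s, g q ∈ s := by
    intro g hg hgx hgy hgz q hq
    have h1 : g ∈ ptStab J x := by
      rw [hJx, mem_stabM24Pt, mem_stabM24]
      refine ⟨⟨hg, perm_smul_eq_of_mem_iff (fun q => ?_)⟩, hgx⟩
      simp only [Finset.mem_insert, Finset.mem_singleton]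
      constructor
      · rintro (h | h)
        · left; exact g.injective (h.trans hgy.symm)
        · right; exact g.injective (h.trans hgz.symm)
      · rintro (rfl | rfl)
        · left; exact hgy
        · right; exact hgz
    have h2 : g ∈ ptStab J y := mem_ptStab.mpr ⟨(mem_ptStab.mp h1).1, hgy⟩
    rw [hJy, mem_stabM24Pt, mem_stabM24] at h2
    exact (mem_iff_of_perm_smul_eq h2.1.2 q).mpr hq
  have hsub := subset_of_invariant (by rw [hs2]; norm_num) hinv
  have hsub2 : s ⊆ {x, z} := by
    intro q hq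
    have := hsub hq
    simp only [Finset.mem_insert, Finset.mem_singleton] at this ⊢
    rcases this with h | h | h
    · left; exact h
    · exact absurd (h ▸ hq) hys
    · right; exact h
  apply Finset.eq_of_subset_of_card_le hsub2
  rw [hs2]
  exact Finset.card_le_two

theorem no_duad {J : Subgroup (Equiv.Perm GolayPt)} (hJ : J ≤ M24)
    (hcard : Nat.card J = 967680) (a : GolayPt) (ha : DuadType J a) : False := by
  have : Fact (Nat.Prime 5) := ⟨by norm_num⟩
  have hall : ∀ w, DuadType J w := fun w =>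
    duadType_of_mem_orb hJ (mem_orb_of_full (orbit_full hJ hcard a).1 w) ha
  obtain ⟨s, hs2, has, hJa⟩ := ha
  obtain ⟨b, c, hbc, rfl⟩ := Finset.card_eq_two.mp hs2
  have hab : a ≠ b := fun h => has (by rw [h]; simp)
  have hac : a ≠ c := fun h => has (by rw [h]; simp)
  -- the duads of `b` and `c`
  obtain ⟨sb, hsb2, hbsb, hJb⟩ := hall b
  obtain ⟨sc, hsc2, hcsc, hJc⟩ := hall c
  have hsb : sb = {a, c} := duad_symm hab hJa hsb2 hbsb hJb
  have hJa' : ptStab J a = stabM24Pt {c, b} a := by rw [hJa, Finset.pair_comm]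
  have hsc : sc = {a, b} := duad_symm hac hJa' hsc2 hcsc hJc
  subst hsb hsc
  -- an element of order 5
  obtain ⟨f, hfJa, hf⟩ := exists_orderOf_eq_prime (ptStab J a) 5
    (by rw [(orbit_full hJ hcard a).2]; norm_num)
  have hfJ : f ∈ J := (mem_ptStab.mp hfJa).1
  have hfa : f a = a := (mem_ptStab.mp hfJa).2
  have hfM : f ∈ M24 := hJ hfJ
  have hfinv : ∀ q, f q ∈ ({b, c} : Finset GolayPt) ↔ q ∈ ({b, c} : Finset GolayPt) := by
    have h1 := hfJa
    rw [hJa, mem_stabM24Pt, mem_stabM24] at h1
    exact mem_iff_of_perm_smul_eq h1.1.2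
  have hfbc := fixes_of_pair hf hs2 hfinv
  have hfb : f b = b := hfbc b (by simp)
  have hfc : f c = c := hfbc c (by simp)
  have h3 : ({a, b, c} : Finset GolayPt).card = 3 := by
    rw [Finset.card_insert_of_notMem, Finset.card_pair hbc]
    simp only [Finset.mem_insert, Finset.mem_singleton, not_or]
    exact ⟨hab, hac⟩
  have hsubfix : ({a, b, c} : Finset GolayPt) ⊆ fixPts f := by
    intro q hq
    simp only [Finset.mem_insert, Finset.mem_singleton] at hq
    rw [mem_fixPts]
    rcases hq with rfl | rfl | rfl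
    · exact hfa
    · exact hfb
    · exact hfc
  obtain ⟨e, he, hfix⟩ := exists_fixPts_eq_insert hsubfix (by rw [card_fixPts_5 hfM hf, h3])
  have hfe : f e = e := by
    rw [← mem_fixPts, hfix]; exact Finset.mem_insert_self _ _
  -- the duad of `e`
  obtain ⟨se, hse2, hese, hJe⟩ := hall e
  have hfJe : f ∈ ptStab J e := mem_ptStab.mpr ⟨hfJ, hfe⟩
  have hfinv' : ∀ q, f q ∈ se ↔ q ∈ se := by
    have h1 := hfJe
    rw [hJe, mem_stabM24Pt, mem_stabM24] at h1
    exact mem_iff_of_perm_smul_eq h1.1.2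
  have hfse := fixes_of_pair hf hse2 hfinv'
  have hsesub : se ⊆ {a, b, c} := by
    intro q hq
    have h1 : q ∈ fixPts f := mem_fixPts.mpr (hfse q hq)
    rw [hfix, Finset.mem_insert] at h1
    rcases h1 with h1 | h1
    · exact absurd (h1 ▸ hq) hese
    · exact h1
  obtain ⟨y, z, hyz, rfl⟩ := Finset.card_eq_two.mp hse2
  have hy : y ∈ ({a, b, c} : Finset GolayPt) := hsesub (by simp)
  have hey : e ≠ y := fun h => he (h ▸ hy)
  -- the duad of `y` contains `e`
  have key : ∀ s' : Finset GolayPt, s'.card = 2 → y ∉ s' → ptStab J y = stabM24Pt s' y →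
      s' ⊆ {a, b, c} → False := by
    intro s' hs'2 hys' hJy hsub
    have := duad_symm hey hJe hs'2 hys' hJy
    apply he
    apply hsub
    rw [this]
    simp
  simp only [Finset.mem_insert, Finset.mem_singleton] at hy
  rcases hy with rfl | rfl | rfl
  · exact key {b, c} hs2 has hJa (by intro q hq; simp at hq ⊢; tauto)
  · exact key {a, c} hsb2 hbsb hJb (by intro q hq; simp at hq ⊢; tauto)
  · exact key {a, b} hsc2 hcsc hJc (by intro q hq; simp at hq ⊢; tauto)

/-! ### The octad case -/

/-- The octad of a point of the octad of `x` is the octad of `x`. -/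
theorem octad_symm {J : Subgroup (Equiv.Perm GolayPt)} {x y : GolayPt} {o o' : Finset GolayPt}
    (ho : o ∈ octads) (hxo : x ∈ o) (hJx : ptStab J x = stabM24Pt o x) (hyo : y ∈ o)
    (ho' : o' ∈ octads) (hJy : ptStab J y = stabM24Pt o' y) : o' = o := by
  have hinv : ∀ g ∈ fixM24 o, ∀ q ∈ o', g q ∈ o' := by
    intro g hg q hq
    rw [mem_fixM24] at hg
    have h1 : g ∈ ptStab J x := by
      rw [hJx, mem_stabM24Pt, mem_stabM24]
      refine ⟨⟨hg.1, perm_smul_eq_of_mem_iff (fun q => ?_)⟩, hg.2 x hxo⟩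
      constructor
      · intro h
        have := hg.2 _ h
        rwa [g.injective this] at h
      · intro h
        rw [hg.2 q h]; exact h
    have h2 : g ∈ ptStab J y := mem_ptStab.mpr ⟨(mem_ptStab.mp h1).1, hg.2 y hyo⟩
    rw [hJy, mem_stabM24Pt, mem_stabM24] at h2
    exact (mem_iff_of_perm_smul_eq h2.1.2 q).mpr hq
  have h8 : o.card = 8 := octads_steiner.1 _ ho
  have h8' : o'.card = 8 := octads_steiner.1 _ ho'
  have hsub : o' ⊆ o := by
    by_contra hcon
    rw [Finset.not_subset] at hcon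
    obtain ⟨p, hpo', hp⟩ := hcon
    have hsub2 : Finset.univ \ o ⊆ o' := by
      intro q hq
      rw [Finset.mem_sdiff] at hq
      obtain ⟨e, he, heq⟩ := exists_fixM24_map ho hq.2 hp
      rw [← heq]
      exact hinv e he p hpo'
    have h1 := Finset.card_le_card hsub2
    have h2 := Finset.le_card_sdiff o Finset.univ
    have h3 : (Finset.univ : Finset GolayPt).card = 24 := by decide
    omega
  exact Finset.eq_of_subset_of_card_le hsub (by rw [h8, h8'])

/-- An element of order 5 of `M24` preserving an octad fixes exactly three of its points. -/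
theorem card_fixIn_octad {f : Equiv.Perm GolayPt} (hfM : f ∈ M24) (hf : orderOf f = 5)
    {o : Finset GolayPt} (ho : o ∈ octads) (hinv : ∀ q, f q ∈ o ↔ q ∈ o) :
    (fixIn f o).card = 3 := by
  have : Fact (Nat.Prime 5) := ⟨by norm_num⟩
  have hf5 : f ^ 5 = 1 := by rw [← hf]; exact pow_orderOf_eq_one f
  have hmod := card_fixIn_modEq (p := 5) f hf5 o hinv
  have h8 : o.card = 8 := octads_steiner.1 _ ho
  have hsub : fixIn f o ⊆ fixPts f := by
    intro q hq
    exact mem_fixPts.mpr (mem_fixIn.mp hq).2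
  have hle := Finset.card_le_card hsub
  rw [card_fixPts_5 hfM hf] at hle
  rw [h8] at hmod
  unfold Nat.ModEq at hmod
  omega

theorem no_octad {J : Subgroup (Equiv.Perm GolayPt)} (hJ : J ≤ M24)
    (hcard : Nat.card J = 967680) (a : GolayPt) (ha : OctadType J a) : False := by
  have : Fact (Nat.Prime 5) := ⟨by norm_num⟩
  have hall : ∀ w, OctadType J w := fun w =>
    octadType_of_mem_orb hJ (mem_orb_of_full (orbit_full hJ hcard a).1 w) ha
  obtain ⟨o, ho, hao, hJa⟩ := ha
  obtain ⟨f, hfJa, hf⟩ := exists_orderOf_eq_prime (ptStab J a) 5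
    (by rw [(orbit_full hJ hcard a).2]; norm_num)
  have hfJ : f ∈ J := (mem_ptStab.mp hfJa).1
  have hfM : f ∈ M24 := hJ hfJ
  have hfinv : ∀ q, f q ∈ o ↔ q ∈ o := by
    have h1 := hfJa
    rw [hJa, mem_stabM24Pt, mem_stabM24] at h1
    exact mem_iff_of_perm_smul_eq h1.1.2
  have h3 := card_fixIn_octad hfM hf ho hfinv
  -- a fixed point outside the octad
  have hsub : fixIn f o ⊆ fixPts f := fun q hq => mem_fixPts.mpr (mem_fixIn.mp hq).2
  have hsd : (fixPts f \ fixIn f o).card = 1 := by
    rw [Finset.card_sdiff_of_subset hsub, card_fixPts_5 hfM hf, h3]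
  obtain ⟨e, he⟩ := Finset.card_eq_one.mp hsd
  have he' : e ∈ fixPts f \ fixIn f o := by rw [he]; exact Finset.mem_singleton_self e
  rw [Finset.mem_sdiff, mem_fixPts, mem_fixIn] at he'
  have hfe : f e = e := he'.1
  have heo : e ∉ o := fun h => he'.2 ⟨h, hfe⟩
  -- the octad of `e`
  obtain ⟨oe, hoe, heoe, hJe⟩ := hall e
  have hfJe : f ∈ ptStab J e := mem_ptStab.mpr ⟨hfJ, hfe⟩
  have hfinv' : ∀ q, f q ∈ oe ↔ q ∈ oe := by
    have h1 := hfJe
    rw [hJe, mem_stabM24Pt, mem_stabM24] at h1
    exact mem_iff_of_perm_smul_eq h1.1.2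
  have h3' := card_fixIn_octad hfM hf hoe hfinv'
  -- the two octads are disjoint
  have hdisj : ∀ y ∈ oe, y ∉ o := by
    intro y hyoe hyo
    obtain ⟨oy, hoy, -, hJy⟩ := hall y
    have e1 : oy = o := octad_symm ho hao hJa hyo hoy hJy
    have e2 : oy = oe := octad_symm hoe heoe hJe hyoe hoy hJy
    apply heo
    rw [← e1, e2]
    exact heoe
  -- all fixed points of `f` in `oe` are equal to `e`
  have hsub2 : fixIn f oe ⊆ {e} := by
    intro q hq
    rw [mem_fixIn] at hq
    have h1 : q ∈ fixPts f \ fixIn f o := by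
      rw [Finset.mem_sdiff, mem_fixPts, mem_fixIn]
      exact ⟨hq.2, fun h => hdisj q hq.1 h.1⟩
    rw [he] at h1
    exact h1
  have := Finset.card_le_card hsub2
  rw [h3', Finset.card_singleton] at this
  omega

/-! ### Main results -/

/-- No subgroup of `M24` has order `967680`. -/
theorem no_card_967680 {J : Subgroup (Equiv.Perm GolayPt)} (hJ : J ≤ M24)
    (hcard : Nat.card J = 967680) : False := by
  rcases type_cases hJ hcard none with h | h
  · exact no_duad hJ hcard none h
  · exact no_octad hJ hcard none h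

/-- No subgroup of `M24` has index 253. -/
theorem no_index_253 (H : Subgroup ↥M24) : H.index ≠ 253 := by
  intro hH
  have h1 := Subgroup.card_mul_index H
  rw [hH, card_M24] at h1
  have hcardH : Nat.card H = 967680 := by omega
  apply no_card_967680 (J := H.map M24.subtype)
  · rintro _ ⟨h, -, rfl⟩
    exact h.2
  · rw [Subgroup.card_map_of_injective M24.subtype_injective, hcardH]

end Cfsg.Agent.Lib.Helper92.M24NoIdx253
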