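import Mathlib

/-!
# Groups of order 72 of shape `3^2 : Q_8`

A finite group of order 72 containing a copy of `(ZMod 3)^2` normalized by a copy of the quaternion
group has a normal elementary abelian Sylow 3-subgroup and quaternion Sylow 2-subgroups.
-/

set_option autoImplicit false

namespace Cfsg.Agent.Lib.Helper92

theorem pow_three_eq_one_zmod3 : ∀ v : Multiplicative (ZMod 3 × ZMod 3), v ^ 3 = 1 := by
  decide

theorem m9_structure {G : Type*} [Group G] [Finite G] (hcard : Nat.card G = 72)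
    (φ : Multiplicative (ZMod 3 × ZMod 3) →* G) (hφ : Function.Injective φ)
    (ψ : QuaternionGroup 2 →* G) (hψ : Function.Injective ψ)
    (hconj : ∀ x v, ∃ v', ψ x * φ v = φ v' * ψ x) :
    (∀ Q : Sylow 3 G, (Q : Subgroup G).Normal ∧ Nat.card Q = 9 ∧
      ∀ x ∈ (Q : Subgroup G), x ^ 3 = 1) ∧
    ∀ P : Sylow 2 G, Nonempty (↥P ≃* QuaternionGroup 2) := by
  classical
  have hf3 : (72 : ℕ).factorization 3 = 2 := by
    have : (72 : ℕ) = 3 ^ 2 * 8 := by norm_num
    rw [this, Nat.factorization_mul (by norm_num) (by norm_num), Nat.Prime.factorization_pow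
      Nat.prime_three]
    have h8 : (8 : ℕ) = 2 ^ 3 := by norm_num
    rw [h8, Nat.Prime.factorization_pow Nat.prime_two]
    simp
  have hf2 : (72 : ℕ).factorization 2 = 3 := by
    have : (72 : ℕ) = 2 ^ 3 * 9 := by norm_num
    rw [this, Nat.factorization_mul (by norm_num) (by norm_num), Nat.Prime.factorization_pow
      Nat.prime_two]
    have h9 : (9 : ℕ) = 3 ^ 2 := by norm_num
    rw [h9, Nat.Prime.factorization_pow Nat.prime_three]
    simp
  have : Fact (Nat.Prime 3) := ⟨Nat.prime_three⟩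
  have : Fact (Nat.Prime 2) := ⟨Nat.prime_two⟩
  set N : Subgroup G := φ.range with hN
  set K : Subgroup G := ψ.range with hK
  have hcN : Nat.card N = 9 := by
    rw [← Nat.card_congr (MonoidHom.ofInjective hφ).toEquiv]
    rw [Nat.card_eq_fintype_card]
    rfl
  have hcK : Nat.card K = 8 := by
    rw [← Nat.card_congr (MonoidHom.ofInjective hψ).toEquiv]
    rw [Nat.card_eq_fintype_card, QuaternionGroup.card]
  have hcompl : Subgroup.IsComplement' N K :=
    Subgroup.isComplement'_of_coprime (by rw [hcN, hcK, hcard]) (by rw [hcN, hcK]; norm_num)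
  -- normality of N
  have hNnormal : N.Normal := by
    constructor
    intro n hn g
    obtain ⟨⟨⟨a, ha⟩, ⟨k, hk⟩⟩, hak, _⟩ := (Subgroup.isComplement'_def.mp hcompl).existsUnique g
    simp only at hak
    obtain ⟨v, rfl⟩ := hn
    obtain ⟨x, rfl⟩ := hk
    obtain ⟨v', hv'⟩ := hconj x v
    have h1 : ψ x * φ v * (ψ x)⁻¹ = φ v' := by rw [hv']; group
    have h2 : g * φ v * g⁻¹ = a * (ψ x * φ v * (ψ x)⁻¹) * a⁻¹ := by rw [← hak]; group
    rw [h2, h1]
    exact N.mul_mem (N.mul_mem ha ⟨v', rfl⟩) (N.inv_mem ha)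
  have hexp : ∀ x ∈ N, x ^ 3 = 1 := by
    rintro x ⟨v, rfl⟩
    rw [← map_pow]
    rw [pow_three_eq_one_zmod3 v, map_one]
  refine ⟨?_, ?_⟩
  · intro Q
    let Q0 : Sylow 3 G := Sylow.ofCard N (by rw [hcN, hcard, hf3]; norm_num)
    have hQ0 : (Q0 : Subgroup G) = N := Sylow.coe_ofCard _ _
    have : (Q0 : Subgroup G).Normal := by rw [hQ0]; exact hNnormal
    obtain ⟨g, hg⟩ := MulAction.exists_smul_eq G Q0 Q
    have hQ : Q = Q0 := by rw [← hg, Sylow.smul_eq_of_normal]
    rw [hQ, hQ0]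
    exact ⟨hNnormal, hcN, hexp⟩
  · intro P
    let P0 : Sylow 2 G := Sylow.ofCard K (by rw [hcK, hcard, hf2]; norm_num)
    have hP0 : (P0 : Subgroup G) = K := Sylow.coe_ofCard _ _
    obtain ⟨g, hg⟩ := MulAction.exists_smul_eq G P0 P
    have e1 : ↥P0 ≃* ↥P := by
      rw [← hg]
      exact Sylow.equivSMul P0 g
    have e2 : QuaternionGroup 2 ≃* ↥K := MonoidHom.ofInjective hψ
    have e3 : ↥K ≃* ↥P0 := MulEquiv.subgroupCongr hP0.symm
    exact ⟨(e2.trans (e3.trans e1)).symm⟩

end Cfsg.Agent.Lib.Helper92
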