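import Cfsg.Agent.Lib.Helper3.ModRep.Defs
import Mathlib

/-!
# MODREP-[BR3] (helper92): in characteristic `p` trace functions only see the `p'`-part

Sheet: `Lib/Helper3/ModRep/MODREP_SHEET.md` (part BRIDGE), statement from `SkelBridge.lean.txt`.
-/

set_option autoImplicit false
set_option linter.unusedSectionVars false

namespace Cfsg.Agent.Lib.Helper3.ModRep

open Cfsg Cfsg.Agent.Lib.Helper16

variable {G : Type*} [Group G] [Finite G] (p : ℕ) (M : Ideal AlgInt) [hMp : M.IsPrime]

section modules

variable {k : Type*} [Field k]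

/-- MODREP-[BR3]: in characteristic `p` trace functions only see the `p'`-part. -/
theorem trFun_mul_pElement [Fact p.Prime] [CharP k p] {V : Type*} [AddCommGroup V] [Module k V]
    [FiniteDimensional k V] (ρ : Representation k G V) (x y : G) (hxy : Commute x y)
    (hx : ∃ j : ℕ, orderOf x = p ^ j) : trFun ρ (x * y) = trFun ρ y := by
  obtain ⟨j, hj⟩ := hx
  -- `ρ x - 1` is nilpotent
  have hpoly : ((Polynomial.X : Polynomial k) - 1) ^ p ^ j = Polynomial.X ^ p ^ j - 1 := by
    rw [sub_pow_char_pow, one_pow]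
  have hnil : (ρ x - 1) ^ p ^ j = 0 := by
    have h1 := congrArg (Polynomial.aeval (ρ x)) hpoly
    simp only [map_pow, map_sub, Polynomial.aeval_X, map_one] at h1
    rw [h1, ← map_pow, ← hj, pow_orderOf_eq_one, map_one, sub_self]
  have hcomm : Commute (ρ x - 1) (ρ y) := by
    have : Commute (ρ x) (ρ y) := by
      show ρ x * ρ y = ρ y * ρ x
      rw [← map_mul, ← map_mul, hxy.eq]
    exact this.sub_left (Commute.one_left _)
  have hnil2 : IsNilpotent ((ρ x - 1) * ρ y) := hcomm.isNilpotent_mul_right ⟨_, hnil⟩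
  have htr : LinearMap.trace k V ((ρ x - 1) * ρ y) = 0 :=
    (LinearMap.isNilpotent_trace_of_isNilpotent hnil2).eq_zero
  unfold trFun
  rw [map_mul]
  have : ρ x * ρ y = (ρ x - 1) * ρ y + ρ y := by
    rw [sub_mul, one_mul, sub_add_cancel]
  rw [this, map_add, htr, zero_add]

end modules

end Cfsg.Agent.Lib.Helper3.ModRep
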