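import Mathlib

/-!
# Density for finitely many pairwise non-isomorphic simple modules (helper92, for MODREP-[BR4])

`R` a `k`-algebra, `M i` (`i : ι`, finite) simple `R`-modules, finite-dimensional over `k`, with no nonzero
`R`-maps between different ones and only scalar `R`-endomorphisms.  Then for every `k`-linear `f : M i₀ → M i₀`
there is `r : R` acting as `f` on `M i₀` and as `0` on the other `M j`.
-/

set_option autoImplicit false

namespace Cfsg.Agent.Lib.Helper92.ModRepDensity

theorem exists_smul_eq {k R : Type*} [Field k] [Ring R] [Algebra k R] {ι : Type*} [Finite ι]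
    (M : ι → Type*) [∀ i, AddCommGroup (M i)] [∀ i, Module R (M i)] [∀ i, Module k (M i)]
    [∀ i, IsScalarTower k R (M i)] [∀ i, Module.Finite k (M i)] [∀ i, IsSimpleModule R (M i)]
    (hoff : ∀ i j, i ≠ j → ∀ ψ : M i →ₗ[R] M j, ψ = 0)
    (hdiag : ∀ i, ∀ ψ : M i →ₗ[R] M i, ∃ a : k, ∀ v, ψ v = a • v)
    (i₀ : ι) (f : M i₀ →ₗ[k] M i₀) :
    ∃ r : R, (∀ v : M i₀, r • v = f v) ∧ ∀ j, j ≠ i₀ → ∀ v : M j, r • v = 0 := by
  classical
  have : Fintype ι := Fintype.ofFinite ι
  -- components of an endomorphism of the product
  have hcomp : ∀ (φ : Module.End R (Π i, M i)) (i j : ι) (v : M i), i ≠ j →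
      φ (Pi.single i v) j = 0 := by
    intro φ i j v hij
    have h := hoff i j hij ((LinearMap.proj j).comp (φ.comp (LinearMap.single R M i)))
    have h2 := LinearMap.congr_fun h v
    simpa using h2
  have hsum : ∀ (φ : Module.End R (Π i, M i)) (m : Π i, M i) (j : ι),
      φ m j = φ (Pi.single j (m j)) j := by
    intro φ m j
    conv_lhs => rw [← Finset.univ_sum_single m]
    rw [map_sum, Finset.sum_apply, Finset.sum_eq_single j]
    · intro i _ hij
      exact hcomp φ i j (m i) hij
    · intro h
      exact absurd (Finset.mem_univ j) h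
  -- the `End R`-linear map `F`
  let F : Module.End (Module.End R (Π i, M i)) (Π i, M i) :=
    { toFun := fun m => Pi.single i₀ (f (m i₀))
      map_add' := fun m m' => by
        simp only [Pi.add_apply, map_add, Pi.single_add]
      map_smul' := fun φ m => by
        simp only [RingHom.id_apply, Module.End.smul_def]
        obtain ⟨a, ha⟩ := hdiag i₀ ((LinearMap.proj i₀).comp (φ.comp (LinearMap.single R M i₀)))
        have ha' : ∀ v : M i₀, φ (Pi.single i₀ v) i₀ = a • v := fun v => by simpa using ha v
        rw [hsum φ m i₀, ha', map_smul]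
        ext j
        by_cases hj : j = i₀
        · subst hj
          rw [Pi.single_eq_same, ha']
        · rw [Pi.single_eq_of_ne hj, hcomp φ i₀ j _ (Ne.symm hj)] }
  have hF : ∀ m, F m = Pi.single i₀ (f (m i₀)) := fun m => rfl
  obtain ⟨s, hs⟩ := Module.Finite.fg_top (R := k) (M := Π i, M i)
  obtain ⟨r, hr⟩ := jacobson_density F s
  have hall : ∀ m : Π i, M i, F m = r • m := by
    intro m
    have hm : m ∈ Submodule.span k (s : Set (Π i, M i)) := by rw [hs]; trivial
    induction hm using Submodule.span_induction with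
    | mem m hm => exact hr m hm
    | zero => rw [map_zero, smul_zero]
    | add x y _ _ hx hy => rw [map_add, smul_add, hx, hy]
    | smul a x _ hx =>
      rw [smul_comm r a x, ← hx, hF, hF, Pi.smul_apply, map_smul, Pi.single_smul]
  refine ⟨r, fun v => ?_, fun j hj v => ?_⟩
  · have h := congrFun (hall (Pi.single i₀ v)) i₀
    rw [hF, Pi.single_eq_same, Pi.single_eq_same, Pi.smul_apply, Pi.single_eq_same] at h
    exact h.symm
  · have h := congrFun (hall (Pi.single j v)) j
    rw [hF, Pi.single_eq_of_ne (Ne.symm hj), map_zero, Pi.single_zero, Pi.zero_apply, Pi.smul_apply,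
      Pi.single_eq_same] at h
    exact h.symm

end Cfsg.Agent.Lib.Helper92.ModRepDensity
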