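import Cfsg.Agent.Lib.Helper3.ModRep.Defs
import Cfsg.Agent.Lib.Helper92.ModRepDensity
import Mathlib

/-!
# MODREP-[BR4] (helper92): trace functions of pairwise non-isomorphic irreducible representations over an
algebraically closed field are linearly independent

Sheet: `Lib/Helper3/ModRep/MODREP_SHEET.md` (part BRIDGE), statement from `SkelBridge.lean.txt`.
-/

set_option autoImplicit false
set_option linter.unusedSectionVars false

namespace Cfsg.Agent.Lib.Helper3.ModRep

open Cfsg Cfsg.Agent.Lib.Helper16

variable {G : Type*} [Group G] [Finite G] (p : ℕ) (M : Ideal AlgInt) [hMp : M.IsPrime]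

section modules

variable {k : Type*} [Field k]

/-- a linear endomorphism of trace `1` of a nontrivial finite-dimensional space -/
theorem h92_exists_trace_one {V : Type*} [AddCommGroup V] [Module k V] [FiniteDimensional k V]
    [Nontrivial V] : ∃ f : V →ₗ[k] V, LinearMap.trace k V f = 1 := by
  classical
  let b := Module.finBasis k V
  have hpos : 0 < Module.finrank k V := Module.finrank_pos
  let j₀ : Fin (Module.finrank k V) := ⟨0, hpos⟩
  refine ⟨Matrix.toLin b b (Matrix.single j₀ j₀ 1), ?_⟩
  rw [LinearMap.trace_eq_matrix_trace k b, LinearMap.toMatrix_toLin, Matrix.trace_single_eq_same]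

/-- MODREP-[BR4]: trace functions of pairwise non-isomorphic irreducible representations over an
algebraically closed field are linearly independent (Burnside / Jacobson density). -/
theorem linearIndependent_trFun [IsAlgClosed k] {ι : Type*} [Finite ι] {V : ι → Type*}
    [∀ i, AddCommGroup (V i)] [∀ i, Module k (V i)] [∀ i, FiniteDimensional k (V i)]
    (S : ∀ i, Representation k G (V i)) (hirr : ∀ i, (S i).IsIrreducible)
    (hne : ∀ i j, i ≠ j → IsEmpty ((S i).Equiv (S j))) :
    LinearIndependent k (fun i => trFun (S i)) := by
  classical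
  have : Fintype ι := Fintype.ofFinite ι
  rw [Fintype.linearIndependent_iff]
  intro c hc i₀
  -- the two Schur hypotheses
  have hoff : ∀ i j, i ≠ j →
      ∀ ψ : (S i).asModule →ₗ[MonoidAlgebra k G] (S j).asModule, ψ = 0 := by
    intro i j hij ψ
    have h1 := hne i j hij
    have h2 := hirr i
    have h3 := hirr j
    have h4 : (Representation.IntertwiningMap.equivLinearMapAsModule (S i) (S j)).symm ψ = 0 :=
      Subsingleton.elim _ _
    exact (LinearEquiv.map_eq_zero_iff _).1 h4
  have hdiag : ∀ i, ∀ ψ : (S i).asModule →ₗ[MonoidAlgebra k G] (S i).asModule,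
      ∃ a : k, ∀ v, ψ v = a • v := by
    intro i ψ
    have h2 := hirr i
    obtain ⟨a, ha⟩ := (IsSimpleModule.algebraMap_end_bijective_of_isAlgClosed
      (A := MonoidAlgebra k G) (V := (S i).asModule) k).2 ψ
    exact ⟨a, fun v => by rw [← ha]; rfl⟩
  have hsimple : ∀ i, IsSimpleModule (MonoidAlgebra k G) (S i).asModule := fun i => by
    have h2 := hirr i
    infer_instance
  -- a map of trace one on `V i₀`
  have hnt : Nontrivial (V i₀) := IsSimpleModule.nontrivial (MonoidAlgebra k G) (S i₀).asModule
  obtain ⟨f, hf⟩ := h92_exists_trace_one (k := k) (V := V i₀)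
  obtain ⟨r, hr1, hr2⟩ := Cfsg.Agent.Lib.Helper92.ModRepDensity.exists_smul_eq
    (k := k) (R := MonoidAlgebra k G) (fun i => (S i).asModule) hoff hdiag i₀
    ((S i₀).asModuleEquiv.symm.conj f)
  -- the action of `r`
  have hact1 : (S i₀).asAlgebraHom r = f := by
    apply LinearMap.ext
    intro w
    have h := (S i₀).asModuleEquiv_map_smul r ((S i₀).asModuleEquiv.symm w)
    rw [LinearEquiv.apply_symm_apply] at h
    rw [← h, hr1]
    simp [LinearEquiv.conj_apply]
  have hact2 : ∀ j, j ≠ i₀ → (S j).asAlgebraHom r = 0 := by
    intro j hj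
    apply LinearMap.ext
    intro w
    have h := (S j).asModuleEquiv_map_smul r ((S j).asModuleEquiv.symm w)
    rw [LinearEquiv.apply_symm_apply] at h
    rw [← h, hr2 j hj, map_zero, LinearMap.zero_apply]
  -- the trace identity
  have hT : ∀ r : MonoidAlgebra k G,
      ∑ i, c i * LinearMap.trace k (V i) ((S i).asAlgebraHom r) = 0 := by
    intro r
    induction r using MonoidAlgebra.induction_linear with
    | zero => simp
    | add x y hx hy =>
      simp only [map_add, mul_add, Finset.sum_add_distrib, hx, hy, add_zero]
    | single g a =>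
      have h1 := congrFun hc g
      simp only [Finset.sum_apply, Pi.smul_apply, smul_eq_mul, Pi.zero_apply] at h1
      simp only [Representation.asAlgebraHom_single, map_smul, smul_eq_mul]
      have : ∀ i, c i * (a * LinearMap.trace k (V i) ((S i) g)) = a * (c i * trFun (S i) g) := by
        intro i
        unfold trFun
        ring
      rw [Finset.sum_congr rfl (fun i _ => this i), ← Finset.mul_sum, h1, mul_zero]
  have h := hT r
  rw [Finset.sum_eq_single i₀] at h
  · rw [hact1, hf, mul_one] at h
    exact h
  · intro j _ hj
    rw [hact2 j hj, map_zero, mul_zero]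
  · intro h'
    exact absurd (Finset.mem_univ i₀) h'

end modules

end Cfsg.Agent.Lib.Helper3.ModRep
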