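import Mathlib
import Cfsg.Agent.Lib.Helper43.MonoStar
import Cfsg.Agent.Lib.Helper43.MonoSecHyp
import Cfsg.Agent.Lib.Helper9.MonoGLStep
import Cfsg.Agent.Lib.Helper25.MonoGLP2H
import Cfsg.Agent.Lib.Helper95.MonoGLWord5
import Cfsg.Agent.Lib.Helper1.MonoGLL3
import Cfsg.Agent.Lib.Helper1.MonoStarSelf
import Cfsg.Agent.Lib.Helper25.MonoGLL4

/-!
# S5634-[GL-P3] (helper43's project): the base case `k = 3`, `q = 5` of the GL-theorem

`card F = 5`, `GLHyp Y` on `Fin 3` ⟹ `Y ≤ Mono`.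

The landed modules [GL-P2H], [GL-WORD5], [GL-SECHYP], [GL-STEP], [GL-L3], [STAR], [GL-L4] are
imported; the statement of the module [GL-L5] `gl_finish`, not landed yet, is an explicit
hypothesis (`Helper9.Mono.StGLL5`, the skeleton statement), to be discharged at the assembly.
-/

set_option autoImplicit false

namespace Cfsg.Agent.Lib.Helper92.Mono

open Matrix Cfsg.Geo Cfsg.Agent.Lib.Helper93 Cfsg.Agent.Lib.Helper43 Cfsg.Agent.Lib.Helper9.Mono

variable {F : Type*} [Field F]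

/-- the inverse of a permutation element -/
theorem glP3_pm_inv {ι : Type} [Fintype ι] [DecidableEq ι] (σ : Equiv.Perm ι) :
    ((pm σ : GL ι F))⁻¹ = pm σ⁻¹ := Units.ext rfl

/-- conjugating the corner embedding at `i₀` by the cycle `(0 1 … i₀)` gives the corner embedding
at `0` -/
theorem glP3_conj_embSA {k : ℕ} (i₀ : Fin (k + 1)) (C : GL (Fin k) F) :
    pm i₀.cycleRange * embSA i₀ C * (pm i₀.cycleRange)⁻¹ = embSA 0 C := by
  have hentry : ∀ i j, ((pm i₀.cycleRange * embSA i₀ C * (pm i₀.cycleRange)⁻¹ : GL (Fin (k + 1)) F) :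
      Matrix _ _ F) i j =
      ((embSA i₀ C : GL (Fin (k + 1)) F) : Matrix _ _ F) (i₀.cycleRange.symm i)
        (i₀.cycleRange.symm j) := by
    intro i j
    rw [glP3_pm_inv, mul_pm_apply, pm_mul_apply]
    rfl
  apply gl_ext_sa 0
  · rw [hentry, Fin.cycleRange_symm_zero, embSA_self_self, embSA_self_self]
  · intro b
    rw [hentry, Fin.cycleRange_symm_zero, Fin.succAbove_zero, Fin.cycleRange_symm_succ,
      embSA_self_sa, ← Fin.succAbove_zero, embSA_self_sa]
  · intro a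
    rw [hentry, Fin.cycleRange_symm_zero, Fin.succAbove_zero, Fin.cycleRange_symm_succ,
      embSA_sa_self, ← Fin.succAbove_zero, embSA_sa_self]
  · intro a b
    rw [hentry, Fin.succAbove_zero, Fin.cycleRange_symm_succ, Fin.cycleRange_symm_succ,
      embSA_sa_sa, ← Fin.succAbove_zero, embSA_sa_sa]

/-- the matrix of the corner embedding at `0` of the Hadamard matrix -/
theorem glP3_embSA_hadamard {hm : GL (Fin 2) F}
    (hmv : (hm : Matrix (Fin 2) (Fin 2) F) = !![1, 1; 1, -1]) :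
    ((embSA 0 hm : GL (Fin 3) F) : Matrix (Fin 3) (Fin 3) F) = !![1, 0, 0; 0, 1, 1; 0, 1, -1] := by
  ext i j
  rcases Fin.eq_self_or_eq_succAbove (0 : Fin 3) i with rfl | ⟨a, rfl⟩ <;>
    rcases Fin.eq_self_or_eq_succAbove (0 : Fin 3) j with rfl | ⟨b, rfl⟩
  · rw [embSA_self_self]; rfl
  · rw [embSA_self_sa]; fin_cases b <;> rfl
  · rw [embSA_sa_self]; fin_cases a <;> rfl
  · rw [embSA_sa_sa, hmv]; fin_cases a <;> fin_cases b <;> rfl

/-- [GL-P3], with the statement of [GL-L5] as a hypothesis -/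
theorem gl_base_three_five [Fintype F] (hL5 : StGLL5 F) (hq : Fintype.card F = 5)
    {Y : Subgroup (GL (Fin 3) F)} (hY : GLHyp Y) : Y ≤ Mono (Fin 3) F := by
  have hL3 : StGLL3 F := by
    intro k hμ Y hY i₀ hsec h hh hcol
    exact Cfsg.Agent.Lib.Helper1.Mono5634.gl_star_self hμ hY i₀ hsec hh hcol
  have hStar : StStar F := by
    intro n Y hmono hself
    exact Cfsg.Agent.Lib.Helper1.Mono5634.star_of_self hmono hself
  have hL4 : StGLL4 F := by
    intro n hq Y hD hstar g hg l i h0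
    exact Cfsg.Agent.Lib.Helper25.gl_zero_entry_mono hq hD hstar hg h0
  by_cases hall : ∀ i₀ : Fin 3, Y.comap (embSA i₀) ≤ Mono (Fin 2) F
  · apply gl_step_of_sections hL3 hStar hL4 hL5 (by omega) (k := 2) (le_refl 2) hY
    intro i₀ C hC
    exact hall i₀ (Subgroup.mem_comap.mpr hC)
  · exfalso
    rw [not_forall] at hall
    obtain ⟨i₀, hi₀⟩ := hall
    rcases Cfsg.Agent.Lib.Helper25.gl_two_hadamard (glHyp_comap_embSA hY i₀) with hle | ⟨hm, hmY, hmv⟩
    · exact hi₀ hle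
    · have h1 : embSA i₀ hm ∈ Y := Subgroup.mem_comap.mp hmY
      have hpm : (pm i₀.cycleRange : GL (Fin 3) F) ∈ Y := hY.mono_le (pm_mem_Mono _)
      have h2 : embSA 0 hm ∈ Y := by
        rw [← glP3_conj_embSA i₀ hm]
        exact Y.mul_mem (Y.mul_mem hpm h1) (Y.inv_mem hpm)
      obtain ⟨i, j, hij, b, hb, hbY⟩ := Cfsg.Agent.Lib.Helper95.word_five hq hY.mono_le h2
        (glP3_embSA_hadamard hmv)
      exact hb (hY.net i j hij b hbY)

end Cfsg.Agent.Lib.Helper92.Mono
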