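import Mathlib
import Cfsg.Agent.Lib.Helper60.PFTenTDefs
import Cfsg.Agent.Lib.Helper51.PFCycCalS
import Cfsg.Agent.Lib.Helper16.PFNineTen
import Cfsg.Agent.Lib.Helper26.PFBookC
import Cfsg.Agent.Lib.Helper25.PFCycEta
import Cfsg.Agent.Lib.Helper24.PFCycTau
import Cfsg.Agent.Lib.Helper75.GaloisPow
import Cfsg.Agent.Lib.Helper76.Galois
import Cfsg.Agent.S1501

/-!
# PF sec.10 T-side module [TS-GAL] (helper92, for helper60)

The inner products `⟨tauM T α, η ψ⟩` do not depend on the nontrivial character `ψ` of `W/W₁`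
when `α` is supported on a subgroup of order prime to `p = |W₂|`.
-/

set_option autoImplicit false

namespace Cfsg.Agent.Lib.Helper92.PFTenT

open Cfsg Cfsg.Agent.Lib.Helper24.PFCyc Cfsg.Agent.Lib.Helper4.PF Cfsg.Agent.Lib.Helper4.PFTen
  Cfsg.Agent.Lib.Helper58.PF9 Cfsg.Agent.Lib.Helper74.PF127

universe u

/-- the characters of `W` trivial on `W₁`, as a subgroup of the character group -/
def trivSub {G : Type u} [Group G] (W₁ W₂ : Subgroup G) : Subgroup (WChar W₁ W₂) where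
  carrier := {ω | TrivOn W₁ ω}
  mul_mem' := fun ha hb => TrivOn.mul ha hb
  one_mem' := trivOn_one W₁
  inv_mem' := fun ha => TrivOn.inv ha

theorem card_trivSub {G : Type u} [Group G] [Finite G] {W₁ W₂ : Subgroup G}
    (hW : IsSelfNormalizingCyclic W₁ W₂) : Nat.card (trivSub W₁ W₂) = Nat.card W₂ := by
  classical
  have : Fintype ↥(W₁ ⊔ W₂) := Fintype.ofFinite _
  have hcyc : IsCyclic ↥(W₁ ⊔ W₂) := hW.2.2.2.2.1
  have hc : ∀ a b : ↥(W₁ ⊔ W₂), a * b = b * a := by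
    intro a b
    obtain ⟨g, hg⟩ := hcyc.exists_generator
    obtain ⟨i, rfl⟩ := Subgroup.mem_zpowers_iff.mp (hg a)
    obtain ⟨j, rfl⟩ := Subgroup.mem_zpowers_iff.mp (hg b)
    rw [← zpow_add, ← zpow_add, add_comm]
  have h2 := Cfsg.Agent.Lib.Helper25.card_dualOf_mul hc (W₁.subgroupOf (W₁ ⊔ W₂))
  have h3 : Nat.card ↥(W₁.subgroupOf (W₁ ⊔ W₂)) = Nat.card W₁ :=
    Nat.card_congr (Subgroup.subgroupOfEquivOfLe le_sup_left).toEquiv
  rw [h3, Cfsg.Agent.Lib.Helper51.PFCyc.card_W hW] at h2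
  have hpos : 0 < Nat.card W₁ := Nat.card_pos
  have h4 : (Cfsg.Agent.Lib.Helper25.dualOf (W₁.subgroupOf (W₁ ⊔ W₂))).card = Nat.card W₂ := by
    have : (Cfsg.Agent.Lib.Helper25.dualOf (W₁.subgroupOf (W₁ ⊔ W₂))).card * Nat.card W₁ =
        Nat.card W₂ * Nat.card W₁ := by rw [h2, mul_comm]
    exact Nat.eq_of_mul_eq_mul_right hpos this
  rw [← h4, ← Nat.card_eq_finsetCard]
  apply Nat.card_congr
  refine ⟨fun ω => ⟨ω.1, ?_⟩, fun ω => ⟨ω.1, ?_⟩, fun _ => rfl, fun _ => rfl⟩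
  · rw [Cfsg.Agent.Lib.Helper25.mem_dualOf]
    intro n hn
    exact ω.2 n (Subgroup.mem_subgroupOf.mp hn)
  · have := (Cfsg.Agent.Lib.Helper25.mem_dualOf _ _).mp ω.2
    intro w hw
    exact this w (Subgroup.mem_subgroupOf.mpr hw)


/-- in a subgroup of prime order every element is a power of any non-identity element -/
theorem exists_pow_eq_of_prime_card {A : Type*} [Group A] (S : Subgroup A) (p : ℕ)
    [Fact p.Prime] (hS : Nat.card S = p) (ψ ψ' : A) (hψ : ψ ∈ S) (hψ' : ψ' ∈ S) (h1 : ψ ≠ 1)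
    (h1' : ψ' ≠ 1) : ψ ^ p = 1 ∧ ∃ t : ℕ, ¬ p ∣ t ∧ ψ' = ψ ^ t := by
  haveI : Finite S := Nat.finite_of_card_ne_zero (by rw [hS]; exact (Fact.out : p.Prime).ne_zero)
  have hne : (⟨ψ, hψ⟩ : S) ≠ 1 := by
    intro h
    apply h1
    exact congrArg Subtype.val h
  have htop := zpowers_eq_top_of_prime_card hS hne
  have hmem : (⟨ψ', hψ'⟩ : S) ∈ Subgroup.zpowers (⟨ψ, hψ⟩ : S) := by
    rw [htop]; trivial
  have hψp : ψ ^ p = 1 := by
    have h2 : (⟨ψ, hψ⟩ : S) ^ p = 1 := by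
      rw [← hS]
      exact pow_card_eq_one'
    have := congrArg Subtype.val h2
    simpa using this
  refine ⟨hψp, ?_⟩
  rw [← mem_powers_iff_mem_zpowers] at hmem
  obtain ⟨t, ht⟩ := (Submonoid.mem_powers_iff _ _).mp hmem
  have ht' : ψ ^ t = ψ' := by
    have := congrArg Subtype.val ht
    simpa using this
  refine ⟨t, ?_, ht'.symm⟩
  rintro ⟨c, hc⟩
  apply h1'
  rw [← ht', hc, pow_mul, hψp, one_pow]

/-- a ring automorphism raising `N`-th roots of unity to the `k`-th power maps character values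
at `x` to character values at `x ^ k` -/
theorem sigma_char_pow {T : Type u} [Group T] [Finite T] (N : ℕ) (hN : 0 < N)
    (hTN : ∀ x : T, x ^ N = 1) (k : ℕ) (σ : ℂ ≃+* ℂ)
    (hσ : ∀ μ : ℂ, μ ^ N = 1 → σ μ = μ ^ k) (χ : T → ℂ) (hχ : IsCharacter T χ) (x : T) :
    σ (χ x) = χ (x ^ k) := by
  obtain ⟨n, ρ, rfl⟩ := hχ
  obtain ⟨μ, hμ, hpow⟩ := Cfsg.Agent.Lib.Helper76.exists_character_pow_eq_sum ρ x N hN (hTN x)
  have h1 := hpow 1
  rw [pow_one] at h1
  rw [h1, hpow k, map_sum]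
  apply Finset.sum_congr rfl
  intro i _
  rw [pow_one, hσ (μ i) (hμ i)]

/-- MODULE [TS-GAL] -/
theorem inner_eta_galois_const {G : Type u} [Group G] [Fintype G] {T W₁ W₂ : Subgroup G}
    [Fintype T]
    (hW : IsSelfNormalizingCyclic W₁ W₂) (hodd : Odd (Nat.card G))
    (η : WChar W₁ W₂ → (G → ℂ)) (hη : IsCyclicTIFamily W₁ W₂ η)
    (hp : (Nat.card W₂).Prime)
    (hD : DadeHypothesis (litA0 T) T (supportR T))
    (K : Subgroup ↥T) (hK : (Nat.card K).Coprime (Nat.card W₂))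
    (α : ↥T → ℂ) (hα : IsGeneralizedCharacter ↥T α)
    (hαK : ∀ x : ↥T, x ∉ K → α x = 0)
    (hαA : ∀ x : ↥T, (x : G) ∉ litA0 T → α x = 0)
    (ψ ψ' : WChar W₁ W₂) (hψ : TrivOn W₁ ψ) (hψ' : TrivOn W₁ ψ') (hψ1 : ψ ≠ 1) (hψ'1 : ψ' ≠ 1) :
    classInner (tauM T α) (η ψ) = classInner (tauM T α) (η ψ') := by
  classical
  obtain ⟨p, hpdef⟩ : ∃ p : ℕ, p = Nat.card W₂ := ⟨_, rfl⟩
  rw [← hpdef] at hp hK
  haveI : Fact p.Prime := ⟨hp⟩
  obtain ⟨N, hNdef⟩ : ∃ N : ℕ, N = Nat.card G := ⟨_, rfl⟩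
  have hNpos : 0 < N := by rw [hNdef]; exact Nat.card_pos
  have hoddW : Odd (Nat.card ↥(W₁ ⊔ W₂)) :=
    Odd.of_dvd_nat hodd (Subgroup.card_subgroup_dvd_card _)
  -- Step 1: `ψ' = ψ ^ t`
  have hcardS : Nat.card (trivSub W₁ W₂) = p := by rw [card_trivSub hW, hpdef]
  obtain ⟨hψp0, t, htne, ht0⟩ := exists_pow_eq_of_prime_card (trivSub W₁ W₂) p hcardS ψ ψ'
    hψ hψ' hψ1 hψ'1
  have hψp : ∀ w, ψ w ^ p = 1 := by
    intro w
    have := DFunLike.congr_fun hψp0 w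
    exact this
  have ht : ∀ w, ψ' w = ψ w ^ t := by
    intro w
    have := DFunLike.congr_fun ht0 w
    exact this
  -- Step 2: the exponent `k`
  obtain ⟨a, N', hN', hNfac⟩ : ∃ a N' : ℕ, ¬ p ∣ N' ∧ N = p ^ a * N' := by
    obtain ⟨a, N', h1, h2⟩ := Nat.exists_eq_pow_mul_and_not_dvd hNpos.ne' p hp.ne_one
    exact ⟨a, N', h1, h2⟩
  have hN'pos : 0 < N' := by
    rcases Nat.eq_zero_or_pos N' with h | h
    · rw [h, mul_zero] at hNfac; omega
    · exact h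
  have hcop : Nat.Coprime p N' := (Nat.Prime.coprime_iff_not_dvd hp).mpr hN'
  obtain ⟨k, hkp, hkN'⟩ := Nat.chineseRemainder hcop t 1
  have hkcop : Nat.Coprime k N := by
    rw [hNfac]
    apply Nat.Coprime.mul_right
    · apply Nat.Coprime.pow_right
      rw [Nat.coprime_comm, Nat.Prime.coprime_iff_not_dvd hp]
      intro hdvd
      apply htne
      exact (Nat.modEq_zero_iff_dvd.mp ((hkp.symm.trans (Nat.modEq_zero_iff_dvd.mpr hdvd))))
    · have := hkN'.gcd_eq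
      unfold Nat.Coprime
      rw [this]
      exact Nat.gcd_one_left N'
  obtain ⟨σ, hσ⟩ := Cfsg.Agent.Lib.Helper75.exists_ringEquiv_pow N hNpos k hkcop
  -- (1) `galChar σ ψ⁻¹ = ψ'⁻¹`
  have hgalψ : galChar σ ψ⁻¹ = ψ'⁻¹ := by
    ext w
    rw [galChar_apply, MonoidHom.inv_apply, MonoidHom.inv_apply]
    have hroot : (((ψ w)⁻¹ : ℂˣ) : ℂ) ^ N = 1 := by
      rw [← Units.val_pow_eq_pow_val, inv_pow, ← map_pow]
      have : w ^ N = 1 := by
        rw [hNdef]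
        have h1 : orderOf w ∣ Nat.card G :=
          dvd_trans (orderOf_dvd_natCard w) (Subgroup.card_subgroup_dvd_card _)
        exact orderOf_dvd_iff_pow_eq_one.mp h1
      rw [this, map_one, inv_one, Units.val_one]
    rw [hσ _ hroot, ← Units.val_pow_eq_pow_val, inv_pow]
    have h1 : orderOf (ψ w) ∣ p := orderOf_dvd_of_pow_eq_one (hψp w)
    have h2 : ψ w ^ k = ψ w ^ t := pow_eq_pow_iff_modEq.mpr (hkp.of_dvd h1)
    rw [h2, ← ht w]
  -- (2) `σ ∘ α = α`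
  have hTN : ∀ x : ↥T, x ^ N = 1 := by
    intro x
    rw [hNdef]
    have h1 : orderOf x ∣ Nat.card G :=
      dvd_trans (orderOf_dvd_natCard x) (Subgroup.card_subgroup_dvd_card _)
    exact orderOf_dvd_iff_pow_eq_one.mp h1
  have hKN' : Nat.card K ∣ N' := by
    have h1 : Nat.card K ∣ N := by
      rw [hNdef]
      exact dvd_trans (Subgroup.card_subgroup_dvd_card K) (Subgroup.card_subgroup_dvd_card T)
    rw [hNfac] at h1
    exact (Nat.Coprime.pow_right a hK).dvd_of_dvd_mul_left h1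
  have hσα : (fun m => σ (α m)) = α := by
    funext x
    by_cases hxK : x ∈ K
    · obtain ⟨χ₁, χ₂, h1, h2, rfl⟩ := hα
      have hxk : x ^ k = x := by
        have h3 : orderOf x ∣ N' := by
          have h4 : orderOf (⟨x, hxK⟩ : K) ∣ Nat.card K := orderOf_dvd_natCard _
          rw [Subgroup.orderOf_mk] at h4
          exact dvd_trans h4 hKN'
        have h5 : x ^ k = x ^ 1 := pow_eq_pow_iff_modEq.mpr (hkN'.of_dvd h3)
        rw [h5, pow_one]
      simp only [Pi.sub_apply, map_sub]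
      rw [sigma_char_pow N hNpos hTN k σ hσ χ₁ h1 x, sigma_char_pow N hNpos hTN k σ hσ χ₂ h2 x,
        hxk]
    · rw [hαK x hxK, map_zero]
  -- (3) `σ ∘ X = X`
  have hσX : ∀ g : G, σ (tauM T α g) = tauM T α g := by
    intro g
    have h1 := Cfsg.Agent.Lib.Helper24.PFCyc.tauM_galois T σ α
    rw [hσα] at h1
    exact (congrFun h1 g).symm
  -- (5) integrality
  have hgen : IsGeneralizedCharacter G (tauM T α) :=
    Cfsg.Agent.S1501.result (litA0 T) T (supportR T) hD α hα hαA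
  obtain ⟨n, hn⟩ := Cfsg.Agent.Lib.Helper25.PFCyc.eta_inner_int η hη (tauM T α) hgen ψ
  have hinner : ∀ ω : WChar W₁ W₂, classInner (tauM T α) (η ω) =
      (Nat.card G : ℂ)⁻¹ * ∑ g : G, tauM T α g * η ω⁻¹ g := by
    intro ω
    unfold classInner
    congr 1
    apply Finset.sum_congr rfl
    intro g _
    rw [Cfsg.Agent.Lib.Helper25.PFCyc.eta_inv hW hoddW η hη ω]
  have h1 : σ (classInner (tauM T α) (η ψ)) = classInner (tauM T α) (η ψ') := by
    rw [hinner ψ, hinner ψ', map_mul, map_inv₀, map_natCast, map_sum]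
    congr 1
    apply Finset.sum_congr rfl
    intro g _
    rw [map_mul, hσX g]
    congr 1
    have h2 := Cfsg.Agent.Lib.Helper25.PFCyc.eta_galChar hW hoddW η hη σ ψ⁻¹
    rw [hgalψ] at h2
    exact (congrFun h2 g).symm
  rw [← h1, hn, map_intCast]

end Cfsg.Agent.Lib.Helper92.PFTenT
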