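import Mathlib
import Cfsg.Agent.Lib.Helper58.RU.Defs
import Cfsg.Agent.Lib.Helper75.Clifford3
import Cfsg.Agent.Lib.Helper77.Linear
import Cfsg.Agent.Lib.Helper79.Integrality

/-!
# RU-[B] (project S4751): the Clifford step `core_of_root`

`Q ≠ 1` a normal `p`-subgroup of `G`, `χ` a faithful nonlinear irreducible character with `|χ x| = 1` for
`1 ≠ x ∈ Q`.  Then `Q` is abelian, `χ(1) = |Q| - 1`, `χ|_Q` is the sum of all nontrivial linear characters
of `Q` and `G` permutes them transitively (`Helper58.RU.Core`).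
-/

set_option autoImplicit false

namespace Cfsg.Agent.Lib.Helper92.RU

open Cfsg Cfsg.Agent.Lib.Helper58.RU Cfsg.Agent.Lib.Helper75 Cfsg.Agent.Lib.Helper78
open scoped ComplexConjugate

universe u

/-- arithmetic: the common degree `f` of the constituents is `1` -/
theorem arith_deg_one {p n q a t f : ℕ} (hp : p.Prime) (hq : q = p ^ n) (hn : n ≠ 0)
    (hf : f ∣ q) (heq : q * a ^ 2 * t + 1 = (a * t * f) ^ 2 + q) : f = 1 := by
  by_contra hf1
  rw [hq] at hf
  obtain ⟨k, _, hk⟩ := (Nat.dvd_prime_pow hp).mp hf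
  have hk0 : k ≠ 0 := by
    rintro rfl
    exact hf1 (by simpa using hk)
  have hpf : p ∣ f := by
    rw [hk]; exact dvd_pow_self p hk0
  have hpq : p ∣ q := by
    rw [hq]; exact dvd_pow_self p hn
  have h1 : p ∣ q * a ^ 2 * t := Dvd.dvd.mul_right (Dvd.dvd.mul_right hpq _) _
  have h2 : p ∣ (a * t * f) ^ 2 + q :=
    dvd_add (dvd_pow (Dvd.dvd.mul_left hpf _) (by norm_num)) hpq
  rw [← heq] at h2
  have h3 : p ∣ 1 := (Nat.dvd_add_right h1).mp h2
  exact hp.one_lt.ne' (Nat.dvd_one.mp h3)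

/-- arithmetic: multiplicity one and orbit of size `q - 1` -/
theorem arith_mult_one {q a t : ℕ} (hq : 2 ≤ q) (ha : 1 ≤ a) (ht : 1 ≤ t)
    (heq : q * a ^ 2 * t + 1 = (a * t) ^ 2 + q) (hat : a * t ≠ 1) : a = 1 ∧ t + 1 = q := by
  have htq : t < q := by
    by_contra hcon
    push Not at hcon
    have h1 : q * a ^ 2 * t ≤ (a * t) ^ 2 := by
      have : (a * t) ^ 2 = t * a ^ 2 * t := by ring
      rw [this]
      exact Nat.mul_le_mul_right _ (Nat.mul_le_mul_right _ hcon)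
    omega
  obtain ⟨s, rfl⟩ : ∃ s, q = t + s := ⟨q - t, by omega⟩
  have hs : 1 ≤ s := by omega
  have h2 : a ^ 2 * t * s + 1 = t + s := by
    have : (t + s) * a ^ 2 * t + 1 = (a * t) ^ 2 + a ^ 2 * t * s + 1 := by ring
    rw [this] at heq
    omega
  have hts : t + s ≤ t * s + 1 := by nlinarith
  have ha1 : a = 1 := by
    by_contra hne
    have ha2 : 2 ≤ a := by omega
    have h4a : 4 ≤ a ^ 2 := by nlinarith
    have : 4 * (t * s) ≤ a ^ 2 * t * s := by
      rw [mul_assoc]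
      exact Nat.mul_le_mul_right _ h4a
    have hts1 : 1 ≤ t * s := Nat.mul_pos ht hs
    omega
  subst ha1
  refine ⟨rfl, ?_⟩
  have h3 : t * s + 1 = t + s := by simpa using h2
  have h4 : (t - 1) * (s - 1) = 0 := by
    obtain ⟨t', rfl⟩ : ∃ t', t = t' + 1 := ⟨t - 1, by omega⟩
    obtain ⟨s', rfl⟩ : ∃ s', s = s' + 1 := ⟨s - 1, by omega⟩
    simp only [Nat.add_sub_cancel]
    nlinarith
  rcases Nat.mul_eq_zero.mp h4 with h | h
  · exfalso; apply hat; simp; omega
  · omega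

section Norm

variable {H : Type u} [Group H] [Fintype H]

/-- `⟨r, r⟩` for `r = e • Σ_{φ ∈ O} φ` when `⟨r, φ⟩ = e` on `O` -/
theorem classInner_self_of_orbit {r : H → ℂ} {e : ℂ} {O : Finset (IrrCharacter H)}
    (hr : r = e • ∑ φ ∈ O, (φ : H → ℂ)) (hO : ∀ φ ∈ O, classInner r (φ : H → ℂ) = e) :
    classInner r r = e * ((O.card : ℂ) * conj e) := by
  have h1 : classInner r r = classInner (e • ∑ φ ∈ O, (φ : H → ℂ)) r := by rw [← hr]
  rw [h1, classInner_smul_left, classInner_sum_left]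
  congr 1
  have h2 : ∀ φ ∈ O, classInner (φ : H → ℂ) r = conj e := by
    intro φ hφ
    rw [← classInner_conj_symm, hO φ hφ]
  rw [Finset.sum_congr rfl h2, Finset.sum_const, nsmul_eq_mul]

/-- `|H| ⟨r, r⟩ = r(1)² + |H| - 1` when `|r x| = 1` off the identity and `r 1` is a natural number -/
theorem card_mul_classInner_self {r : H → ℂ} {d : ℕ} (h1 : r 1 = d)
    (hn : ∀ x : H, x ≠ 1 → ‖r x‖ = 1) :
    (Nat.card H : ℂ) * classInner r r = (d : ℂ) ^ 2 + ((Nat.card H : ℂ) - 1) := by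
  classical
  have hne : (Nat.card H : ℂ) ≠ 0 := by
    exact_mod_cast Nat.card_pos.ne'
  unfold classInner
  rw [← mul_assoc, mul_inv_cancel₀ hne, one_mul]
  rw [← Finset.add_sum_erase _ _ (Finset.mem_univ (1 : H)), h1]
  have h2 : ∀ x ∈ Finset.univ.erase (1 : H), r x * conj (r x) = 1 := by
    intro x hx
    have hx1 : x ≠ 1 := (Finset.mem_erase.mp hx).1
    rw [Complex.mul_conj, Complex.normSq_eq_norm_sq, hn x hx1]
    simp
  rw [Finset.sum_congr rfl h2, Finset.sum_const, Finset.card_erase_of_mem (Finset.mem_univ _),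
    Finset.card_univ, nsmul_eq_mul, mul_one, Nat.card_eq_fintype_card]
  have hpos : 1 ≤ Fintype.card H := Fintype.card_pos
  push_cast [Nat.cast_sub hpos]
  simp [sq]

end Norm

variable {G : Type u} [Group G]

/-- the principal character of `Q`, as an element of `IrrCharacter Q` -/
noncomputable def oneIrr (H : Type u) [Group H] : IrrCharacter H :=
  ⟨fun _ => 1, isIrrCharacter_one⟩

theorem conjFun_const_one (Q : Subgroup G) [Q.Normal] (g : G) :
    conjFun Q g (fun _ : Q => (1 : ℂ)) = fun _ => 1 := rfl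

/-- the irreducible character of `Q` given by a homomorphism -/
noncomputable def homIrr {H : Type u} [Group H] (φ : H →* ℂˣ) : IrrCharacter H :=
  ⟨fun x => ((φ x : ℂˣ) : ℂ), Cfsg.Agent.Lib.Helper77.isIrrCharacter_of_monoidHom φ⟩

theorem homIrr_ne_oneIrr {H : Type u} [Group H] {φ : H →* ℂˣ} (hφ : φ ≠ 1) :
    homIrr φ ≠ oneIrr H := by
  intro h
  apply hφ
  apply MonoidHom.ext
  intro x
  apply Units.ext
  have := congrFun (congrArg Subtype.val h) x
  simpa [homIrr, oneIrr] using this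

theorem conjFun_homIrr (Q : Subgroup G) [Q.Normal] (g : G) (φ : Q →* ℂˣ) :
    conjFun Q g (homIrr φ : Q → ℂ) = (homIrr (conjHom Q g φ) : Q → ℂ) := rfl

theorem homIrr_injective {H : Type u} [Group H] {φ ψ : H →* ℂˣ}
    (h : (homIrr φ : H → ℂ) = (homIrr ψ : H → ℂ)) : φ = ψ := by
  apply MonoidHom.ext
  intro x
  apply Units.ext
  exact congrFun h x


theorem core_of_root [Finite G] {p : ℕ} [Fact p.Prime] (Q : Subgroup G) [Q.Normal] [Fintype Q]
    (hQp : IsPGroup p Q) (hQ1 : Q ≠ ⊥) {χ : G → ℂ} (hχ : IsIrrCharacter G χ)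
    (hfaith : ∀ g : G, χ g = χ 1 → g = 1) (hnl : χ 1 ≠ 1)
    (hnorm : ∀ x ∈ Q, x ≠ 1 → ‖χ x‖ = 1) : Core Q χ := by
  classical
  have : Fintype G := Fintype.ofFinite G
  have hp : p.Prime := Fact.out
  have hχc : IsCharacter G χ := IsIrrCharacter.isCharacter hχ
  have hχcl : IsClassFunction G χ := IsCharacter.isClassFunction hχc
  have hrc : IsCharacter Q (fun n : Q => χ n) := isCharacter_res Q hχc
  obtain ⟨θ, hθc⟩ := exists_constituent_res Q hχ
  have hcl := clifford_finset Q hχ θ.2 hθc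
  obtain ⟨a, ha⟩ := IsCharacter.exists_nat_classInner hrc θ
  have ha0 : a ≠ 0 := by
    rintro rfl
    apply hθc
    simpa using ha
  rw [ha] at hcl
  obtain ⟨O, hOdef⟩ : ∃ O, O = conjOrbit Q (θ : Q → ℂ) := ⟨_, rfl⟩
  rw [← hOdef] at hcl
  have hO1 : ∀ φ ∈ O, (φ : Q → ℂ) 1 = (θ : Q → ℂ) 1 := by
    intro φ hφ
    rw [hOdef] at hφ
    obtain ⟨g, hg⟩ := (mem_conjOrbit Q).mp hφ
    rw [← hg, conjFun_apply]
    exact congrArg _ (Subtype.ext (by simp))
  have hOe : ∀ φ ∈ O, classInner (fun n : Q => χ n) (φ : Q → ℂ) = (a : ℂ) := by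
    intro φ hφ
    rw [hOdef] at hφ
    obtain ⟨g, hg⟩ := (mem_conjOrbit Q).mp hφ
    rw [← hg, classInner_res_conjFun Q hχcl g, ha]
  have hθO : θ ∈ O := by
    rw [hOdef]
    exact (mem_conjOrbit Q).mpr ⟨1, conjFun_one Q _⟩
  obtain ⟨t, htdef⟩ : ∃ t, t = O.card := ⟨_, rfl⟩
  have ht1 : 1 ≤ t := by
    rw [htdef]
    exact Finset.card_pos.mpr ⟨θ, hθO⟩
  obtain ⟨f, hfdef⟩ : ∃ f, f = charDegree (θ : Q → ℂ) := ⟨_, rfl⟩
  have hθ1 : (θ : Q → ℂ) 1 = (f : ℂ) := by
    rw [hfdef]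
    exact Cfsg.Agent.Lib.Helper79.irr_apply_one_eq_charDegree θ
  -- the value of `χ` at an element of `Q`
  have hval : ∀ x : Q, χ x = (a : ℂ) * ∑ φ ∈ O, (φ : Q → ℂ) x := by
    intro x
    have := congrFun hcl x
    simpa only [Pi.smul_apply, Finset.sum_apply, smul_eq_mul] using this
  have hχ1 : χ 1 = ((a * t * f : ℕ) : ℂ) := by
    have h := hval 1
    rw [Finset.sum_congr rfl (fun φ hφ => hO1 φ hφ), Finset.sum_const, nsmul_eq_mul, hθ1,
      ← htdef] at h
    rw [show ((1 : Q) : G) = 1 from rfl] at h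
    rw [h]
    push_cast
    ring
  -- the norm equation
  obtain ⟨q, hqdef⟩ : ∃ q, q = Nat.card Q := ⟨_, rfl⟩
  have heq : q * a ^ 2 * t + 1 = (a * t * f) ^ 2 + q := by
    have hN1 := card_mul_classInner_self (r := fun n : Q => χ n) (d := a * t * f) hχ1
      (fun x hx => hnorm x x.2 (fun h => hx (Subtype.ext h)))
    have hN2 := classInner_self_of_orbit hcl hOe
    rw [hN2, ← htdef, ← hqdef, Complex.conj_natCast] at hN1
    have : ((q * a ^ 2 * t + 1 : ℕ) : ℂ) = (((a * t * f) ^ 2 + q : ℕ) : ℂ) := by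
      push_cast at hN1 ⊢
      linear_combination hN1
    exact_mod_cast this
  -- `f = 1`
  obtain ⟨n, hn⟩ := (IsPGroup.iff_card (p := p) (G := Q)).mp hQp
  have hq2 : 2 ≤ q := by
    rw [hqdef]
    exact (Subgroup.one_lt_card_iff_ne_bot Q).mpr hQ1
  have hn0 : n ≠ 0 := by
    rintro rfl
    rw [← hqdef] at hn
    simp at hn
    omega
  have hfq : f ∣ q := by
    rw [hfdef, hqdef]
    exact Cfsg.Agent.Lib.Helper79.irr_charDegree_dvd_card θ
  have hf1 : f = 1 := arith_deg_one hp (hqdef.trans hn) hn0 hfq heq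
  subst hf1
  rw [mul_one] at heq hχ1
  have hat : a * t ≠ 1 := by
    intro h
    apply hnl
    rw [hχ1, h]
    simp
  obtain ⟨ha1, htq⟩ := arith_mult_one hq2 (Nat.one_le_iff_ne_zero.mpr ha0) ht1 heq hat
  subst ha1
  rw [one_mul] at hχ1 hat
  -- constituents are linear
  have hlin : ∀ φ ∈ O, ∃ φ' : Q →* ℂˣ, ∀ x, (φ : Q → ℂ) x = ((φ' x : ℂˣ) : ℂ) := by
    intro φ hφ
    apply Cfsg.Agent.Lib.Helper77.exists_monoidHom_of_degree_one (IsIrrCharacter.isCharacter φ.2)
    rw [hO1 φ hφ, hθ1]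
    simp
  -- commutativity
  have hcomm : ∀ x ∈ Q, ∀ y ∈ Q, x * y = y * x := by
    intro x hx y hy
    have hc : χ ((⟨x, hx⟩ * ⟨y, hy⟩ * (⟨x, hx⟩ : Q)⁻¹ * (⟨y, hy⟩ : Q)⁻¹ : Q) : G) = χ 1 := by
      rw [hval, hχ1]
      have : ∀ φ ∈ O, (φ : Q → ℂ) (⟨x, hx⟩ * ⟨y, hy⟩ * (⟨x, hx⟩ : Q)⁻¹ * (⟨y, hy⟩ : Q)⁻¹) = 1 := by
        intro φ hφ
        obtain ⟨φ', hφ'⟩ := hlin φ hφ
        rw [hφ']
        simp only [map_mul, map_inv]
        rw [mul_inv_cancel_comm, mul_inv_cancel]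
        simp
      rw [Finset.sum_congr rfl this, Finset.sum_const, nsmul_eq_mul, ← htdef]
      simp
    have h1 := hfaith _ hc
    simp only [Subgroup.coe_mul, Subgroup.coe_inv] at h1
    rw [mul_inv_eq_one, mul_inv_eq_iff_eq_mul] at h1
    exact h1
  -- the principal character is not in the orbit
  have hone : oneIrr Q ∉ O := by
    intro h1
    have hθone : (θ : Q → ℂ) = fun _ => 1 := by
      rw [hOdef] at h1
      obtain ⟨g, hg⟩ := (mem_conjOrbit Q).mp h1
      have h2 := conjFun_inv_conjFun Q g (θ : Q → ℂ)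
      rw [hg] at h2
      rw [← h2]
      rfl
    have hall : ∀ φ ∈ O, φ = oneIrr Q := by
      intro φ hφ
      rw [hOdef] at hφ
      obtain ⟨g, hg⟩ := (mem_conjOrbit Q).mp hφ
      apply Subtype.ext
      rw [← hg, hθone]
      rfl
    have hle : O.card ≤ 1 := Finset.card_le_one.mpr (fun x hx y hy => by
      rw [hall x hx, hall y hy])
    apply hat
    omega
  -- all irreducible characters of `Q` are linear, and there are `q` of them
  have hQc : IsMulCommutative Q := ⟨⟨fun x y => Subtype.ext (hcomm x x.2 y y.2)⟩⟩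
  have hcardIrr : Fintype.card (IrrCharacter Q) = q := by
    have h := sum_irr_charDegree_sq (G := Q)
    have hd : ∀ ψ ∈ (Finset.univ : Finset (IrrCharacter Q)), charDegree (ψ : Q → ℂ) ^ 2 = 1 := by
      intro ψ _
      have h1 : (ψ : Q → ℂ) 1 = 1 := IsIrrCharacter.map_one_of_comm ψ.2
      rw [Cfsg.Agent.Lib.Helper79.irr_apply_one_eq_charDegree ψ] at h1
      have h2 : charDegree (ψ : Q → ℂ) = 1 := by exact_mod_cast h1
      rw [h2]
      simp
    rw [Finset.sum_congr rfl hd, Finset.sum_const, Finset.card_univ, smul_eq_mul, mul_one] at h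
    rw [h, hqdef]
  have hOall : O = Finset.univ.erase (oneIrr Q) := by
    apply Finset.eq_of_subset_of_card_le
    · intro φ hφ
      rw [Finset.mem_erase]
      exact ⟨fun h => hone (h ▸ hφ), Finset.mem_univ _⟩
    · rw [Finset.card_erase_of_mem (Finset.mem_univ _), Finset.card_univ, hcardIrr, ← htdef]
      omega
  have hmem : ∀ ψ : IrrCharacter Q, ψ ≠ oneIrr Q → ψ ∈ O := by
    intro ψ hψ
    rw [hOall, Finset.mem_erase]
    exact ⟨hψ, Finset.mem_univ _⟩
  refine ⟨hcomm, ?_, ?_, ?_, ?_⟩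
  · rw [hχ1, ← hqdef, ← htq]
    push_cast
    ring
  · intro φ hφ
    have h := hOe (homIrr φ) (hmem _ (homIrr_ne_oneIrr hφ))
    rw [Nat.cast_one] at h
    exact h
  · rw [hcl, classInner_smul_left, classInner_sum_left]
    have hz : ∀ φ ∈ O, classInner (φ : Q → ℂ) (fun _ : Q => (1 : ℂ)) = 0 := by
      intro φ hφ
      apply classInner_irr_ne φ.2 isIrrCharacter_one
      intro h
      apply hone
      have : φ = oneIrr Q := Subtype.ext h
      rw [← this]
      exact hφ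
    rw [Finset.sum_congr rfl hz]
    simp
  · intro φ ψ hφ hψ
    have h1 := hmem _ (homIrr_ne_oneIrr hφ)
    have h2 := hmem _ (homIrr_ne_oneIrr hψ)
    rw [hOdef] at h1 h2
    obtain ⟨g₁, hg₁⟩ := (mem_conjOrbit Q).mp h1
    obtain ⟨g₂, hg₂⟩ := (mem_conjOrbit Q).mp h2
    refine ⟨g₁⁻¹ * g₂, ?_⟩
    apply homIrr_injective
    rw [← conjFun_homIrr, conjFun_mul, ← hg₁, conjFun_inv_conjFun, hg₂]

end Cfsg.Agent.Lib.Helper92.RU
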