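import Mathlib
import Cfsg.Agent.Lib.Helper58.RU.Defs
import Cfsg.Agent.Lib.Helper14.FCRecogB

/-!
# RU-[N] (project S4751): the order of `G` in the exceptional case `|Q| = 4`

`|G| = 24 |Z(G)|` and `|Z(G)|` odd.
-/

set_option autoImplicit false

namespace Cfsg.Agent.Lib.Helper92.RU

open Cfsg Cfsg.Agent.Lib.Helper58.RU Cfsg.Agent.Lib.Helper14

universe u

variable {G : Type u} [Group G]

/-- the kernel of the conjugation action on the non-identity elements of `Q` is `C_G(Q)` -/
theorem cardTwo_ker (Q : Subgroup G) [Q.Normal] :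
    (conjPermHom Q).ker = Subgroup.centralizer (Q : Set G) := by
  ext y
  rw [MonoidHom.mem_ker, Subgroup.mem_centralizer_iff]
  constructor
  · intro hy v hv
    by_cases h1 : v = 1
    · subst h1; simp
    · have hne : (⟨v, hv⟩ : Q) ≠ 1 := fun h => h1 (congrArg Subtype.val h)
      have h2 := conjPermHom_apply_coe Q y ⟨⟨v, hv⟩, hne⟩
      rw [hy] at h2
      simp only [Equiv.Perm.coe_one, id_eq] at h2
      calc v * y = (y * v * y⁻¹) * y := by rw [← h2]
        _ = y * v := by group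
  · intro hy
    ext ⟨⟨v, hv⟩, hne⟩
    rw [conjPermHom_apply_coe]
    simp only [Equiv.Perm.coe_one, id_eq]
    rw [← hy v hv]; group

/-- elements with the same action on `Q` conjugate homomorphisms in the same way -/
theorem cardTwo_conjHom_congr (Q : Subgroup G) [Q.Normal] {g g' : G}
    (h : conjPermHom Q g = conjPermHom Q g') (φ : Q →* ℂˣ) : conjHom Q g φ = conjHom Q g' φ := by
  apply MonoidHom.ext
  intro x
  rw [conjHom_apply, conjHom_apply]
  congr 1
  apply Subtype.ext
  by_cases h1 : x = 1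
  · subst h1; simp
  · have h2 := conjPermHom_apply_coe Q g ⟨x, h1⟩
    have h3 := conjPermHom_apply_coe Q g' ⟨x, h1⟩
    rw [h] at h2
    exact h2.symm.trans h3

theorem card_of_two [Finite G] (Q : Subgroup G) [Q.Normal] (hQ4 : Nat.card Q = 4)
    (hcomm : ∀ x ∈ Q, ∀ y ∈ Q, x * y = y * x)
    (htrans : ∀ φ ψ : Q →* ℂˣ, φ ≠ 1 → ψ ≠ 1 → ∃ g : G, conjHom Q g φ = ψ)
    (hC : Subgroup.centralizer (Q : Set G) = Q ⊔ Subgroup.center G)
    (hQZ : Q ⊓ Subgroup.center G = ⊥)
    (h2C : ∀ c ∈ Subgroup.centralizer (Q : Set G), (∃ k : ℕ, orderOf c = 2 ^ k) → c ∈ Q)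
    (P : Sylow 2 G) (hP8 : Nat.card (P : Subgroup G) = 8) :
    Nat.card G = 24 * Nat.card (Subgroup.center G) ∧ Odd (Nat.card (Subgroup.center G)) := by
  classical
  have : Fact (Nat.Prime 2) := ⟨Nat.prime_two⟩
  -- `|Z|` is odd
  have hodd : Odd (Nat.card (Subgroup.center G)) := by
    rw [← Nat.not_even_iff_odd]
    intro heven
    obtain ⟨z, hz⟩ := exists_prime_orderOf_dvd_card' 2 heven.two_dvd
    have hz2 : orderOf (z : G) = 2 := by rw [Subgroup.orderOf_coe]; exact hz
    have hzC : (z : G) ∈ Subgroup.centralizer (Q : Set G) :=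
      Subgroup.center_le_centralizer _ z.2
    have hzQ : (z : G) ∈ Q := h2C _ hzC ⟨1, by rw [hz2, pow_one]⟩
    have hz1 : (z : G) ∈ Q ⊓ Subgroup.center G := ⟨hzQ, z.2⟩
    rw [hQZ, Subgroup.mem_bot] at hz1
    rw [hz1, orderOf_one] at hz2
    omega
  refine ⟨?_, hodd⟩
  -- `|C| = 4 |Z|`
  have hCcard : Nat.card (Subgroup.centralizer (Q : Set G)) = 4 * Nat.card (Subgroup.center G) := by
    have hc : ∀ (m : Q) (n : Subgroup.center G), Commute (Q.subtype m) ((Subgroup.center G).subtype n) := by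
      intro m n
      show (m : G) * (n : G) = (n : G) * (m : G)
      exact Subgroup.mem_center_iff.mp n.2 (m : G)
    have hinj : Function.Injective (MonoidHom.noncommCoprod Q.subtype (Subgroup.center G).subtype hc) := by
      rw [MonoidHom.noncommCoprod_injective]
      refine ⟨Q.subtype_injective, (Subgroup.center G).subtype_injective, ?_⟩
      rw [Subgroup.range_subtype, Subgroup.range_subtype, disjoint_iff, hQZ]
    have hrange : (MonoidHom.noncommCoprod Q.subtype (Subgroup.center G).subtype hc).range =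
        Subgroup.centralizer (Q : Set G) := by
      rw [MonoidHom.noncommCoprod_range, Subgroup.range_subtype, Subgroup.range_subtype, hC]
    rw [← hrange, Nat.card_congr (MonoidHom.ofInjective hinj).toEquiv.symm, Nat.card_prod, hQ4]
  -- the action on the three non-identity elements
  have hT : Nat.card {v : Q // v ≠ 1} = 3 := card_ne_one_subtype 3 hQ4
  have hcard : Nat.card G = 4 * Nat.card (Subgroup.center G) * Nat.card (conjPermHom Q).range := by
    have h1 := Subgroup.card_mul_index (conjPermHom Q).ker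
    rw [Subgroup.index_ker, cardTwo_ker, hCcard] at h1
    exact h1.symm
  have hdvd : Nat.card (conjPermHom Q).range ∣ 6 := by
    have h1 : Nat.card (conjPermHom Q).range ∣ Nat.card (Equiv.Perm {v : Q // v ≠ 1}) :=
      Subgroup.card_subgroup_dvd_card _
    rw [Nat.card_perm, hT] at h1
    exact h1
  -- at least three: the three nontrivial homomorphisms are permuted transitively
  have hge : 3 ≤ Nat.card (conjPermHom Q).range := by
    let _ : CommGroup Q := { (inferInstance : Group Q) with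
      mul_comm := fun a b => Subtype.ext (hcomm a a.2 b b.2) }
    have : NeZero ((Monoid.exponent Q : ℕ) : ℂ) :=
      ⟨by exact_mod_cast (Monoid.exponent_ne_zero_of_finite (G := Q))⟩
    have hΛ : Nat.card (Q →* ℂˣ) = 4 := by
      rw [CommGroup.card_monoidHom_of_hasEnoughRootsOfUnity Q ℂ, hQ4]
    have : Finite (Q →* ℂˣ) := Nat.finite_of_card_ne_zero (by rw [hΛ]; norm_num)
    have hΛ3 : Nat.card {ψ : Q →* ℂˣ // ψ ≠ 1} = 3 := card_ne_one_subtype 3 hΛ
    obtain ⟨φ₀, hφ₀⟩ : ∃ φ₀ : Q →* ℂˣ, φ₀ ≠ 1 := by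
      have : Nontrivial (Q →* ℂˣ) := by
        rw [← Finite.one_lt_card_iff_nontrivial, hΛ]; norm_num
      exact exists_ne 1
    rw [← hΛ3]
    have hex : ∀ ψ : {ψ : Q →* ℂˣ // ψ ≠ 1}, ∃ g : G, conjHom Q g φ₀ = ψ.1 :=
      fun ψ => htrans φ₀ ψ.1 hφ₀ ψ.2
    choose gsel hgsel using hex
    apply Nat.card_le_card_of_injective
      (fun ψ : {ψ : Q →* ℂˣ // ψ ≠ 1} => (⟨conjPermHom Q (gsel ψ), gsel ψ, rfl⟩ : (conjPermHom Q).range))
    intro ψ ψ' h
    have h1 : conjPermHom Q (gsel ψ) = conjPermHom Q (gsel ψ') := congrArg Subtype.val h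
    apply Subtype.ext
    rw [← hgsel ψ, ← hgsel ψ']
    exact cardTwo_conjHom_congr Q h1 φ₀
  -- `8 ∣ |G|`
  have h8 : 8 ∣ Nat.card G := by
    rw [← hP8]
    exact Subgroup.card_subgroup_dvd_card _
  obtain ⟨r, hr⟩ : ∃ r, r = Nat.card (conjPermHom Q).range := ⟨_, rfl⟩
  rw [← hr] at hcard hdvd hge
  obtain ⟨z, hz⟩ : ∃ z, z = Nat.card (Subgroup.center G) := ⟨_, rfl⟩
  rw [← hz] at hcard hodd ⊢
  have hr6 : r = 6 := by
    have hle : r ≤ 6 := Nat.le_of_dvd (by norm_num) hdvd
    have h2r : 2 ∣ r := by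
      rw [hcard] at h8
      obtain ⟨m, hm⟩ := hodd
      have h8' : 2 * 4 ∣ 4 * (z * r) := by rw [← mul_assoc]; exact h8
      have h2 : 2 ∣ z * r := by
        have := Nat.dvd_of_mul_dvd_mul_left (by norm_num : 0 < 4) (by rw [mul_comm 4 2]; exact h8' : 4 * 2 ∣ 4 * (z * r))
        exact this
      rcases (Nat.Prime.dvd_mul Nat.prime_two).mp h2 with h | h
      · omega
      · exact h
    interval_cases r <;> omega
  rw [hcard, hr6]
  ring

end Cfsg.Agent.Lib.Helper92.RU
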