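import Mathlib
import Cfsg.Prelude.Def_BlockFusion
import Cfsg.Agent.Lib.Helper16.BPNilDefs

/-!
# PROJECT BP, layer 5, Robinson's rows S4684 / S4685: definitions (helper92)

`(P, e)` a maximal Brauer pair of the block `B`, `F` the fusion system of `B` on `P`,
`N = foc(F) ∩ P` as a subgroup of `P`.  The dual group `Λ = Hom(P/N, ℂˣ)` acts on the characters of
height `h` in `B` through the Broué–Puig `*`-construction.

* `linFun lam`: the class function `v ↦ lam v` of `P` attached to `lam : P →* ℂˣ`.
* `HtSet p B h`: the characters of height `h` in `B`.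
* `annSub N Z`: the characters of `P/N` trivial on (the image of) `Z`.
-/

set_option autoImplicit false

namespace Cfsg.Agent.Lib.Helper92.Rob

open Cfsg

universe u

/-- The class function of a linear character. -/
def linFun {P : Type*} [Group P] (lam : P →* ℂˣ) : P → ℂ := fun v => ((lam v : ℂˣ) : ℂ)

/-- The characters of height `h` in `B`. -/
abbrev HtSet {G : Type u} [Group G] (p : ℕ) (B : Set (IrrCharacter G)) (h : ℕ) : Type u :=
  {χ : IrrCharacter G // χ ∈ B ∧ blockHeight p B (χ : G → ℂ) = h}

/-- The characters of `P ⧸ N` that are trivial on the image of `Z`. -/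
def annSub {P : Type*} [Group P] (N : Subgroup P) [N.Normal] (Z : Subgroup P) :
    Subgroup ((P ⧸ N) →* ℂˣ) where
  carrier := {lam | ∀ z ∈ Z, lam (QuotientGroup.mk z) = 1}
  one_mem' := fun _ _ => rfl
  mul_mem' := by
    intro a b ha hb z hz
    rw [MonoidHom.mul_apply, ha z hz, hb z hz, one_mul]
  inv_mem' := by
    intro a ha z hz
    rw [MonoidHom.inv_apply, ha z hz, inv_one]

theorem mem_annSub {P : Type*} [Group P] (N : Subgroup P) [N.Normal] (Z : Subgroup P)
    (lam : (P ⧸ N) →* ℂˣ) : lam ∈ annSub N Z ↔ ∀ z ∈ Z, lam (QuotientGroup.mk z) = 1 :=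
  Iff.rfl

end Cfsg.Agent.Lib.Helper92.Rob
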