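import Mathlib
import Cfsg.Agent.Lib.Helper92.RobDefs
import Cfsg.Agent.Lib.Helper16.BPNilDefs
import Cfsg.Agent.Lib.Helper16.BPNorm
import Cfsg.Agent.Lib.Helper16.BPNilLocal
import Cfsg.Agent.Lib.Helper16.BPNilW

/-!
# PROJECT BP layer 5, Robinson rows: the small modules ROB-[STAB], [NV0], [HT], [STARMUL] (helper92)
-/

set_option autoImplicit false
set_option linter.unusedSectionVars false

namespace Cfsg.Agent.Lib.Helper92.Rob

open Cfsg Cfsg.Agent.Lib.Helper16 Cfsg.Agent.Lib.Helper16.BP Cfsg.Agent.Lib.Helper78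
open scoped ComplexConjugate

universe u

variable {G : Type u} [Group G] [Fintype G] {M : Ideal AlgInt} {p : ℕ} [Fact p.Prime]
  {B : Set (IrrCharacter G)} {P : Subgroup G}
  {e : Set (IrrCharacter (Subgroup.centralizer (P : Set G)))}

/-- ROB-[STAB] : if `lam * χ = χ` then `lam v = 1` wherever the subsection `(v, f_v)` contributes
to `χ`. -/
theorem lam_eq_one_of_star_self (hM : IsPModular p M) (hPe : IsBrauerPair p M P e)
    {lam : P →* ℂˣ} {χ : G → ℂ} (h : IsStarOf p M P e (linFun lam) χ χ) (v : P) {ψ : G → ℂ}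
    (hne : mv p M P e (v : G) χ ψ ≠ 0) : lam v = 1 := by
  have h1 := mv_star hM hPe h (isStarOf_one (p := p) (M := M) (P := P) (e := e) ψ) v
  simp only [map_one, mul_one] at h1
  have h2 : (linFun lam v - 1) * mv p M P e (v : G) χ ψ = 0 := by
    rw [sub_mul, one_mul, ← h1, sub_self]
  have h3 : linFun lam v = 1 := by
    rcases mul_eq_zero.mp h2 with h3 | h3
    · exact sub_eq_zero.mp h3
    · exact absurd h3 hne
  apply Units.ext
  exact h3

/-- ROB-[NV0] : all subsections contribute to a character of height zero. -/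
theorem mv_self_ne_zero_of_height_zero (hM : IsPModular p M)
    (hmax : IsMaximalBrauerPair p M B P e) {χ : IrrCharacter G} (hχ : χ ∈ B)
    (h0 : blockHeight p B (χ : G → ℂ) = 0) {v : G} (hv : v ∈ P) :
    mv p M P e v (χ : G → ℂ) (χ : G → ℂ) ≠ 0 := by
  rw [mv_self_eq_ofReal]
  have := mvReal_pos_of_height_zero hM hmax hχ h0 hv
  exact_mod_cast this.ne'

/-- ROB-[HT] : the height depends on the degree only. -/
theorem blockHeight_eq_of_apply_one_eq {χ ψ : IrrCharacter G}
    (h : (ψ : G → ℂ) 1 = (χ : G → ℂ) 1) :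
    blockHeight p B (ψ : G → ℂ) = blockHeight p B (χ : G → ℂ) := by
  unfold blockHeight charDegree
  rw [h]

/-- ROB-[STARMUL] : composition of local data. -/
theorem isStarOf_mul {η η' : P → ℂ} {χ θ θ' : G → ℂ} (h : IsStarOf p M P e η χ θ)
    (h' : IsStarOf p M P e η' θ θ') : IsStarOf p M P e (fun v => η' v * η v) χ θ' := by
  intro v hv f hf s hs
  rw [h' v hv f hf s hs, h v hv f hf s hs, mul_assoc]

end Cfsg.Agent.Lib.Helper92.Rob
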