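import Mathlib
import Cfsg.Agent.Lib.Helper76.PCore

set_option autoImplicit false

universe u

/-!
# S4700-[QUOT] (helper92, for helper78): reduction of S4700 to `G ⧸ O_{p'}(G)`.
-/

namespace Cfsg.Agent.Lib.Helper92.S4700Quot

open Cfsg

/-- quotients of perfect groups are perfect -/
theorem commutator_quotient_eq_top' {G : Type*} [Group G] (hperf : commutator G = ⊤)
    (M : Subgroup G) [M.Normal] : commutator (G ⧸ M) = ⊤ := by
  have hφ : Function.Surjective (QuotientGroup.mk' M) := QuotientGroup.mk'_surjective M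
  rw [commutator_def] at hperf ⊢
  have := congrArg (Subgroup.map (QuotientGroup.mk' M)) hperf
  rw [Subgroup.map_commutator, Subgroup.map_top_of_surjective _ hφ] at this
  exact this

/-- the arithmetic of the reduction: if `1 + n p = (1 + nb p) d` and (iii) holds for `nb`,
then (iii) holds for `n`. -/
theorem formula_lift (p n nb d : ℕ) (hp : 2 ≤ p) (hd : 1 + n * p = (1 + nb * p) * d)
    (hf : ∃ h u : ℕ, 0 < h ∧ 0 < u ∧ nb * (u + 1) = h * u * p + u ^ 2 + u + h) :
    ∃ h u : ℕ, 0 < h ∧ 0 < u ∧ n * (u + 1) = h * u * p + u ^ 2 + u + h := by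
  obtain ⟨h, u, hh, hu, hform⟩ := hf
  have hnb : 0 < nb := by
    rcases Nat.eq_zero_or_pos nb with h0 | h0
    · subst h0
      have : 0 < h * u * p + u ^ 2 + u + h := by positivity
      omega
    · exact h0
  -- `d ≡ 1 mod p`
  have hdpos : 0 < d := by
    rcases Nat.eq_zero_or_pos d with h0 | h0
    · subst h0; omega
    · exact h0
  have hdmod : d % p = 1 % p := by
    have h1 : (1 + n * p) % p = 1 % p := by
      rw [Nat.add_mul_mod_self_right]
    have h2 : ((1 + nb * p) * d) % p = d % p := by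
      rw [Nat.mul_mod, Nat.add_mul_mod_self_right, ← Nat.mul_mod, one_mul]
    rw [hd, h2] at h1
    exact h1
  have h1p : 1 % p = 1 := Nat.mod_eq_of_lt (by omega)
  obtain ⟨h', hh'⟩ : ∃ h', d = 1 + h' * p := by
    refine ⟨d / p, ?_⟩
    have := Nat.div_add_mod d p
    rw [hdmod, h1p] at this
    rw [mul_comm] at this
    omega
  subst hh'
  have hnval : n = h' + nb + h' * nb * p := by
    have hpp : 0 < p := by omega
    have : n * p = (h' + nb + h' * nb * p) * p := by
      have e : (1 + nb * p) * (1 + h' * p) = 1 + (h' + nb + h' * nb * p) * p := by ring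
      rw [e] at hd
      omega
    exact Nat.eq_of_mul_eq_mul_right hpp this
  rcases Nat.eq_zero_or_pos h' with h0 | h0
  · subst h0
    refine ⟨h, u, hh, hu, ?_⟩
    have : n = nb := by rw [hnval]; ring
    rw [this]; exact hform
  · refine ⟨(h' + 1) * nb, h', Nat.mul_pos (Nat.succ_pos _) hnb, h0, ?_⟩
    rw [hnval]; ring

/-- **S4700-[QUOT]** -/
theorem s4700_of_core
    (core : ∀ {H : Type u} [Group H] [Finite H], commutator H = ⊤ → ∀ (p : ℕ) [Fact p.Prime]
      (P : Sylow p H), Nat.card (P : Subgroup H) = p → ∀ n : ℕ,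
      Nat.card (Sylow p H) = 1 + n * p →
      (∀ K : Subgroup H, K.Normal → (Nat.card K).Coprime p → K = ⊥) →
      (3 < p ∧ Nonempty (H ≃* Matrix.ProjectiveSpecialLinearGroup (Fin 2) (ZMod p))) ∨
      (3 < p ∧ ∃ (m : ℕ) (F : Type) (_ : Field F) (_ : Fintype F), Fintype.card F = 2 ^ m ∧
        p = 2 ^ m + 1 ∧ Nonempty (H ≃* Matrix.SpecialLinearGroup (Fin 2) F)) ∨
      (∃ h u : ℕ, 0 < h ∧ 0 < u ∧ n * (u + 1) = h * u * p + u ^ 2 + u + h))
    {G : Type u} [Group G] [Finite G] (hperf : commutator G = ⊤) (p : ℕ) [Fact p.Prime]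
    (P : Sylow p G) (hP : Nat.card P = p) (n : ℕ) (hn : Nat.card (Sylow p G) = 1 + n * p) :
    (∃ (F : Type) (_ : Field F) (_ : Fintype F), Fintype.card F = p ∧ 3 < p ∧
      Nonempty (G ⧸ Cfsg.pPrimeCore p G ≃* Matrix.ProjectiveSpecialLinearGroup (Fin 2) F)) ∨
    (∃ (m : ℕ) (F : Type) (_ : Field F) (_ : Fintype F), Fintype.card F = 2 ^ m ∧
      p = 2 ^ m + 1 ∧ 3 < p ∧
      Nonempty (G ⧸ Cfsg.pPrimeCore p G ≃* Matrix.SpecialLinearGroup (Fin 2) F)) ∨
    (∃ h u : ℕ, 0 < h ∧ 0 < u ∧ n * (u + 1) = h * u * p + u ^ 2 + u + h) := by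
  classical
  have hp : p.Prime := Fact.out
  have hKn : (pPrimeCore p G).Normal := inferInstance
  set K := pPrimeCore p G with hKdef
  set π : G →* G ⧸ K := QuotientGroup.mk' K with hπ
  have hsurj : Function.Surjective π := QuotientGroup.mk'_surjective K
  have hHperf : commutator (G ⧸ K) = ⊤ := commutator_quotient_eq_top' hperf K
  have hKcop : (Nat.card K).Coprime p := Cfsg.Agent.Lib.Helper76.pPrimeCore_coprime p
  -- the image of `P`
  set Pb : Sylow p (G ⧸ K) := P.mapSurjective hsurj with hPb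
  have hPbcoe : (Pb : Subgroup (G ⧸ K)) = (P : Subgroup G).map π := Sylow.coe_mapSurjective hsurj P
  -- its order is `p`
  have hGK : Nat.card G = Nat.card (G ⧸ K) * Nat.card K :=
    Subgroup.card_eq_card_quotient_mul_card_subgroup K
  have hGpos : 0 < Nat.card G := Nat.card_pos
  have hHpos : 0 < Nat.card (G ⧸ K) := Nat.card_pos
  have hfacG : (Nat.card G).factorization p = 1 := by
    have := P.card_eq_multiplicity
    rw [hP] at this
    have h1 : p ^ 1 = p ^ (Nat.card G).factorization p := by rw [pow_one]; exact this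
    exact (Nat.pow_right_injective hp.two_le h1).symm
  have hfacK : (Nat.card K).factorization p = 0 := by
    apply Nat.factorization_eq_zero_of_not_dvd
    intro hdvd
    have := Nat.Coprime.eq_one_of_dvd hKcop.symm hdvd
    exact hp.one_lt.ne' this
  have hfacH : (Nat.card (G ⧸ K)).factorization p = 1 := by
    have hKpos : 0 < Nat.card K := Nat.card_pos
    have := Nat.factorization_mul hHpos.ne' hKpos.ne'
    rw [← hGK] at this
    have h2 := congrArg (fun f => f p) this
    simp only [Finsupp.coe_add, Pi.add_apply] at h2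
    omega
  have hPbcard : Nat.card (Pb : Subgroup (G ⧸ K)) = p := by
    rw [Pb.card_eq_multiplicity, hfacH, pow_one]
  -- no normal `p'`-subgroups
  have hcore : ∀ L : Subgroup (G ⧸ K), L.Normal → (Nat.card L).Coprime p → L = ⊥ :=
    fun L hL hLp => Cfsg.Agent.Lib.Helper76.quotient_pPrimeCore_core_trivial p L hL hLp
  -- the number of Sylow subgroups of the quotient
  have hdvd : Nat.card (Sylow p (G ⧸ K)) ∣ Nat.card (Sylow p G) := by
    rw [Sylow.card_eq_index_normalizer Pb, Sylow.card_eq_index_normalizer P]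
    have h1 : Subgroup.normalizer ((P : Subgroup G) : Set G) ≤
        (Subgroup.normalizer ((Pb : Subgroup (G ⧸ K)) : Set (G ⧸ K))).comap π := by
      rw [← Subgroup.map_le_iff_le_comap, hPbcoe]
      exact Subgroup.le_normalizer_map π
    have h2 := Subgroup.index_dvd_of_le h1
    rwa [Subgroup.index_comap_of_surjective _ hsurj] at h2
  have hmod : Nat.card (Sylow p (G ⧸ K)) ≡ 1 [MOD p] := card_sylow_modEq_one p (G ⧸ K)
  obtain ⟨nb, hnb⟩ : ∃ nb, Nat.card (Sylow p (G ⧸ K)) = 1 + nb * p := by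
    refine ⟨Nat.card (Sylow p (G ⧸ K)) / p, ?_⟩
    have h1 := Nat.div_add_mod (Nat.card (Sylow p (G ⧸ K))) p
    have h2 : Nat.card (Sylow p (G ⧸ K)) % p = 1 := by
      have := hmod
      unfold Nat.ModEq at this
      rw [this]
      exact Nat.mod_eq_of_lt hp.one_lt
    rw [h2, mul_comm] at h1
    omega
  obtain ⟨d, hd⟩ := hdvd
  rw [hn, hnb] at hd
  rcases core hHperf p Pb hPbcard nb hnb hcore with ⟨h3, ⟨e⟩⟩ | ⟨h3, m, F, iF, iF', hF, hpm, ⟨e⟩⟩ | hform
  · left
    have : NeZero p := ⟨hp.ne_zero⟩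
    exact ⟨ZMod p, inferInstance, inferInstance, ZMod.card p, h3, ⟨e⟩⟩
  · right; left
    exact ⟨m, F, iF, iF', hF, hpm, h3, ⟨e⟩⟩
  · right; right
    exact formula_lift p n nb d hp.two_le hd hform

end Cfsg.Agent.Lib.Helper92.S4700Quot
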