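import Mathlib
import Cfsg.Agent.Lib.Helper12.W2pMain

set_option autoImplicit false
open Cfsg

namespace Cfsg.Agent.Lib.Helper92.S4707

open Cfsg.Agent.Lib.Helper12.W2p

/-- a simple subgroup of `Sym(α)` of order `> 2` consists of even permutations -/
theorem le_alternating_of_simple {α : Type*} [Fintype α] [DecidableEq α]
    (G : Subgroup (Equiv.Perm α)) [IsSimpleGroup ↥G] (hcard : 2 < Nat.card ↥G) :
    G ≤ alternatingGroup α := by
  classical
  -- the sign restricted to G
  let f : ↥G →* ℤˣ := (Equiv.Perm.sign).comp G.subtype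
  have hker : f.ker = ⊥ ∨ f.ker = ⊤ := (MonoidHom.normal_ker f).eq_bot_or_eq_top
  rcases hker with h | h
  · exfalso
    have hinj : Function.Injective f := (MonoidHom.ker_eq_bot_iff f).mp h
    have h1 : Nat.card ↥G ≤ Nat.card ℤˣ := Nat.card_le_card_of_injective f hinj
    have h2 : Nat.card ℤˣ = 2 := by
      rw [Nat.card_eq_fintype_card]
      rfl
    omega
  · intro g hg
    have h1 : (⟨g, hg⟩ : ↥G) ∈ f.ker := by rw [h]; trivial
    rw [MonoidHom.mem_ker] at h1
    rw [Equiv.Perm.mem_alternatingGroup]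
    exact h1

theorem permChar_decomp {α : Type*} [Fintype α] [DecidableEq α] {p : ℕ} [Fact p.Prime]
    (hp : 3 < p) (hα : Fintype.card α = 2 * p) (G : Subgroup (Equiv.Perm α)) [Fintype ↥G]
    (hprim : MulAction.IsPreprimitive G α) (hnot2 : ¬ MulAction.IsMultiplyPretransitive G α 2)
    (hsimple : IsSimpleGroup ↥G) :
    ∃ χ₁ χ₂ : ↥G → ℂ, IsIrrCharacter ↥G χ₁ ∧ IsIrrCharacter ↥G χ₂ ∧
      permChar G = (fun g => 1 + χ₁ g + χ₂ g) ∧ χ₁ 1 = (p : ℂ) - 1 ∧ χ₂ 1 = p := by
  classical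
  have hpp : p.Prime := Fact.out
  have hp2 : p ≠ 2 := by omega
  have hctx : Ctx p G := ⟨hpp, hp2, hα, hprim,
    Cfsg.Agent.Lib.Helper67.W2pJor.fpf_of_not_two_trans hpp hp2 hα G hprim hnot2⟩
  haveI := hctx.isPretransitive
  obtain ⟨a₀⟩ : Nonempty α := by
    rw [← Fintype.card_pos_iff, hα]
    omega
  have hdiv2 : 2 * p ∣ Nat.card ↥G := by
    have h1 := MulAction.index_stabilizer_of_transitive ↥G a₀
    have h3 := Subgroup.index_dvd_card (MulAction.stabilizer ↥G a₀)
    rwa [h1, Nat.card_eq_fintype_card (α := α), hα] at h3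
  have hdiv : p ∣ Nat.card ↥G := Dvd.dvd.trans ⟨2, by ring⟩ hdiv2
  have hcard : 2 < Nat.card ↥G := by
    have := Nat.le_of_dvd Nat.card_pos hdiv2
    omega
  have heven := le_alternating_of_simple G hcard
  obtain ⟨π, hπ⟩ := exists_prime_orderOf_dvd_card' p hdiv
  rcases alpha_or_beta hctx hnot2 π hπ with
    ⟨χ₁, χ₂, h₁, h₂, hsum, hd1, hd2⟩ | ⟨n, ρ, hirr, hn, hm, hrel, hmult, h1⟩
  · exact ⟨χ₁, χ₂, h₁, h₂, hsum, hd1, hd2⟩
  · exfalso
    by_cases hI : CaseI G π a₀
    · exact caseI_false hctx π hπ a₀ hI n ρ hirr hn hm hrel hmult h1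
    · obtain ⟨τ, d, m, hτN, hτd, hde, hdm, hodd, heven', hC, hN, horb⟩ :=
        Cfsg.Agent.Lib.Helper29.W2p.caseII_struct hctx π hπ a₀ hI
      have hsign : Equiv.Perm.sign (τ : Equiv.Perm α) = -1 := by
        apply Cfsg.Agent.Lib.Helper11.W2p.sign_eq_neg_one_of_fix (τ : Equiv.Perm α) d m
        · rw [Subgroup.orderOf_coe, hτd]
        · exact hde
        · rw [hα]
          have := hpp.one_le
          have h2 : d * (2 * m) = 2 * (d * m) := by ring
          rw [h2, ← hdm]
          omega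
        · intro j hj x
          exact hodd j hj x
        · intro j hj hdj
          exact heven' j hj hdj
      have h2 := heven τ.2
      rw [Equiv.Perm.mem_alternatingGroup, hsign] at h2
      exact absurd h2 (by decide)

end Cfsg.Agent.Lib.Helper92.S4707
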