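import Mathlib
import Cfsg.Agent.Lib.Helper29.PermProj
import Cfsg.Agent.Lib.Helper42.S4707Sos
import Cfsg.Agent.Lib.Helper42.S4707Karith
import Cfsg.Agent.Lib.Helper42.S4707Orbsum

/-!
# S4707: the Krein-type positivity `∑ g, χ₁ g ^ 3 > 0` (helper92)

Assembly of the modules [PROJ] (helper29), [SOS], [KARITH], [ORBSUM] (helper42).
-/

set_option autoImplicit false
open Cfsg

namespace Cfsg.Agent.Lib.Helper92.S4707

/-- summing a function of `g • a` over a transitive group -/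
theorem sum_smul_eq_card_stabilizer_mul {G : Type*} [Group G] [Fintype G] {Ω : Type*} [Fintype Ω]
    [DecidableEq Ω] [MulAction G Ω] [MulAction.IsPretransitive G Ω] (a : Ω) (f : Ω → ℝ) :
    ∑ g : G, f (g • a) = (Nat.card (MulAction.stabilizer G a) : ℝ) * ∑ w, f w := by
  classical
  have h1 : ∑ g : G, f (g • a) = ∑ w : Ω, ∑ g ∈ Finset.univ.filter (fun g : G => g • a = w), f w := by
    rw [← Finset.sum_fiberwise Finset.univ (fun g : G => g • a) (fun g => f (g • a))]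
    apply Finset.sum_congr rfl
    intro w _
    apply Finset.sum_congr rfl
    intro g hg
    rw [(Finset.mem_filter.mp hg).2]
  rw [h1, Finset.mul_sum]
  apply Finset.sum_congr rfl
  intro w _
  rw [Finset.sum_const, nsmul_eq_mul]
  congr 1
  obtain ⟨g₀, hg₀⟩ := MulAction.exists_smul_eq G a w
  have hcard : (Finset.univ.filter (fun g : G => g • a = w)).card =
      Nat.card (MulAction.stabilizer G a) := by
    rw [Nat.card_eq_fintype_card, ← Fintype.card_subtype]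
    apply Fintype.card_congr
    refine ⟨fun g => ⟨g₀⁻¹ * g.1, ?_⟩, fun h => ⟨g₀ * h.1, ?_⟩, ?_, ?_⟩
    · rw [MulAction.mem_stabilizer_iff, mul_smul, g.2, ← hg₀, inv_smul_smul]
    · rw [mul_smul, MulAction.mem_stabilizer_iff.mp h.2, hg₀]
    · intro g
      simp
    · intro h
      simp
  rw [hcard]


theorem sum_cube_pos {G : Type*} [Group G] [Fintype G] {Ω : Type*} [Fintype Ω] [DecidableEq Ω]
    [MulAction G Ω] [MulAction.IsPretransitive G Ω] (a : ℕ) (ha : 0 < a)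
    (hcard : Fintype.card Ω = 2 * (2 * a ^ 2 + 2 * a + 1)) (a₀ : Ω)
    (hrank : Nat.card (MulAction.orbitRel.Quotient (MulAction.stabilizer G a₀) Ω) = 3)
    (hsub : ∀ b : Ω, b ≠ a₀ →
      Nat.card (MulAction.orbit (MulAction.stabilizer G a₀) b) = a * (2 * a + 1) ∨
      Nat.card (MulAction.orbit (MulAction.stabilizer G a₀) b) = (a + 1) * (2 * a + 1))
    (χ₁ χ₂ : G → ℂ) (h₁ : IsIrrCharacter G χ₁) (h₂ : IsIrrCharacter G χ₂)
    (hπ : (fun g : G => (Nat.card (MulAction.fixedBy Ω g) : ℂ)) = fun g => 1 + χ₁ g + χ₂ g)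
    (hne : χ₁ ≠ χ₂) (h1 : χ₁ ≠ fun _ => 1) (hreal : ∀ g, ∃ r : ℝ, χ₁ g = r)
    (hd₁ : χ₁ 1 = 2 * (a : ℂ) ^ 2 + 2 * a) :
    ∃ r : ℝ, 0 < r ∧ ∑ g : G, χ₁ g ^ 3 = r := by
  classical
  obtain ⟨M, hinv, hsymm, hidem, hrow, htr⟩ :=
    Cfsg.Agent.Lib.Helper29.S4707.exists_real_projection χ₁ χ₂ h₁ h₂ hπ hne h1 hreal
  have hkl : a * (2 * a + 1) ≠ (a + 1) * (2 * a + 1) := by
    intro h
    have : a = a + 1 := Nat.eq_of_mul_eq_mul_right (by omega) h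
    omega
  have hcard' : Fintype.card Ω = 1 + a * (2 * a + 1) + (a + 1) * (2 * a + 1) := by
    rw [hcard]; ring
  obtain ⟨b, c, hbc⟩ := Cfsg.Agent.Lib.Helper42.S4707.orbit_sum a₀ (a * (2 * a + 1)) ((a + 1) * (2 * a + 1)) hkl hcard' hrank hsub
  have hf : ∀ j : ℕ, ∀ h : G, h • a₀ = a₀ → ∀ w, (M a₀ (h • w)) ^ j = (M a₀ w) ^ j := by
    intro j h hh w
    have : M a₀ (h • w) = M (h • a₀) (h • w) := by rw [hh]
    rw [this, hinv]
  obtain ⟨e₀, he₀⟩ : ∃ e₀ : ℝ, e₀ = M a₀ a₀ := ⟨_, rfl⟩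
  obtain ⟨e₁, he₁⟩ : ∃ e₁ : ℝ, e₁ = M a₀ b := ⟨_, rfl⟩
  obtain ⟨e₂, he₂⟩ : ∃ e₂ : ℝ, e₂ = M a₀ c := ⟨_, rfl⟩
  have hs1 : e₀ + ((a : ℝ) * (2 * a + 1)) * e₁ + (((a : ℝ) + 1) * (2 * a + 1)) * e₂ = 0 := by
    have h3 := hbc (fun w => (M a₀ w) ^ 1) (hf 1)
    simp only [pow_one] at h3
    rw [hrow a₀] at h3
    rw [he₀, he₁, he₂, h3]
    push_cast
    ring
  have hs2 : e₀ ^ 2 + ((a : ℝ) * (2 * a + 1)) * e₁ ^ 2 + (((a : ℝ) + 1) * (2 * a + 1)) * e₂ ^ 2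
      = e₀ := by
    have h3 := hbc (fun w => (M a₀ w) ^ 2) (hf 2)
    have h4 := hidem a₀ a₀
    have h5 : ∑ y, M a₀ y * M y a₀ = ∑ w, (M a₀ w) ^ 2 := by
      apply Finset.sum_congr rfl
      intro y _
      rw [hsymm y a₀]
      ring
    rw [h5, h3] at h4
    rw [he₀, he₁, he₂]
    push_cast at h4
    linear_combination h4
  have hs3 : ∑ w, (M a₀ w) ^ 3 =
      e₀ ^ 3 + ((a : ℝ) * (2 * a + 1)) * e₁ ^ 3 + (((a : ℝ) + 1) * (2 * a + 1)) * e₂ ^ 3 := by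
    have h3 := hbc (fun w => (M a₀ w) ^ 3) (hf 3)
    rw [h3, he₀, he₁, he₂]
    push_cast
    ring
  have h0 : e₀ * (2 * (2 * (a : ℝ) ^ 2 + 2 * a + 1)) = 2 * (a : ℝ) ^ 2 + 2 * a := by
    have h3 := htr 1
    rw [hd₁] at h3
    have h4 : ∀ x : Ω, M x ((1 : G) • x) = e₀ := by
      intro x
      obtain ⟨g, rfl⟩ := MulAction.exists_smul_eq G a₀ x
      rw [one_smul, hinv, he₀]
    rw [Finset.sum_congr rfl (fun x _ => h4 x), Finset.sum_const, Finset.card_univ, hcard] at h3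
    have h5 : (((2 * (2 * a ^ 2 + 2 * a + 1) : ℕ) • e₀ : ℝ) : ℂ) =
        ((2 * (a : ℝ) ^ 2 + 2 * a : ℝ) : ℂ) := by
      rw [h3]
      push_cast
      ring
    have h6 : ((2 * (2 * a ^ 2 + 2 * a + 1) : ℕ) • e₀ : ℝ) = 2 * (a : ℝ) ^ 2 + 2 * a := by
      exact_mod_cast h5
    rw [nsmul_eq_mul] at h6
    push_cast at h6
    linear_combination h6
  have hq := Cfsg.Agent.Lib.Helper42.S4707.krein_arith a ha e₀ e₁ e₂ h0 hs1 hs2
  rw [← hs3] at hq
  have hfib := sum_smul_eq_card_stabilizer_mul (G := G) a₀ (fun w => (M a₀ w) ^ 3)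
  have hsos := Cfsg.Agent.Lib.Helper42.S4707.krein_sos M hinv hsymm hidem a₀
  rw [hfib] at hsos
  have hstab : (0 : ℝ) < (Nat.card (MulAction.stabilizer G a₀) : ℝ) := by
    have : 0 < Nat.card (MulAction.stabilizer G a₀) := Nat.card_pos
    exact_mod_cast this
  have hGpos : (0 : ℝ) < (Fintype.card G : ℝ) := by
    have : 0 < Fintype.card G := Fintype.card_pos
    exact_mod_cast this
  refine ⟨∑ g : G, (∑ x, M x (g • x)) ^ 3, ?_, ?_⟩
  · by_contra hle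
    push Not at hle
    have h3 : (Fintype.card G : ℝ) * ∑ g : G, (∑ x, M x (g • x)) ^ 3 ≤ 0 :=
      mul_nonpos_of_nonneg_of_nonpos hGpos.le hle
    have h4 : 0 < ((Nat.card (MulAction.stabilizer G a₀) : ℝ) * ∑ w, (M a₀ w) ^ 3) ^ 2 := by
      positivity
    linarith
  · push_cast
    apply Finset.sum_congr rfl
    intro g _
    rw [← htr g]
    push_cast
    rfl

end Cfsg.Agent.Lib.Helper92.S4707
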