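import Mathlib
import Cfsg.Agent.Lib.Helper92.SmallDegA
import Cfsg.Agent.S0678
import Cfsg.Agent.S0713

/-!
# Orders of non-solvable transitive permutation groups of degree `5, 6, 7, 8`

* degree `5`: order `60` or `120`;
* degree `6`: order `60, 120, 360, 720`;
* degree `7`, even permutations: order `7, 21, 168` (simple) or `2520`;
* degree `8`, even permutations: order `168, 1344` or `20160`.
-/

set_option autoImplicit false
set_option linter.unusedSectionVars false

namespace Cfsg.Agent.Lib.Helper92.SmallDeg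

open Equiv Cfsg.Agent.Lib.Helper92.PermCount Cfsg.Agent.Lib.Helper92.PermRes
open scoped Pointwise

variable {β : Type*} [Fintype β] [DecidableEq β]

theorem card_perm_dvd (G : Subgroup (Perm β)) : Nat.card G ∣ (Fintype.card β).factorial := by
  have := Subgroup.card_subgroup_dvd_card G
  rwa [Nat.card_eq_fintype_card (α := Perm β), Fintype.card_perm] at this

theorem isPretransitive_of (G : Subgroup (Perm β)) (htr : ∀ x y : β, ∃ g ∈ G, g x = y) :
    MulAction.IsPretransitive G β :=
  ⟨fun x y => let ⟨k, hk, h⟩ := htr x y; ⟨⟨k, hk⟩, h⟩⟩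

theorem exists_of_isPretransitive (G : Subgroup (Perm β)) [h : MulAction.IsPretransitive G β]
    (x y : β) : ∃ g ∈ G, g x = y := by
  obtain ⟨g, hg⟩ := h.exists_smul_eq x y
  exact ⟨g.1, g.2, hg⟩

/-- Degree 5. -/
theorem card_of_deg_five (hβ : Fintype.card β = 5) (G : Subgroup (Perm β))
    (hns : ¬ Group.IsSolvable G) : Nat.card G = 60 ∨ Nat.card G = 120 := by
  have hd := card_perm_dvd G
  rw [hβ] at hd
  have h120 : (5 : ℕ).factorial = 120 := by decide
  rw [h120] at hd
  have h60 : 60 ≤ Nat.card G := by
    by_contra hlt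
    exact hns (Cfsg.Agent.S3378.solvable_of_card_lt_sixty _ G rfl (by omega))
  have hle : Nat.card G ≤ 120 := Nat.le_of_dvd (by norm_num) hd
  interval_cases h : Nat.card G <;> omega

/-- Degree 7, even permutations. -/
theorem card_of_deg_seven (hβ : Fintype.card β = 7) (G : Subgroup (Perm β))
    [MulAction.IsPretransitive G β] (hA : G ≤ alternatingGroup β) :
    Nat.card G = 7 ∨ Nat.card G = 21 ∨ (Nat.card G = 168 ∧ IsSimpleGroup G) ∨
      Nat.card G = 2520 := by
  have : Fact (Nat.Prime 7) := ⟨by norm_num⟩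
  by_cases hs : Group.IsSolvable G
  · obtain ⟨P⟩ : Nonempty (Sylow 7 G) := inferInstance
    have hn := sylow_normal_of_isSolvable hβ G hs P
    have h1 := Cfsg.Agent.Lib.Helper12.card_normalizer_dvd hβ G P
    have h2 := not_even_card_normalizer hβ G hA P
    have h3 := Cfsg.Agent.Lib.Helper12.dvd_card_normalizer hβ G P
    rw [Subgroup.normalizer_eq_top_iff.mpr hn, Subgroup.card_top] at h1 h2 h3
    have hle : Nat.card G ≤ 42 := Nat.le_of_dvd (by norm_num) h1
    rw [Nat.even_iff] at h2
    interval_cases h : Nat.card G <;> omega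
  · by_cases hAG : alternatingGroup β ≤ G
    · right; right; right
      have hGA : G = alternatingGroup β := le_antisymm hA hAG
      have : Nontrivial β := Fintype.one_lt_card_iff_nontrivial.mp (by rw [hβ]; norm_num)
      rw [hGA, nat_card_alternatingGroup, Nat.card_eq_fintype_card, hβ]
      decide
    · right; right; left
      exact Cfsg.Agent.S0678.result hβ G hs hAG

/-- A transitive group of degree 8 containing a 5-cycle is primitive. -/
theorem isPreprimitive_of_five_cycle (hβ : Fintype.card β = 8) (G : Subgroup (Perm β))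
    (htr : ∀ x y : β, ∃ g ∈ G, g x = y) {g : Perm β} (hg : g ∈ G) (hcyc : g.IsCycle)
    (hsupp : g.support.card = 5) : MulAction.IsPreprimitive G β := by
  have hT : MulAction.IsPretransitive G β := isPretransitive_of G htr
  refine ⟨fun {B} hB => ?_⟩
  by_contra hnt
  unfold MulAction.IsTrivialBlock at hnt
  rw [not_or, Set.not_subsingleton_iff] at hnt
  obtain ⟨hns, hne⟩ := hnt
  have hBne : B.Nonempty := hns.nonempty
  have hdvd : B.ncard ∣ 8 := by
    have := hB.ncard_dvd_card hBne
    rwa [Nat.card_eq_fintype_card, hβ] at this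
  have h2 : 2 ≤ B.ncard := by
    obtain ⟨a, ha, b, hb, hab⟩ := hns
    have := (Set.one_lt_ncard_iff (Set.toFinite B)).mpr ⟨a, b, ha, hb, hab⟩
    omega
  have h8 : B.ncard < 8 := by
    have := Set.ncard_lt_card (s := B) (by
      intro h
      exact hne h)
    rwa [Nat.card_eq_fintype_card, hβ] at this
  have h4 : B.ncard ≤ 4 := by
    have hle : B.ncard ≤ 8 := Nat.le_of_dvd (by norm_num) hdvd
    interval_cases h : B.ncard <;> omega
  -- the fixed points of `g`
  set F : Set β := {x | g x = x} with hF
  have hFcard : F.ncard = 3 := by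
    have h1 : F = ↑(g.supportᶜ) := by
      ext x
      simp [hF]
    rw [h1, Set.ncard_coe_finset, Finset.card_compl, hβ, hsupp]
  -- key claim
  have key : ∀ k : G, ∀ f ∈ F, f ∈ k • B → k • B ⊆ F := by
    intro k f hf hfk y hy
    have hB' : MulAction.IsBlock G (k • B) := hB.translate k
    have hgf : (⟨g, hg⟩ : G) • f ∈ k • B := by
      have : (⟨g, hg⟩ : G) • f = f := hf
      rw [this]; exact hfk
    have hst : (⟨g, hg⟩ : G) • (k • B) = k • B :=
      MulAction.isBlock_iff_smul_eq_of_mem.mp hB' hfk hgf
    have hpow : ∀ i : ℕ, (g ^ i) y ∈ k • B := by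
      intro i
      induction i with
      | zero => simpa using hy
      | succ n ih =>
        rw [pow_succ', Perm.mul_apply]
        rw [← hst]
        exact Set.smul_mem_smul_set (a := (⟨g, hg⟩ : G)) ih
    by_contra hyF
    have hgy : g y ≠ y := hyF
    have hsub : (↑g.support : Set β) ⊆ k • B := by
      intro z hz
      rw [Finset.mem_coe, Perm.mem_support] at hz
      obtain ⟨i, hi⟩ := hcyc.exists_pow_eq hgy hz
      rw [← hi]
      exact hpow i
    have := Set.ncard_le_ncard hsub (Set.toFinite _)
    rw [Set.ncard_coe_finset, hsupp, Set.ncard_smul_set] at this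
    omega
  -- first block
  obtain ⟨a, ha⟩ := hBne
  have hFne : F.Nonempty := by
    rw [← Set.ncard_pos (Set.toFinite F), hFcard]; norm_num
  obtain ⟨f1, hf1⟩ := hFne
  obtain ⟨k1, hk1, hk1a⟩ := htr a f1
  have hf1B : f1 ∈ (⟨k1, hk1⟩ : G) • B := by
    rw [← hk1a]
    exact Set.smul_mem_smul_set (a := (⟨k1, hk1⟩ : G)) ha
  have hB1F := key ⟨k1, hk1⟩ f1 hf1 hf1B
  have hB1card : ((⟨k1, hk1⟩ : G) • B).ncard = B.ncard := Set.ncard_smul_set _ _
  have hle3 : B.ncard ≤ 3 := by
    rw [← hB1card, ← hFcard]
    exact Set.ncard_le_ncard hB1F (Set.toFinite _)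
  have hB2 : B.ncard = 2 := by
    have hle : B.ncard ≤ 8 := Nat.le_of_dvd (by norm_num) hdvd
    interval_cases h : B.ncard <;> omega
  -- second block
  have hdiff : (F \ ((⟨k1, hk1⟩ : G) • B)).Nonempty := by
    rw [← Set.ncard_pos (Set.toFinite _)]
    have := Set.ncard_sdiff_add_ncard_of_subset hB1F (Set.toFinite F)
    rw [hB1card, hB2, hFcard] at this
    omega
  obtain ⟨f2, hf2F, hf2B⟩ := hdiff
  obtain ⟨k2, hk2, hk2a⟩ := htr a f2
  have hf2B2 : f2 ∈ (⟨k2, hk2⟩ : G) • B := by
    rw [← hk2a]
    exact Set.smul_mem_smul_set (a := (⟨k2, hk2⟩ : G)) ha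
  have hB2F := key ⟨k2, hk2⟩ f2 hf2F hf2B2
  have hB2card : ((⟨k2, hk2⟩ : G) • B).ncard = B.ncard := Set.ncard_smul_set _ _
  have hdisj : Disjoint ((⟨k1, hk1⟩ : G) • B) ((⟨k2, hk2⟩ : G) • B) := by
    apply hB
    intro h
    apply hf2B
    rw [h]
    exact hf2B2
  have hunion : ((⟨k1, hk1⟩ : G) • B ∪ (⟨k2, hk2⟩ : G) • B).ncard = 4 := by
    rw [Set.ncard_union_eq hdisj (Set.toFinite _) (Set.toFinite _), hB1card, hB2card, hB2]
  have hsub : ((⟨k1, hk1⟩ : G) • B ∪ (⟨k2, hk2⟩ : G) • B) ⊆ F := Set.union_subset hB1F hB2F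
  have := Set.ncard_le_ncard hsub (Set.toFinite F)
  rw [hunion, hFcard] at this
  omega

/-- Degree 8, even permutations. -/
theorem card_of_deg_eight (hβ : Fintype.card β = 8) (G : Subgroup (Perm β))
    (htr : ∀ x y : β, ∃ g ∈ G, g x = y) (hA : G ≤ alternatingGroup β)
    (hns : ¬ Group.IsSolvable G) :
    Nat.card G = 168 ∨ Nat.card G = 1344 ∨ Nat.card G = 20160 := by
  have : Fact (Nat.Prime 5) := ⟨by norm_num⟩
  have : Fact (Nat.Prime 7) := ⟨by norm_num⟩
  have hd := card_perm_dvd G
  rw [hβ] at hd
  by_cases h5 : 5 ∣ Nat.card G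
  · right; right
    obtain ⟨g, hg, hog⟩ := exists_orderOf_eq_prime G 5 h5
    have hcyc : g.IsCycle :=
      Perm.isCycle_of_prime_order' (by rw [hog]; norm_num) (by rw [hog, hβ]; norm_num)
    have hsupp : g.support.card = 5 := by rw [← hcyc.orderOf, hog]
    have hprim := isPreprimitive_of_five_cycle hβ G htr hg hcyc hsupp
    have hAG : alternatingGroup β ≤ G :=
      Cfsg.Agent.S0713.result G hprim (p := 5) (by norm_num) (by rw [hβ]; norm_num)
        (by rw [hβ]) hcyc hsupp hg
    have hGA : G = alternatingGroup β := le_antisymm hA hAG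
    have : Nontrivial β := Fintype.one_lt_card_iff_nontrivial.mp (by rw [hβ]; norm_num)
    rw [hGA, nat_card_alternatingGroup, Nat.card_eq_fintype_card, hβ]
    decide
  · by_cases h7 : 7 ∣ Nat.card G
    · obtain ⟨g, hg, hog⟩ := exists_orderOf_eq_prime G 7 h7
      have hcyc : g.IsCycle :=
        Perm.isCycle_of_prime_order' (by rw [hog]; norm_num) (by rw [hog, hβ]; norm_num)
      have hsupp : g.support.card = 7 := by rw [← hcyc.orderOf, hog]
      have hc1 : (g.supportᶜ).card = 1 := by rw [Finset.card_compl, hβ, hsupp]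
      obtain ⟨b, hb⟩ := Finset.card_eq_one.mp hc1
      have hgb : g b = b := by
        have : b ∈ g.supportᶜ := by rw [hb]; exact Finset.mem_singleton_self b
        rwa [Finset.mem_compl, Perm.mem_support, not_not] at this
      have hmove : ∀ x, x ≠ b → g x ≠ x := by
        intro x hx h
        apply hx
        have : x ∈ g.supportᶜ := by rw [Finset.mem_compl, Perm.mem_support, not_not]; exact h
        rwa [hb, Finset.mem_singleton] at this
      have hT : MulAction.IsPretransitive ↥(stbRes G b).range {x // x ≠ b} := by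
        apply isPretransitive_stbRes
        intro x y hx hy
        obtain ⟨i, hi⟩ := hcyc.exists_pow_eq (hmove x hx) (hmove y hy)
        refine ⟨g ^ i, mem_stb.mpr ⟨G.pow_mem hg i, ?_⟩, hi⟩
        exact Perm.pow_apply_eq_self_of_apply_eq_self hgb i
      have hγ : Fintype.card {x // x ≠ b} = 7 := by rw [card_subtype_ne, hβ]
      have hcard := card_eq_mul_stb G htr b
      rw [hβ, ← card_range_stbRes] at hcard
      rcases card_of_deg_seven hγ (stbRes G b).range (range_stbRes_le_alt G b hA) with
        h | h | ⟨h, -⟩ | h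
      · exfalso
        apply hns
        exact Cfsg.Agent.S3378.solvable_of_card_lt_sixty _ G rfl (by rw [hcard, h]; norm_num)
      · left; rw [hcard, h]
      · right; left; rw [hcard, h]
      · right; right; rw [hcard, h]
    · exfalso
      exact hns (isSolvable_of_card_dvd_factorial (le_refl 8) hd h5 h7)

/-- Degree 6. -/
theorem card_of_deg_six (hβ : Fintype.card β = 6) (G : Subgroup (Perm β))
    (htr : ∀ x y : β, ∃ g ∈ G, g x = y) (hns : ¬ Group.IsSolvable G) :
    Nat.card G = 60 ∨ Nat.card G = 120 ∨ Nat.card G = 360 ∨ Nat.card G = 720 := by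
  have : Fact (Nat.Prime 5) := ⟨by norm_num⟩
  obtain ⟨b⟩ : Nonempty β := by
    rw [← Fintype.card_pos_iff, hβ]; norm_num
  have hd := card_perm_dvd G
  rw [hβ] at hd
  have hγ : Fintype.card {x // x ≠ b} = 5 := by rw [card_subtype_ne, hβ]
  have hcard := card_eq_mul_stb G htr b
  rw [hβ, ← card_range_stbRes] at hcard
  set L := (stbRes G b).range with hL
  by_cases hs : Group.IsSolvable L
  · by_cases h5 : 5 ∣ Nat.card L
    · obtain ⟨k, hk, hok⟩ := exists_orderOf_eq_prime L 5 h5
      have hcyc : k.IsCycle :=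
        Perm.isCycle_of_prime_order' (by rw [hok]; norm_num) (by rw [hok, hγ]; norm_num)
      have hsupp : k.support.card = 5 := by rw [← hcyc.orderOf, hok]
      have hall : ∀ x, k x ≠ x := by
        intro x
        have : k.support = Finset.univ := by
          apply Finset.eq_univ_of_card
          rw [hsupp, hγ]
        rw [← Perm.mem_support, this]
        exact Finset.mem_univ x
      have hT : MulAction.IsPretransitive L {x // x ≠ b} := by
        apply isPretransitive_of
        intro x y
        obtain ⟨i, hi⟩ := hcyc.exists_pow_eq (hall x) (hall y)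
        exact ⟨k ^ i, L.pow_mem hk i, hi⟩
      have h20 := card_dvd_of_isSolvable (p := 5) hγ L hs
      have hle : Nat.card L ≤ 20 := Nat.le_of_dvd (by norm_num) h20
      have h30 : Nat.card G ≠ 30 := by
        intro h
        apply hns
        exact Cfsg.Agent.S3378.solvable_of_card_lt_sixty _ G rfl (by rw [h]; norm_num)
      interval_cases h : Nat.card L <;> omega
    · exfalso
      apply hns
      apply isSolvable_of_card_dvd_factorial (n := 6) (by norm_num) hd
      · rw [hcard]
        intro h
        rcases (Nat.Prime.dvd_mul (by norm_num)).mp h with h | h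
        · omega
        · exact h5 h
      · intro h
        have := h.trans hd
        revert this
        decide
  · rcases card_of_deg_five hγ L hs with h | h
    · right; right; left; rw [hcard, h]
    · right; right; right; rw [hcard, h]

end Cfsg.Agent.Lib.Helper92.SmallDeg
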