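import Mathlib
import Cfsg.Agent.Lib.Helper92.RedBasic
import Cfsg.Agent.Lib.Helper92.SmallDegB
import Cfsg.Agent.Lib.Helper17.SylowCard
import Cfsg.Agent.Lib.Helper61.Simple168
import Cfsg.Agent.Lib.Helper70.FCNonsolvB
import Cfsg.Agent.Lib.Helper5.PSL2Small
import Cfsg.Agent.S0249
import Cfsg.Agent.S0255
import Cfsg.Agent.S0494

/-!
# Identification of the small groups with trivial cores

* a group of order 168 with `O_2 = O_{2'} = 1` is simple, and a simple group of order 168 is
  isomorphic to `GL₃(2)`;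
* a non-solvable group of order 60 is `A₅`;
* a subgroup of order 120 of `S₆` with trivial cores is `S₅`.
-/

set_option autoImplicit false
set_option linter.unusedSectionVars false

namespace Cfsg.Agent.Lib.Helper92.SmallDeg

open Equiv Cfsg.Agent.Lib.Helper92.RedG
open scoped Nat

/-- A group of order 168 with trivial cores is simple. -/
theorem isSimpleGroup_of_red_168 {X : Type*} [Group X] [Finite X] (hR : Red X)
    (hc : Nat.card X = 168) : IsSimpleGroup X := by
  have hnt : Nontrivial X := Finite.one_lt_card_iff_nontrivial.mp (by rw [hc]; norm_num)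
  refine { exists_pair_ne := hnt.exists_pair_ne, eq_bot_or_eq_top_of_normal := fun N hN => ?_ }
  by_contra hcon
  rw [not_or] at hcon
  obtain ⟨hbot, htop⟩ := hcon
  have hRN : Red ↥N := hR.normal N
  have hNnt : Nontrivial N := (Subgroup.nontrivial_iff_ne_bot N).mpr hbot
  have hns : ¬ Group.IsSolvable N := hRN.not_isSolvable
  have h60 : 60 ≤ Nat.card N := by
    by_contra hlt
    exact hns (Cfsg.Agent.S3378.solvable_of_card_lt_sixty _ N rfl (by omega))
  have hdvd : Nat.card N ∣ 168 := hc ▸ Subgroup.card_subgroup_dvd_card N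
  have hne : Nat.card N ≠ 168 := by
    intro h
    exact htop (Subgroup.eq_top_of_card_eq N (by rw [h, hc]))
  have h84 : Nat.card N = 84 := by
    have hle : Nat.card N ≤ 168 := Nat.le_of_dvd (by norm_num) hdvd
    interval_cases h : Nat.card N <;> omega
  have : Fact (Nat.Prime 7) := ⟨by norm_num⟩
  have h84' : Nat.card N = 7 ^ 1 * 12 := by rw [h84]; norm_num
  have hd12 : Nat.card (Sylow 7 N) ∣ 12 :=
    Cfsg.Agent.Lib.Helper17.card_sylow_dvd_of_card_eq h84' (by norm_num)
  have hmod : Nat.card (Sylow 7 N) ≡ 1 [MOD 7] := card_sylow_modEq_one 7 N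
  have hone : Nat.card (Sylow 7 N) = 1 := by
    have hle : Nat.card (Sylow 7 N) ≤ 12 := Nat.le_of_dvd (by norm_num) hd12
    unfold Nat.ModEq at hmod
    interval_cases h : Nat.card (Sylow 7 N) <;> omega
  obtain ⟨P⟩ : Nonempty (Sylow 7 N) := inferInstance
  have hPn := Cfsg.Agent.Lib.Helper17.sylow_normal_of_card_eq_one hone P
  have hPcard := Cfsg.Agent.Lib.Helper17.sylow_card_of_card_eq P h84' (by norm_num)
  have hPbot := hRN.eq_bot_of_isPGroup hPn (by norm_num : Nat.Prime 7) P.isPGroup'
  rw [hPbot, Subgroup.card_bot] at hPcard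
  omega

theorem units_zmod_two' (u : (ZMod 2)ˣ) : u = 1 := by
  revert u; decide

/-- `GL₃(𝔽₂) → SL₃(𝔽₂)` -/
noncomputable def glToSl3 :
    GL (Fin 3) (ZMod 2) →* Matrix.SpecialLinearGroup (Fin 3) (ZMod 2) where
  toFun g := ⟨(g : Matrix (Fin 3) (Fin 3) (ZMod 2)), by
    have h := units_zmod_two' (Matrix.GeneralLinearGroup.det g)
    have h2 := congrArg Units.val h
    simpa using h2⟩
  map_one' := by ext; simp
  map_mul' a b := by
    apply Subtype.ext
    rfl

theorem glToSl3_surjective : Function.Surjective glToSl3 := by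
  intro s
  refine ⟨Matrix.SpecialLinearGroup.toGL s, ?_⟩
  apply Subtype.ext
  rfl

theorem card_GL32' : Nat.card (GL (Fin 3) (ZMod 2)) = 168 := by
  rw [Matrix.card_GL_field, Fin.prod_univ_three, ZMod.card]
  norm_num

/-- `GL₃(2) ≃* PSL₃(2)` -/
theorem nonempty_gl32_equiv_psl32 :
    Nonempty (GL (Fin 3) (ZMod 2) ≃* Matrix.ProjectiveSpecialLinearGroup (Fin 3) (ZMod 2)) := by
  let π : Matrix.SpecialLinearGroup (Fin 3) (ZMod 2) →*
      Matrix.ProjectiveSpecialLinearGroup (Fin 3) (ZMod 2) := QuotientGroup.mk' _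
  have hπ : Function.Surjective π := QuotientGroup.mk'_surjective _
  have hs : Function.Surjective (π.comp glToSl3) := hπ.comp glToSl3_surjective
  have hc : Nat.card (GL (Fin 3) (ZMod 2)) =
      Nat.card (Matrix.ProjectiveSpecialLinearGroup (Fin 3) (ZMod 2)) := by
    rw [card_GL32', Cfsg.Agent.S0255.card_psl32 (K := ZMod 2) (ZMod.card 2)]
  have hb : Function.Bijective (π.comp glToSl3) :=
    (Nat.bijective_iff_surjective_and_card _).mpr ⟨hs, hc⟩
  exact ⟨MulEquiv.ofBijective _ hb⟩

/-- A simple group of order 168 is isomorphic to `GL₃(2)`. -/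
theorem nonempty_equiv_gl32 {X : Type*} [Group X] [Finite X] [IsSimpleGroup X]
    (hc : Nat.card X = 168) : Nonempty (X ≃* GL (Fin 3) (ZMod 2)) := by
  have hs : IsSimpleGroup (Matrix.ProjectiveSpecialLinearGroup (Fin 3) (ZMod 2)) :=
    Cfsg.Agent.S0249.result 3 le_rfl
  obtain ⟨e1⟩ := Cfsg.Agent.Lib.Helper61.iso_of_simple_168 hc
    (Cfsg.Agent.S0255.card_psl32 (K := ZMod 2) (ZMod.card 2))
  obtain ⟨e2⟩ := nonempty_gl32_equiv_psl32
  exact ⟨e1.trans e2.symm⟩

/-- A non-solvable group of order 60 is `A₅`. -/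
theorem nonempty_equiv_alt5 {X : Type*} [Group X] [Finite X] (hc : Nat.card X = 60)
    (hns : ¬ Group.IsSolvable X) : Nonempty (X ≃* alternatingGroup (Fin 5)) := by
  have := Cfsg.Agent.S3378.simple_of_card_sixty X hc hns
  exact Cfsg.Agent.S0494.result hc

variable {β : Type*} [Fintype β] [DecidableEq β]

/-- A subgroup of order 120 of `S₆` with trivial cores is `S₅`. -/
theorem nonempty_equiv_perm5 (hβ : Fintype.card β = 6) (G : Subgroup (Perm β)) (hR : Red G)
    (hc : Nat.card G = 120) : Nonempty (G ≃* Perm (Fin 5)) := by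
  have hnt : Nontrivial G := Finite.one_lt_card_iff_nontrivial.mp (by rw [hc]; norm_num)
  have hns : ¬ Group.IsSolvable G := hR.not_isSolvable
  let s : G →* ℤˣ := Perm.sign.comp G.subtype
  have hidx : s.ker.index ∣ 2 := by
    rw [Subgroup.index_ker]
    have := Subgroup.card_subgroup_dvd_card s.range
    simpa using this
  have hmul := Subgroup.card_mul_index s.ker
  rw [hc] at hmul
  have hD60 : Nat.card s.ker = 60 := by
    rcases (Nat.dvd_prime Nat.prime_two).mp hidx with h1 | h2
    · exfalso
      -- `G ≤ A₆` has index 3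
      have hGA : G ≤ alternatingGroup β := by
        intro g hg
        have : (⟨g, hg⟩ : G) ∈ s.ker := by
          rw [Subgroup.index_eq_one.mp h1]; trivial
        rw [MonoidHom.mem_ker] at this
        exact Perm.mem_alternatingGroup.mpr this
      have h5 : 5 ≤ Nat.card β := by rw [Nat.card_eq_fintype_card, hβ]; norm_num
      have hsimp : IsSimpleGroup (alternatingGroup β) := alternatingGroup.isSimpleGroup h5
      have : Nontrivial β := Fintype.one_lt_card_iff_nontrivial.mp (by rw [hβ]; norm_num)
      have hA : Nat.card (alternatingGroup β) = 360 := by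
        rw [nat_card_alternatingGroup, Nat.card_eq_fintype_card, hβ]
        decide
      have hG' : Nat.card (G.subgroupOf (alternatingGroup β)) = 120 := by
        rw [Nat.card_congr (Subgroup.subgroupOfEquivOfLe hGA).toEquiv, hc]
      have hne : G.subgroupOf (alternatingGroup β) ≠ ⊤ := by
        intro h
        rw [h, Subgroup.card_top, hA] at hG'
        omega
      have hdv := card_dvd_factorial_index (G.subgroupOf (alternatingGroup β)) hne
      have hi := Subgroup.card_mul_index (G.subgroupOf (alternatingGroup β))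
      rw [hG', hA] at hi
      have hi3 : (G.subgroupOf (alternatingGroup β)).index = 3 := by omega
      rw [hi3, hA] at hdv
      revert hdv
      decide
    · rw [h2] at hmul
      omega
  have hDns : ¬ Group.IsSolvable s.ker := by
    intro hD
    apply hns
    exact Group.isSolvable_of_ker_le_range s.ker.subtype s (by rw [Subgroup.range_subtype])
  obtain ⟨ρ, hρ⟩ := Cfsg.Agent.Lib.Helper70.FC.exists_hom_perm_five s.ker hD60 hDns
  -- the kernel of `ρ` has order at most 2
  have hinjs : Function.Injective (s.comp ρ.ker.subtype) := by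
    rw [← MonoidHom.ker_eq_bot_iff, eq_bot_iff]
    intro a ha
    rw [MonoidHom.mem_ker, MonoidHom.comp_apply] at ha
    have h1 : (a : G) ∈ ρ.ker ⊓ s.ker := ⟨a.2, ha⟩
    rw [hρ, Subgroup.mem_bot] at h1
    rw [Subgroup.mem_bot]
    exact Subtype.ext h1
  have hker2 : Nat.card ρ.ker ∣ 2 := by
    have h1 : Nat.card ρ.ker = Nat.card (s.comp ρ.ker.subtype).range :=
      (Nat.card_range_of_injective hinjs).symm
    rw [h1]
    have := Subgroup.card_subgroup_dvd_card (s.comp ρ.ker.subtype).range
    simpa using this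
  have hkerbot : ρ.ker = ⊥ := by
    apply hR.eq_bot_of_two (ρ.normal_ker)
    have : Fact (Nat.Prime 2) := ⟨Nat.prime_two⟩
    rcases (Nat.dvd_prime Nat.prime_two).mp hker2 with h | h
    · exact IsPGroup.of_card (n := 0) (by rw [h, pow_zero])
    · exact IsPGroup.of_card (n := 1) (by rw [h, pow_one])
  have hinj : Function.Injective ρ := (MonoidHom.ker_eq_bot_iff ρ).mp hkerbot
  exact Cfsg.Agent.Lib.Helper5.nonempty_mulEquiv_perm_of_injective ρ hinj (by rw [hc]; decide)

end Cfsg.Agent.Lib.Helper92.SmallDeg
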