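import Mathlib
import Cfsg.Agent.Lib.Helper92.SmallDegC
import Cfsg.Agent.Lib.Helper72.PermSolvable

/-!
# Subgroups of `A₈` with trivial cores

A nontrivial subgroup `K` of the group of even permutations of `Fin 8` with
`O_2(K) = O_{2'}(K) = 1` is isomorphic to `A₅, A₆, A₇, A₈, S₅, S₆, GL₃(2)`, or has order `1344`.
-/

set_option autoImplicit false
set_option linter.unusedSectionVars false

namespace Cfsg.Agent.Lib.Helper92.SmallDeg

open Equiv Cfsg.Agent.Lib.Helper92.RedG Cfsg.Agent.Lib.Helper92.PermCount
  Cfsg.Agent.Lib.Helper92.PermRes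
open scoped Nat

variable {α : Type*} [Fintype α] [DecidableEq α]

theorem orb_apply_eq {K : Subgroup (Perm α)} {σ : Perm α} (hσ : σ ∈ K) (x : α) :
    orb K (σ x) = orb K x := by
  ext q
  rw [mem_orb, mem_orb]
  constructor
  · rintro ⟨j, hj, rfl⟩
    exact ⟨j * σ, K.mul_mem hj hσ, rfl⟩
  · rintro ⟨j, hj, rfl⟩
    refine ⟨j * σ⁻¹, K.mul_mem hj (K.inv_mem hσ), ?_⟩
    simp

/-- If all orbits have at most 4 points the group is solvable. -/
theorem isSolvable_of_orb_le_four (K : Subgroup (Perm α)) (h : ∀ x, (orb K x).card ≤ 4) :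
    Group.IsSolvable K := by
  apply Cfsg.Agent.Lib.Helper72.isSolvable_of_preserves_coloring (fun x => orb K x)
  · intro y
    by_cases hy : (Finset.univ.filter (fun x => orb K x = y)) = ∅
    · rw [hy]; simp
    · obtain ⟨x, hx⟩ := Finset.nonempty_iff_ne_empty.mpr hy
      rw [Finset.mem_filter] at hx
      have hsub : (Finset.univ.filter (fun x => orb K x = y)) ⊆ y := by
        intro x' hx'
        rw [Finset.mem_filter] at hx'
        rw [← hx'.2]
        exact self_mem_orb K x'
      calc _ ≤ y.card := Finset.card_le_card hsub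
        _ = (orb K x).card := by rw [hx.2]
        _ ≤ 4 := h x
  · intro σ hσ x
    exact orb_apply_eq hσ x

/-- The kernel of the action on an invariant set whose complement has at most 4 points is
solvable. -/
theorem isSolvable_ker_resHom (K : Subgroup (Perm α)) (O : Finset α)
    (hp : ∀ g ∈ K, ∀ x, g x ∈ O ↔ x ∈ O) (hO : (Oᶜ).card ≤ 4) :
    Group.IsSolvable (resHom K (· ∈ O) hp).ker := by
  let M : Subgroup (Perm α) := ((resHom K (· ∈ O) hp).ker).map K.subtype
  have hM : Group.IsSolvable M := by
    apply Cfsg.Agent.Lib.Helper72.isSolvable_of_preserves_coloring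
      (fun x => if x ∈ O then some x else none)
    · intro y
      cases y with
      | none =>
        refine le_trans (Finset.card_le_card ?_) hO
        intro x hx
        rw [Finset.mem_filter] at hx
        rw [Finset.mem_compl]
        intro hxO
        rw [if_pos hxO] at hx
        exact absurd hx.2 (by simp)
      | some z =>
        refine le_trans (Finset.card_le_card (t := {z}) ?_) (by simp)
        intro x hx
        rw [Finset.mem_filter] at hx
        rw [Finset.mem_singleton]
        by_cases hxO : x ∈ O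
        · rw [if_pos hxO] at hx
          exact Option.some.inj hx.2
        · rw [if_neg hxO] at hx
          exact absurd hx.2 (by simp)
    · rintro σ ⟨g, hg, rfl⟩ x
      have hfix := (mem_ker_resHom K (· ∈ O) hp g).mp hg
      by_cases hxO : x ∈ O
      · rw [Subgroup.subtype_apply, hfix x hxO]
      · have : (g : Perm α) x ∉ O := fun h => hxO ((hp g.1 g.2 x).mp h)
        rw [Subgroup.subtype_apply, if_neg this, if_neg hxO]
  exact Group.isSolvable_of_isSolvable_injective
    (f := ((resHom K (· ∈ O) hp).ker.equivMapOfInjective K.subtype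
      K.subtype_injective).toMonoidHom)
    ((resHom K (· ∈ O) hp).ker.equivMapOfInjective K.subtype K.subtype_injective).injective

/-- Transport of a faithful permutation representation on a type of cardinality `n` to `Fin n`. -/
theorem exists_injective_hom_fin {β : Type*} [Fintype β] [DecidableEq β] {n : ℕ}
    (hβ : Fintype.card β = n) (G : Subgroup (Perm β)) :
    ∃ f : G →* Perm (Fin n), Function.Injective f := by
  let e := Fintype.equivFinOfCardEq hβ
  exact ⟨e.permCongrHom.toMonoidHom.comp G.subtype,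
    e.permCongrHom.injective.comp G.subtype_injective⟩

/-- `sign_resHom` for an arbitrary `Fintype` instance on the subtype. -/
theorem sign_resHom' (K : Subgroup (Perm α)) (p : α → Prop) [inst : Fintype (Subtype p)]
    (hp : ∀ g ∈ K, ∀ x, p (g x) ↔ p x) (g : ↥K) (h₂ : ∀ x, (g : Perm α) x ≠ x → p x) :
    Perm.sign (resHom K p hp g) = Perm.sign (g : Perm α) := by
  classical
  have h := sign_resHom K p hp g h₂
  have hi : inst = Subtype.fintype p := Subsingleton.elim _ _
  subst hi
  convert h

/-- **Subgroups of `A₈` with trivial cores.** -/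
theorem main_perm (K : Subgroup (Perm (Fin 8))) (hA : K ≤ alternatingGroup (Fin 8))
    (hR : Red K) (hnt : Nontrivial K) :
    (∃ n : ℕ, 5 ≤ n ∧ n ≤ 8 ∧ Nonempty (K ≃* alternatingGroup (Fin n))) ∨
      Nonempty (K ≃* Perm (Fin 5)) ∨ Nonempty (K ≃* Perm (Fin 6)) ∨
      Nonempty (K ≃* GL (Fin 3) (ZMod 2)) ∨ Nat.card K = 1344 := by
  have hKns : ¬ Group.IsSolvable K := hR.not_isSolvable
  -- a large orbit
  obtain ⟨x0, hx0⟩ : ∃ x0, 5 ≤ (orb K x0).card := by
    by_contra hcon
    push Not at hcon
    exact hKns (isSolvable_of_orb_le_four K (fun x => by have := hcon x; omega))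
  set O := orb K x0 with hO
  have hp : ∀ g ∈ K, ∀ x, g x ∈ O ↔ x ∈ O := fun g hg x => apply_mem_orb_iff hg x
  have hOle : O.card ≤ 8 := by
    have := Finset.card_le_univ O
    simpa using this
  have hOc : (Oᶜ).card ≤ 4 := by
    rw [Finset.card_compl, Fintype.card_fin]
    omega
  have hinj : Function.Injective (resHom K (· ∈ O) hp) :=
    hR.ker_eq_bot_of_isSolvable _ (isSolvable_ker_resHom K O hp hOc)
  set G := (resHom K (· ∈ O) hp).range with hG
  let e : K ≃* G := MonoidHom.ofInjective hinj
  have hRG : Red G := hR.of_mulEquiv e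
  have hGnt : Nontrivial G := e.symm.toEquiv.nontrivial
  have hGns : ¬ Group.IsSolvable G := hRG.not_isSolvable
  have hcardKG : Nat.card K = Nat.card G := Nat.card_congr e.toEquiv
  have htr0 : ∀ x y, x ∈ O → y ∈ O → ∃ g ∈ K, g x = y := by
    intro x y hx hy
    obtain ⟨j1, hj1, rfl⟩ := mem_orb.mp hx
    obtain ⟨j2, hj2, rfl⟩ := mem_orb.mp hy
    refine ⟨j2 * j1⁻¹, K.mul_mem hj2 (K.inv_mem hj1), ?_⟩
    simp
  have hT : MulAction.IsPretransitive G {x // x ∈ O} :=
    isPretransitive_range K (· ∈ O) hp htr0
  have htr : ∀ x y : {x // x ∈ O}, ∃ g ∈ G, g x = y := exists_of_isPretransitive G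
  have hβ : Fintype.card {x // x ∈ O} = O.card := Fintype.card_coe O
  -- parity for large orbits
  have hpar : 7 ≤ O.card → G ≤ alternatingGroup {x // x ∈ O} := by
    intro h7
    rintro _ ⟨g, rfl⟩
    rw [Perm.mem_alternatingGroup, sign_resHom']
    · exact Perm.mem_alternatingGroup.mp (hA g.2)
    · intro x hx
      by_contra hxO
      have h1 : (Oᶜ).card ≤ 1 := by
        rw [Finset.card_compl, Fintype.card_fin]
        omega
      have hx1 : x ∈ Oᶜ := Finset.mem_compl.mpr hxO
      have hx2 : (g : Perm (Fin 8)) x ∈ Oᶜ :=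
        Finset.mem_compl.mpr (fun h => hxO ((hp g.1 g.2 x).mp h))
      exact hx (Finset.card_le_one.mp h1 _ hx2 _ hx1)
  -- the four degrees
  obtain ⟨n, hn⟩ : ∃ n, O.card = n := ⟨_, rfl⟩
  rw [hn] at hβ hx0 hOle hpar
  obtain ⟨f, hf⟩ := exists_injective_hom_fin hβ G
  have hfin : ∀ m : ℕ, n = m → 2 ≤ m → 2 * Nat.card G = m ! →
      Nonempty (K ≃* alternatingGroup (Fin m)) := by
    rintro m rfl hm hc
    obtain ⟨e2⟩ := Cfsg.Agent.Lib.Helper5.nonempty_mulEquiv_alternatingGroup_of_injective hm f hf hc
    exact ⟨e.trans e2⟩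
  have hfinS : ∀ m : ℕ, n = m → Nat.card G = m ! → Nonempty (K ≃* Perm (Fin m)) := by
    rintro m rfl hc
    obtain ⟨e2⟩ := Cfsg.Agent.Lib.Helper5.nonempty_mulEquiv_perm_of_injective f hf hc
    exact ⟨e.trans e2⟩
  have h168 : Nat.card G = 168 → Nonempty (K ≃* GL (Fin 3) (ZMod 2)) := by
    intro hc
    have := isSimpleGroup_of_red_168 hRG hc
    obtain ⟨e2⟩ := nonempty_equiv_gl32 (X := G) hc
    exact ⟨e.trans e2⟩
  have hlt : ∀ m, Nat.card G = m → m < 60 → False := by
    intro m hm hlt
    exact hGns (Cfsg.Agent.S3378.solvable_of_card_lt_sixty _ G hm hlt)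
  interval_cases n
  · -- degree 5
    rcases card_of_deg_five hβ G hGns with h | h
    · left
      exact ⟨5, le_refl 5, by norm_num, hfin 5 rfl (by norm_num) (by rw [h]; decide)⟩
    · right; left
      exact hfinS 5 rfl (by rw [h]; decide)
  · -- degree 6
    rcases card_of_deg_six hβ G htr hGns with h | h | h | h
    · left
      obtain ⟨e2⟩ := nonempty_equiv_alt5 (X := G) h hGns
      exact ⟨5, le_refl 5, by norm_num, ⟨e.trans e2⟩⟩
    · right; left
      obtain ⟨e2⟩ := nonempty_equiv_perm5 hβ G hRG h
      exact ⟨e.trans e2⟩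
    · left
      exact ⟨6, by norm_num, by norm_num, hfin 6 rfl (by norm_num) (by rw [h]; decide)⟩
    · right; right; left
      exact hfinS 6 rfl (by rw [h]; decide)
  · -- degree 7
    rcases card_of_deg_seven hβ G (hpar (le_refl 7)) with h | h | ⟨h, -⟩ | h
    · exact (hlt 7 h (by norm_num)).elim
    · exact (hlt 21 h (by norm_num)).elim
    · right; right; right; left
      exact h168 h
    · left
      exact ⟨7, by norm_num, by norm_num, hfin 7 rfl (by norm_num) (by rw [h]; decide)⟩
  · -- degree 8
    rcases card_of_deg_eight hβ G htr (hpar (by norm_num)) hGns with h | h | h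
    · right; right; right; left
      exact h168 h
    · right; right; right; right
      rw [hcardKG, h]
    · left
      exact ⟨8, by norm_num, le_refl 8, hfin 8 rfl (by norm_num) (by rw [h]; decide)⟩

end Cfsg.Agent.Lib.Helper92.SmallDeg
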