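import Cfsg.Agent.Lib.Helper92.M24Words
import Cfsg.Agent.Lib.Helper7.M24SLP

/-!
# Data for a common Sylow 2-subgroup of `M22` and `M23`

Three involutions (as words in the generators of `M24`) generating a group of order 128 fixing
`∞` and `0`, the 128 tables of its elements with the left multiplication tables of the generators
and a spanning tree, an element of order 3 preserving the orbits of sizes 1, 1, 2, 4 of this group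
that does not normalize it, and elements of `M22` preserving the octad `{∞,0,1,2,6,7,19,21}` and
fixing `3` that move every other outside point to `4`.  All checks are kernel computations.
-/

set_option autoImplicit false

namespace Cfsg.Agent.Lib.Helper92.SylM22
open Cfsg.Agent.Lib.Helper7 Cfsg.Agent.Lib.Helper92

/-- Words of the three generating involutions. -/
def gW : List (List ℕ) := [
  [4, 1, 4, 1, 4, 1],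
  [0, 3, 1, 3, 0, 3, 0, 3, 0, 0, 4, 1],
  [0, 0, 2, 3, 0, 3, 1, 3, 1, 1, 3, 2, 1]]

/-- The tables of the 128 elements. -/
def sT : List (List ℕ) := [
  [0, 1, 2, 3, 4, 5, 6, 7, 8, 9, 10, 11, 12, 13, 14, 15, 16, 17, 18, 19, 20, 21, 22, 23],
  [0, 1, 2, 4, 3, 16, 6, 7, 9, 8, 12, 20, 10, 17, 22, 18, 5, 13, 15, 19, 11, 21, 14, 23],
  [0, 1, 6, 3, 18, 13, 2, 19, 17, 11, 14, 9, 12, 5, 10, 15, 20, 8, 4, 7, 16, 21, 22, 23],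
  [0, 2, 1, 12, 4, 18, 21, 7, 17, 9, 10, 14, 3, 13, 11, 20, 22, 8, 5, 19, 15, 6, 16, 23],
  [0, 1, 6, 18, 3, 20, 2, 19, 11, 17, 12, 16, 14, 8, 22, 4, 13, 5, 15, 7, 9, 21, 10, 23],
  [0, 2, 1, 4, 12, 22, 21, 7, 9, 17, 3, 15, 10, 8, 16, 5, 18, 13, 20, 19, 14, 6, 11, 23],
  [0, 1, 6, 4, 15, 17, 2, 19, 13, 20, 22, 8, 10, 16, 12, 18, 11, 9, 3, 7, 5, 21, 14, 23],
  [0, 2, 21, 12, 5, 13, 1, 19, 8, 14, 11, 9, 3, 18, 10, 20, 15, 17, 4, 7, 22, 6, 16, 23],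
  [0, 2, 1, 10, 3, 15, 21, 7, 13, 8, 12, 22, 4, 17, 20, 11, 14, 9, 16, 19, 18, 6, 5, 23],
  [0, 6, 1, 12, 18, 4, 21, 19, 8, 11, 14, 10, 3, 5, 9, 16, 22, 17, 13, 7, 15, 2, 20, 23],
  [0, 1, 6, 15, 4, 11, 2, 19, 20, 13, 10, 5, 22, 9, 14, 3, 17, 16, 18, 7, 8, 21, 12, 23],
  [0, 2, 21, 5, 12, 15, 1, 19, 14, 8, 3, 22, 11, 17, 16, 4, 13, 18, 20, 7, 9, 6, 10, 23],
  [0, 2, 1, 3, 10, 14, 21, 7, 8, 13, 4, 18, 12, 9, 5, 16, 15, 17, 11, 19, 22, 6, 20, 23],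
  [0, 6, 1, 18, 12, 22, 21, 19, 11, 8, 3, 15, 14, 17, 20, 13, 4, 5, 16, 7, 10, 2, 9, 23],
  [0, 1, 2, 18, 15, 8, 6, 7, 5, 16, 22, 17, 14, 20, 12, 4, 9, 11, 3, 19, 13, 21, 10, 23],
  [0, 2, 21, 4, 20, 8, 1, 19, 13, 15, 16, 17, 10, 22, 3, 5, 14, 9, 12, 7, 18, 6, 11, 23],
  [0, 2, 21, 10, 16, 17, 1, 19, 9, 22, 20, 8, 4, 15, 12, 11, 18, 13, 3, 7, 14, 6, 5, 23],
  [0, 6, 21, 12, 13, 5, 1, 7, 17, 10, 9, 11, 3, 4, 14, 16, 15, 8, 18, 19, 22, 2, 20, 23],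
  [0, 6, 1, 14, 3, 15, 21, 19, 5, 17, 12, 22, 18, 8, 16, 9, 10, 11, 20, 7, 4, 2, 13, 23],
  [0, 1, 2, 10, 12, 20, 6, 7, 13, 17, 3, 16, 4, 8, 15, 14, 11, 9, 22, 19, 5, 21, 18, 23],
  [0, 6, 1, 10, 15, 3, 21, 19, 9, 20, 22, 12, 4, 16, 8, 5, 14, 13, 17, 7, 18, 2, 11, 23],
  [0, 21, 2, 3, 5, 4, 6, 19, 17, 14, 11, 10, 12, 18, 9, 22, 16, 8, 13, 7, 20, 1, 15, 23],
  [0, 1, 2, 15, 18, 9, 6, 7, 16, 5, 14, 13, 22, 11, 10, 3, 8, 20, 4, 19, 17, 21, 12, 23],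
  [0, 2, 21, 20, 4, 14, 1, 19, 15, 13, 10, 18, 16, 9, 11, 12, 8, 22, 5, 7, 17, 6, 3, 23],
  [0, 2, 21, 16, 10, 18, 1, 19, 22, 9, 4, 14, 20, 13, 5, 3, 17, 15, 11, 7, 8, 6, 12, 23],
  [0, 6, 21, 13, 12, 15, 1, 7, 10, 17, 3, 22, 9, 8, 20, 18, 5, 4, 16, 19, 11, 2, 14, 23],
  [0, 6, 1, 3, 14, 10, 21, 19, 17, 5, 18, 4, 12, 11, 13, 20, 15, 8, 9, 7, 22, 2, 16, 23],
  [0, 1, 2, 12, 10, 11, 6, 7, 17, 13, 4, 5, 3, 9, 18, 22, 20, 8, 14, 19, 16, 21, 15, 23],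
  [0, 6, 1, 15, 10, 14, 21, 19, 20, 9, 4, 18, 22, 13, 11, 17, 3, 16, 5, 7, 12, 2, 8, 23],
  [0, 21, 2, 5, 3, 16, 6, 19, 14, 17, 12, 20, 11, 8, 15, 13, 4, 18, 22, 7, 10, 1, 9, 23],
  [0, 2, 1, 5, 20, 17, 21, 7, 18, 22, 16, 8, 11, 15, 3, 4, 9, 14, 12, 19, 13, 6, 10, 23],
  [0, 2, 21, 3, 11, 9, 1, 19, 17, 18, 5, 13, 12, 14, 4, 16, 22, 8, 10, 7, 15, 6, 20, 23],
  [0, 6, 21, 18, 16, 17, 1, 7, 5, 15, 20, 8, 14, 22, 3, 13, 10, 11, 12, 19, 4, 2, 9, 23],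
  [0, 6, 21, 14, 20, 8, 1, 7, 11, 22, 16, 17, 18, 15, 12, 9, 4, 5, 3, 19, 10, 2, 13, 23],
  [0, 1, 6, 10, 22, 8, 2, 19, 9, 16, 15, 17, 4, 20, 3, 14, 5, 13, 12, 7, 11, 21, 18, 23],
  [0, 6, 21, 10, 17, 16, 1, 7, 13, 12, 8, 20, 4, 3, 22, 5, 18, 9, 15, 19, 14, 2, 11, 23],
  [0, 21, 6, 3, 13, 18, 2, 7, 8, 10, 9, 14, 12, 4, 11, 22, 20, 17, 5, 19, 16, 1, 15, 23],
  [0, 6, 1, 22, 4, 18, 21, 19, 16, 13, 10, 14, 15, 9, 5, 8, 12, 20, 11, 7, 3, 2, 17, 23],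
  [0, 21, 2, 11, 12, 20, 6, 19, 18, 8, 3, 16, 5, 17, 22, 9, 10, 14, 15, 7, 4, 1, 13, 23],
  [0, 1, 6, 14, 12, 16, 2, 19, 5, 8, 3, 20, 18, 17, 15, 10, 9, 11, 22, 7, 13, 21, 4, 23],
  [0, 2, 1, 14, 15, 3, 21, 7, 11, 16, 22, 12, 18, 20, 17, 13, 10, 5, 8, 19, 4, 6, 9, 23],
  [0, 21, 2, 10, 20, 12, 6, 19, 9, 15, 16, 3, 4, 22, 17, 18, 11, 13, 8, 7, 5, 1, 14, 23],
  [0, 21, 2, 4, 16, 3, 6, 19, 13, 22, 20, 12, 10, 15, 8, 14, 5, 9, 17, 7, 11, 1, 18, 23],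
  [0, 2, 1, 20, 5, 9, 21, 7, 22, 18, 11, 13, 16, 14, 10, 12, 17, 15, 4, 19, 8, 6, 3, 23],
  [0, 2, 21, 11, 3, 22, 1, 19, 18, 17, 12, 15, 5, 8, 20, 10, 9, 14, 16, 7, 13, 6, 4, 23],
  [0, 6, 21, 16, 18, 10, 1, 7, 15, 5, 14, 4, 20, 11, 9, 12, 17, 22, 13, 19, 8, 2, 3, 23],
  [0, 6, 21, 20, 14, 4, 1, 7, 22, 11, 18, 10, 16, 5, 13, 3, 8, 15, 9, 19, 17, 2, 12, 23],
  [0, 1, 6, 22, 10, 5, 2, 19, 16, 9, 4, 11, 15, 13, 18, 12, 8, 20, 14, 7, 17, 21, 3, 23],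
  [0, 6, 21, 17, 10, 18, 1, 7, 12, 13, 4, 14, 8, 9, 11, 15, 16, 3, 5, 19, 20, 2, 22, 23],
  [0, 21, 6, 13, 3, 20, 2, 7, 10, 8, 12, 16, 9, 17, 15, 5, 18, 4, 22, 19, 14, 1, 11, 23],
  [0, 6, 1, 4, 22, 12, 21, 19, 13, 16, 15, 3, 10, 20, 17, 11, 18, 9, 8, 7, 14, 2, 5, 23],
  [0, 21, 2, 12, 11, 10, 6, 19, 8, 18, 5, 4, 3, 14, 13, 15, 20, 17, 9, 7, 16, 1, 22, 23],
  [0, 1, 6, 12, 14, 9, 2, 19, 8, 5, 18, 13, 3, 11, 4, 22, 16, 17, 10, 7, 20, 21, 15, 23],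
  [0, 2, 1, 15, 14, 10, 21, 7, 16, 11, 18, 4, 22, 5, 9, 8, 3, 20, 13, 19, 12, 6, 17, 23],
  [0, 21, 2, 20, 10, 11, 6, 19, 15, 9, 4, 5, 16, 13, 14, 8, 12, 22, 18, 7, 3, 1, 17, 23],
  [0, 21, 2, 16, 4, 5, 6, 19, 22, 13, 10, 11, 20, 9, 18, 17, 3, 15, 14, 7, 12, 1, 8, 23],
  [0, 2, 1, 16, 11, 13, 21, 7, 15, 14, 5, 9, 20, 18, 4, 3, 8, 22, 10, 19, 17, 6, 12, 23],
  [0, 6, 1, 13, 16, 8, 21, 19, 4, 22, 20, 17, 9, 15, 3, 18, 11, 10, 12, 7, 5, 2, 14, 23],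
  [0, 6, 21, 3, 9, 11, 1, 7, 8, 4, 13, 5, 12, 10, 18, 20, 22, 17, 14, 19, 15, 2, 16, 23],
  [0, 6, 21, 15, 5, 13, 1, 7, 16, 18, 11, 9, 22, 14, 4, 17, 12, 20, 10, 19, 3, 2, 8, 23],
  [0, 21, 6, 5, 22, 8, 2, 7, 18, 20, 15, 17, 11, 16, 12, 13, 10, 14, 3, 19, 4, 1, 9, 23],
  [0, 6, 21, 22, 11, 9, 1, 7, 20, 14, 5, 13, 15, 18, 10, 8, 3, 16, 4, 19, 12, 2, 17, 23],
  [0, 21, 6, 11, 15, 17, 2, 7, 14, 16, 22, 8, 5, 20, 3, 9, 4, 18, 12, 19, 10, 1, 13, 23],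
  [0, 1, 2, 14, 22, 17, 6, 7, 11, 20, 15, 8, 18, 16, 3, 10, 13, 5, 12, 19, 9, 21, 4, 23],
  [0, 2, 21, 14, 8, 20, 1, 19, 5, 12, 17, 16, 18, 3, 22, 13, 4, 11, 15, 7, 10, 6, 9, 23],
  [0, 21, 6, 10, 8, 22, 2, 7, 13, 3, 17, 15, 4, 12, 16, 18, 5, 9, 20, 19, 11, 1, 14, 23],
  [0, 21, 6, 4, 17, 15, 2, 7, 9, 12, 8, 22, 10, 3, 20, 14, 11, 13, 16, 19, 5, 1, 18, 23],
  [0, 2, 1, 22, 18, 4, 21, 7, 20, 5, 14, 10, 15, 11, 13, 17, 12, 16, 9, 19, 3, 6, 8, 23],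
  [0, 21, 6, 9, 12, 16, 2, 7, 4, 17, 3, 20, 13, 8, 22, 11, 14, 10, 15, 19, 18, 1, 5, 23],
  [0, 1, 2, 11, 20, 12, 6, 7, 14, 22, 16, 3, 5, 15, 8, 13, 10, 18, 17, 19, 4, 21, 9, 23],
  [0, 21, 6, 14, 16, 12, 2, 7, 11, 15, 20, 3, 18, 22, 8, 4, 9, 5, 17, 19, 13, 1, 10, 23],
  [0, 21, 6, 18, 20, 3, 2, 7, 5, 22, 16, 12, 14, 15, 17, 10, 13, 11, 8, 19, 9, 1, 4, 23],
  [0, 2, 1, 11, 16, 8, 21, 7, 14, 15, 20, 17, 5, 22, 12, 10, 13, 18, 3, 19, 9, 6, 4, 23],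
  [0, 6, 1, 16, 13, 11, 21, 19, 22, 4, 9, 5, 20, 10, 14, 12, 8, 15, 18, 7, 17, 2, 3, 23],
  [0, 6, 21, 9, 3, 22, 1, 7, 4, 8, 12, 15, 13, 17, 16, 14, 11, 10, 20, 19, 5, 2, 18, 23],
  [0, 6, 21, 5, 15, 12, 1, 7, 18, 16, 22, 3, 11, 20, 8, 10, 13, 14, 17, 19, 9, 2, 4, 23],
  [0, 21, 6, 22, 5, 10, 2, 7, 20, 18, 11, 4, 15, 14, 9, 3, 8, 16, 13, 19, 17, 1, 12, 23],
  [0, 6, 21, 11, 22, 3, 1, 7, 14, 20, 15, 12, 5, 16, 17, 4, 9, 18, 8, 19, 13, 2, 10, 23],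
  [0, 21, 6, 15, 11, 4, 2, 7, 16, 14, 5, 10, 22, 18, 13, 12, 17, 20, 9, 19, 8, 1, 3, 23],
  [0, 1, 2, 22, 14, 13, 6, 7, 20, 11, 18, 9, 15, 5, 4, 12, 17, 16, 10, 19, 8, 21, 3, 23],
  [0, 2, 21, 8, 14, 4, 1, 19, 12, 5, 18, 10, 17, 11, 9, 15, 20, 3, 13, 7, 16, 6, 22, 23],
  [0, 21, 6, 8, 10, 5, 2, 7, 3, 13, 4, 11, 17, 9, 14, 20, 22, 12, 18, 19, 15, 1, 16, 23],
  [0, 21, 6, 17, 4, 11, 2, 7, 12, 9, 10, 5, 8, 13, 18, 16, 15, 3, 14, 19, 22, 1, 20, 23],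
  [0, 2, 1, 18, 22, 12, 21, 7, 5, 20, 15, 3, 14, 16, 8, 9, 4, 11, 17, 19, 10, 6, 13, 23],
  [0, 21, 6, 12, 9, 14, 2, 7, 17, 4, 13, 18, 3, 10, 5, 15, 16, 8, 11, 19, 20, 1, 22, 23],
  [0, 1, 2, 20, 11, 10, 6, 7, 22, 14, 5, 4, 16, 18, 9, 17, 12, 15, 13, 19, 3, 21, 8, 23],
  [0, 21, 6, 16, 14, 9, 2, 7, 15, 11, 18, 13, 20, 5, 10, 17, 12, 22, 4, 19, 3, 1, 8, 23],
  [0, 21, 6, 20, 18, 13, 2, 7, 22, 5, 14, 9, 16, 11, 4, 8, 3, 15, 10, 19, 12, 1, 17, 23],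
  [0, 6, 1, 20, 9, 5, 21, 19, 15, 10, 13, 11, 16, 4, 18, 3, 17, 22, 14, 7, 8, 2, 12, 23],
  [0, 6, 1, 17, 5, 9, 21, 19, 3, 14, 11, 13, 8, 18, 4, 15, 20, 12, 10, 7, 16, 2, 22, 23],
  [0, 21, 2, 13, 22, 17, 6, 19, 4, 16, 15, 8, 9, 20, 12, 5, 14, 10, 3, 7, 18, 1, 11, 23],
  [0, 6, 21, 4, 8, 20, 1, 7, 9, 3, 17, 16, 10, 12, 15, 11, 14, 13, 22, 19, 18, 2, 5, 23],
  [0, 2, 21, 15, 13, 5, 1, 19, 20, 4, 9, 11, 22, 10, 18, 8, 12, 16, 14, 7, 3, 6, 17, 23],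
  [0, 2, 21, 22, 9, 11, 1, 19, 16, 10, 13, 5, 15, 4, 14, 17, 3, 20, 18, 7, 12, 6, 8, 23],
  [0, 21, 2, 9, 15, 8, 6, 19, 10, 20, 22, 17, 13, 16, 3, 11, 18, 4, 12, 7, 14, 1, 5, 23],
  [0, 1, 6, 11, 17, 15, 2, 19, 18, 3, 8, 22, 5, 12, 16, 13, 4, 14, 20, 7, 10, 21, 9, 23],
  [0, 21, 2, 14, 17, 22, 6, 19, 5, 3, 8, 15, 18, 12, 20, 4, 13, 11, 16, 7, 9, 1, 10, 23],
  [0, 21, 2, 18, 8, 15, 6, 19, 11, 12, 17, 22, 14, 3, 16, 10, 9, 5, 20, 7, 13, 1, 4, 23],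
  [0, 1, 2, 16, 5, 4, 6, 7, 15, 18, 11, 10, 20, 14, 13, 8, 3, 22, 9, 19, 12, 21, 17, 23],
  [0, 1, 6, 9, 16, 12, 2, 19, 10, 22, 20, 3, 13, 15, 17, 5, 14, 4, 8, 7, 18, 21, 11, 23],
  [0, 6, 1, 9, 20, 17, 21, 19, 10, 15, 16, 8, 13, 22, 12, 14, 5, 4, 3, 7, 11, 2, 18, 23],
  [0, 6, 1, 5, 17, 20, 21, 19, 14, 3, 8, 16, 11, 12, 22, 10, 9, 18, 15, 7, 13, 2, 4, 23],
  [0, 21, 2, 22, 13, 14, 6, 19, 16, 4, 9, 18, 15, 10, 11, 3, 17, 20, 5, 7, 8, 1, 12, 23],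
  [0, 6, 21, 8, 4, 14, 1, 7, 3, 9, 10, 18, 17, 13, 5, 22, 20, 12, 11, 19, 16, 2, 15, 23],
  [0, 2, 21, 13, 15, 12, 1, 19, 4, 20, 22, 3, 9, 16, 17, 14, 5, 10, 8, 7, 11, 6, 18, 23],
  [0, 2, 21, 9, 22, 3, 1, 19, 10, 16, 15, 12, 13, 20, 8, 18, 11, 4, 17, 7, 5, 6, 14, 23],
  [0, 21, 2, 15, 9, 18, 6, 19, 20, 10, 13, 14, 22, 4, 5, 12, 8, 16, 11, 7, 17, 1, 3, 23],
  [0, 1, 6, 17, 11, 4, 2, 19, 3, 18, 5, 10, 8, 14, 9, 20, 15, 12, 13, 7, 22, 21, 16, 23],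
  [0, 21, 2, 17, 14, 13, 6, 19, 3, 5, 18, 9, 8, 11, 10, 16, 22, 12, 4, 7, 15, 1, 20, 23],
  [0, 21, 2, 8, 18, 9, 6, 19, 12, 11, 14, 13, 17, 5, 4, 20, 15, 3, 10, 7, 22, 1, 16, 23],
  [0, 1, 2, 5, 16, 3, 6, 7, 18, 15, 20, 12, 11, 22, 17, 9, 4, 14, 8, 19, 10, 21, 13, 23],
  [0, 1, 6, 16, 9, 14, 2, 19, 22, 10, 13, 18, 20, 4, 11, 8, 12, 15, 5, 7, 3, 21, 17, 23],
  [0, 6, 1, 11, 8, 16, 21, 19, 18, 12, 17, 20, 5, 3, 15, 4, 13, 14, 22, 7, 9, 2, 10, 23],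
  [0, 2, 1, 8, 13, 11, 21, 7, 3, 10, 9, 5, 17, 4, 18, 15, 16, 12, 14, 19, 20, 6, 22, 23],
  [0, 2, 21, 18, 17, 16, 1, 19, 11, 3, 8, 20, 14, 12, 15, 9, 10, 5, 22, 7, 4, 6, 13, 23],
  [0, 1, 6, 20, 13, 18, 2, 19, 15, 4, 9, 14, 16, 10, 5, 17, 3, 22, 11, 7, 12, 21, 8, 23],
  [0, 1, 2, 9, 8, 15, 6, 7, 4, 3, 17, 22, 13, 12, 20, 5, 18, 10, 16, 19, 14, 21, 11, 23],
  [0, 1, 6, 8, 5, 10, 2, 19, 12, 14, 11, 4, 17, 18, 13, 16, 22, 3, 9, 7, 15, 21, 20, 23],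
  [0, 6, 1, 8, 11, 13, 21, 19, 12, 18, 5, 9, 17, 14, 10, 22, 16, 3, 4, 7, 20, 2, 15, 23],
  [0, 2, 1, 13, 8, 16, 21, 7, 10, 3, 17, 20, 9, 12, 22, 14, 11, 4, 15, 19, 5, 6, 18, 23],
  [0, 2, 21, 17, 18, 10, 1, 19, 3, 11, 14, 4, 8, 5, 13, 22, 16, 12, 9, 7, 20, 6, 15, 23],
  [0, 1, 6, 13, 20, 3, 2, 19, 4, 15, 16, 12, 9, 22, 8, 11, 18, 10, 17, 7, 14, 21, 5, 23],
  [0, 1, 2, 8, 9, 18, 6, 7, 3, 4, 13, 14, 17, 10, 11, 16, 15, 12, 5, 19, 22, 21, 20, 23],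
  [0, 1, 6, 5, 8, 22, 2, 19, 14, 12, 17, 15, 11, 3, 20, 9, 10, 18, 16, 7, 4, 21, 13, 23],
  [0, 2, 1, 9, 17, 20, 21, 7, 4, 12, 8, 16, 13, 3, 15, 18, 5, 10, 22, 19, 11, 6, 14, 23],
  [0, 1, 2, 17, 13, 14, 6, 7, 12, 10, 9, 18, 8, 4, 5, 20, 22, 3, 11, 19, 15, 21, 16, 23],
  [0, 2, 1, 17, 9, 5, 21, 7, 12, 4, 13, 11, 8, 10, 14, 22, 20, 3, 18, 19, 16, 6, 15, 23],
  [0, 1, 2, 13, 17, 22, 6, 7, 10, 12, 8, 15, 9, 3, 16, 11, 14, 4, 20, 19, 18, 21, 5, 23]]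

/-- Left multiplication by the generators on the indices of the elements. -/
def sLM : List (List ℕ) := [
  [1, 0, 6, 8, 10, 12, 2, 16, 3, 20, 4, 24, 5, 28, 22, 31, 7, 35, 37, 27, 9, 42, 14, 44, 11, 48, 50, 19, 13, 55, 56, 15, 59, 61, 52, 17, 66, 18, 54, 47, 67, 51, 21, 72, 23, 75, 77, 39, 25, 82, 26, 41, 34, 83, 38, 29, 30, 89, 91, 32, 86, 33, 87, 79, 93, 84, 36, 40, 81, 85, 76, 78, 43, 101, 103, 45, 70, 46, 71, 63, 105, 68, 49, 53, 65, 69, 60, 62, 112, 57, 108, 58, 114, 64, 109, 115, 102, 106, 110, 117, 118, 73, 96, 74, 120, 80, 97, 121, 90, 94, 98, 123, 88, 124, 92, 95, 122, 99, 100, 126, 104, 107, 116, 111, 113, 127, 119, 125],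
  [2, 4, 0, 9, 1, 13, 14, 17, 18, 3, 22, 25, 26, 5, 6, 32, 33, 7, 8, 39, 40, 36, 10, 45, 46, 11, 12, 52, 53, 49, 57, 58, 15, 16, 63, 64, 21, 67, 68, 19, 20, 70, 71, 73, 74, 23, 24, 79, 80, 29, 83, 84, 27, 28, 86, 87, 88, 30, 31, 92, 90, 93, 94, 34, 35, 96, 97, 37, 38, 99, 41, 42, 100, 43, 44, 104, 102, 105, 106, 47, 48, 108, 109, 50, 51, 111, 54, 55, 56, 113, 60, 114, 59, 61, 62, 116, 65, 66, 115, 69, 72, 119, 76, 120, 75, 77, 78, 122, 81, 82, 121, 85, 124, 89, 91, 98, 95, 125, 126, 101, 103, 110, 107, 127, 112, 117, 118, 123],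
  [3, 5, 7, 0, 11, 1, 15, 2, 19, 21, 23, 4, 27, 29, 30, 6, 34, 36, 38, 8, 41, 9, 43, 10, 47, 49, 51, 12, 54, 13, 14, 52, 60, 62, 16, 65, 17, 55, 18, 44, 69, 20, 50, 22, 39, 76, 78, 24, 81, 25, 42, 26, 31, 85, 28, 37, 79, 90, 84, 87, 32, 86, 33, 72, 95, 35, 91, 98, 74, 40, 77, 75, 63, 102, 68, 71, 45, 70, 46, 56, 107, 48, 103, 110, 58, 53, 61, 59, 106, 109, 57, 66, 115, 111, 100, 64, 112, 101, 67, 105, 94, 97, 73, 82, 121, 99, 88, 80, 118, 89, 83, 93, 96, 125, 123, 92, 124, 120, 108, 127, 117, 104, 126, 114, 116, 113, 122, 119]]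

/-- Parents in the spanning tree. -/
def sPar : List ℕ := [0, 0, 0, 0, 1, 1, 2, 2, 3, 3, 4, 4, 5, 5, 6, 6, 7, 7, 8, 8, 9, 9, 10, 10, 11, 11, 12, 12, 13, 13, 14, 15, 15, 16, 16, 17, 17, 18, 18, 19, 20, 20, 21, 22, 23, 23, 24, 24, 25, 25, 26, 26, 27, 28, 28, 29, 30, 30, 31, 32, 32, 33, 33, 34, 35, 35, 36, 37, 38, 40, 41, 42, 43, 43, 44, 45, 45, 46, 46, 47, 48, 48, 49, 50, 51, 53, 54, 55, 56, 57, 57, 58, 59, 61, 62, 64, 65, 66, 67, 69, 72, 73, 73, 74, 75, 77, 78, 80, 81, 82, 83, 85, 88, 89, 91, 92, 95, 99, 100, 101, 103, 104, 107, 111, 112, 113, 118, 119]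

/-- Generator labels in the spanning tree. -/
def sGen : List ℕ := [0, 0, 1, 2, 1, 2, 0, 2, 0, 1, 0, 2, 0, 1, 1, 2, 0, 1, 1, 2, 0, 2, 1, 2, 0, 1, 1, 2, 0, 2, 2, 0, 1, 1, 2, 0, 2, 0, 2, 1, 1, 2, 0, 2, 0, 1, 1, 2, 0, 2, 0, 2, 1, 1, 2, 0, 0, 1, 1, 0, 2, 0, 2, 1, 1, 2, 0, 1, 1, 2, 1, 1, 0, 1, 1, 0, 2, 0, 2, 1, 1, 2, 0, 1, 1, 2, 1, 1, 1, 0, 2, 0, 1, 1, 1, 2, 1, 1, 2, 1, 1, 0, 2, 0, 1, 1, 1, 2, 1, 1, 2, 1, 0, 1, 1, 2, 1, 0, 0, 1, 1, 2, 1, 0, 1, 2, 1, 2]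

/-- An element of order 3. -/
def w0W : List ℕ := [2, 0, 0, 0, 3, 0, 3, 1, 1, 2]

/-- Its inverse. -/
def w0I : List ℕ := [2, 0, 0, 4, 1, 4, 1, 1, 1, 2]

/-- Words moving the outside point `j` to `4`. -/
def njW : List (List ℕ) := [
  [],
  [],
  [],
  [],
  [],
  [3, 0, 0, 4, 1, 4, 1, 4, 1, 1, 1, 4],
  [],
  [],
  [3, 1, 4, 0, 3, 3, 1],
  [1, 3, 3, 1, 4, 1, 4, 0, 0, 3, 3],
  [1, 1, 4, 4, 1, 3, 1, 4, 1, 1],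
  [0, 4, 4, 1, 3, 0, 4],
  [3, 0, 3, 0, 4, 0, 4, 0, 0, 0, 4, 4],
  [1, 1, 1, 3, 3, 1, 1, 4, 1, 1, 4],
  [4, 2, 1, 3, 3, 0, 3, 0, 4, 1, 1, 2],
  [3, 0, 0, 3, 0, 0, 4, 4, 0, 0, 0],
  [0, 0, 3, 0, 4, 0, 3, 3, 0, 0],
  [4, 1, 3, 1, 3, 0, 3, 0, 0, 4, 4, 1],
  [1, 1, 1, 1, 4, 1, 1, 4, 0, 0, 3, 3],
  [],
  [1, 3, 3, 1, 4, 0, 3, 0, 0, 0, 0],
  [],
  [0, 4, 4, 0, 3, 1, 1, 3, 0, 0, 3, 0],
  []]

/-- The fixed points. -/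
def mF1 : ℕ := 8388609

/-- The points in orbits of size at most two. -/
def mF2 : ℕ := 8913025

/-- The octad: the points in orbits of size at most four. -/
def mF4 : ℕ := 11010247

/-- The table of a word. -/
def evT (w : List ℕ) : List ℕ := (List.range 24).map (m24Eval w)

/-- The `i`-th table. -/
def tbl (i : ℕ) : List ℕ := sT.getD i []

/-- Powers of a table. -/
def powT (t : List ℕ) : ℕ → List ℕ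
  | 0 => idT
  | k + 1 => compT t (powT t k)

def chkLM : Bool := (List.range 3).all fun j => (List.range 128).all fun i =>
  compT (evT (gW.getD j [])) (tbl i) == tbl ((sLM.getD j []).getD i 0) &&
    decide ((sLM.getD j []).getD i 0 < 128)

def chkTree : Bool := (List.range 128).all fun i => i == 0 ||
  (decide (sPar.getD i 0 < i) && ((sLM.getD (sGen.getD i 0) []).getD (sPar.getD i 0) 0 == i) &&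
    decide (sGen.getD i 0 < 3))

def chkId : Bool := tbl 0 == idT

def chkNodup : Bool := (List.range 128).all fun i => (List.range 128).all fun k =>
  i == k || (List.range 24).any fun j => (tbl i).getD j 0 != (tbl k).getD j 0

def chkGen : Bool := (List.range 3).all fun j =>
  compT (evT (gW.getD j [])) (evT (gW.getD j [])) == idT &&
    (List.range 24).any (fun p => (evT (gW.getD j [])).getD p 0 != p) &&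
    (evT (gW.getD j [])).getD 23 0 == 23 && (evT (gW.getD j [])).getD 0 0 == 0

def chkFixIn (m k : ℕ) : Bool := (List.range 128).all fun i => (List.range 24).all fun j =>
  !m.testBit j || (powT (tbl i) k).getD j 0 == j

def chkFixOut (m k : ℕ) : Bool := (List.range 24).all fun j =>
  m.testBit j || (List.range 128).any fun i => (powT (tbl i) k).getD j 0 != j

def chkW0 : Bool := m24Eval w0W 23 == 23 && m24Eval w0W 0 == 0 &&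
  (List.range 24).all (fun j => (!mF2.testBit j || mF2.testBit (m24Eval w0W j)) &&
    (!mF4.testBit j || mF4.testBit (m24Eval w0W j))) &&
  (List.range 24).all (fun j => m24Eval (w0W ++ w0I) j == j)

def chkW0N : Bool := (List.range 128).all fun i => (List.range 24).any fun j =>
  m24Eval (w0W ++ (gW.getD 1 [] ++ w0I)) j != (tbl i).getD j 0

def chkNj : Bool := (List.range 24).all fun j => mF4.testBit j || j == 3 ||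
  (m24Eval (njW.getD j []) 23 == 23 && m24Eval (njW.getD j []) 0 == 0 &&
    m24Eval (njW.getD j []) 3 == 3 && m24Eval (njW.getD j []) j == 4 &&
    (List.range 24).all fun p => !mF4.testBit p || mF4.testBit (m24Eval (njW.getD j []) p))

set_option maxRecDepth 100000 in
theorem chkLM_ok : chkLM = true := by decide +kernel
set_option maxRecDepth 100000 in
theorem chkTree_ok : chkTree = true := by decide +kernel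
theorem chkId_ok : chkId = true := by decide +kernel
set_option maxRecDepth 100000 in
theorem chkNodup_ok : chkNodup = true := by decide +kernel
theorem chkGen_ok : chkGen = true := by decide +kernel
set_option maxRecDepth 100000 in
theorem chkFixIn_ok : chkFixIn mF1 1 = true ∧ chkFixIn mF2 2 = true ∧ chkFixIn mF4 4 = true := by
  decide +kernel
set_option maxRecDepth 100000 in
theorem chkFixOut_ok : chkFixOut mF1 1 = true ∧ chkFixOut mF2 2 = true ∧ chkFixOut mF4 4 = true := by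
  decide +kernel
theorem chkW0_ok : chkW0 = true := by decide +kernel
set_option maxRecDepth 100000 in
theorem chkW0N_ok : chkW0N = true := by decide +kernel
theorem chkNj_ok : chkNj = true := by decide +kernel

end Cfsg.Agent.Lib.Helper92.SylM22
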