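import Mathlib

/-!
# Three primes between `n` and `2 n`

A strengthening of Bertrand's postulate, proved along the lines of Mathlib's proof: for `9 ≤ n`
there are two primes `p < q` in `(n, 2 n]` with `p + 4 ≤ q` (for large `n` there are at least three
primes in this range).
-/

set_option autoImplicit false

namespace Cfsg.Agent.Lib.Helper92.ThreePrimes

section RealPart

open Real

/-- The analytic inequality, with two more factors `2 x` than Mathlib's version. -/
theorem real_ineq {x : ℝ} (x_large : (2048 : ℝ) ≤ x) :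
    x * (2 * x) ^ √(2 * x) * (2 * x) ^ (2 : ℕ) * 4 ^ (2 * x / 3) ≤ 4 ^ x := by
  let f : ℝ → ℝ := fun x => log x + √(2 * x) * log (2 * x) + 2 * log x - log 4 / 3 * x
  have h5 : 0 < x := lt_of_lt_of_le (by norm_num1) x_large
  have hf : ∀ x, 0 < x →
      f x + 2 * log 2 = log (x * (2 * x) ^ √(2 * x) * (2 * x) ^ (2 : ℕ)) - log 4 / 3 * x := by
    intro x h5
    have h6 := mul_pos (zero_lt_two' ℝ) h5
    have h7 := rpow_pos_of_pos h6 (√(2 * x))
    have h8 : (0 : ℝ) < (2 * x) ^ (2 : ℕ) := by positivity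
    simp only [f]
    rw [log_mul (mul_pos h5 h7).ne' h8.ne', log_mul h5.ne' h7.ne', log_rpow h6, log_pow,
      log_mul two_ne_zero h5.ne']
    push_cast
    ring
  have h : ConcaveOn ℝ (Set.Ioi 0.5) f := by
    apply ConcaveOn.sub
    · apply ConcaveOn.add
      · apply ConcaveOn.add
        · exact strictConcaveOn_log_Ioi.concaveOn.subset
            (Set.Ioi_subset_Ioi (by norm_num)) (convex_Ioi 0.5)
        convert!
          ((strictConcaveOn_sqrt_mul_log_Ioi.concaveOn.comp_linearMap ((2 : ℝ) • LinearMap.id)))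
          using 1
        ext x
        simp only [Set.mem_Ioi, Set.mem_preimage, LinearMap.smul_apply,
          LinearMap.id_coe, id_eq, smul_eq_mul]
        rw [← mul_lt_mul_iff_right₀ (two_pos)]
        norm_num1
        rfl
      · apply ConcaveOn.smul (by norm_num)
        exact strictConcaveOn_log_Ioi.concaveOn.subset
          (Set.Ioi_subset_Ioi (by norm_num)) (convex_Ioi 0.5)
    apply ConvexOn.smul
    · refine div_nonneg (log_nonneg (by norm_num1)) (by norm_num1)
    · exact convexOn_id (convex_Ioi (0.5 : ℝ))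
  have key : f x + 2 * log 2 ≤ 0 := by
    suffices ∃ x1 x2, 0.5 < x1 ∧ x1 < x2 ∧ x2 ≤ x ∧ 0 ≤ f x1 + 2 * log 2 ∧ f x2 + 2 * log 2 ≤ 0 by
      obtain ⟨x1, x2, h1, h2, h0, h3, h4⟩ := this
      have := h.right_le_of_le_left'' h1 ((h1.trans h2).trans_le h0) h2 h0 (by linarith)
      linarith
    refine ⟨18, 2048, by norm_num1, by norm_num1, x_large, ?_, ?_⟩
    · have : √(2 * 18 : ℝ) = 6 := (sqrt_eq_iff_mul_self_eq_of_pos (by norm_num1)).mpr (by norm_num1)
      rw [hf _ (by norm_num1), this]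
      have h4 : log 4 / 3 * 18 = log ((4 : ℝ) ^ (6 : ℕ)) := by
        rw [log_pow]; push_cast; ring
      rw [h4, sub_nonneg]
      apply log_le_log (by positivity)
      norm_num1
    · have : √(2 * 2048 : ℝ) = 64 :=
        (sqrt_eq_iff_mul_self_eq_of_pos (by norm_num1)).mpr (by norm_num1)
      rw [hf _ (by norm_num1), this]
      have e1 : (2048 : ℝ) = 2 ^ (11 : ℕ) := by norm_num1
      have e2 : (2 * 2048 : ℝ) = 2 ^ (12 : ℕ) := by norm_num1
      have e3 : ((2 * 2048 : ℝ)) ^ (64 : ℝ) = 2 ^ (768 : ℕ) := by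
        rw [e2, ← rpow_natCast, ← rpow_mul (by norm_num), ← rpow_natCast]
        norm_num
      have h4 : log 4 / 3 * 2048 = log 2 * (4096 / 3) := by
        rw [show (4 : ℝ) = 2 ^ (2 : ℕ) by norm_num1, log_pow]; push_cast; ring
      rw [h4, e3, e2, e1, ← pow_mul, ← pow_add, ← pow_add, log_pow]
      have hl2 : 0 < log 2 := log_pos (by norm_num)
      push_cast
      nlinarith
  have hx := hf x h5
  have hpos : 0 < x * (2 * x) ^ √(2 * x) * (2 * x) ^ (2 : ℕ) := by positivity
  have h4x : (0 : ℝ) < 4 ^ x := rpow_pos_of_pos four_pos x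
  have h4y : (0 : ℝ) < 4 ^ (2 * x / 3) := rpow_pos_of_pos four_pos _
  rw [← log_le_log_iff (mul_pos hpos h4y) h4x, log_mul hpos.ne' h4y.ne', log_rpow four_pos,
    log_rpow four_pos]
  linarith

end RealPart

section NatPart

open Nat

theorem nat_ineq {n : ℕ} (n_large : 2048 ≤ n) :
    n * (2 * n) ^ sqrt (2 * n) * (2 * n) ^ 2 * 4 ^ (2 * n / 3) ≤ 4 ^ n := by
  have hn1 : (1 : ℝ) ≤ 2 * (n : ℝ) := by
    have : (2048 : ℝ) ≤ (n : ℝ) := by exact_mod_cast n_large
    linarith
  have h1 : (2 * (n : ℝ)) ^ sqrt (2 * n) ≤ (2 * (n : ℝ)) ^ √(2 * (n : ℝ)) := by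
    rw [← Real.rpow_natCast]
    apply Real.rpow_le_rpow_of_exponent_le hn1
    have := Real.nat_sqrt_le_real_sqrt (a := 2 * n)
    push_cast at this
    exact this
  have h2 : (4 : ℝ) ^ (2 * n / 3) ≤ (4 : ℝ) ^ (2 * (n : ℝ) / 3) := by
    rw [← Real.rpow_natCast]
    apply Real.rpow_le_rpow_of_exponent_le (by norm_num)
    have := Nat.cast_div_le (α := ℝ) (m := 2 * n) (n := 3)
    push_cast at this
    exact this
  have h3 := real_ineq (x := (n : ℝ)) (by exact_mod_cast n_large)
  have h4 : ((n * (2 * n) ^ sqrt (2 * n) * (2 * n) ^ 2 * 4 ^ (2 * n / 3) : ℕ) : ℝ) ≤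
      ((4 ^ n : ℕ) : ℝ) := by
    push_cast
    rw [Real.rpow_natCast] at h3
    refine le_trans ?_ h3
    have hn0 : (0 : ℝ) ≤ (n : ℝ) := Nat.cast_nonneg n
    have h40 : (0 : ℝ) ≤ (4 : ℝ) ^ (2 * n / 3) := by positivity
    have h20 : (0 : ℝ) ≤ (2 * (n : ℝ)) ^ sqrt (2 * n) := by positivity
    have h22 : (0 : ℝ) ≤ (2 * (n : ℝ)) ^ 2 := by positivity
    have hr0 : (0 : ℝ) ≤ (2 * (n : ℝ)) ^ √(2 * (n : ℝ)) := by positivity
    calc (n : ℝ) * (2 * (n : ℝ)) ^ sqrt (2 * n) * (2 * (n : ℝ)) ^ 2 * (4 : ℝ) ^ (2 * n / 3)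
        ≤ (n : ℝ) * (2 * (n : ℝ)) ^ √(2 * (n : ℝ)) * (2 * (n : ℝ)) ^ 2 * (4 : ℝ) ^ (2 * n / 3) := by
          gcongr
      _ ≤ (n : ℝ) * (2 * (n : ℝ)) ^ √(2 * (n : ℝ)) * (2 * (n : ℝ)) ^ 2 *
            (4 : ℝ) ^ (2 * (n : ℝ) / 3) := by
          gcongr
  exact_mod_cast h4

/-- The part of the factorisation of the central binomial coefficient below `2 n / 3`. -/
theorem prod_small_le (n : ℕ) (n_pos : 0 < n) :
    ∏ p ∈ Finset.range (2 * n / 3 + 1), p ^ (centralBinom n).factorization p ≤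
      (2 * n) ^ sqrt (2 * n) * 4 ^ (2 * n / 3) := by
  have n2_pos : 1 ≤ 2 * n := mul_pos (zero_lt_two' ℕ) n_pos
  let S := {p ∈ Finset.range (2 * n / 3 + 1) | Nat.Prime p}
  let f x := x ^ n.centralBinom.factorization x
  have : ∏ x ∈ S, f x = ∏ x ∈ Finset.range (2 * n / 3 + 1), f x := by
    refine Finset.prod_filter_of_ne fun p _ h => ?_
    contrapose h; dsimp only [f]
    rw [factorization_eq_zero_of_not_prime n.centralBinom h, _root_.pow_zero]
  change ∏ x ∈ Finset.range (2 * n / 3 + 1), f x ≤ _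
  rw [← this, ← Finset.prod_filter_mul_prod_filter_not S (· ≤ sqrt (2 * n))]
  apply mul_le_mul'
  · refine (Finset.prod_le_prod' fun p _ => (?_ : f p ≤ 2 * n)).trans ?_
    · exact pow_factorization_choose_le (mul_pos two_pos n_pos)
    have : (Finset.Icc 1 (sqrt (2 * n))).card = sqrt (2 * n) := by rw [card_Icc, Nat.add_sub_cancel]
    rw [Finset.prod_const]
    refine pow_right_mono₀ n2_pos ((Finset.card_le_card fun x hx => ?_).trans this.le)
    obtain ⟨h1, h2⟩ := Finset.mem_filter.1 hx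
    exact Finset.mem_Icc.mpr ⟨(Finset.mem_filter.1 h1).2.one_lt.le, h2⟩
  · refine le_trans ?_ (primorial_le_four_pow (2 * n / 3))
    refine (Finset.prod_le_prod' fun p hp => (?_ : f p ≤ p)).trans ?_
    · obtain ⟨h1, h2⟩ := Finset.mem_filter.1 hp
      refine (pow_right_mono₀ (Finset.mem_filter.1 h1).2.one_lt.le ?_).trans (pow_one p).le
      exact Nat.factorization_choose_le_one (sqrt_lt'.mp <| not_le.1 h2)
    refine Finset.prod_le_prod_of_subset_of_one_le' (Finset.filter_subset _ _) ?_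
    exact fun p hp _ => (Finset.mem_filter.1 hp).2.one_lt.le

/-- The part of the factorisation of the central binomial coefficient above `2 n / 3`. -/
theorem prod_large_le (n : ℕ) (n_large : 2 < n) :
    ∏ p ∈ Finset.Ico (2 * n / 3 + 1) (2 * n + 1), p ^ (centralBinom n).factorization p ≤
      (2 * n) ^ ((Finset.Ioc n (2 * n)).filter Nat.Prime).card := by
  have n_pos : 0 < n := by omega
  set S := (Finset.Ioc n (2 * n)).filter Nat.Prime with hS
  have hsub : S ⊆ Finset.Ico (2 * n / 3 + 1) (2 * n + 1) := by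
    intro p hp
    rw [hS, Finset.mem_filter, Finset.mem_Ioc] at hp
    rw [Finset.mem_Ico]
    omega
  rw [← Finset.prod_subset hsub]
  · rw [← Finset.prod_const]
    apply Finset.prod_le_prod'
    intro p hp
    rw [hS, Finset.mem_filter, Finset.mem_Ioc] at hp
    have h1 : (centralBinom n).factorization p ≤ 1 := by
      apply Nat.factorization_choose_le_one
      nlinarith [hp.1.1]
    calc p ^ (centralBinom n).factorization p ≤ p ^ 1 :=
          pow_right_mono₀ hp.2.one_lt.le h1
      _ = p := pow_one p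
      _ ≤ 2 * n := hp.1.2
  · intro p hp hpS
    rw [Finset.mem_Ico] at hp
    by_cases hpp : p.Prime
    · have hpn : p ≤ n := by
        by_contra hlt
        apply hpS
        rw [hS, Finset.mem_filter, Finset.mem_Ioc]
        exact ⟨⟨by omega, by omega⟩, hpp⟩
      rw [factorization_centralBinom_of_two_mul_self_lt_three_mul n_large hpn (by omega),
        _root_.pow_zero]
    · rw [factorization_eq_zero_of_not_prime n.centralBinom hpp, _root_.pow_zero]

theorem centralBinom_le (n : ℕ) (n_large : 2 < n) :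
    centralBinom n ≤ (2 * n) ^ sqrt (2 * n) * 4 ^ (2 * n / 3) *
      (2 * n) ^ ((Finset.Ioc n (2 * n)).filter Nat.Prime).card := by
  have n_pos : 0 < n := by omega
  have h := n.prod_pow_factorization_centralBinom
  rw [Finset.range_eq_Ico, ← Finset.prod_Ico_consecutive _ (Nat.zero_le (2 * n / 3 + 1))
    (by omega : 2 * n / 3 + 1 ≤ 2 * n + 1), ← Finset.range_eq_Ico] at h
  rw [← h]
  exact Nat.mul_le_mul (prod_small_le n n_pos) (prod_large_le n n_large)

/-- For large `n` there are at least three primes in `(n, 2 n]`. -/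
theorem three_le_card_primes (n : ℕ) (n_large : 2048 ≤ n) :
    3 ≤ ((Finset.Ioc n (2 * n)).filter Nat.Prime).card := by
  by_contra hlt
  have hle : ((Finset.Ioc n (2 * n)).filter Nat.Prime).card ≤ 2 := by omega
  have h1 : 4 ^ n < n * n.centralBinom :=
    Nat.four_pow_lt_mul_centralBinom n (le_trans (by norm_num1) n_large)
  have h2 := centralBinom_le n (by omega)
  have h3 : (2 * n) ^ ((Finset.Ioc n (2 * n)).filter Nat.Prime).card ≤ (2 * n) ^ 2 :=
    pow_right_mono₀ (by omega) hle
  have h4 := nat_ineq n_large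
  have h5 : n * n.centralBinom ≤ n * ((2 * n) ^ sqrt (2 * n) * 4 ^ (2 * n / 3) * (2 * n) ^ 2) :=
    Nat.mul_le_mul_left n (h2.trans (Nat.mul_le_mul_left _ h3))
  have h6 : n * ((2 * n) ^ sqrt (2 * n) * 4 ^ (2 * n / 3) * (2 * n) ^ 2) =
      n * (2 * n) ^ sqrt (2 * n) * (2 * n) ^ 2 * 4 ^ (2 * n / 3) := by ring
  omega

theorem exists_of_chain {n lo p q : ℕ} (hp : p.Prime) (hq : q.Prime) (hpq : p + 4 ≤ q)
    (hq2 : q ≤ 2 * lo) (hlo : lo ≤ n) (hnp : n < p) :
    ∃ p q : ℕ, p.Prime ∧ q.Prime ∧ n < p ∧ p + 4 ≤ q ∧ q ≤ 2 * n :=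
  ⟨p, q, hp, hq, hnp, hpq, by omega⟩

/-- For `9 ≤ n` there are primes `p < q` in `(n, 2 n]` with `p + 4 ≤ q`. -/
theorem exists_two_primes (n : ℕ) (hn : 9 ≤ n) :
    ∃ p q : ℕ, p.Prime ∧ q.Prime ∧ n < p ∧ p + 4 ≤ q ∧ q ≤ 2 * n := by
  rcases Nat.lt_or_ge n 2048 with hlt | hge
  · by_cases h1 : n < 13
    · exact exists_of_chain (lo := 9) (p := 13) (q := 17) (by norm_num) (by norm_num) (by norm_num)
        (by norm_num) hn h1
    by_cases h2 : n < 19
    · exact exists_of_chain (lo := 13) (p := 19) (q := 23) (by norm_num) (by norm_num)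
        (by norm_num) (by norm_num) (by omega) h2
    by_cases h3 : n < 31
    · exact exists_of_chain (lo := 19) (p := 31) (q := 37) (by norm_num) (by norm_num)
        (by norm_num) (by norm_num) (by omega) h3
    by_cases h4 : n < 53
    · exact exists_of_chain (lo := 31) (p := 53) (q := 61) (by norm_num) (by norm_num)
        (by norm_num) (by norm_num) (by omega) h4
    by_cases h5 : n < 97
    · exact exists_of_chain (lo := 53) (p := 97) (q := 103) (by norm_num) (by norm_num)
        (by norm_num) (by norm_num) (by omega) h5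
    by_cases h6 : n < 181
    · exact exists_of_chain (lo := 97) (p := 181) (q := 193) (by norm_num) (by norm_num)
        (by norm_num) (by norm_num) (by omega) h6
    by_cases h7 : n < 353
    · exact exists_of_chain (lo := 181) (p := 353) (q := 359) (by norm_num) (by norm_num)
        (by norm_num) (by norm_num) (by omega) h7
    by_cases h8 : n < 691
    · exact exists_of_chain (lo := 353) (p := 691) (q := 701) (by norm_num) (by norm_num)
        (by norm_num) (by norm_num) (by omega) h8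
    by_cases h9 : n < 1373
    · exact exists_of_chain (lo := 691) (p := 1373) (q := 1381) (by norm_num) (by norm_num)
        (by norm_num) (by norm_num) (by omega) h9
    · exact exists_of_chain (lo := 1373) (p := 2731) (q := 2741) (by norm_num) (by norm_num)
        (by norm_num) (by norm_num) (by omega) (by omega)
  · have h3 := three_le_card_primes n hge
    obtain ⟨a, b, c, ha, hb, hc, hab, hac, hbc⟩ := Finset.two_lt_card_iff.mp h3
    rw [Finset.mem_filter, Finset.mem_Ioc] at ha hb hc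
    have hodd : ∀ {r : ℕ}, r.Prime → n < r → r % 2 = 1 := by
      intro r hr hnr
      rcases hr.eq_two_or_odd with h | h
      · omega
      · exact h
    have ha2 := hodd ha.2 ha.1.1
    have hb2 := hodd hb.2 hb.1.1
    have hc2 := hodd hc.2 hc.1.1
    rcases lt_or_gt_of_ne hab with h1 | h1 <;> rcases lt_or_gt_of_ne hac with h2 | h2 <;>
      rcases lt_or_gt_of_ne hbc with h3 | h3
    · exact ⟨a, c, ha.2, hc.2, ha.1.1, by omega, hc.1.2⟩
    · exact ⟨a, b, ha.2, hb.2, ha.1.1, by omega, hb.1.2⟩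
    · omega
    · exact ⟨c, b, hc.2, hb.2, hc.1.1, by omega, hb.1.2⟩
    · exact ⟨b, c, hb.2, hc.2, hb.1.1, by omega, hc.1.2⟩
    · omega
    · exact ⟨b, a, hb.2, ha.2, hb.1.1, by omega, ha.1.2⟩
    · exact ⟨c, a, hc.2, ha.2, hc.1.1, by omega, ha.1.2⟩

end NatPart

end Cfsg.Agent.Lib.Helper92.ThreePrimes
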