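import Mathlib
import Cfsg.Agent.Lib.Helper92.PermRes

/-!
# The group generated by two permutations of prime orders

Let `x` have prime order `p` and let `y` be a cycle of prime length `q`, with `p + q` larger than
the degree.  Then `⟨x, y⟩` is transitive on `Ω = supp x ∪ supp y`; if moreover `|Ω| < 2 q`, it is
primitive there.  `reduce` transports the question "is `⟨x, y⟩` alternating" to the faithful image
of `⟨x, y⟩` in `Sym Ω`.
-/

set_option autoImplicit false

namespace Cfsg.Agent.Lib.Helper92.TwoCyc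

open Equiv Cfsg.Agent.Lib.Helper92.PermRes
open scoped Pointwise

variable {α : Type*} [Fintype α] [DecidableEq α]

/-- A transitive group containing a cycle of prime length `q`, of degree less than `2 q`, is
primitive. -/
theorem isPreprimitive_of_prime_cycle {β : Type*} [Fintype β] [DecidableEq β]
    (G : Subgroup (Perm β)) (htr : ∀ a b : β, ∃ g ∈ G, g a = b) {g : Perm β} (hg : g ∈ G)
    (hcyc : g.IsCycle) {q : ℕ} (hq : q.Prime) (hsupp : g.support.card = q)
    (hβ : Fintype.card β < 2 * q) : MulAction.IsPreprimitive G β := by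
  have hT : MulAction.IsPretransitive G β :=
    ⟨fun a b => let ⟨k, hk, h⟩ := htr a b; ⟨⟨k, hk⟩, h⟩⟩
  refine ⟨fun {B} hB => ?_⟩
  by_contra hnt
  unfold MulAction.IsTrivialBlock at hnt
  rw [not_or, Set.not_subsingleton_iff] at hnt
  obtain ⟨hns, hne⟩ := hnt
  obtain ⟨b0, hb0, b1, hb1, hb01⟩ := hns
  -- a point of the support of `g`
  obtain ⟨a, ha⟩ : ∃ a, g a ≠ a := by
    obtain ⟨a, ha, -⟩ := hcyc
    exact ⟨a, ha⟩
  obtain ⟨k, hk, hka⟩ := htr b0 a
  set B' : Set β := (⟨k, hk⟩ : G) • B with hB'
  have hblk : MulAction.IsBlock G B' := hB.translate _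
  have haB : a ∈ B' := by
    rw [← hka]
    exact Set.smul_mem_smul_set (a := (⟨k, hk⟩ : G)) hb0
  have hbB : k b1 ∈ B' := Set.smul_mem_smul_set (a := (⟨k, hk⟩ : G)) hb1
  have hba : k b1 ≠ a := by
    rw [← hka]
    intro h
    exact hb01 (k.injective h).symm
  have hord : orderOf g = q := by rw [hcyc.orderOf, hsupp]
  -- `g` stabilizes the block
  have hst : (⟨g, hg⟩ : G) • B' = B' := by
    by_cases hfix : g (k b1) = k b1
    · have h1 : (⟨g, hg⟩ : G) • (k b1) ∈ B' := by
        change g (k b1) ∈ B'
        rw [hfix]; exact hbB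
      exact MulAction.isBlock_iff_smul_eq_of_mem.mp hblk hbB h1
    · obtain ⟨i, hi⟩ := hcyc.exists_pow_eq ha hfix
      -- reduce the exponent
      have hi' : (g ^ (i % q)) a = k b1 := by
        rw [← hord, pow_mod_orderOf]; exact hi
      have hi0 : i % q ≠ 0 := by
        intro h0
        rw [h0, pow_zero, Perm.one_apply] at hi'
        exact hba hi'.symm
      have hcop : Nat.Coprime (i % q) q := by
        rw [Nat.coprime_comm]
        apply (Nat.Prime.coprime_iff_not_dvd hq).mpr
        intro hd
        have := Nat.le_of_dvd (Nat.pos_of_ne_zero hi0) hd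
        have := Nat.mod_lt i hq.pos
        omega
      obtain ⟨j, -, hj⟩ := Nat.exists_mul_mod_eq_one_of_coprime hcop hq.one_lt
      have hgj : (g ^ (i % q)) ^ j = g := by
        rw [← pow_mul, ← pow_mod_orderOf, hord, hj, pow_one]
      have h1 : ((⟨g, hg⟩ : G) ^ (i % q)) • a ∈ B' := by
        change ((g ^ (i % q) : Perm β)) a ∈ B'
        rw [hi']; exact hbB
      have h2 : ((⟨g, hg⟩ : G) ^ (i % q)) • B' = B' :=
        MulAction.isBlock_iff_smul_eq_of_mem.mp hblk haB h1
      have h3 : ∀ n : ℕ, (((⟨g, hg⟩ : G) ^ (i % q)) ^ n) • B' = B' := by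
        intro n
        induction n with
        | zero => simp
        | succ n ih => rw [pow_succ, mul_smul, h2, ih]
      have h4 : ((⟨g, hg⟩ : G) ^ (i % q)) ^ j = ⟨g, hg⟩ := by
        apply Subtype.ext
        simpa using hgj
      rw [← h4]
      exact h3 j
  -- hence the block contains the support of `g`
  have hpow : ∀ i : ℕ, (g ^ i) a ∈ B' := by
    intro i
    induction i with
    | zero => simpa using haB
    | succ n ih =>
      rw [pow_succ', Perm.mul_apply, ← hst]
      exact Set.smul_mem_smul_set (a := (⟨g, hg⟩ : G)) ih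
  have hsub : (↑g.support : Set β) ⊆ B' := by
    intro z hz
    rw [Finset.mem_coe, Perm.mem_support] at hz
    obtain ⟨i, hi⟩ := hcyc.exists_pow_eq ha hz
    rw [← hi]
    exact hpow i
  have hcard : q ≤ B'.ncard := by
    have := Set.ncard_le_ncard hsub (Set.toFinite _)
    rwa [Set.ncard_coe_finset, hsupp] at this
  have hdvd : B'.ncard ∣ Fintype.card β := by
    have := hblk.ncard_dvd_card ⟨a, haB⟩
    rwa [Nat.card_eq_fintype_card] at this
  have hB'ne : B' ≠ Set.univ := by
    intro h
    apply hne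
    have : (⟨k, hk⟩ : G)⁻¹ • B' = B := by rw [hB', inv_smul_smul]
    rw [← this, h]
    exact Set.smul_set_univ
  have hlt : B'.ncard < Fintype.card β := by
    have := Set.ncard_lt_card (s := B') hB'ne
    rwa [Nat.card_eq_fintype_card] at this
  obtain ⟨c, hc⟩ := hdvd
  have hc2 : 2 ≤ c := by
    rcases c with _ | _ | c
    · omega
    · omega
    · omega
  nlinarith

/-- The restriction of a cycle to an invariant subtype containing its support is a cycle. -/
theorem isCycle_subtypePerm {g : Perm α} {P : α → Prop} (hP : ∀ a, P (g a) ↔ P a)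
    (hs : ∀ a, g a ≠ a → P a) (hg : g.IsCycle) : (g.subtypePerm hP).IsCycle := by
  obtain ⟨a, ha, hall⟩ := hg
  refine ⟨⟨a, hs a ha⟩, ?_, ?_⟩
  · intro h
    apply ha
    have := congrArg Subtype.val h
    simpa using this
  · intro b hb
    rw [Perm.sameCycle_subtypePerm]
    apply hall
    intro h
    apply hb
    apply Subtype.ext
    simpa using h

theorem card_support_subtypePerm {g : Perm α} {P : α → Prop} [Fintype (Subtype P)]
    [DecidableEq (Subtype P)] (hP : ∀ a, P (g a) ↔ P a) (hs : ∀ a, g a ≠ a → P a) :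
    (g.subtypePerm hP).support.card = g.support.card := by
  apply Finset.card_bij (fun (a : Subtype P) _ => (a : α))
  · intro a ha
    rw [Perm.mem_support] at ha ⊢
    intro h
    apply ha
    apply Subtype.ext
    simpa using h
  · intro a _ b _ h
    exact Subtype.ext h
  · intro b hb
    rw [Perm.mem_support] at hb
    refine ⟨⟨b, hs b hb⟩, ?_, rfl⟩
    rw [Perm.mem_support]
    intro h
    apply hb
    have := congrArg Subtype.val h
    simpa using this

/-- The elements of `⟨x, y⟩` are supported on `supp x ∪ supp y`. -/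
theorem support_subset_of_mem_closure {x y g : Perm α}
    (hg : g ∈ Subgroup.closure ({x, y} : Set (Perm α))) : g.support ⊆ x.support ∪ y.support := by
  induction hg using Subgroup.closure_induction with
  | mem z hz =>
    rcases hz with rfl | hz
    · exact Finset.subset_union_left
    · rw [Set.mem_singleton_iff] at hz
      rw [hz]
      exact Finset.subset_union_right
  | one => simp
  | mul a b _ _ ha hb =>
    exact (Perm.support_mul_le a b).trans (Finset.union_subset ha hb)
  | inv a _ ha => rwa [Perm.support_inv]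

theorem apply_mem_iff_of_support_subset {g : Perm α} {Ω : Finset α} (hg : g.support ⊆ Ω) (a : α) :
    g a ∈ Ω ↔ a ∈ Ω := by
  by_cases h : g a = a
  · rw [h]
  · have h1 : a ∈ g.support := Perm.mem_support.mpr h
    have h2 : g a ∈ g.support := Perm.apply_mem_support.mpr h1
    exact ⟨fun _ => hg h1, fun _ => hg h2⟩

/-- Every nontrivial cycle of an element of prime order `p` has length `p`. -/
theorem card_support_cycleOf {x : Perm α} {p : ℕ} (hp : p.Prime) (hox : orderOf x = p) {a : α}
    (ha : x a ≠ a) : (x.cycleOf a).support.card = p := by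
  have hc := Perm.isCycle_cycleOf x ha
  have h1 : orderOf (x.cycleOf a) ∣ p := hox ▸ Perm.orderOf_cycleOf_dvd_orderOf x a
  rw [hc.orderOf] at h1
  have h2 := hc.two_le_card_support
  rcases (Nat.dvd_prime hp).mp h1 with h | h
  · omega
  · exact h

/-- Every nontrivial cycle of `x` meets the support of `y`. -/
theorem exists_pow_mem_support {x y : Perm α} {p q : ℕ} (hp : p.Prime) (hox : orderOf x = p)
    (hsy : y.support.card = q) (hpq : Fintype.card α < p + q) {a : α} (ha : x a ≠ a) :
    ∃ i : ℕ, (x ^ i) a ∈ y.support := by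
  by_contra hno
  push Not at hno
  have hdisj : Disjoint (x.cycleOf a).support y.support := by
    rw [Finset.disjoint_left]
    intro b hb hby
    rw [Perm.mem_support_cycleOf_iff' ha] at hb
    obtain ⟨i, -, hi⟩ := hb.exists_pow_eq'
    apply hno i
    rw [hi]; exact hby
  have h1 := Finset.card_union_of_disjoint hdisj
  rw [card_support_cycleOf hp hox ha, hsy] at h1
  have h2 := Finset.card_le_univ ((x.cycleOf a).support ∪ y.support)
  omega

/-- `⟨x, y⟩` is transitive on `supp x ∪ supp y`. -/
theorem exists_mem_closure_apply_eq {x y : Perm α} {p q : ℕ} (hp : p.Prime)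
    (hox : orderOf x = p) (hcy : y.IsCycle) (hsy : y.support.card = q)
    (hpq : Fintype.card α < p + q) {a b : α} (ha : a ∈ x.support ∪ y.support)
    (hb : b ∈ x.support ∪ y.support) :
    ∃ g ∈ Subgroup.closure ({x, y} : Set (Perm α)), g a = b := by
  have hxm : x ∈ Subgroup.closure ({x, y} : Set (Perm α)) :=
    Subgroup.subset_closure (Set.mem_insert x _)
  have hym : y ∈ Subgroup.closure ({x, y} : Set (Perm α)) :=
    Subgroup.subset_closure (Set.mem_insert_of_mem x rfl)
  have key : ∀ c ∈ x.support ∪ y.support,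
      ∃ g ∈ Subgroup.closure ({x, y} : Set (Perm α)), y (g c) ≠ g c := by
    intro c hc
    by_cases hcy' : c ∈ y.support
    · exact ⟨1, Subgroup.one_mem _, by simpa using hcy'⟩
    · have hcx : c ∈ x.support := by
        rcases Finset.mem_union.mp hc with h | h
        · exact h
        · exact absurd h hcy'
      obtain ⟨i, hi⟩ := exists_pow_mem_support hp hox hsy hpq (Perm.mem_support.mp hcx)
      exact ⟨x ^ i, Subgroup.pow_mem _ hxm i, Perm.mem_support.mp hi⟩
  obtain ⟨ga, hga, ha'⟩ := key a ha
  obtain ⟨gb, hgb, hb'⟩ := key b hb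
  obtain ⟨i, hi⟩ := hcy.exists_pow_eq ha' hb'
  refine ⟨gb⁻¹ * y ^ i * ga, ?_, ?_⟩
  · exact Subgroup.mul_mem _ (Subgroup.mul_mem _ (Subgroup.inv_mem _ hgb)
      (Subgroup.pow_mem _ hym i)) hga
  · rw [Perm.mul_apply, Perm.mul_apply, hi]
    exact Perm.inv_eq_iff_eq.mpr rfl

/-- Reduction of the structure of `⟨x, y⟩` to that of its faithful primitive image on
`supp x ∪ supp y`. -/
theorem reduce {x y : Perm α} (hx : Perm.sign x = 1) (hy : Perm.sign y = 1) {p q : ℕ}
    (hp : p.Prime) (hq : q.Prime) (hox : orderOf x = p) (hcy : y.IsCycle)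
    (hsy : y.support.card = q) (hpq : Fintype.card α < p + q)
    (h2q : (x.support ∪ y.support).card < 2 * q)
    (hJ : ∀ R : Subgroup (Perm {a // a ∈ x.support ∪ y.support}),
      R ≤ alternatingGroup {a // a ∈ x.support ∪ y.support} →
      MulAction.IsPreprimitive R {a // a ∈ x.support ∪ y.support} →
      ∀ u v : Perm {a // a ∈ x.support ∪ y.support}, u ∈ R → v ∈ R → orderOf u = p →
        u.support.card = x.support.card → v.IsCycle → v.support.card = q →
        ∃ d, 5 ≤ d ∧ Nonempty (R ≃* alternatingGroup (Fin d))) :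
    ∃ d, 5 ≤ d ∧
      Nonempty (Subgroup.closure ({x, y} : Set (Perm α)) ≃* alternatingGroup (Fin d)) := by
  set Ω := x.support ∪ y.support with hΩ
  set H := Subgroup.closure ({x, y} : Set (Perm α)) with hH
  have hxm : x ∈ H := Subgroup.subset_closure (Set.mem_insert x _)
  have hym : y ∈ H := Subgroup.subset_closure (Set.mem_insert_of_mem x rfl)
  have hsupp : ∀ g ∈ H, g.support ⊆ Ω := fun g hg => support_subset_of_mem_closure hg
  have hpres : ∀ g ∈ H, ∀ a, (g a ∈ Ω) ↔ (a ∈ Ω) :=
    fun g hg a => apply_mem_iff_of_support_subset (hsupp g hg) a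
  have hmove : ∀ g ∈ H, ∀ a, g a ≠ a → a ∈ Ω :=
    fun g hg a ha => hsupp g hg (Perm.mem_support.mpr ha)
  set ρ := resHom H (fun a => a ∈ Ω) hpres with hρ
  have hinj : Function.Injective ρ := by
    apply resHom_injective
    intro g hg hfix
    ext a
    by_cases ha : a ∈ Ω
    · simpa using hfix a ha
    · by_contra hne
      exact ha (hmove g hg a hne)
  have heven : ∀ g ∈ H, Perm.sign g = 1 := by
    have : H ≤ alternatingGroup α := by
      rw [hH, Subgroup.closure_le]
      intro z hz
      rcases hz with rfl | hz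
      · exact Perm.mem_alternatingGroup.mpr hx
      · rw [Set.mem_singleton_iff] at hz
        rw [hz]
        exact Perm.mem_alternatingGroup.mpr hy
    exact fun g hg => Perm.mem_alternatingGroup.mp (this hg)
  have hRA : ρ.range ≤ alternatingGroup {a // a ∈ Ω} := by
    rintro _ ⟨g, rfl⟩
    rw [Perm.mem_alternatingGroup]
    have h := sign_resHom H (fun a => a ∈ Ω) hpres g (hmove g.1 g.2)
    rw [heven g.1 g.2] at h
    convert h
  have htr : ∀ a b : {a // a ∈ Ω}, ∃ g ∈ ρ.range, g a = b := by
    intro a b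
    obtain ⟨g, hg, hgab⟩ := exists_mem_closure_apply_eq hp hox hcy hsy hpq a.2 b.2
    refine ⟨ρ ⟨g, hg⟩, ⟨⟨g, hg⟩, rfl⟩, ?_⟩
    apply Subtype.ext
    exact hgab
  -- images of `x` and `y`
  have hu : ρ ⟨x, hxm⟩ ∈ ρ.range := ⟨_, rfl⟩
  have hv : ρ ⟨y, hym⟩ ∈ ρ.range := ⟨_, rfl⟩
  have hvc : (ρ ⟨y, hym⟩).IsCycle := isCycle_subtypePerm (hpres y hym) (hmove y hym) hcy
  have hvs : (ρ ⟨y, hym⟩).support.card = q := by
    rw [← hsy]
    exact card_support_subtypePerm (hpres y hym) (hmove y hym)
  have hus : (ρ ⟨x, hxm⟩).support.card = x.support.card :=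
    card_support_subtypePerm (hpres x hxm) (hmove x hxm)
  have huo : orderOf (ρ ⟨x, hxm⟩) = p := by
    rw [orderOf_injective ρ hinj, Subgroup.orderOf_mk, hox]
  have hcardΩ : Fintype.card {a // a ∈ Ω} = Ω.card := Fintype.card_coe Ω
  have hprim : MulAction.IsPreprimitive ρ.range {a // a ∈ Ω} :=
    isPreprimitive_of_prime_cycle ρ.range htr hv hvc hq hvs (by rw [hcardΩ]; exact h2q)
  obtain ⟨d, hd, ⟨e⟩⟩ := hJ ρ.range hRA hprim _ _ hu hv huo hus hvc hvs
  exact ⟨d, hd, ⟨(MonoidHom.ofInjective hinj).trans e⟩⟩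

end Cfsg.Agent.Lib.Helper92.TwoCyc
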