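import Mathlib
import Cfsg.Agent.S0713
import Cfsg.Agent.Lib.Helper92.SmallDegB
import Cfsg.Agent.Lib.Helper92.SmallDegC
import Cfsg.Agent.Lib.Helper58.PrimitiveNormal
import Cfsg.Agent.Lib.Helper72.SolvableNormal

/-!
# Primitive groups of even permutations that are alternating

Criteria used for the group generated by two elements of prime orders: Jordan's theorems, and the
small degrees `6` and `7`.
-/

set_option autoImplicit false
set_option linter.unusedSectionVars false

namespace Cfsg.Agent.Lib.Helper92.TwoCyc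

open Equiv Cfsg.Agent.Lib.Helper92.SmallDeg

variable {β : Type*} [Fintype β] [DecidableEq β]

theorem of_alt_le (R : Subgroup (Perm β)) (hA : R ≤ alternatingGroup β)
    (h : alternatingGroup β ≤ R) (h5 : 5 ≤ Fintype.card β) :
    ∃ d, 5 ≤ d ∧ Nonempty (R ≃* alternatingGroup (Fin d)) := by
  have hR : R = alternatingGroup β := le_antisymm hA h
  exact ⟨Fintype.card β, h5,
    ⟨(MulEquiv.subgroupCongr hR).trans (Equiv.altCongrHom (Fintype.equivFin β))⟩⟩

/-- Jordan: a primitive group containing a cycle of prime length `r ≤ n - 3`. -/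
theorem of_prime_cycle (R : Subgroup (Perm β)) (hA : R ≤ alternatingGroup β)
    (hprim : MulAction.IsPreprimitive R β) {g : Perm β} (hg : g ∈ R) (hc : g.IsCycle) {r : ℕ}
    (hr : r.Prime) (hs : g.support.card = r) (h3 : r + 3 ≤ Fintype.card β)
    (h5 : 5 ≤ Fintype.card β) : ∃ d, 5 ≤ d ∧ Nonempty (R ≃* alternatingGroup (Fin d)) :=
  of_alt_le R hA (Cfsg.Agent.S0713.result R hprim hr h5 h3 hc hs hg) h5

/-- Jordan: a primitive group containing a `3`-cycle. -/
theorem of_three_cycle (R : Subgroup (Perm β)) (hA : R ≤ alternatingGroup β)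
    (hprim : MulAction.IsPreprimitive R β) {g : Perm β} (hg : g ∈ R) (hs : g.support.card = 3)
    (h5 : 5 ≤ Fintype.card β) : ∃ d, 5 ≤ d ∧ Nonempty (R ≃* alternatingGroup (Fin d)) :=
  of_alt_le R hA (Perm.alternatingGroup_le_of_isPreprimitive_of_isThreeCycle_mem hprim
    (card_support_eq_three_iff.mp hs) hg) h5

/-- Degree `7`: a transitive group of even permutations of order divisible by `5`. -/
theorem of_deg_seven (hβ : Fintype.card β = 7) (R : Subgroup (Perm β))
    (hA : R ≤ alternatingGroup β) (hprim : MulAction.IsPreprimitive R β) {u : Perm β}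
    (hu : u ∈ R) (hou : orderOf u = 5) :
    ∃ d, 5 ≤ d ∧ Nonempty (R ≃* alternatingGroup (Fin d)) := by
  have : MulAction.IsPretransitive R β := hprim.toIsPretransitive
  have h5 : 5 ∣ Nat.card R := by
    have := orderOf_dvd_natCard (⟨u, hu⟩ : R)
    rwa [Subgroup.orderOf_mk, hou] at this
  have hcard : Nat.card R = 2520 := by
    rcases card_of_deg_seven hβ R hA with h | h | ⟨h, -⟩ | h
    · rw [h] at h5; omega
    · rw [h] at h5; omega
    · rw [h] at h5; omega
    · exact h
  have : Nontrivial β := Fintype.one_lt_card_iff_nontrivial.mp (by rw [hβ]; norm_num)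
  have hAc : Nat.card (alternatingGroup β) = 2520 := by
    rw [nat_card_alternatingGroup, Nat.card_eq_fintype_card, hβ]
    decide
  have hR : R = alternatingGroup β :=
    Subgroup.eq_of_le_of_card_ge hA (by rw [hcard, hAc])
  exact of_alt_le R hA hR.ge (by rw [hβ]; norm_num)

theorem six_ne_prime_pow {p e : ℕ} (hp : p.Prime) (h : 6 = p ^ e) : False := by
  have he : e ≠ 0 := by
    rintro rfl
    simp at h
  have hd : p ∣ 6 := by
    rw [h]
    exact dvd_pow_self p he
  have hle : p ≤ 6 := Nat.le_of_dvd (by norm_num) hd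
  have h2 := hp.two_le
  have hcase : p = 2 ∨ p = 3 := by
    interval_cases p
    · left; rfl
    · right; rfl
    · exact absurd hp (by norm_num)
    · omega
    · exact absurd hp (by norm_num)
  rcases hcase with rfl | rfl
  · rcases Nat.lt_or_ge e 3 with h3 | h3
    · interval_cases e <;> simp at h
    · have := Nat.pow_le_pow_right (by norm_num : 0 < 2) h3
      omega
  · rcases Nat.lt_or_ge e 2 with h3 | h3
    · interval_cases e <;> simp at h
    · have := Nat.pow_le_pow_right (by norm_num : 0 < 3) h3
      omega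

/-- A primitive group of degree `6` is not solvable. -/
theorem not_isSolvable_of_deg_six (hβ : Fintype.card β = 6) (R : Subgroup (Perm β))
    (hprim : MulAction.IsPreprimitive R β) : ¬ Group.IsSolvable R := by
  intro hs
  have : MulAction.IsPretransitive R β := hprim.toIsPretransitive
  obtain ⟨a⟩ : Nonempty β := by
    rw [← Fintype.card_pos_iff, hβ]; norm_num
  have hnt : Nontrivial R := by
    obtain ⟨b, hb⟩ : ∃ b : β, b ≠ a := by
      have : Nontrivial β := Fintype.one_lt_card_iff_nontrivial.mp (by rw [hβ]; norm_num)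
      exact exists_ne a
    obtain ⟨g, hg⟩ := MulAction.exists_smul_eq R a b
    refine ⟨⟨g, 1, ?_⟩⟩
    rintro rfl
    rw [one_smul] at hg
    exact hb hg.symm
  obtain ⟨K, hKn, hK, hKc⟩ := Cfsg.Agent.Lib.Helper72.exists_normal_abelian_of_solvable hs
  have horb : MulAction.orbit K a = Set.univ := by
    rw [Set.eq_univ_iff_forall]
    intro b
    obtain ⟨x, hx, hxb⟩ := Cfsg.Agent.Lib.Helper58.normal_transitive K hK a b
    exact ⟨⟨x, hx⟩, hxb⟩
  have hstab : MulAction.stabilizer K a = ⊥ := by
    rw [Subgroup.eq_bot_iff_forall]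
    intro x hx
    rw [MulAction.mem_stabilizer_iff] at hx
    have := Cfsg.Agent.Lib.Helper58.abelian_normal_free K hK hKc a x.1 x.2 hx
    exact Subtype.ext this
  have hcard : Nat.card K = 6 := by
    have h1 := MulAction.index_stabilizer K a
    rw [hstab, Subgroup.index_bot, horb, Set.ncard_univ] at h1
    rw [h1, Nat.card_eq_fintype_card, hβ]
  obtain ⟨p, e, hp, hpe, -⟩ := Cfsg.Agent.Lib.Helper58.normal_abelian_exponent β K hK hKc
  rw [hcard] at hpe
  exact six_ne_prime_pow hp hpe

/-- Degree `6`: a primitive group of even permutations is `A₅` or `A₆`. -/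
theorem of_deg_six (hβ : Fintype.card β = 6) (R : Subgroup (Perm β))
    (hA : R ≤ alternatingGroup β) (hprim : MulAction.IsPreprimitive R β) :
    ∃ d, 5 ≤ d ∧ Nonempty (R ≃* alternatingGroup (Fin d)) := by
  have hns := not_isSolvable_of_deg_six hβ R hprim
  have : MulAction.IsPretransitive R β := hprim.toIsPretransitive
  have htr : ∀ x y : β, ∃ g ∈ R, g x = y := fun x y => exists_of_isPretransitive R x y
  have : Nontrivial β := Fintype.one_lt_card_iff_nontrivial.mp (by rw [hβ]; norm_num)
  have hAc : Nat.card (alternatingGroup β) = 360 := by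
    rw [nat_card_alternatingGroup, Nat.card_eq_fintype_card, hβ]
    decide
  have hdvd : Nat.card R ∣ 360 := hAc ▸ Subgroup.card_dvd_of_le hA
  rcases card_of_deg_six hβ R htr hns with h | h | h | h
  · exact ⟨5, le_refl 5, Cfsg.Agent.Lib.Helper92.SmallDeg.nonempty_equiv_alt5 h hns⟩
  · exfalso
    have hsimple : IsSimpleGroup (alternatingGroup β) :=
      alternatingGroup.isSimpleGroup (by rw [Nat.card_eq_fintype_card, hβ]; norm_num)
    have hidx : (R.subgroupOf (alternatingGroup β)).index = 3 := by
      have h1 := (R.subgroupOf (alternatingGroup β)).card_mul_index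
      rw [hAc, Nat.card_congr (Subgroup.subgroupOfEquivOfLe hA).toEquiv, h] at h1
      omega
    have hne : R.subgroupOf (alternatingGroup β) ≠ ⊤ := by
      intro htop
      rw [htop, Subgroup.index_top] at hidx
      omega
    have := card_dvd_factorial_index (R.subgroupOf (alternatingGroup β)) hne
    rw [hidx, hAc] at this
    revert this
    decide
  · have hR : R = alternatingGroup β := Subgroup.eq_of_le_of_card_ge hA (by rw [h, hAc])
    exact of_alt_le R hA hR.ge (by rw [hβ]; norm_num)
  · rw [h] at hdvd; omega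

end Cfsg.Agent.Lib.Helper92.TwoCyc
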