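import Mathlib
import Cfsg.Agent.Lib.Helper92.TwoCyc
import Cfsg.Agent.Lib.Helper92.TwoCycCases
import Cfsg.Agent.Lib.Helper92.Deg13c

/-!
# Two elements of prime orders `p < q` in an alternating group of degree `m ≤ 2 p`

`main_pq`: if the arithmetic conditions `Ok` hold for all possible sizes `c` of the support of `x`
and `d` of the union of the supports, then `⟨x, y⟩` is an alternating group.
-/

set_option autoImplicit false
set_option linter.unusedSectionVars false

namespace Cfsg.Agent.Lib.Helper92.TwoCyc

open Equiv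

/-- Degree `13`: a primitive group of even permutations containing an `11`-cycle. -/
theorem of_deg_thirteen {β : Type*} [Fintype β] [DecidableEq β] (hβ : Fintype.card β = 13)
    (R : Subgroup (Perm β)) (hA : R ≤ alternatingGroup β)
    (hprim : MulAction.IsPreprimitive R β) {u : Perm β} (hu : u ∈ R) (hou : orderOf u = 11)
    (hsu : u.support.card = 11) : ∃ d, 5 ≤ d ∧ Nonempty (R ≃* alternatingGroup (Fin d)) := by
  have hc : u.IsCycle :=
    Perm.isCycle_of_prime_order (by rw [hou]; norm_num) (by rw [hsu, hou]; norm_num)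
  have h3 := Cfsg.Agent.Lib.Helper92.Deg13.t3_of_cycle hβ R hprim hu hc hsu
  have h5 := Cfsg.Agent.Lib.Helper92.Deg13.five_dvd_card hβ R hA h3
  exact of_alt_le R hA (Cfsg.Agent.Lib.Helper92.Deg13.alt_le_of_five_dvd hβ R hprim h3 h5)
    (by rw [hβ]; norm_num)

/-- The arithmetic conditions under which the argument works: `c` is the size of the support of
the element of order `p`, and `d` the size of the union of the two supports. -/
def Ok (p q c d : ℕ) : Prop :=
  (c = p ∧ p + 3 ≤ d) ∨ q + 3 ≤ d ∨ c = 3 ∨ (d = 7 ∧ p = 5) ∨ d = 6 ∨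
    (d = 13 ∧ p = 11 ∧ c = 11)

theorem main_pq (m p q : ℕ) (hp : p.Prime) (hq : q.Prime) (hm : 5 ≤ m) (hmp : m ≤ 2 * p)
    (hpq : p < q) (_hqm : q ≤ m)
    (hok : ∀ c d, c = p ∨ c = 2 * p → c ≤ d → q ≤ d → d ≤ m → Ok p q c d)
    (x y : alternatingGroup (Fin m)) (hox : orderOf x = p) (hoy : orderOf y = q) :
    ∃ d : ℕ, 5 ≤ d ∧ Nonempty (Subgroup.closure ({x, y} : Set (alternatingGroup (Fin m))) ≃*
      alternatingGroup (Fin d)) := by
  have hp3 : 3 ≤ p := by
    have := hp.two_le
    omega
  have hq5 : 5 ≤ q := by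
    rcases Nat.lt_or_ge q 5 with h | h
    · exfalso
      have h4 : q = 4 := by omega
      rw [h4] at hq
      exact absurd hq (by norm_num)
    · exact h
  -- pass to the symmetric group
  have hox' : orderOf (x : Perm (Fin m)) = p := by rw [Subgroup.orderOf_coe, hox]
  have hoy' : orderOf (y : Perm (Fin m)) = q := by rw [Subgroup.orderOf_coe, hoy]
  have hsx : Perm.sign (x : Perm (Fin m)) = 1 := Perm.mem_alternatingGroup.mp x.2
  have hsy : Perm.sign (y : Perm (Fin m)) = 1 := Perm.mem_alternatingGroup.mp y.2
  have hcy : (y : Perm (Fin m)).IsCycle :=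
    Perm.isCycle_of_prime_order' (by rw [hoy']; exact hq)
      (by rw [hoy', Fintype.card_fin]; omega)
  have hsuppy : (y : Perm (Fin m)).support.card = q := by rw [← hcy.orderOf, hoy']
  have hcard : Fintype.card (Fin m) = m := Fintype.card_fin m
  have hΩm : ((x : Perm (Fin m)).support ∪ (y : Perm (Fin m)).support).card ≤ m := by
    have := Finset.card_le_univ ((x : Perm (Fin m)).support ∪ (y : Perm (Fin m)).support)
    rwa [hcard] at this
  -- the size of the support of `x`
  have hc : (x : Perm (Fin m)).support.card = p ∨ (x : Perm (Fin m)).support.card = 2 * p := by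
    obtain ⟨n, hn⟩ := Perm.cycleType_prime_order (σ := (x : Perm (Fin m))) (by rw [hox']; exact hp)
    have h2 := Perm.sum_cycleType (x : Perm (Fin m))
    rw [hn, Multiset.sum_replicate, hox', smul_eq_mul] at h2
    have h3 := Finset.card_le_univ (x : Perm (Fin m)).support
    rw [hcard] at h3
    have hn1 : n + 1 ≤ 2 := by
      by_contra hlt
      have : 3 ≤ n + 1 := by omega
      nlinarith
    have hn' : n = 0 ∨ n = 1 := by omega
    rcases hn' with rfl | rfl
    · left; omega
    · right; omega
  have key : ∃ d, 5 ≤ d ∧ Nonempty (Subgroup.closure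
      ({(x : Perm (Fin m)), (y : Perm (Fin m))} : Set (Perm (Fin m))) ≃*
        alternatingGroup (Fin d)) := by
    apply reduce hsx hsy hp hq hox' hcy hsuppy (by rw [hcard]; omega) (by omega)
    intro R hRA hprim u v hu hv huo hus hvc hvs
    have hd : Fintype.card {a // a ∈ (x : Perm (Fin m)).support ∪ (y : Perm (Fin m)).support} =
        ((x : Perm (Fin m)).support ∪ (y : Perm (Fin m)).support).card := Fintype.card_coe _
    have hcd : (x : Perm (Fin m)).support.card ≤
        ((x : Perm (Fin m)).support ∪ (y : Perm (Fin m)).support).card :=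
      Finset.card_le_card Finset.subset_union_left
    have hqd : q ≤ ((x : Perm (Fin m)).support ∪ (y : Perm (Fin m)).support).card := by
      rw [← hsuppy]
      exact Finset.card_le_card Finset.subset_union_right
    have h5d : 5 ≤ Fintype.card
        {a // a ∈ (x : Perm (Fin m)).support ∪ (y : Perm (Fin m)).support} := by
      rw [hd]; omega
    rcases hok _ _ hc hcd hqd hΩm with ⟨h1, h2⟩ | h | h | ⟨h1, h2⟩ | h | ⟨h1, h2, h3⟩
    · have huc : u.IsCycle :=
        Perm.isCycle_of_prime_order (by rw [huo]; exact hp) (by rw [hus, h1, huo]; omega)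
      exact of_prime_cycle R hRA hprim hu huc hp (by rw [hus, h1]) (by rw [hd]; exact h2) h5d
    · exact of_prime_cycle R hRA hprim hv hvc hq hvs (by rw [hd]; exact h) h5d
    · exact of_three_cycle R hRA hprim hu (by rw [hus, h]) h5d
    · exact of_deg_seven (by rw [hd, h1]) R hRA hprim hu (by rw [huo, h2])
    · exact of_deg_six (by rw [hd, h]) R hRA hprim
    · exact of_deg_thirteen (by rw [hd, h1]) R hRA hprim hu (by rw [huo, h2]) (by rw [hus, h3])
  obtain ⟨d, hd, ⟨e⟩⟩ := key
  refine ⟨d, hd, ⟨?_⟩⟩
  have hmap : (Subgroup.closure ({x, y} : Set (alternatingGroup (Fin m)))).map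
      (alternatingGroup (Fin m)).subtype =
      Subgroup.closure ({(x : Perm (Fin m)), (y : Perm (Fin m))} : Set (Perm (Fin m))) := by
    rw [MonoidHom.map_closure, Set.image_pair]
    rfl
  exact ((Subgroup.equivMapOfInjective _ _ (Subgroup.subtype_injective _)).trans
    (MulEquiv.subgroupCongr hmap)).trans e

end Cfsg.Agent.Lib.Helper92.TwoCyc
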