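import Mathlib

/-!
# PROJECT WAT (S4644, Watanabe), WAT-[COPRIME] (helper92): the norm trick

`P` an abelian `p`-subgroup of `G`, `T ≤ N_G(P)`, `C ≤ T ∩ C_G(P)` with `p ∤ |T : C|`, `Z ≤ P` normalized by
`T`.  If `u ∈ P` is fixed by `T` and `u ∉ Z`, some `T`-invariant `lam : P →* ℂˣ` is trivial on `Z` and
has `lam u ≠ 1`.  (Replaces `C_P(T) ∩ [P, T] = 1`.)
-/

set_option autoImplicit false
set_option linter.style.haveILetI false
set_option linter.unusedVariables false

namespace Cfsg.Agent.Lib.Helper92.WAT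

/-- In a finite abelian group an element outside a subgroup is separated from it by a character. -/
theorem exists_hom_of_not_mem_comm {A : Type*} [CommGroup A] [Finite A] (H : Subgroup A) {x : A}
    (hx : x ∉ H) : ∃ φ : A →* ℂˣ, (∀ y ∈ H, φ y = 1) ∧ φ x ≠ 1 := by
  have hne : NeZero ((Monoid.exponent A : ℕ) : ℂ) :=
    ⟨by exact_mod_cast (Monoid.ExponentExists.of_finite (G := A)).exponent_ne_zero⟩
  have hroots : HasEnoughRootsOfUnity ℂ (Monoid.exponent A) := inferInstance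
  by_contra hcon
  push Not at hcon
  exact hx ((CommGroup.forall_monoidHom_apply_eq_one_iff (M := ℂ) H x).mp hcon)

/-- The same for a group with commuting elements. -/
theorem exists_hom_of_not_mem {A : Type*} [Group A] [Finite A] (hcomm : ∀ a b : A, a * b = b * a)
    (H : Subgroup A) {x : A} (hx : x ∉ H) : ∃ φ : A →* ℂˣ, (∀ y ∈ H, φ y = 1) ∧ φ x ≠ 1 := by
  letI : CommGroup A := { (inferInstance : Group A) with mul_comm := hcomm }
  exact exists_hom_of_not_mem_comm H hx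


section Norm

variable {G : Type*} [Group G]

/-- conjugation `v ↦ t⁻¹ v t` on `P` by an element normalizing `P` -/
def cjInv (P : Subgroup G) (t : G) (ht : t ∈ Subgroup.normalizer (P : Set G)) : P →* P where
  toFun v := ⟨t⁻¹ * (v : G) * t, by
    have h2 : t⁻¹ ∈ Subgroup.normalizer (P : Set G) := Subgroup.inv_mem _ ht
    have h3 := (Subgroup.mem_normalizer_iff.mp h2 (v : G)).mp v.2
    simpa using h3⟩
  map_one' := by
    apply Subtype.ext
    simp
  map_mul' a b := by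
    apply Subtype.ext
    simp only [Subgroup.coe_mul]
    group

theorem cjInv_coe (P : Subgroup G) (t : G) (ht : t ∈ Subgroup.normalizer (P : Set G)) (v : P) :
    ((cjInv P t ht v : P) : G) = t⁻¹ * (v : G) * t := rfl


open scoped Classical in
/-- WAT-[COPRIME] : the norm trick. -/
theorem exists_invariant_hom [Finite G] {p : ℕ} [Fact p.Prime] (P T C Z : Subgroup G)
    (hP : IsPGroup p P) (hPab : ∀ x ∈ P, ∀ y ∈ P, x * y = y * x)
    (hTN : T ≤ Subgroup.normalizer (P : Set G)) (hCT : C ≤ T)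
    (hC : C ≤ Subgroup.centralizer (P : Set G)) (hidx : ¬ p ∣ C.relIndex T)
    (hZP : Z ≤ P) (hZT : ∀ t ∈ T, ∀ z ∈ Z, t * z * t⁻¹ ∈ Z)
    {u : G} (hu : u ∈ P) (huT : ∀ t ∈ T, t * u * t⁻¹ = u) (huZ : u ∉ Z) :
    ∃ lam : P →* ℂˣ, (∀ t ∈ T, ∀ v v' : P, (v' : G) = t * (v : G) * t⁻¹ → lam v' = lam v) ∧
      (∀ z : P, (z : G) ∈ Z → lam z = 1) ∧ lam ⟨u, hu⟩ ≠ 1 := by
  have hcommP : ∀ a b : P, a * b = b * a := fun a b => Subtype.ext (hPab a a.2 b b.2)
  have huZ' : (⟨u, hu⟩ : P) ∉ Z.subgroupOf P := by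
    rw [Subgroup.mem_subgroupOf]
    exact huZ
  obtain ⟨μ, hμZ, hμu⟩ := exists_hom_of_not_mem hcommP (Z.subgroupOf P) huZ'
  -- the coset space
  let Q := T ⧸ C.subgroupOf T
  haveI : Fintype Q := Fintype.ofFinite Q
  -- the factor attached to an element of `T`
  let fac : T → (P →* ℂˣ) := fun t => μ.comp (cjInv P (t : G) (hTN t.2))
  -- independence of the representative
  have hfac : ∀ t t' : T, t⁻¹ * t' ∈ C.subgroupOf T → fac t' = fac t := by
    intro t t' h
    rw [Subgroup.mem_subgroupOf] at h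
    apply MonoidHom.ext
    intro v
    show μ (cjInv P (t' : G) (hTN t'.2) v) = μ (cjInv P (t : G) (hTN t.2) v)
    congr 1
    apply Subtype.ext
    rw [cjInv_coe, cjInv_coe]
    -- `c := t⁻¹ t'` centralizes `t⁻¹ v t ∈ P`
    set c : G := ((t⁻¹ * t' : T) : G) with hc
    have hcC : c ∈ Subgroup.centralizer (P : Set G) := hC h
    have hw : (t : G)⁻¹ * (v : G) * (t : G) ∈ P := (cjInv P (t : G) (hTN t.2) v).2
    have hcomm := hcC _ hw
    have ht' : (t' : G) = (t : G) * c := by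
      rw [hc]
      simp
    rw [ht']
    calc ((t : G) * c)⁻¹ * (v : G) * ((t : G) * c)
        = c⁻¹ * (((t : G)⁻¹ * (v : G) * (t : G)) * c) := by group
      _ = c⁻¹ * (c * ((t : G)⁻¹ * (v : G) * (t : G))) := by rw [hcomm]
      _ = (t : G)⁻¹ * (v : G) * (t : G) := by group
  let lam : P →* ℂˣ := ∏ q : Q, fac q.out
  have hlam_apply : ∀ v : P, lam v = ∏ q : Q, fac q.out v := fun v =>
    MonoidHom.finsetProd_apply _ _ _
  refine ⟨lam, ?_, ?_, ?_⟩
  · -- invariance
    intro s hs v v' hv'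
    rw [hlam_apply, hlam_apply]
    let σ : Q ≃ Q := MulAction.toPerm ((⟨s, hs⟩ : T)⁻¹)
    refine Fintype.prod_equiv σ _ _ (fun q => ?_)
    -- `fac q.out v' = fac (s⁻¹ • q).out v`
    have h1 : fac (σ q).out = fac ((⟨s, hs⟩ : T)⁻¹ * q.out) := by
      apply hfac
      have : ((σ q).out : Q) = (((⟨s, hs⟩ : T)⁻¹ * q.out : T) : Q) := by
        rw [QuotientGroup.out_eq']
        show (⟨s, hs⟩ : T)⁻¹ • q = _
        conv_lhs => rw [← QuotientGroup.out_eq' q]
        rfl
      have h2 := QuotientGroup.eq.mp this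
      rw [← inv_inv ((σ q).out⁻¹ * ((⟨s, hs⟩ : T)⁻¹ * q.out))] at h2
      have h3 := (Subgroup.inv_mem_iff _).mp h2
      simpa [mul_assoc] using h3
    rw [h1]
    show μ (cjInv P (q.out : G) (hTN q.out.2) v') =
      μ (cjInv P ((((⟨s, hs⟩ : T)⁻¹ * q.out : T)) : G) (hTN ((⟨s, hs⟩ : T)⁻¹ * q.out).2) v)
    congr 1
    apply Subtype.ext
    rw [cjInv_coe, cjInv_coe, hv']
    simp only [Subgroup.coe_mul, Subgroup.coe_inv]
    group
  · -- trivial on `Z`
    intro z hz
    rw [hlam_apply]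
    apply Finset.prod_eq_one
    intro q _
    show μ (cjInv P (q.out : G) (hTN q.out.2) z) = 1
    apply hμZ
    rw [Subgroup.mem_subgroupOf, cjInv_coe]
    have := hZT ((q.out : T) : G)⁻¹ (T.inv_mem q.out.2) (z : G) hz
    simpa using this
  · -- `lam u = μ u ^ |T : C| ≠ 1`
    have hfix : ∀ t : T, cjInv P (t : G) (hTN t.2) ⟨u, hu⟩ = ⟨u, hu⟩ := by
      intro t
      apply Subtype.ext
      rw [cjInv_coe]
      have := huT ((t : G)⁻¹) (T.inv_mem t.2)
      simpa using this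
    have hval : lam ⟨u, hu⟩ = μ ⟨u, hu⟩ ^ Fintype.card Q := by
      rw [hlam_apply]
      rw [Finset.prod_congr rfl (fun q _ => by
        show μ (cjInv P (q.out : G) (hTN q.out.2) ⟨u, hu⟩) = μ ⟨u, hu⟩
        rw [hfix])]
      rw [Finset.prod_const, Finset.card_univ]
    have hcardQ : Fintype.card Q = C.relIndex T := by
      rw [← Nat.card_eq_fintype_card]
      rfl
    rw [hval, hcardQ]
    intro h1
    obtain ⟨k, hk⟩ := hP ⟨u, hu⟩
    have h2 : μ ⟨u, hu⟩ ^ p ^ k = 1 := by rw [← map_pow, hk, map_one]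
    have hd1 : orderOf (μ ⟨u, hu⟩) ∣ C.relIndex T := orderOf_dvd_of_pow_eq_one h1
    have hd2 : orderOf (μ ⟨u, hu⟩) ∣ p ^ k := orderOf_dvd_of_pow_eq_one h2
    have hcop : Nat.Coprime (C.relIndex T) (p ^ k) :=
      Nat.Coprime.pow_right k
        ((Nat.Prime.coprime_iff_not_dvd (Fact.out : p.Prime)).mpr hidx).symm
    have h3 : orderOf (μ ⟨u, hu⟩) = 1 := Nat.eq_one_of_dvd_coprimes hcop hd1 hd2
    exact hμu (orderOf_eq_one_iff.mp h3)

end Norm

end Cfsg.Agent.Lib.Helper92.WAT
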