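import Mathlib

/-!
# PROJECT WAT (S4644, Watanabe), WAT-[FOURIER] (helper92)

Finite Fourier inversion over a subgroup `Λ` of the linear characters of a finite group `P`:
if `w : P → ℂ` satisfies `∑ w = k` and `∑_v w v · lam v = 0` for every `1 ≠ lam ∈ Λ`, then for every
`u : P` the sum of `w` over the coset `u N` of the common kernel `N` of `Λ` is `k / |Λ|`.
-/

set_option autoImplicit false

namespace Cfsg.Agent.Lib.Helper92.WAT

open scoped Classical in
/-- Orthogonality for a subgroup `Λ` of `P →* ℂˣ`: `∑_{lam ∈ Λ} lam x` is `|Λ|` on the common kernel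
and `0` elsewhere. -/
theorem sum_subgroup_apply {P : Type*} [Group P] [Finite P] (Λ : Subgroup (P →* ℂˣ)) [Fintype Λ]
    (x : P) :
    ∑ lam : Λ, (((lam : P →* ℂˣ) x : ℂˣ) : ℂ) =
      if ∀ lam ∈ Λ, lam x = 1 then (Fintype.card Λ : ℂ) else 0 := by
  split_ifs with h
  · rw [Finset.sum_congr rfl (fun lam _ => by rw [h lam lam.2, Units.val_one]), Finset.sum_const,
      Finset.card_univ, nsmul_eq_mul, mul_one]
  · push Not at h
    obtain ⟨lam₀, hlam₀, hne⟩ := h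
    have hne' : (((lam₀ x : ℂˣ) : ℂ)) ≠ 1 := fun h1 => hne (Units.ext h1)
    set S : ℂ := ∑ lam : Λ, (((lam : P →* ℂˣ) x : ℂˣ) : ℂ) with hS
    have hmul : ((lam₀ x : ℂˣ) : ℂ) * S = S := by
      rw [hS, Finset.mul_sum]
      refine Fintype.sum_equiv (Equiv.mulLeft (⟨lam₀, hlam₀⟩ : Λ)) _ _ (fun lam => ?_)
      simp [Equiv.coe_mulLeft, MonoidHom.mul_apply, Units.val_mul]
    have h2 : (((lam₀ x : ℂˣ) : ℂ) - 1) * S = 0 := by rw [sub_mul, hmul, one_mul, sub_self]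
    rcases mul_eq_zero.mp h2 with h3 | h3
    · exact absurd (sub_eq_zero.mp h3) hne'
    · exact h3

open scoped Classical in
/-- WAT-[FOURIER], `Fintype` form. -/
theorem fourier {P : Type*} [Group P] [Fintype P] (Λ : Subgroup (P →* ℂˣ)) (w : P → ℂ) (k : ℂ)
    (h1 : ∑ v : P, w v = k)
    (h0 : ∀ lam ∈ Λ, lam ≠ 1 → ∑ v : P, w v * ((lam v : ℂˣ) : ℂ) = 0) (u : P) :
    k = (Nat.card Λ : ℂ) *
      ∑ v ∈ Finset.univ.filter (fun v : P => ∀ lam ∈ Λ, lam (u⁻¹ * v) = 1), w v := by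
  have : Fintype Λ := Fintype.ofFinite Λ
  -- the double sum, evaluated in two ways
  have hA : ∑ lam : Λ, ((((lam : P →* ℂˣ) u)⁻¹ : ℂˣ) : ℂ) *
      ∑ v : P, w v * (((lam : P →* ℂˣ) v : ℂˣ) : ℂ) = k := by
    rw [Finset.sum_eq_single (1 : Λ)]
    · simp [h1]
    · intro lam _ hne
      rw [h0 lam lam.2 (fun h => hne (Subtype.ext h)), mul_zero]
    · intro h; exact absurd (Finset.mem_univ _) h
  have hB : ∑ lam : Λ, ((((lam : P →* ℂˣ) u)⁻¹ : ℂˣ) : ℂ) *
      ∑ v : P, w v * (((lam : P →* ℂˣ) v : ℂˣ) : ℂ) =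
      ∑ v : P, w v * ∑ lam : Λ, (((lam : P →* ℂˣ) (u⁻¹ * v) : ℂˣ) : ℂ) := by
    simp_rw [Finset.mul_sum]
    rw [Finset.sum_comm]
    apply Finset.sum_congr rfl
    intro v _
    apply Finset.sum_congr rfl
    intro lam _
    rw [map_mul, map_inv, Units.val_mul]
    ring
  rw [← hA, hB]
  simp_rw [sum_subgroup_apply Λ]
  rw [Finset.mul_sum, Finset.sum_filter]
  apply Finset.sum_congr rfl
  intro v _
  split_ifs with h
  · rw [Nat.card_eq_fintype_card, mul_comm]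
  · rw [mul_zero]

end Cfsg.Agent.Lib.Helper92.WAT
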