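import Mathlib
import Cfsg.Agent.Lib.Helper92.WATCoprime

/-!
# PROJECT WAT (S4644), WAT-[ETA] in the exact form of `Helper77/WAT/Skel.lean.txt` (helper92),
from `exists_invariant_hom` (WAT-[COPRIME]).
-/

set_option autoImplicit false

namespace Cfsg.Agent.Lib.Helper92.WAT

variable {p : ℕ} [Fact p.Prime]

/-- WAT-[ETA] : a `S`-invariant linear character of `P`, trivial on `Z`, nontrivial at `u` -/
theorem exists_eta {K : Type*} [Group K] [Finite K] (P S : Subgroup K) (hP : IsPGroup p P)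
    (hPab : ∀ x ∈ P, ∀ y ∈ P, x * y = y * x) (hSN : S ≤ Subgroup.normalizer (P : Set K))
    (hCS : Subgroup.centralizer (P : Set K) ≤ S)
    (hidx : ¬ p ∣ (Subgroup.centralizer (P : Set K)).relIndex S) (Z : Subgroup K) (hZP : Z ≤ P)
    (hZ : ∀ s ∈ S, ∀ z ∈ Z, s * z * s⁻¹ = z) {u : K} (hu : u ∈ P)
    (huS : ∀ s ∈ S, s * u * s⁻¹ = u) (huZ : u ∉ Z) :
    ∃ η : P →* ℂˣ, (∀ s ∈ S, ∀ v v' : P, s * (v : K) * s⁻¹ = (v' : K) → η v' = η v) ∧
      (∀ z : P, (z : K) ∈ Z → η z = 1) ∧ η ⟨u, hu⟩ ≠ 1 := by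
  obtain ⟨lam, h1, h2, h3⟩ := exists_invariant_hom P S (Subgroup.centralizer (P : Set K)) Z hP hPab
    hSN hCS le_rfl hidx hZP (fun s hs z hz => by rw [hZ s hs z hz]; exact hz) hu huS huZ
  exact ⟨lam, fun s hs v v' h => h1 s hs v v' h.symm, h2, h3⟩

end Cfsg.Agent.Lib.Helper92.WAT
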